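import Mathlib

/-! p-groups with a cyclic maximal subgroup (Gorenstein 5.4.3 / 5.4.4). -/

set_option autoImplicit false

namespace Cfsg.Agent.Lib.Lead.CyclicMax

open Subgroup

section Conj
variable {G : Type*} [Group G]

theorem conj_zpow_of_conj {a b : G} {r : ℤ} (h : b * a * b⁻¹ = a ^ r) (i : ℤ) :
    b * a ^ i * b⁻¹ = a ^ (i * r) := by
  have := map_zpow (MulAut.conj b) a i
  simp only [MulAut.conj_apply] at this
  rw [this, h, ← zpow_mul, mul_comm]

theorem pow_conj_of_conj {a b : G} {r : ℤ} (h : b * a * b⁻¹ = a ^ r) (k : ℕ) :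
    b ^ k * a * (b ^ k)⁻¹ = a ^ (r ^ k) := by
  induction k with
  | zero => simp
  | succ k ih =>
    have : b ^ (k + 1) * a * (b ^ (k + 1))⁻¹ = b * (b ^ k * a * (b ^ k)⁻¹) * b⁻¹ := by
      rw [pow_succ']; group
    rw [this, ih, conj_zpow_of_conj h, pow_succ]

theorem pow_conj_zpow_of_conj {a b : G} {r : ℤ} (h : b * a * b⁻¹ = a ^ r) (k : ℕ) (i : ℤ) :
    b ^ k * a ^ i * (b ^ k)⁻¹ = a ^ (i * r ^ k) :=
  conj_zpow_of_conj (pow_conj_of_conj h k) i

/-- `(a^i b)^k = a^(i (1 + r + ⋯ + r^(k-1))) b^k` when `b a b⁻¹ = a^r`. -/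
theorem mul_pow_of_conj {a b : G} {r : ℤ} (h : b * a * b⁻¹ = a ^ r) (i : ℤ) (k : ℕ) :
    (a ^ i * b) ^ k = a ^ (i * ∑ l ∈ Finset.range k, r ^ l) * b ^ k := by
  induction k with
  | zero => simp
  | succ k ih =>
    rw [pow_succ, ih, Finset.sum_range_succ, mul_add, zpow_add]
    have h1 : b ^ k * a ^ i = a ^ (i * r ^ k) * b ^ k := by
      rw [← pow_conj_zpow_of_conj h k i]; group
    calc a ^ (i * ∑ l ∈ Finset.range k, r ^ l) * b ^ k * (a ^ i * b)
        = a ^ (i * ∑ l ∈ Finset.range k, r ^ l) * (b ^ k * a ^ i) * b := by group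
      _ = a ^ (i * ∑ l ∈ Finset.range k, r ^ l) * (a ^ (i * r ^ k) * b ^ k) * b := by rw [h1]
      _ = a ^ (i * ∑ l ∈ Finset.range k, r ^ l) * a ^ (i * r ^ k) * b ^ (k + 1) := by
          rw [pow_succ]; group

end Conj


section NumberTheory

theorem nt_odd {p : ℕ} (hp : p.Prime) (hodd : Odd p) {m : ℕ} (hm : 1 ≤ m) {r : ℤ}
    (h : (p : ℤ) ^ m ∣ r ^ p - 1) : (p : ℤ) ^ (m - 1) ∣ r - 1 := by
  have : Fact p.Prime := ⟨hp⟩
  have hp1 : (p : ℤ) ∣ r ^ p - 1 := dvd_trans (dvd_pow_self (p : ℤ) (by omega)) h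
  have hpr1 : (p : ℤ) ∣ r - 1 := by
    have h1 : ((r ^ p - 1 : ℤ) : ZMod p) = 0 := (ZMod.intCast_zmod_eq_zero_iff_dvd _ p).mpr hp1
    have h2 : ((r - 1 : ℤ) : ZMod p) = 0 := by
      push_cast at h1 ⊢
      rwa [ZMod.pow_card] at h1
    exact (ZMod.intCast_zmod_eq_zero_iff_dvd _ p).mp h2
  have hnr : ¬ (p : ℤ) ∣ r := by
    intro hr
    have : (p : ℤ) ∣ r ^ p := dvd_pow hr hp.ne_zero
    have h1 : (p : ℤ) ∣ 1 := by
      have := dvd_sub this hp1
      simpa using this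
    have := Int.natAbs_dvd_natAbs.mpr h1
    simp at this
    exact hp.one_lt.ne' this
  have hlte := Int.emultiplicity_pow_sub_pow hp hodd (x := r) (y := 1) (by simpa using hpr1) hnr p
  rw [one_pow, Nat.Prime.emultiplicity_self hp] at hlte
  have h3 : (m : ℕ∞) ≤ emultiplicity (p : ℤ) (r - 1) + 1 := by
    rw [← hlte]; exact le_emultiplicity_of_pow_dvd h
  obtain ⟨k, rfl⟩ : ∃ k, m = k + 1 := ⟨m - 1, by omega⟩
  simp only [Nat.add_sub_cancel]
  apply pow_dvd_of_le_emultiplicity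
  have h4 : ((k : ℕ∞) + 1) ≤ emultiplicity (p : ℤ) (r - 1) + 1 := by exact_mod_cast h3
  exact (ENat.add_le_add_iff_right ENat.one_ne_top).mp h4

theorem isCoprime_two_pow_of_odd {u : ℤ} (hu : Odd u) (k : ℕ) : IsCoprime ((2 : ℤ) ^ k) u := by
  apply IsCoprime.pow_left
  obtain ⟨j, rfl⟩ := hu
  exact ⟨-j, 1, by ring⟩

theorem nt_two {m : ℕ} {r : ℤ} (h : (2 : ℤ) ^ m ∣ r ^ 2 - 1) :
    (2 : ℤ) ^ (m - 1) ∣ r - 1 ∨ (2 : ℤ) ^ (m - 1) ∣ r + 1 := by
  rcases Nat.lt_or_ge m 2 with hm | hm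
  · interval_cases m <;> simp
  obtain ⟨k, rfl⟩ : ∃ k, m = k + 1 := ⟨m - 1, by omega⟩
  simp only [Nat.add_sub_cancel]
  have hfac : r ^ 2 - 1 = (r - 1) * (r + 1) := by ring
  rw [hfac] at h
  have hrodd : Odd r := by
    by_contra hne
    rw [Int.not_odd_iff_even] at hne
    obtain ⟨j, rfl⟩ := hne
    have h2 : (2 : ℤ) ∣ (j + j - 1) * (j + j + 1) := dvd_trans (dvd_pow_self 2 (by omega)) h
    have : (j + j - 1) * (j + j + 1) = 2 * (2 * j * j) - 1 := by ring
    rw [this] at h2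
    omega
  obtain ⟨j, rfl⟩ := hrodd
  rcases Int.even_or_odd j with ⟨i, rfl⟩ | ⟨i, rfl⟩
  · left
    have e : (2 * (i + i) + 1 - 1) * (2 * (i + i) + 1 + 1) = 2 * ((2 * (i + i) + 1 - 1) * (2 * i + 1)) := by ring
    rw [e, pow_succ, mul_comm ((2:ℤ) ^ k) 2] at h
    have h' := Int.dvd_of_mul_dvd_mul_left (by norm_num) h
    exact (isCoprime_two_pow_of_odd ⟨i, rfl⟩ k).dvd_of_dvd_mul_right h'
  · right
    have e : (2 * (2 * i + 1) + 1 - 1) * (2 * (2 * i + 1) + 1 + 1) = 2 * ((2 * i + 1) * (2 * (2 * i + 1) + 1 + 1)) := by ring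
    rw [e, pow_succ, mul_comm ((2:ℤ) ^ k) 2] at h
    have h' := Int.dvd_of_mul_dvd_mul_left (by norm_num) h
    exact (isCoprime_two_pow_of_odd ⟨i, rfl⟩ k).dvd_of_dvd_mul_left h'

/-- binomial approximation: if `M ∣ q^2` then `(1 + k q)^j ≡ 1 + j k q (mod M)` -/
theorem one_add_mul_pow_modEq {M q : ℤ} (hM : M ∣ q ^ 2) (k : ℤ) (j : ℕ) :
    (1 + k * q) ^ j ≡ 1 + j * k * q [ZMOD M] := by
  induction j with
  | zero => simp
  | succ j ih =>
    rw [pow_succ]
    have h1 : (1 + k * q) ^ j * (1 + k * q) ≡ (1 + j * k * q) * (1 + k * q) [ZMOD M] := ih.mul_right _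
    refine h1.trans ?_
    have e : (1 + (j : ℤ) * k * q) * (1 + k * q) = 1 + ((j + 1 : ℕ) : ℤ) * k * q + j * k * k * q ^ 2 := by
      push_cast; ring
    rw [e]
    have h2 : (j : ℤ) * k * k * q ^ 2 ≡ 0 [ZMOD M] := by
      apply Int.modEq_zero_iff_dvd.mpr
      exact Dvd.dvd.mul_left hM _
    have := (Int.ModEq.refl (1 + ((j + 1 : ℕ) : ℤ) * k * q)).add h2
    simpa using this

/-- geometric sum of `1 + q` over `p` terms, `p` odd, modulo `p q` when `p q ∣ q^2` -/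
theorem geom_sum_one_add_modEq {p : ℕ} (hodd : Odd p) {q : ℤ} (hM : (p : ℤ) * q ∣ q ^ 2) :
    ∑ l ∈ Finset.range p, (1 + q) ^ l ≡ p [ZMOD (p : ℤ) * q] := by
  have h1 : ∀ l ∈ Finset.range p, (1 + q) ^ l ≡ 1 + (l : ℤ) * q [ZMOD (p : ℤ) * q] := by
    intro l _
    have := one_add_mul_pow_modEq hM 1 l
    simpa using this
  have h2 : ∑ l ∈ Finset.range p, (1 + q) ^ l ≡ ∑ l ∈ Finset.range p, (1 + (l : ℤ) * q) [ZMOD (p : ℤ) * q] :=
    Int.ModEq.sum h1
  refine h2.trans ?_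
  rw [Finset.sum_add_distrib, Finset.sum_const, Finset.card_range, ← Finset.sum_mul]
  obtain ⟨t, ht⟩ := hodd
  have hs : (∑ l ∈ Finset.range p, (l : ℤ)) = (p : ℤ) * t := by
    have := Finset.sum_range_id_mul_two p
    have h3 : (∑ i ∈ Finset.range p, i) = p * t := by
      have h4 : p - 1 = 2 * t := by omega
      rw [h4] at this
      have : (∑ i ∈ Finset.range p, i) * 2 = (p * t) * 2 := by rw [this]; ring
      exact Nat.eq_of_mul_eq_mul_right (by norm_num) this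
    have : ((∑ i ∈ Finset.range p, i : ℕ) : ℤ) = ((p * t : ℕ) : ℤ) := by rw [h3]
    push_cast at this
    exact this
  rw [hs]
  have : (p : ℤ) * t * q ≡ 0 [ZMOD (p : ℤ) * q] := by
    apply Int.modEq_zero_iff_dvd.mpr
    exact ⟨t, by ring⟩
  have := (Int.ModEq.refl ((p : ℕ) • (1 : ℤ))).add this
  simpa using this

end NumberTheory


section Setup
variable {G : Type*} [Group G]

/-- a group generated by two commuting elements is commutative -/
theorem comm_of_closure_pair_eq_top {a b : G} (hab : a * b = b * a)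
    (htop : closure ({a, b} : Set G) = ⊤) : ∀ x y : G, x * y = y * x := by
  have ha : a ∈ center G := by
    have : closure ({a, b} : Set G) ≤ centralizer {a} := by
      rw [closure_le]
      intro z hz
      rw [SetLike.mem_coe, mem_centralizer_iff]
      intro w hw
      rw [Set.mem_singleton_iff] at hw
      subst hw
      rcases hz with rfl | rfl
      · rfl
      · exact hab
    rw [htop] at this
    rw [mem_center_iff]
    intro g
    have := mem_centralizer_iff.mp (this (mem_top g)) a rfl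
    exact this.symm
  have hb : b ∈ center G := by
    have : closure ({a, b} : Set G) ≤ centralizer {b} := by
      rw [closure_le]
      intro z hz
      rw [SetLike.mem_coe, mem_centralizer_iff]
      intro w hw
      rw [Set.mem_singleton_iff] at hw
      subst hw
      rcases hz with rfl | rfl
      · exact hab.symm
      · rfl
    rw [htop] at this
    rw [mem_center_iff]
    intro g
    have := mem_centralizer_iff.mp (this (mem_top g)) b rfl
    exact this.symm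
  have hc : center G = ⊤ := by
    rw [eq_top_iff, ← htop, closure_le]
    intro z hz
    rcases hz with rfl | rfl
    · exact ha
    · exact hb
  intro x y
  have hx : x ∈ center G := by rw [hc]; exact mem_top x
  exact (mem_center_iff.mp hx y).symm

/-- Common setup: a nonabelian group of order `p^n` with a cyclic subgroup `C` of index `p`. -/
theorem setup [Finite G] {p : ℕ} [hp : Fact p.Prime] (n : ℕ) (hn : 1 ≤ n)
    (hG : Nat.card G = p ^ n) (C : Subgroup G) (hC : IsCyclic C) (hCi : C.index = p)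
    (hna : ∃ x y : G, x * y ≠ y * x) :
    ∃ (a b : G) (r : ℤ), orderOf a = p ^ (n - 1) ∧ C = zpowers a ∧ b ∉ zpowers a ∧ b ^ p ∈ zpowers a ∧
      b * a * b⁻¹ = a ^ r ∧ ¬ ((p : ℤ) ^ (n - 1) ∣ r - 1) ∧ (p : ℤ) ^ (n - 1) ∣ r ^ p - 1 ∧
      closure ({a, b} : Set G) = ⊤ := by
  obtain ⟨a, ha⟩ := (Subgroup.isCyclic_iff_exists_zpowers_eq_top C).mp hC
  have hnormal : C.Normal := by
    apply Subgroup.normal_of_index_eq_minFac_card
    rw [hG, hCi, Nat.Prime.pow_minFac hp.out (by omega)]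
  have hcardC : Nat.card C = p ^ (n - 1) := by
    have h1 := Subgroup.card_mul_index C
    rw [hG, hCi] at h1
    obtain ⟨k, rfl⟩ : ∃ k, n = k + 1 := ⟨n - 1, by omega⟩
    rw [pow_succ] at h1
    simpa using Nat.eq_of_mul_eq_mul_right hp.out.pos h1
  have horda : orderOf a = p ^ (n - 1) := by
    rw [← Nat.card_zpowers, ha, hcardC]
  have hCne : C ≠ ⊤ := by
    intro h
    rw [h, Subgroup.index_top] at hCi
    exact hp.out.one_lt.ne hCi
  obtain ⟨b, hb⟩ : ∃ b : G, b ∉ C := by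
    by_contra hcon
    push_neg at hcon
    exact hCne (eq_top_iff.mpr fun x _ => hcon x)
  have hbp : b ^ p ∈ C := by
    have := Subgroup.pow_index_mem C b
    rwa [hCi] at this
  have hconj : b * a * b⁻¹ ∈ C := hnormal.conj_mem a (by rw [← ha]; exact mem_zpowers a) b
  rw [← ha] at hconj
  obtain ⟨r, hr⟩ := Subgroup.mem_zpowers_iff.mp hconj
  -- closure {a,b} = ⊤
  have htop : closure ({a, b} : Set G) = ⊤ := by
    set K := closure ({a, b} : Set G) with hK
    have hCK : C ≤ K := by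
      rw [← ha, zpowers_le]
      exact subset_closure (by simp)
    have hbK : b ∈ K := subset_closure (by simp)
    have h1 := Subgroup.relIndex_mul_index hCK
    rw [hCi] at h1
    have h2 : C.relIndex K ≠ 1 := by
      intro h
      exact hb (Subgroup.relIndex_eq_one.mp h hbK)
    have h3 : C.relIndex K ∣ p := Dvd.intro _ h1
    have h4 : C.relIndex K = p := by
      rcases (Nat.dvd_prime hp.out).mp h3 with h | h
      · exact absurd h h2
      · exact h
    rw [h4] at h1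
    have h5 : K.index = 1 := by
      have : p * K.index = p * 1 := by rw [h1, mul_one]
      exact Nat.eq_of_mul_eq_mul_left hp.out.pos this
    exact Subgroup.index_eq_one.mp h5
  refine ⟨a, b, r, horda, ha.symm, by rw [ha]; exact hb, by rw [ha]; exact hbp, hr.symm, ?_, ?_, htop⟩
  · -- r ≢ 1
    intro hdvd
    have h1 : a ^ r = a ^ (1 : ℤ) := by
      rw [zpow_eq_zpow_iff_modEq, horda]
      have := (Int.modEq_iff_dvd.mpr (by simpa using hdvd : ((p ^ (n - 1) : ℕ) : ℤ) ∣ r - 1)).symm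
      exact this
    rw [zpow_one] at h1
    have hab : a * b = b * a := by
      have : b * a * b⁻¹ = a := by rw [← hr, h1]
      calc a * b = (b * a * b⁻¹) * b := by rw [this]
        _ = b * a := by group
    obtain ⟨x, y, hxy⟩ := hna
    exact hxy (comm_of_closure_pair_eq_top hab htop x y)
  · -- r^p ≡ 1
    have h1 : b ^ p * a * (b ^ p)⁻¹ = a ^ (r ^ p) := pow_conj_of_conj hr.symm p
    have h2 : b ^ p * a * (b ^ p)⁻¹ = a := by
      rw [← ha] at hbp
      obtain ⟨t, ht⟩ := Subgroup.mem_zpowers_iff.mp hbp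
      rw [← ht]
      have : Commute (a ^ t) a := (Commute.refl a).zpow_left t
      rw [this.eq, mul_assoc, mul_inv_cancel, mul_one]
    have h3 : a ^ (r ^ p) = a ^ (1 : ℤ) := by rw [zpow_one, ← h1, h2]
    rw [zpow_eq_zpow_iff_modEq, horda] at h3
    have := Int.modEq_iff_dvd.mp h3.symm
    simpa using this

end Setup


section OddCase
variable {G : Type*} [Group G]

/-- Gorenstein 5.4.4 (i): nonabelian group of order `p^n`, `p` odd, with a cyclic subgroup of index `p`. -/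
theorem exists_gens_odd [Finite G] {p : ℕ} [hp : Fact p.Prime] (hp2 : p ≠ 2) (n : ℕ) (hn : 3 ≤ n)
    (hG : Nat.card G = p ^ n) (C : Subgroup G) (hC : IsCyclic C) (hCi : C.index = p)
    (hna : ∃ x y : G, x * y ≠ y * x) :
    ∃ a b : G, orderOf a = p ^ (n - 1) ∧ C = zpowers a ∧ orderOf b = p ∧ b ∉ Subgroup.zpowers a ∧
      b * a * b⁻¹ = a ^ (1 + p ^ (n - 2)) := by
  obtain ⟨a, b₀, r, horda, hCa, hb₀, hb₀p, hconj, hr1, hrp, -⟩ := setup n (by omega) hG C hC hCi hna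
  have hodd : Odd p := hp.out.odd_of_ne_two hp2
  obtain ⟨m, rfl⟩ : ∃ m, n = m + 2 := ⟨n - 2, by omega⟩
  simp only [Nat.add_sub_cancel] at *
  have hm1 : m + 2 - 1 = m + 1 := by omega
  rw [hm1] at horda hr1 hrp
  set q : ℤ := (p : ℤ) ^ m with hq
  have hpq : (p : ℤ) ^ (m + 1) = (p : ℤ) * q := by rw [hq, pow_succ, mul_comm]
  have hMq2 : (p : ℤ) * q ∣ q ^ 2 := by
    rw [hq, ← pow_succ', ← pow_mul]
    exact pow_dvd_pow _ (by nlinarith)
  -- Step 1
  have h1 : q ∣ r - 1 := by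
    have := nt_odd hp.out hodd (m := m + 1) (by omega) hrp
    simpa using this
  obtain ⟨k, hk⟩ := h1
  have hrk : r = 1 + k * q := by linarith [hk, mul_comm q k]
  have hpk : ¬ (p : ℤ) ∣ k := by
    intro hdvd
    apply hr1
    obtain ⟨u, hu⟩ := hdvd
    rw [hpq, hk, hu]
    exact ⟨u, by ring⟩
  -- Step 2: invert k mod p
  have hk0 : ((k : ℤ) : ZMod p) ≠ 0 := by
    intro h
    exact hpk ((ZMod.intCast_zmod_eq_zero_iff_dvd k p).mp h)
  set j : ℕ := (((k : ℤ) : ZMod p)⁻¹).val with hj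
  have hjk : ((j : ℤ) * k : ZMod p) = 1 := by
    have : ((j : ℕ) : ZMod p) = ((k : ℤ) : ZMod p)⁻¹ := by rw [hj, ZMod.natCast_zmod_val]
    push_cast
    rw [this, inv_mul_cancel₀ hk0]
  have hjk' : (p : ℤ) ∣ (j : ℤ) * k - 1 := by
    have : (((j : ℤ) * k - 1 : ℤ) : ZMod p) = 0 := by push_cast; rw [sub_eq_zero]; exact_mod_cast hjk
    exact (ZMod.intCast_zmod_eq_zero_iff_dvd _ p).mp this
  obtain ⟨s₀, hs₀⟩ := hjk'
  set b₁ := b₀ ^ j with hb₁
  have hconj₁ : b₁ * a * b₁⁻¹ = a ^ (1 + q) := by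
    rw [hb₁, pow_conj_of_conj hconj j, zpow_eq_zpow_iff_modEq, horda]
    push_cast
    rw [hpq, hrk]
    refine (one_add_mul_pow_modEq hMq2 k j).trans ?_
    have : 1 + (j : ℤ) * k * q = 1 + q + (p : ℤ) * q * s₀ := by
      have : (j : ℤ) * k = 1 + p * s₀ := by linarith
      rw [this]; ring
    rw [this]
    exact Int.modEq_iff_dvd.mpr ⟨-s₀, by ring⟩
  have hb₁C : b₁ ∉ zpowers a := by
    intro hmem
    apply hb₀
    have e : b₀ = (b₀ ^ j) ^ k * ((b₀ ^ p) ^ s₀)⁻¹ := by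
      rw [← zpow_natCast b₀ j, ← zpow_natCast b₀ p, ← zpow_mul, ← zpow_mul, ← zpow_neg, ← zpow_add]
      have : (j : ℤ) * k + -((p : ℤ) * s₀) = 1 := by linarith
      rw [this, zpow_one]
    rw [e]
    exact mul_mem (zpow_mem hmem k) (inv_mem (zpow_mem hb₀p s₀))
  have hb₁p : b₁ ^ p ∈ zpowers a := by
    rw [hb₁, ← pow_mul, mul_comm, pow_mul]
    exact pow_mem hb₀p j
  -- Step 3
  obtain ⟨t, ht⟩ := Subgroup.mem_zpowers_iff.mp hb₁p
  have htp : (p : ℤ) ∣ t := by
    have h2 : b₁ * a ^ t * b₁⁻¹ = a ^ t := by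
      rw [ht]; group
    rw [conj_zpow_of_conj hconj₁, zpow_eq_zpow_iff_modEq, horda] at h2
    have h3 := Int.modEq_iff_dvd.mp h2.symm
    push_cast at h3
    rw [hpq] at h3
    have h4 : (p : ℤ) * q ∣ t * q := by
      have : t * (1 + q) - t = t * q := by ring
      rwa [this] at h3
    have hq0 : q ≠ 0 := by rw [hq]; exact pow_ne_zero _ (by exact_mod_cast hp.out.ne_zero)
    exact Int.dvd_of_mul_dvd_mul_right hq0 h4
  obtain ⟨s, hs⟩ := htp
  -- Step 4
  set b := a ^ (-s) * b₁ with hb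
  have hbp : b ^ p = 1 := by
    rw [hb, mul_pow_of_conj hconj₁, ← ht, ← zpow_add, ← zpow_zero a, zpow_eq_zpow_iff_modEq, horda]
    push_cast
    rw [hpq]
    have hg := geom_sum_one_add_modEq hodd hMq2
    have h5 : -s * ∑ l ∈ Finset.range p, (1 + q) ^ l + t ≡ -s * p + t [ZMOD (p : ℤ) * q] :=
      (hg.mul_left (-s)).add_right t
    refine h5.trans ?_
    rw [hs]
    have : -s * (p : ℤ) + p * s = 0 := by ring
    rw [this]
  have hbC : b ∉ zpowers a := by
    intro hmem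
    apply hb₁C
    have : b₁ = a ^ s * b := by rw [hb, ← mul_assoc, ← zpow_add]; simp
    rw [this]
    exact mul_mem (zpow_mem (mem_zpowers a) s) hmem
  have hb1 : b ≠ 1 := fun h => hbC (h ▸ one_mem _)
  have hordb : orderOf b = p := orderOf_eq_prime hbp hb1
  refine ⟨a, b, by rw [hm1]; exact horda, hCa, hordb, hbC, ?_⟩
  have : b * a * b⁻¹ = a ^ (-s) * (b₁ * a * b₁⁻¹) * (a ^ (-s))⁻¹ := by rw [hb]; group
  rw [this, hconj₁]
  have hcomm : Commute (a ^ (-s)) (a ^ (1 + q)) := (Commute.refl a).zpow_zpow _ _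
  rw [hcomm.eq, mul_assoc, mul_inv_cancel, mul_one, hq]
  rw [← zpow_natCast]
  push_cast
  rfl

end OddCase


section TwoCase
variable {G : Type*} [Group G]

/-- trichotomy for the exponent `r` when `p = 2` -/
theorem two_trichotomy {m : ℕ} (hm : 2 ≤ m) {r : ℤ} (hr1 : ¬ ((2 : ℤ) ^ m ∣ r - 1))
    (hr2 : (2 : ℤ) ^ m ∣ r ^ 2 - 1) :
    (2 : ℤ) ^ m ∣ r + 1 ∨ (3 ≤ m ∧ (2 : ℤ) ^ m ∣ r - (1 + 2 ^ (m - 1))) ∨
      (3 ≤ m ∧ (2 : ℤ) ^ m ∣ r - (-1 + 2 ^ (m - 1))) := by
  obtain ⟨k, rfl⟩ : ∃ k, m = k + 1 := ⟨m - 1, by omega⟩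
  simp only [Nat.add_sub_cancel] at *
  have hpow : (2 : ℤ) ^ (k + 1) = 2 * 2 ^ k := by rw [pow_succ, mul_comm]
  rcases nt_two hr2 with h | h
  · simp only [Nat.add_sub_cancel] at h
    obtain ⟨c, hc⟩ := h
    rcases Int.even_or_odd c with ⟨u, hu⟩ | ⟨u, hu⟩
    · exfalso; apply hr1
      rw [hpow, hc, hu]; exact ⟨u, by ring⟩
    · rcases Nat.lt_or_ge k 2 with hk | hk
      · -- k = 1
        have hk1 : k = 1 := by omega
        subst hk1
        left
        rw [hpow]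
        have : r + 1 = 2 * 2 ^ 1 * (u + 1) := by
          have : r = 1 + 2 ^ 1 * c := by linarith
          rw [this, hu]; ring
        exact ⟨u + 1, this⟩
      · right; left
        refine ⟨by omega, ?_⟩
        rw [hpow]
        have : r - (1 + 2 ^ k) = 2 * 2 ^ k * u := by
          have : r = 1 + 2 ^ k * c := by linarith
          rw [this, hu]; ring
        exact ⟨u, this⟩
  · simp only [Nat.add_sub_cancel] at h
    obtain ⟨c, hc⟩ := h
    rcases Int.even_or_odd c with ⟨u, hu⟩ | ⟨u, hu⟩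
    · left
      rw [hpow, hc, hu]; exact ⟨u, by ring⟩
    · rcases Nat.lt_or_ge k 2 with hk | hk
      · exfalso
        have hk1 : k = 1 := by omega
        subst hk1
        apply hr1
        rw [hpow]
        have : r - 1 = 2 * 2 ^ 1 * u := by
          have : r = -1 + 2 ^ 1 * c := by linarith
          rw [this, hu]; ring
        exact ⟨u, this⟩
      · right; right
        refine ⟨by omega, ?_⟩
        rw [hpow]
        have : r - (-1 + 2 ^ k) = 2 * 2 ^ k * u := by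
          have : r = -1 + 2 ^ k * c := by linarith
          rw [this, hu]; ring
        exact ⟨u, this⟩

theorem zpow_eq_of_dvd_sub {a : G} {N : ℕ} (ha : orderOf a = N) {x y : ℤ} (h : (N : ℤ) ∣ x - y) :
    a ^ x = a ^ y := by
  rw [zpow_eq_zpow_iff_modEq, ha]
  exact (Int.modEq_iff_dvd.mpr h).symm

theorem dvd_sub_of_zpow_eq {a : G} {N : ℕ} (ha : orderOf a = N) {x y : ℤ} (h : a ^ x = a ^ y) :
    (N : ℤ) ∣ x - y := by
  rw [zpow_eq_zpow_iff_modEq, ha] at h
  exact Int.modEq_iff_dvd.mp h.symm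

/-- Gorenstein 5.4.4 (ii): nonabelian group of order `2^n` with a cyclic subgroup of index 2. -/
theorem exists_gens_two [Finite G] (n : ℕ) (hn : 3 ≤ n)
    (hG : Nat.card G = 2 ^ n) (C : Subgroup G) (hC : IsCyclic C) (hCi : C.index = 2)
    (hna : ∃ x y : G, x * y ≠ y * x) :
    ∃ a b : G, orderOf a = 2 ^ (n - 1) ∧ C = zpowers a ∧ b ∉ Subgroup.zpowers a ∧
      ((b ^ 2 = 1 ∧ b * a * b⁻¹ = a⁻¹) ∨ (b ^ 2 = a ^ (2 ^ (n - 2)) ∧ b * a * b⁻¹ = a⁻¹) ∨
       (4 ≤ n ∧ b ^ 2 = 1 ∧ b * a * b⁻¹ = a ^ (1 + 2 ^ (n - 2))) ∨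
       (4 ≤ n ∧ b ^ 2 = 1 ∧ b * a * b⁻¹ = a ^ (2 ^ (n - 2) - 1))) := by
  have : Fact (Nat.Prime 2) := ⟨Nat.prime_two⟩
  obtain ⟨a, b₀, r, horda, hCa, hb₀, hb₀p, hconj, hr1, hrp, -⟩ := setup (p := 2) n (by omega) hG C hC hCi hna
  obtain ⟨m, rfl⟩ : ∃ m, n = m + 2 := ⟨n - 2, by omega⟩
  have hm1 : m + 2 - 1 = m + 1 := by omega
  have hm2 : m + 2 - 2 = m := by omega
  rw [hm1] at horda hr1 hrp
  rw [hm2]
  push_cast at hr1 hrp
  set q : ℤ := (2 : ℤ) ^ m with hq
  have hq0 : q ≠ 0 := by rw [hq]; positivity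
  have hpq : (2 : ℤ) ^ (m + 1) = 2 * q := by rw [hq, pow_succ, mul_comm]
  have hN : ((2 ^ (m + 1) : ℕ) : ℤ) = 2 * q := by push_cast; exact hpq
  obtain ⟨t, ht⟩ := Subgroup.mem_zpowers_iff.mp hb₀p
  -- b₀ commutes with b₀^2 = a^t
  have hcomm_t : a ^ (t * r) = a ^ t := by
    rw [← conj_zpow_of_conj hconj t, ht]; group
  have hdvd_t : (2 * q) ∣ t * r - t := by
    have := dvd_sub_of_zpow_eq horda hcomm_t
    rwa [hN] at this
  have hsimp : m + 1 - 1 = m := by omega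
  rcases two_trichotomy (m := m + 1) (by omega) hr1 hrp with h | ⟨hm3, h⟩ | ⟨hm3, h⟩
  · -- r ≡ -1 : dihedral or quaternion
    rw [hpq] at h
    have hinv : b₀ * a * b₀⁻¹ = a⁻¹ := by
      rw [hconj, ← zpow_neg_one]
      apply zpow_eq_of_dvd_sub horda
      rw [hN]; simpa using h
    -- q ∣ t
    have hqt : q ∣ t := by
      obtain ⟨c, hc⟩ := h
      have hr : r = -1 + 2 * q * c := by linarith
      rw [hr] at hdvd_t
      have : t * (-1 + 2 * q * c) - t = 2 * (q * (t * c) - t) := by ring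
      rw [this] at hdvd_t
      have h2 : q ∣ q * (t * c) - t := Int.dvd_of_mul_dvd_mul_left (by norm_num) hdvd_t
      have h3 : q ∣ q * (t * c) := Dvd.intro _ rfl
      have := dvd_sub h3 h2
      simpa using this
    obtain ⟨u, hu⟩ := hqt
    rcases Int.even_or_odd u with ⟨v, hv⟩ | ⟨v, hv⟩
    · refine ⟨a, b₀, by rw [hm1]; exact horda, hCa, hb₀, Or.inl ⟨?_, hinv⟩⟩
      rw [← ht, ← zpow_zero a]
      apply zpow_eq_of_dvd_sub horda
      rw [hN, hu, hv]; exact ⟨v, by ring⟩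
    · refine ⟨a, b₀, by rw [hm1]; exact horda, hCa, hb₀, Or.inr (Or.inl ⟨?_, hinv⟩)⟩
      rw [← ht, ← zpow_natCast]
      apply zpow_eq_of_dvd_sub horda
      rw [hN, hu, hv]; push_cast; rw [← hq]; exact ⟨v, by ring⟩
  · -- r ≡ 1 + q : modular
    simp only [hsimp] at h
    rw [hpq, ← hq] at h
    have hm3' : 2 ≤ m := by omega
    obtain ⟨g', hg'⟩ : ∃ g' : ℤ, q = 4 * g' := by
      obtain ⟨e, rfl⟩ : ∃ e, m = e + 2 := ⟨m - 2, by omega⟩
      exact ⟨2 ^ e, by rw [hq, pow_add]; ring⟩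
    have hconj' : b₀ * a * b₀⁻¹ = a ^ (1 + q) := by
      rw [hconj]; exact zpow_eq_of_dvd_sub horda (by rw [hN]; exact h)
    -- 2 ∣ t
    have h2t : (2 : ℤ) ∣ t := by
      obtain ⟨c, hc⟩ := h
      have hr : r = 1 + q + 2 * q * c := by linarith
      rw [hr] at hdvd_t
      have : t * (1 + q + 2 * q * c) - t = q * (t + 2 * (t * c)) := by ring
      rw [this, mul_comm 2 q] at hdvd_t
      have h2 : (2 : ℤ) ∣ t + 2 * (t * c) := Int.dvd_of_mul_dvd_mul_left hq0 hdvd_t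
      have h3 : (2 : ℤ) ∣ 2 * (t * c) := Dvd.intro _ rfl
      have := dvd_sub h2 h3
      simpa using this
    obtain ⟨s, hs⟩ := h2t
    set i : ℤ := -s * (1 + 2 * g') with hi
    set b := a ^ i * b₀ with hb
    have hb2 : b ^ 2 = 1 := by
      rw [hb, mul_pow_of_conj hconj', ← ht, ← zpow_add, ← zpow_zero a]
      apply zpow_eq_of_dvd_sub horda
      rw [hN]
      simp only [Finset.sum_range_succ, Finset.sum_range_zero, pow_zero, pow_one, zero_add, sub_zero]
      rw [hi, hs, hg']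
      exact ⟨-(s * (1 + g') * 1), by ring⟩
    have hbC : b ∉ zpowers a := by
      intro hmem
      apply hb₀
      have : b₀ = a ^ (-i) * b := by rw [hb, ← mul_assoc, ← zpow_add]; simp
      rw [this]
      exact mul_mem (zpow_mem (mem_zpowers a) _) hmem
    refine ⟨a, b, by rw [hm1]; exact horda, hCa, hbC, Or.inr (Or.inr (Or.inl ⟨by omega, hb2, ?_⟩))⟩
    have e1 : b * a * b⁻¹ = a ^ i * (b₀ * a * b₀⁻¹) * (a ^ i)⁻¹ := by rw [hb]; group
    rw [e1, hconj']
    have hcomm : Commute (a ^ i) (a ^ (1 + q)) := (Commute.refl a).zpow_zpow _ _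
    rw [hcomm.eq, mul_assoc, mul_inv_cancel, mul_one, hq, ← zpow_natCast]
    push_cast
    rfl
  · -- r ≡ -1 + q : semidihedral
    simp only [hsimp] at h
    rw [hpq, ← hq] at h
    obtain ⟨g', hg'⟩ : ∃ g' : ℤ, q = 4 * g' := by
      obtain ⟨e, rfl⟩ : ∃ e, m = e + 2 := ⟨m - 2, by omega⟩
      exact ⟨2 ^ e, by rw [hq, pow_add]; ring⟩
    have hconj' : b₀ * a * b₀⁻¹ = a ^ (-1 + q) := by
      rw [hconj]; exact zpow_eq_of_dvd_sub horda (by rw [hN]; exact h)
    have hfinal : ∀ x : G, x = a ^ (-1 + q) → x = a ^ (2 ^ m - 1) := by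
      intro x hx
      rw [hx, hq, ← zpow_natCast]
      congr 1
      have : (1 : ℕ) ≤ 2 ^ m := Nat.one_le_two_pow
      push_cast [Nat.cast_sub this]
      ring
    -- q ∣ t
    have hqt : q ∣ t := by
      obtain ⟨c, hc⟩ := h
      have hr : r = -1 + q + 2 * q * c := by linarith
      rw [hr] at hdvd_t
      have : t * (-1 + q + 2 * q * c) - t = 2 * (t * (2 * g' - 1) + q * (t * c)) := by rw [hg']; ring
      rw [this] at hdvd_t
      have h2 : q ∣ t * (2 * g' - 1) + q * (t * c) := Int.dvd_of_mul_dvd_mul_left (by norm_num) hdvd_t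
      have h3 : q ∣ q * (t * c) := Dvd.intro _ rfl
      have h4 : q ∣ t * (2 * g' - 1) := by
        have := dvd_sub h2 h3
        simpa using this
      have hodd : Odd (2 * g' - 1) := ⟨g' - 1, by ring⟩
      have hcop : IsCoprime q (2 * g' - 1) := by rw [hq]; exact isCoprime_two_pow_of_odd hodd m
      exact hcop.dvd_of_dvd_mul_right h4
    obtain ⟨u, hu⟩ := hqt
    rcases Int.even_or_odd u with ⟨v, hv⟩ | ⟨v, hv⟩
    · refine ⟨a, b₀, by rw [hm1]; exact horda, hCa, hb₀, Or.inr (Or.inr (Or.inr ⟨by omega, ?_, hfinal _ hconj'⟩))⟩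
      rw [← ht, ← zpow_zero a]
      apply zpow_eq_of_dvd_sub horda
      rw [hN, hu, hv]; exact ⟨v, by ring⟩
    · set b := a ^ (1 : ℤ) * b₀ with hb
      have hb2 : b ^ 2 = 1 := by
        rw [hb, mul_pow_of_conj hconj', ← ht, ← zpow_add, ← zpow_zero a]
        apply zpow_eq_of_dvd_sub horda
        rw [hN]
        simp only [Finset.sum_range_succ, Finset.sum_range_zero, pow_zero, pow_one, zero_add, sub_zero]
        rw [hu, hv]
        exact ⟨v + 1, by ring⟩
      have hbC : b ∉ zpowers a := by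
        intro hmem
        apply hb₀
        have : b₀ = a ^ (-1 : ℤ) * b := by rw [hb, ← mul_assoc, ← zpow_add]; simp
        rw [this]
        exact mul_mem (zpow_mem (mem_zpowers a) _) hmem
      refine ⟨a, b, by rw [hm1]; exact horda, hCa, hbC, Or.inr (Or.inr (Or.inr ⟨by omega, hb2, ?_⟩))⟩
      apply hfinal
      have e1 : b * a * b⁻¹ = a ^ (1 : ℤ) * (b₀ * a * b₀⁻¹) * (a ^ (1 : ℤ))⁻¹ := by rw [hb]; group
      rw [e1, hconj']
      have hcomm : Commute (a ^ (1 : ℤ)) (a ^ (-1 + q)) := (Commute.refl a).zpow_zpow _ _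
      rw [hcomm.eq, mul_assoc, mul_inv_cancel, mul_one]

end TwoCase

end Cfsg.Agent.Lib.Lead.CyclicMax
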