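import Mathlib
import Cfsg.Agent.Lib.Lead.CyclicMax

/-! p-groups with a unique subgroup of order p are cyclic or generalized quaternion. -/

set_option autoImplicit false

namespace Cfsg.Agent.Lib.Lead.UniqueOrderP

open Subgroup

universe u

section Center
variable {G : Type*} [Group G]

/-- In a finite `p`-group a nontrivial normal subgroup contains a nontrivial central element. -/
theorem exists_central_of_normal [Finite G] {p : ℕ} [hp : Fact p.Prime] (hG : IsPGroup p G)
    (N : Subgroup G) [hN : N.Normal] (hne : N ≠ ⊥) : ∃ z ∈ N, z ≠ 1 ∧ z ∈ center G := by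
  classical
  letI : MulAction G ↥N := MulAction.compHom ↥N (MulAut.conjNormal : G →* MulAut ↥N)
  have hsmul : ∀ (g : G) (x : ↥N), ((g • x : ↥N) : G) = g * x * g⁻¹ := by
    intro g x
    rfl
  have hpN : p ∣ Nat.card ↥N := by
    have hNp : IsPGroup p ↥N := hG.to_subgroup N
    rcases hNp.card_eq_or_dvd with h | h
    · exact absurd (Subgroup.card_eq_one.mp h) hne
    · exact h
  have hfix : (1 : ↥N) ∈ MulAction.fixedPoints G ↥N := by
    intro g
    apply Subtype.ext
    rw [hsmul]; simp
  obtain ⟨z, hz, hz1⟩ := hG.exists_fixed_point_of_prime_dvd_card_of_fixed_point (α := ↥N) hpN hfix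
  refine ⟨z, z.2, ?_, ?_⟩
  · intro h
    apply hz1
    exact (Subtype.ext h).symm
  · rw [mem_center_iff]
    intro g
    have := congrArg Subtype.val (hz g)
    rw [hsmul] at this
    calc g * z = (g * z * g⁻¹) * g := by group
      _ = z * g := by rw [this]


theorem closure_normal_of_conj_mem (S : Set G) (hS : ∀ g : G, ∀ s ∈ S, g * s * g⁻¹ ∈ closure S) :
    (closure S).Normal := by
  constructor
  intro n hn g
  induction hn using Subgroup.closure_induction with
  | mem t ht => exact hS g t ht
  | one => simp
  | mul a b _ _ ha hb =>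
    have : g * (a * b) * g⁻¹ = (g * a * g⁻¹) * (g * b * g⁻¹) := by group
    rw [this]; exact mul_mem ha hb
  | inv a _ ha =>
    have : g * a⁻¹ * g⁻¹ = (g * a * g⁻¹)⁻¹ := by group
    rw [this]; exact inv_mem ha

theorem closure_comm_of_comm (S : Set G) (hS : ∀ x ∈ S, ∀ y ∈ S, x * y = y * x) :
    ∀ x ∈ closure S, ∀ y ∈ closure S, x * y = y * x := by
  intro x hx y hy
  letI := Subgroup.closureCommGroupOfComm hS
  have := mul_comm (⟨x, hx⟩ : closure S) ⟨y, hy⟩
  exact congrArg Subtype.val this

/-- A maximal normal abelian subgroup of a finite `p`-group is self-centralizing. -/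
theorem centralizer_eq_of_maximal_normal_abelian [Finite G] {p : ℕ} [hp : Fact p.Prime]
    (hG : IsPGroup p G) (A : Subgroup G) [hA : A.Normal] (hAab : ∀ x ∈ A, ∀ y ∈ A, x * y = y * x)
    (hmax : ∀ B : Subgroup G, B.Normal → (∀ x ∈ B, ∀ y ∈ B, x * y = y * x) → A ≤ B → B = A) :
    centralizer (A : Set G) = A := by
  have hAC : A ≤ centralizer (A : Set G) := by
    intro a ha
    rw [mem_centralizer_iff]
    intro b hb
    exact hAab b hb a ha
  by_contra hne
  obtain ⟨c, hcC, hcA⟩ : ∃ c ∈ centralizer (A : Set G), c ∉ A := by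
    by_contra hcon
    push_neg at hcon
    exact hne (le_antisymm hcon hAC)
  set π := QuotientGroup.mk' A with hπ
  have hCn : (centralizer (A : Set G)).Normal := inferInstance
  have hNn : ((centralizer (A : Set G)).map π).Normal := hCn.map π (QuotientGroup.mk'_surjective A)
  have hNne : (centralizer (A : Set G)).map π ≠ ⊥ := by
    intro h
    have : π c ∈ (centralizer (A : Set G)).map π := ⟨c, hcC, rfl⟩
    rw [h, mem_bot, hπ, QuotientGroup.mk'_apply, QuotientGroup.eq_one_iff] at this
    exact hcA this
  obtain ⟨zbar, hzN, hz1, hzc⟩ := exists_central_of_normal (hG.to_quotient A) _ hNne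
  obtain ⟨z, hzC, rfl⟩ := hzN
  have hzA : z ∉ A := by
    intro h
    apply hz1
    rw [hπ, QuotientGroup.mk'_apply, QuotientGroup.eq_one_iff]
    exact h
  set S : Set G := (A : Set G) ∪ {z} with hS
  have hScomm : ∀ x ∈ S, ∀ y ∈ S, x * y = y * x := by
    intro x hx y hy
    rcases hx with hx | hx <;> rcases hy with hy | hy
    · exact hAab x hx y hy
    · rw [Set.mem_singleton_iff] at hy; subst hy
      exact (mem_centralizer_iff.mp hzC x hx)
    · rw [Set.mem_singleton_iff] at hx; subst hx
      exact (mem_centralizer_iff.mp hzC y hy).symm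
    · rw [Set.mem_singleton_iff] at hx hy; subst hx; subst hy; rfl
  have hAS : A ≤ closure S := by
    intro a ha
    exact subset_closure (Or.inl ha)
  have hzS : z ∈ closure S := subset_closure (Or.inr rfl)
  have hSn : (closure S).Normal := by
    apply closure_normal_of_conj_mem
    intro g s hs
    rcases hs with hs | hs
    · exact hAS (hA.conj_mem s hs g)
    · rw [Set.mem_singleton_iff] at hs; subst hs
      -- g s g⁻¹ ∈ s A
      have h1 : π (g * s * g⁻¹) = π s := by
        rw [map_mul, map_mul, map_inv]
        have := mem_center_iff.mp hzc (π g)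
        rw [this, mul_assoc, mul_inv_cancel, mul_one]
      have h2 : s⁻¹ * (g * s * g⁻¹) ∈ A := by
        rw [← QuotientGroup.eq_one_iff, ← QuotientGroup.mk'_apply, ← hπ, map_mul, map_inv, h1, inv_mul_cancel]
      have : g * s * g⁻¹ = s * (s⁻¹ * (g * s * g⁻¹)) := by group
      rw [this]
      exact mul_mem hzS (hAS h2)
  have := hmax (closure S) hSn (closure_comm_of_comm S hScomm) hAS
  rw [this] at hzS
  exact hzA hzS

end Center


section Unique

/-- `G` has at most one subgroup of order `p`. -/
def UniqueOrderP (p : ℕ) (G : Type*) [Group G] : Prop :=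
  ∀ H K : Subgroup G, Nat.card H = p → Nat.card K = p → H = K

theorem UniqueOrderP.subgroup {p : ℕ} {G : Type*} [Group G] (h : UniqueOrderP p G) (M : Subgroup G) :
    UniqueOrderP p ↥M := by
  intro H K hH hK
  have h1 : Nat.card (H.map M.subtype) = p := by
    rw [Subgroup.card_map_of_injective M.subtype_injective, hH]
  have h2 : Nat.card (K.map M.subtype) = p := by
    rw [Subgroup.card_map_of_injective M.subtype_injective, hK]
  exact Subgroup.map_injective M.subtype_injective (h _ _ h1 h2)

theorem UniqueOrderP.mem_zpowers {p : ℕ} {G : Type*} [Group G] (h : UniqueOrderP p G) {x y : G}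
    (hx : orderOf x = p) (hy : orderOf y = p) : y ∈ zpowers x := by
  have h1 : Nat.card (zpowers x) = p := by rw [Nat.card_zpowers, hx]
  have h2 : Nat.card (zpowers y) = p := by rw [Nat.card_zpowers, hy]
  rw [h _ _ h1 h2]
  exact Subgroup.mem_zpowers y

theorem abelian_cyclic_aux {p : ℕ} [hp : Fact p.Prime] (n : ℕ) :
    ∀ (G : Type u) [Group G] [Finite G], Nat.card G = n → IsPGroup p G → (∀ x y : G, x * y = y * x) →
      UniqueOrderP p G → IsCyclic G := by
  induction n using Nat.strong_induction_on with
  | _ n ih =>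
    intro G _ _ hn hG hcomm huniq
    rcases subsingleton_or_nontrivial G with hsub | hnt
    · exact isCyclic_of_subsingleton
    letI : CommGroup G := { ‹Group G› with mul_comm := hcomm }
    set φ : G →* G := powMonoidHom p with hφ
    have hφapp : ∀ x, φ x = x ^ p := fun x => rfl
    -- kernel has order p
    have hpG : p ∣ Nat.card G := by
      rcases hG.card_eq_or_dvd with h | h
      · exact absurd ((Nat.card_eq_one_iff_unique.mp h).1) (not_subsingleton G)
      · exact h
    obtain ⟨x₀, hx₀⟩ := exists_prime_orderOf_dvd_card' p hpG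
    have hker : φ.ker = zpowers x₀ := by
      apply le_antisymm
      · intro y hy
        rw [MonoidHom.mem_ker, hφapp] at hy
        by_cases hy1 : y = 1
        · rw [hy1]; exact one_mem _
        · exact huniq.mem_zpowers hx₀ (orderOf_eq_prime hy hy1)
      · rw [zpowers_le, MonoidHom.mem_ker, hφapp, ← hx₀, pow_orderOf_eq_one]
    have hcardK : Nat.card φ.ker = p := by rw [hker, Nat.card_zpowers, hx₀]
    have hcard : p * Nat.card φ.range = Nat.card G := by
      rw [← hcardK, ← Subgroup.index_ker, Subgroup.card_mul_index]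
    have hlt : Nat.card φ.range < n := by
      rw [← hn, ← hcard]
      have : 0 < Nat.card φ.range := Nat.card_pos
      have := hp.out.one_lt
      nlinarith
    have hRcyc : IsCyclic φ.range :=
      ih _ hlt ↥φ.range rfl (hG.to_subgroup _) (fun x y => by
        apply Subtype.ext; simp [hcomm]) (huniq.subgroup _)
    obtain ⟨y, hy⟩ := hRcyc.exists_generator
    obtain ⟨x, hx⟩ := y.2
    have hordy : orderOf (y : G) = Nat.card φ.range := by
      rw [Subgroup.orderOf_coe]; exact orderOf_eq_card_of_forall_mem_zpowers hy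
    by_cases hx1 : x = 1
    · -- range trivial
      have : (y : G) = 1 := by rw [← hx, hx1, map_one]
      rw [this, orderOf_one] at hordy
      rw [← hordy, mul_one] at hcard
      exact isCyclic_of_prime_card hcard.symm
    · apply isCyclic_of_orderOf_eq_card x
      obtain ⟨j, hj⟩ := (IsPGroup.iff_orderOf.mp hG) x
      have hj1 : j ≠ 0 := by
        intro h0
        rw [h0, pow_zero, orderOf_eq_one_iff] at hj
        exact hx1 hj
      obtain ⟨i, rfl⟩ : ∃ i, j = i + 1 := ⟨j - 1, by omega⟩
      have h3 : orderOf (x ^ p) = p ^ i := by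
        rw [orderOf_pow' x hp.out.ne_zero, hj]
        have : (p ^ (i + 1)).gcd p = p := Nat.gcd_eq_right (dvd_pow_self p (by omega))
        rw [this, pow_succ, Nat.mul_div_cancel _ hp.out.pos]
      rw [← hφapp, hx, hordy] at h3
      rw [hj, ← hcard, h3, pow_succ, mul_comm]

/-- An abelian finite `p`-group with at most one subgroup of order `p` is cyclic. -/
theorem abelian_cyclic {p : ℕ} [hp : Fact p.Prime] {G : Type u} [Group G] [Finite G] (hG : IsPGroup p G)
    (hcomm : ∀ x y : G, x * y = y * x) (huniq : UniqueOrderP p G) : IsCyclic G :=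
  abelian_cyclic_aux (Nat.card G) G rfl hG hcomm huniq

end Unique

end Cfsg.Agent.Lib.Lead.UniqueOrderP
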