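import Mathlib
import Cfsg.Prelude.Def_Transfer
import Cfsg.Agent.Lib.Lead.CyclicMax
import Cfsg.Agent.Lib.Lead.UniqueOrderP

/-! `Ω₁` of a non-cyclic `p`-group (`p` odd) with a cyclic maximal subgroup is elementary abelian of
order `p²`. -/

set_option autoImplicit false

namespace Cfsg.Agent.Lib.Lead.OmegaOne

open Subgroup
open Cfsg.Agent.Lib.Lead.CyclicMax
open Cfsg.Agent.Lib.Lead.UniqueOrderP

/-- `∑_{l<p} ((1+q)^j)^l ≡ p (mod M)` when `M ∣ q²`, `M ∣ p q`, `p` odd. -/
theorem sum_pow_pow_modEq {p : ℕ} (hodd : Odd p) {M q : ℤ} (hM1 : M ∣ q ^ 2) (hM2 : M ∣ (p : ℤ) * q)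
    (j : ℕ) : ∑ l ∈ Finset.range p, ((1 + q) ^ j) ^ l ≡ p [ZMOD M] := by
  have h1 : ∀ l ∈ Finset.range p, ((1 + q) ^ j) ^ l ≡ 1 + (l : ℤ) * ((j : ℤ) * q) [ZMOD M] := by
    intro l _
    have := one_add_mul_pow_modEq hM1 1 (j * l)
    rw [← pow_mul]
    refine (by simpa using this : (1 + q) ^ (j * l) ≡ 1 + ((j * l : ℕ) : ℤ) * q [ZMOD M]).trans ?_
    push_cast
    have : (j : ℤ) * l * q = l * (j * q) := by ring
    rw [this]
  have h2 : ∑ l ∈ Finset.range p, ((1 + q) ^ j) ^ l ≡
      ∑ l ∈ Finset.range p, (1 + (l : ℤ) * ((j : ℤ) * q)) [ZMOD M] := Int.ModEq.sum h1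
  refine h2.trans ?_
  rw [Finset.sum_add_distrib, Finset.sum_const, Finset.card_range, ← Finset.sum_mul]
  obtain ⟨t, ht⟩ := hodd
  have hs : (∑ l ∈ Finset.range p, (l : ℤ)) = (p : ℤ) * t := by
    have := Finset.sum_range_id_mul_two p
    have h3 : (∑ i ∈ Finset.range p, i) = p * t := by
      have h4 : p - 1 = 2 * t := by omega
      rw [h4] at this
      have : (∑ i ∈ Finset.range p, i) * 2 = (p * t) * 2 := by rw [this]; ring
      exact Nat.eq_of_mul_eq_mul_right (by norm_num) this
    have : ((∑ i ∈ Finset.range p, i : ℕ) : ℤ) = ((p * t : ℕ) : ℤ) := by rw [h3]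
    push_cast at this
    exact this
  rw [hs]
  have : (p : ℤ) * t * ((j : ℤ) * q) ≡ 0 [ZMOD M] := by
    apply Int.modEq_zero_iff_dvd.mpr
    obtain ⟨c, hc⟩ := hM2
    exact ⟨c * t * j, by rw [show (p : ℤ) * t * ((j : ℤ) * q) = ((p : ℤ) * q) * (t * j) by ring, hc]; ring⟩
  have := (Int.ModEq.refl ((p : ℕ) • (1 : ℤ))).add this
  simpa using this

section Core
variable {R : Type*} [Group R]

/-- in a commutative subgroup generated by elements with `x ^ p = 1`, every element has `x ^ p = 1` -/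
theorem pow_eq_one_of_mem_closure {p : ℕ} (S : Set R) (hcomm : ∀ x ∈ S, ∀ y ∈ S, x * y = y * x)
    (hS : ∀ x ∈ S, x ^ p = 1) : ∀ x ∈ closure S, x ^ p = 1 := by
  have hc := closure_comm_of_comm S hcomm
  intro x hx
  induction hx using Subgroup.closure_induction with
  | mem t ht => exact hS t ht
  | one => simp
  | mul a b ha hb iha ihb =>
    have : Commute a b := hc a ha b hb
    rw [this.mul_pow, iha, ihb, one_mul]
  | inv a _ iha => rw [inv_pow, iha, inv_one]

theorem omega_core [Finite R] {p : ℕ} [hp : Fact p.Prime] (hodd : Odd p) {m : ℕ} {a b : R} {r : ℤ}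
    (horda : orderOf a = p ^ (m + 1)) (hidx : (zpowers a).index = p) (hcard : Nat.card R = p ^ (m + 2))
    (hb : b ∉ zpowers a)
    (hbp : b ^ p = 1) (hconj : b * a * b⁻¹ = a ^ r) (hr : r = 1 ∨ (1 ≤ m ∧ r = 1 + (p : ℤ) ^ m)) :
    Cfsg.IsElementaryAbelian p (closure {x : R | x ^ p = 1}) ∧
      Nat.card (closure {x : R | x ^ p = 1}) = p ^ 2 := by
  set q : ℤ := r - 1 with hq
  have hr' : r = 1 + q := by rw [hq]; ring
  have hM1 : (p : ℤ) ^ (m + 1) ∣ q ^ 2 := by
    rcases hr with h | ⟨hm, h⟩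
    · rw [hq, h]; simp
    · rw [hq, h, add_sub_cancel_left, ← pow_mul]
      exact pow_dvd_pow _ (by nlinarith)
  have hM2 : (p : ℤ) ^ (m + 1) ∣ (p : ℤ) * q := by
    rcases hr with h | ⟨hm, h⟩
    · rw [hq, h]; simp
    · rw [hq, h, add_sub_cancel_left, pow_succ, mul_comm]
  have hpq : (p : ℤ) ∣ q := by
    rcases hr with h | ⟨hm, h⟩
    · rw [hq, h]; simp
    · rw [hq, h, add_sub_cancel_left]
      exact dvd_pow_self _ (by omega)
  have hnormal : (zpowers a).Normal := by
    apply Subgroup.normal_of_index_eq_minFac_card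
    rw [hcard, hidx, Nat.Prime.pow_minFac hp.out (by omega)]
  -- every element is `a^i * b^j`
  have hform : ∀ x : R, ∃ (i : ℤ) (j : ℕ), x = a ^ i * b ^ j := by
    intro x
    have hQ : Nat.card (R ⧸ zpowers a) = p := by rw [← Subgroup.index_eq_card, hidx]
    have hb1 : (QuotientGroup.mk' (zpowers a) b) ≠ 1 := by
      intro h
      exact hb ((QuotientGroup.eq_one_iff b).mp h)
    have htop := zpowers_eq_top_of_prime_card hQ hb1
    have hx : QuotientGroup.mk' (zpowers a) x ∈ zpowers (QuotientGroup.mk' (zpowers a) b) := by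
      rw [htop]; exact mem_top _
    obtain ⟨k, hk⟩ := mem_zpowers_iff.mp hx
    -- reduce `k` mod `p` to a natural number
    have hbk : b ^ k = b ^ (k % p).toNat := by
      rw [← zpow_natCast, Int.toNat_of_nonneg (Int.emod_nonneg _ (by exact_mod_cast hp.out.ne_zero))]
      rw [zpow_eq_zpow_iff_modEq]
      have hob : orderOf b ∣ p := orderOf_dvd_of_pow_eq_one hbp
      have : k % p ≡ k [ZMOD (p : ℤ)] := Int.mod_modEq k p
      exact (this.of_dvd (Int.natCast_dvd_natCast.mpr hob)).symm
    have h2 : x * (b ^ k)⁻¹ ∈ zpowers a := by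
      rw [← QuotientGroup.eq_one_iff]
      have : ((x * (b ^ k)⁻¹ : R) : R ⧸ zpowers a) = QuotientGroup.mk' (zpowers a) x *
          ((QuotientGroup.mk' (zpowers a) b) ^ k)⁻¹ := by
        simp
      rw [this, hk]; simp
    obtain ⟨i, hi⟩ := mem_zpowers_iff.mp h2
    refine ⟨i, (k % p).toNat, ?_⟩
    rw [hi, ← hbk]; group
  -- p-th powers
  have hpow : ∀ (i : ℤ) (j : ℕ), (a ^ i * b ^ j) ^ p = a ^ (i * p) := by
    intro i j
    have hcj : b ^ j * a * (b ^ j)⁻¹ = a ^ (r ^ j) := pow_conj_of_conj hconj j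
    rw [mul_pow_of_conj hcj, ← pow_mul, mul_comm j p, pow_mul, hbp, one_pow, mul_one]
    rw [zpow_eq_zpow_iff_modEq, horda]
    push_cast
    rw [hr']
    exact (sum_pow_pow_modEq hodd hM1 hM2 j).mul_left i
  set z := a ^ (p ^ m) with hz
  have hzp : z ^ p = 1 := by
    rw [hz, ← pow_mul, ← pow_succ, ← horda, pow_orderOf_eq_one]
  have hzb : z * b = b * z := by
    have h1 : b * z * b⁻¹ = z := by
      rw [hz, ← zpow_natCast, conj_zpow_of_conj hconj, zpow_eq_zpow_iff_modEq, horda, hr']
      push_cast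
      have : (p : ℤ) ^ m * (1 + q) = (p : ℤ) ^ m + (p : ℤ) ^ m * q := by ring
      rw [this]
      apply Int.modEq_iff_dvd.mpr
      obtain ⟨c, hc⟩ := hpq
      exact ⟨-c, by rw [hc, pow_succ]; ring⟩
    calc z * b = (b * z * b⁻¹) * b := by rw [h1]
      _ = b * z := by group
  -- elements of order dividing p in ⟨a⟩ lie in ⟨z⟩
  have hCz : ∀ i : ℤ, a ^ (i * p) = 1 → a ^ i ∈ zpowers z := by
    intro i hi
    rw [← zpow_zero a, zpow_eq_zpow_iff_modEq, horda] at hi
    have h1 := Int.modEq_iff_dvd.mp hi.symm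
    simp only [sub_zero] at h1
    push_cast at h1
    rw [pow_succ] at h1
    have h2 : (p : ℤ) ^ m ∣ i :=
      Int.dvd_of_mul_dvd_mul_right (by exact_mod_cast hp.out.ne_zero) h1
    obtain ⟨c, hc⟩ := h2
    have hzc : a ^ i = z ^ c := by
      rw [hc, zpow_mul, hz, ← zpow_natCast]
      push_cast
      rfl
    rw [hzc]
    exact Subgroup.zpow_mem _ (mem_zpowers z) c
  set S : Set R := {z, b} with hS
  have hScomm : ∀ x ∈ S, ∀ y ∈ S, x * y = y * x := by
    intro x hx y hy
    rcases hx with rfl | rfl <;> rcases hy with rfl | rfl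
    · rfl
    · exact hzb
    · exact hzb.symm
    · rfl
  have hSp : ∀ x ∈ S, x ^ p = 1 := by
    intro x hx
    rcases hx with rfl | rfl
    · exact hzp
    · exact hbp
  have hEp := pow_eq_one_of_mem_closure S hScomm hSp
  have hEq : closure {x : R | x ^ p = 1} = closure S := by
    apply le_antisymm
    · rw [closure_le]
      intro x hx
      obtain ⟨i, j, rfl⟩ := hform x
      have h1 : a ^ (i * p) = 1 := by rw [← hpow i j]; exact hx
      have h2 := hCz i h1
      refine mul_mem ?_ (pow_mem (subset_closure (by simp [hS])) j)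
      exact (zpowers_le.mpr (subset_closure (by simp [hS]))) h2
    · rw [closure_le]
      intro x hx
      exact subset_closure (hSp x hx)
  rw [hEq]
  constructor
  · refine ⟨⟨⟨fun x y => Subtype.ext (closure_comm_of_comm S hScomm x x.2 y y.2)⟩⟩, hEp⟩
  · -- cardinality
    set E := closure S with hE
    have hzE : z ∈ E := subset_closure (by simp [hS])
    have hbE : b ∈ E := subset_closure (by simp [hS])
    have hinf : zpowers a ⊓ E = zpowers z := by
      apply le_antisymm
      · intro x ⟨hx1, hx2⟩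
        obtain ⟨i, rfl⟩ := mem_zpowers_iff.mp hx1
        apply hCz
        rw [zpow_mul, zpow_natCast]
        exact hEp _ hx2
      · rw [zpowers_le]
        refine ⟨?_, hzE⟩
        rw [hz]; exact pow_mem (mem_zpowers a) _
    have hordz : orderOf z = p := by
      rw [hz, orderOf_pow_of_dvd (pow_ne_zero _ hp.out.ne_zero) (by rw [horda]; exact pow_dvd_pow p (by omega)),
        horda, pow_succ, Nat.mul_div_cancel_left _ (pow_pos hp.out.pos m)]
    have hrel : (zpowers a).relIndex E = p := by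
      have h1 : (zpowers a).relIndex E ∣ p := by
        rw [← hidx]; exact Subgroup.relIndex_dvd_index_of_normal _ _
      rcases (Nat.dvd_prime hp.out).mp h1 with h | h
      · exact absurd (Subgroup.relIndex_eq_one.mp h hbE) hb
      · exact h
    have h3 := Subgroup.card_mul_index ((zpowers a).subgroupOf E)
    have h4 : Nat.card ((zpowers a).subgroupOf E) = Nat.card (zpowers a ⊓ E : Subgroup R) := by
      rw [← Subgroup.inf_subgroupOf_right]
      exact Nat.card_congr (Subgroup.subgroupOfEquivOfLe inf_le_right).toEquiv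
    rw [h4, hinf, Nat.card_zpowers, hordz] at h3
    change p * (zpowers a).relIndex E = _ at h3
    rw [hrel] at h3
    rw [← h3, pow_two]

/-- the abelian case -/
theorem omega_abelian [Finite R] {p : ℕ} [hp : Fact p.Prime] (hR : IsPGroup p R)
    (hcomm : ∀ x y : R, x * y = y * x) (hnc : ¬ IsCyclic R) (C : Subgroup R) (hC : IsCyclic C)
    (hCi : C.index = p) :
    Cfsg.IsElementaryAbelian p (closure {x : R | x ^ p = 1}) ∧
      Nat.card (closure {x : R | x ^ p = 1}) = p ^ 2 := by
  set S : Set R := {x : R | x ^ p = 1} with hS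
  set E := closure S with hE
  have hEp : ∀ x ∈ E, x ^ p = 1 :=
    pow_eq_one_of_mem_closure S (fun x _ y _ => hcomm x y) (fun x hx => hx)
  refine ⟨⟨⟨⟨fun x y => Subtype.ext (hcomm x y)⟩⟩, hEp⟩, ?_⟩
  obtain ⟨k, hk⟩ := (hR.to_subgroup E).exists_card_eq
  have hnormal : C.Normal := ⟨fun n hn g => by
    have : g * n * g⁻¹ = n := by rw [hcomm g n, mul_assoc, mul_inv_cancel, mul_one]
    rw [this]; exact hn⟩
  -- lower bound
  have hk2 : 2 ≤ k := by
    by_contra hlt
    have hle : Nat.card E ≤ p := by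
      rw [hk]
      calc p ^ k ≤ p ^ 1 := Nat.pow_le_pow_right hp.out.pos (by omega)
        _ = p := pow_one p
    apply hnc
    apply abelian_cyclic hR hcomm
    intro H K hH hK
    have hsub : ∀ L : Subgroup R, Nat.card L = p → L = E := by
      intro L hL
      apply Subgroup.eq_of_le_of_card_ge
      · intro x hx
        apply Subgroup.subset_closure
        have : (⟨x, hx⟩ : L) ^ Nat.card L = 1 := pow_card_eq_one'
        rw [hL] at this
        exact congrArg Subtype.val this
      · rw [hL]; exact hle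
    rw [hsub H hH, hsub K hK]
  -- upper bound
  have hinf : Nat.card (C ⊓ E : Subgroup R) ∣ p := by
    haveI : IsCyclic (C ⊓ E : Subgroup R) := by
      haveI := hC
      exact Subgroup.isCyclic_of_le (inf_le_left : C ⊓ E ≤ C)
    rw [← IsCyclic.exponent_eq_card]
    apply Monoid.exponent_dvd_of_forall_pow_eq_one
    intro x
    exact Subtype.ext (hEp x.1 x.2.2)
  have hrel : C.relIndex E ∣ p := by
    rw [← hCi]; exact Subgroup.relIndex_dvd_index_of_normal _ _
  have h3 := Subgroup.card_mul_index (C.subgroupOf E)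
  have h4 : Nat.card (C.subgroupOf E) = Nat.card (C ⊓ E : Subgroup R) := by
    rw [← Subgroup.inf_subgroupOf_right]
    exact Nat.card_congr (Subgroup.subgroupOfEquivOfLe inf_le_right).toEquiv
  rw [h4] at h3
  change _ * C.relIndex E = _ at h3
  have hle2 : Nat.card E ≤ p * p := by
    rw [← h3]
    exact Nat.mul_le_mul (Nat.le_of_dvd hp.out.pos hinf) (Nat.le_of_dvd hp.out.pos hrel)
  rw [hk] at hle2 ⊢
  have : k ≤ 2 := by
    by_contra hgt
    have : p ^ 3 ≤ p ^ k := Nat.pow_le_pow_right hp.out.pos (by omega)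
    have h5 : p ^ 3 ≤ p * p := le_trans this hle2
    have : p * p * 1 < p * p * p := by
      apply Nat.mul_lt_mul_of_pos_left hp.out.one_lt
      exact Nat.mul_pos hp.out.pos hp.out.pos
    rw [pow_succ, pow_two] at h5
    omega
  have : k = 2 := by omega
  rw [this]

/-- **S0127**: for odd `p`, in a non-cyclic `p`-group with a cyclic subgroup of index `p`, `Ω₁` is
elementary abelian of order `p²`. -/
theorem omega_one_of_cyclic_index [Finite R] {p : ℕ} [hp : Fact p.Prime] (hp2 : p ≠ 2)
    (hR : IsPGroup p R) (hnc : ¬ IsCyclic R) (C : Subgroup R) (hC : IsCyclic C) (hCi : C.index = p) :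
    Cfsg.IsElementaryAbelian p (closure {x : R | x ^ p = 1}) ∧
      Nat.card (closure {x : R | x ^ p = 1}) = p ^ 2 := by
  by_cases hcomm : ∀ x y : R, x * y = y * x
  · exact omega_abelian hR hcomm hnc C hC hCi
  push_neg at hcomm
  obtain ⟨n, hn⟩ := hR.exists_card_eq
  have hn3 : 3 ≤ n := by
    by_contra h
    obtain ⟨x, y, hxy⟩ := hcomm
    have : n ≤ 2 := by omega
    interval_cases n
    · have : Subsingleton R := by
        rw [← Finite.card_le_one_iff_subsingleton]
        simp [hn]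
      exact hxy (by rw [Subsingleton.elim x y])
    · have : IsCyclic R := isCyclic_of_prime_card (p := p) (by simpa using hn)
      exact hnc this
    · exact hxy (IsPGroup.commutative_of_card_eq_prime_sq hn x y)
  obtain ⟨a, b, horda, hCa, hordb, hb, hconj⟩ := exists_gens_odd hp2 n hn3 hn C hC hCi hcomm
  obtain ⟨m, rfl⟩ : ∃ m, n = m + 3 := ⟨n - 3, by omega⟩
  have e1 : m + 3 - 1 = (m + 1) + 1 := by omega
  have e2 : m + 3 - 2 = m + 1 := by omega
  rw [e1] at horda
  rw [e2] at hconj
  have hodd : Odd p := hp.out.odd_of_ne_two hp2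
  refine omega_core hodd (m := m + 1) (r := 1 + (p : ℤ) ^ (m + 1)) horda (by rw [← hCa]; exact hCi)
    (by rw [hn]) hb (by rw [← hordb]; exact pow_orderOf_eq_one b) ?_ (Or.inr ⟨by omega, rfl⟩)
  rw [hconj, ← zpow_natCast]
  push_cast
  rfl

end Core

end Cfsg.Agent.Lib.Lead.OmegaOne
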