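import Mathlib
import Cfsg.Prelude.Def_Transfer
import Cfsg.Agent.S0598
import Cfsg.Agent.Lib.Lead.OmegaOne

/-! Thompson replacement for elementary abelian subgroups of maximal order (KS 9.2.3). -/

set_option autoImplicit false

namespace Cfsg.Agent.Lib.Lead.ThompsonRepl

open Subgroup
open scoped commutatorElement
open Cfsg.Agent.Lib.Lead.UniqueOrderP
open Cfsg.Agent.Lib.Lead.OmegaOne
open Cfsg.Agent.S0598

variable {G : Type*} [Group G]

/-- nilpotent action: if `T` and `V` are `p`-subgroups, `T` normalizes `V`, and `X ≤ V` with `X ≤ [X, T]`,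
then `X = 1`. -/
theorem eq_bot_of_le_commutator [Finite G] {p : ℕ} [hp : Fact p.Prime] (V T X : Subgroup G)
    (hV : IsPGroup p V) (hT : IsPGroup p T) (hTV : T ≤ normalizer (V : Set G)) (hXV : X ≤ V)
    (hX : X ≤ ⁅X, T⁆) : X = ⊥ := by
  set P := V ⊔ T with hP
  have hPp : IsPGroup p P := IsPGroup.to_sup_of_normal_left' hV hT hTV
  have hnil : Group.IsNilpotent P := hPp.isNilpotent
  obtain ⟨n, hn⟩ := (Subgroup.isNilpotent_iff_lowerCentralSeries P).mp hnil
  have hXP : X ≤ P := hXV.trans le_sup_left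
  have hTP : T ≤ P := le_sup_right
  have hall : ∀ k, X ≤ P.lowerCentralSeries k := by
    intro k
    induction k with
    | zero => simpa using hXP
    | succ k ih =>
      rw [Subgroup.lowerCentralSeries_succ]
      exact hX.trans (Subgroup.commutator_mono ih hTP)
  rw [eq_bot_iff, ← hn]
  exact hall n

theorem isPGroup_of_elementaryAbelian {p : ℕ} {A : Subgroup G} (hA : Cfsg.IsElementaryAbelian p A) :
    IsPGroup p A := by
  intro a
  refine ⟨1, ?_⟩
  rw [pow_one]
  exact Subtype.ext (by simpa using hA.2 a.1 a.2)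

theorem comm_of_elementaryAbelian {p : ℕ} {A : Subgroup G} (hA : Cfsg.IsElementaryAbelian p A) :
    ∀ x ∈ A, ∀ y ∈ A, x * y = y * x := by
  intro x hx y hy
  have := hA.1.is_comm.comm (⟨x, hx⟩ : A) ⟨y, hy⟩
  exact congrArg Subtype.val this

/-- join of two elementwise commuting elementary abelian subgroups -/
theorem elementaryAbelian_sup {p : ℕ} {H K : Subgroup G} (hH : Cfsg.IsElementaryAbelian p H)
    (hK : Cfsg.IsElementaryAbelian p K) (hHK : ∀ x ∈ H, ∀ y ∈ K, x * y = y * x) :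
    Cfsg.IsElementaryAbelian p (H ⊔ K) := by
  have hHc := comm_of_elementaryAbelian hH
  have hKc := comm_of_elementaryAbelian hK
  set S : Set G := (H : Set G) ∪ (K : Set G) with hS
  have hScomm : ∀ x ∈ S, ∀ y ∈ S, x * y = y * x := by
    intro x hx y hy
    rcases hx with hx | hx <;> rcases hy with hy | hy
    · exact hHc x hx y hy
    · exact hHK x hx y hy
    · exact (hHK y hy x hx).symm
    · exact hKc x hx y hy
  have hSp : ∀ x ∈ S, x ^ p = 1 := by
    intro x hx
    rcases hx with hx | hx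
    · exact hH.2 x hx
    · exact hK.2 x hx
  have hcl : H ⊔ K = closure S := by
    rw [hS, Subgroup.closure_union, Subgroup.closure_eq, Subgroup.closure_eq]
  rw [hcl]
  refine ⟨⟨⟨fun x y => Subtype.ext (closure_comm_of_comm S hScomm x x.2 y y.2)⟩⟩, ?_⟩
  exact pow_eq_one_of_mem_closure S hScomm hSp

theorem elementaryAbelian_of_le {p : ℕ} {H K : Subgroup G} (hK : Cfsg.IsElementaryAbelian p K)
    (hHK : H ≤ K) : Cfsg.IsElementaryAbelian p H := by
  have hKc := comm_of_elementaryAbelian hK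
  exact ⟨⟨⟨fun x y => Subtype.ext (hKc x (hHK x.2) y (hHK y.2))⟩⟩, fun a ha => hK.2 a (hHK ha)⟩

/-- the Thompson product is maximal at `A` for `A` of maximal order -/
theorem mm_le_of_max [Finite G] {p : ℕ} (V : Subgroup G) (hV : Cfsg.IsElementaryAbelian p V)
    (A : Subgroup G) (hA : A ∈ Cfsg.maxElementaryAbelianSubgroups p G) (B : Subgroup G) (hBA : B ≤ A) :
    mm V B ≤ mm V A := by
  obtain ⟨hAe, hAmax⟩ := hA
  have hAc := comm_of_elementaryAbelian hAe
  have hBe := elementaryAbelian_of_le hAe hBA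
  have hCe : Cfsg.IsElementaryAbelian p (cv V B) := elementaryAbelian_of_le hV inf_le_left
  have hcomm : ∀ x ∈ B, ∀ y ∈ cv V B, x * y = y * x := by
    intro x hx y hy
    have := (Subgroup.mem_inf.mp hy).2
    rw [mem_centralizer_iff] at this
    exact this x hx
  have hsup := elementaryAbelian_sup hBe hCe hcomm
  have h1 := card_mul_card_le B (cv V B)
  have h2 : Nat.card (B ⊔ cv V B : Subgroup G) ≤ Nat.card A := hAmax _ hsup
  have h3 : (B ⊓ cv V B : Subgroup G) ≤ cv V A := by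
    intro x hx
    obtain ⟨hxB, hxC⟩ := Subgroup.mem_inf.mp hx
    refine Subgroup.mem_inf.mpr ⟨(Subgroup.mem_inf.mp hxC).1, ?_⟩
    rw [mem_centralizer_iff]
    intro a ha
    exact hAc a ha x (hBA hxB)
  have h4 := Subgroup.card_le_of_le h3
  calc mm V B = Nat.card B * Nat.card (cv V B) := rfl
    _ ≤ Nat.card (B ⊓ cv V B : Subgroup G) * Nat.card (B ⊔ cv V B : Subgroup G) := h1
    _ ≤ Nat.card (cv V A) * Nat.card A := Nat.mul_le_mul h4 h2
    _ = mm V A := by rw [mul_comm]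

/-- **Thompson replacement (KS 9.2.3), S0607.** -/
theorem thompson_replacement [Finite G] {p : ℕ} [hp : Fact p.Prime] (V : Subgroup G) [hVn : V.Normal]
    (hV : Cfsg.IsElementaryAbelian p V) (A : Subgroup G)
    (hA : A ∈ Cfsg.maxElementaryAbelianSubgroups p G) :
    (⁅V, A⁆ ⊔ (A ⊓ Subgroup.centralizer ((⁅V, A⁆ : Subgroup G) : Set G))) ∈
        Cfsg.maxElementaryAbelianSubgroups p G ∧
      ⁅⁅V, ⁅V, A⁆ ⊔ (A ⊓ Subgroup.centralizer ((⁅V, A⁆ : Subgroup G) : Set G))⁆,
        ⁅V, A⁆ ⊔ (A ⊓ Subgroup.centralizer ((⁅V, A⁆ : Subgroup G) : Set G))⁆ = ⊥ ∧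
      (⁅V, A⁆ ≠ ⊥ →
        ⁅V, ⁅V, A⁆ ⊔ (A ⊓ Subgroup.centralizer ((⁅V, A⁆ : Subgroup G) : Set G))⁆ ≠ ⊥) := by
  have hAe := hA.1
  have hAmax := hA.2
  have hVc := comm_of_elementaryAbelian hV
  have hAc := comm_of_elementaryAbelian hAe
  set X := ⁅V, A⁆ with hX
  set A₁ := A ⊓ centralizer (X : Set G) with hA₁
  have hXV : X ≤ V := by
    rw [hX, commutator_le]
    intro v hv a ha
    have : ⁅v, a⁆ = v * (a * v⁻¹ * a⁻¹) := by simp [commutatorElement_def, mul_assoc]
    rw [this]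
    exact V.mul_mem hv (hVn.conj_mem _ (V.inv_mem hv) a)
  have hAV : A ≤ normalizer (V : Set G) := by
    rw [normalizer_eq_top]; exact le_top
  have hab : ⁅A, A⁆ ≤ centralizer (V : Set G) := by
    have : ⁅A, A⁆ = ⊥ := by
      rw [commutator_eq_bot_iff_le_centralizer]
      intro a ha
      rw [mem_centralizer_iff]
      intro b hb
      exact hAc b hb a ha
    rw [this]; exact bot_le
  obtain ⟨hmm, hcv⟩ := replacement V A V hVc hAV hab le_rfl (fun B hB => mm_le_of_max V hV A hA B hB)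
  have hA₁A : A₁ ≤ A := inf_le_left
  have hA₁e := elementaryAbelian_of_le hAe hA₁A
  have hCe : Cfsg.IsElementaryAbelian p (cv V A₁) := elementaryAbelian_of_le hV inf_le_left
  have hcomm1 : ∀ x ∈ A₁, ∀ y ∈ cv V A₁, x * y = y * x := by
    intro x hx y hy
    have := (Subgroup.mem_inf.mp hy).2
    rw [mem_centralizer_iff] at this
    exact this x hx
  set D := A₁ ⊔ cv V A₁ with hD
  have hDe : Cfsg.IsElementaryAbelian p D := elementaryAbelian_sup hA₁e hCe hcomm1
  have hDle : Nat.card D ≤ Nat.card A := hAmax D hDe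
  have h1 := card_mul_card_le A₁ (cv V A₁)
  have h3 : (A₁ ⊓ cv V A₁ : Subgroup G) ≤ cv V A := by
    intro x hx
    obtain ⟨hxB, hxC⟩ := Subgroup.mem_inf.mp hx
    refine Subgroup.mem_inf.mpr ⟨(Subgroup.mem_inf.mp hxC).1, ?_⟩
    rw [mem_centralizer_iff]
    intro a ha
    exact hAc a ha x (hA₁A hxB)
  have hmm' : Nat.card A * Nat.card (cv V A) = Nat.card A₁ * Nat.card (cv V A₁) := hmm.symm
  have h5 : Nat.card A ≤ Nat.card D := by
    have : Nat.card (cv V A) * Nat.card A ≤ Nat.card (cv V A) * Nat.card D := by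
      calc Nat.card (cv V A) * Nat.card A = Nat.card A₁ * Nat.card (cv V A₁) := by
            rw [mul_comm]; exact hmm'
        _ ≤ Nat.card (A₁ ⊓ cv V A₁ : Subgroup G) * Nat.card D := h1
        _ ≤ Nat.card (cv V A) * Nat.card D := Nat.mul_le_mul_right _ (Subgroup.card_le_of_le h3)
    exact Nat.le_of_mul_le_mul_left this Nat.card_pos
  have h6 : Nat.card (cv V A) ≤ Nat.card (A₁ ⊓ cv V A₁ : Subgroup G) := by
    have : Nat.card A * Nat.card (cv V A) ≤ Nat.card A * Nat.card (A₁ ⊓ cv V A₁ : Subgroup G) := by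
      calc Nat.card A * Nat.card (cv V A) = Nat.card A₁ * Nat.card (cv V A₁) := hmm'
        _ ≤ Nat.card (A₁ ⊓ cv V A₁ : Subgroup G) * Nat.card D := h1
        _ ≤ Nat.card (A₁ ⊓ cv V A₁ : Subgroup G) * Nat.card A := Nat.mul_le_mul_left _ hDle
        _ = Nat.card A * Nat.card (A₁ ⊓ cv V A₁ : Subgroup G) := mul_comm _ _
    exact Nat.le_of_mul_le_mul_left this Nat.card_pos
  have h7 : (A₁ ⊓ cv V A₁ : Subgroup G) = cv V A := Subgroup.eq_of_le_of_card_ge h3 h6
  have h8 : cv V A ≤ A₁ := h7 ▸ inf_le_left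
  have hDeq : D = X ⊔ A₁ := by
    rw [hD, hcv]
    apply le_antisymm
    · exact sup_le le_sup_right (sup_le le_sup_left (h8.trans le_sup_right))
    · exact sup_le (le_sup_left.trans le_sup_right) le_sup_left
  set As := X ⊔ A₁ with hAs
  have hAse : Cfsg.IsElementaryAbelian p As := hDeq ▸ hDe
  have hAsc := comm_of_elementaryAbelian hAse
  have hXAs : X ≤ As := le_sup_left
  have hA₁As : A₁ ≤ As := le_sup_right
  refine ⟨⟨hAse, fun B hB => (hAmax B hB).trans (hDeq ▸ h5)⟩, ?_, ?_⟩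
  · -- quadratic
    have hcl : As = closure ((X : Set G) ∪ (A₁ : Set G)) := by
      rw [hAs, Subgroup.closure_union, Subgroup.closure_eq, Subgroup.closure_eq]
    have key : ∀ g ∈ closure ((X : Set G) ∪ (A₁ : Set G)), ∀ v ∈ V, ⁅v, g⁆ ∈ X := by
      intro g hg
      induction hg using Subgroup.closure_induction with
      | mem t ht =>
        intro v hv
        rcases ht with ht | ht
        · have : ⁅v, t⁆ = 1 := commutatorElement_eq_one_iff_commute.mpr (hVc v hv t (hXV ht))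
          rw [this]; exact one_mem _
        · exact commutator_mem_commutator hv (hA₁A ht)
      | one => intro v hv; simp
      | mul a b ha hb iha ihb =>
        intro v hv
        have e : ⁅v, a * b⁆ = ⁅v, a⁆ * (a * ⁅v, b⁆ * a⁻¹) := by
          simp only [commutatorElement_def]; group
        have haAs : a ∈ As := hcl ▸ ha
        have hc : a * ⁅v, b⁆ * a⁻¹ = ⁅v, b⁆ := by
          rw [hAsc a haAs _ (hXAs (ihb v hv)), mul_assoc, mul_inv_cancel, mul_one]
        rw [e, hc]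
        exact mul_mem (iha v hv) (ihb v hv)
      | inv a ha iha =>
        intro v hv
        have e : ⁅v, a⁻¹⁆ = a⁻¹ * ⁅v, a⁆⁻¹ * a := by
          simp only [commutatorElement_def]; group
        have haAs : a⁻¹ ∈ As := As.inv_mem (hcl ▸ ha)
        have hc : a⁻¹ * ⁅v, a⁆⁻¹ * a = ⁅v, a⁆⁻¹ := by
          rw [hAsc a⁻¹ haAs _ (hXAs (X.inv_mem (iha v hv))), mul_assoc, inv_mul_cancel, mul_one]
        rw [e, hc]
        exact inv_mem (iha v hv)
    have hVAs : ⁅V, As⁆ ≤ X := by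
      rw [commutator_le]
      intro v hv g hg
      exact key g (hcl ▸ hg) v hv
    have h9 : ⁅As, As⁆ = ⊥ := by
      rw [commutator_eq_bot_iff_le_centralizer]
      intro a ha
      rw [mem_centralizer_iff]
      intro b hb
      exact hAsc b hb a ha
    rw [eq_bot_iff, ← h9]
    exact commutator_mono (hVAs.trans hXAs) le_rfl
  · -- nontrivial
    intro hXne hcon
    apply hXne
    rw [commutator_eq_bot_iff_le_centralizer] at hcon
    have hVA₁ : V ≤ centralizer (A₁ : Set G) := hcon.trans (Subgroup.centralizer_le hA₁As)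
    have hcvV : cv V A₁ = V := inf_eq_left.mpr hVA₁
    rw [hcvV] at hcv
    -- `X ≤ [X, A]`
    have hXA : ⁅X, A⁆ ≤ X := commutator_mono hXV le_rfl
    have key2 : ∀ v ∈ closure ((X : Set G) ∪ (cv V A : Set G)), v ∈ V ∧ ∀ a ∈ A, ⁅v, a⁆ ∈ ⁅X, A⁆ := by
      intro v hv
      induction hv using Subgroup.closure_induction with
      | mem t ht =>
        rcases ht with ht | ht
        · exact ⟨hXV ht, fun a ha => commutator_mem_commutator ht ha⟩
        · refine ⟨(Subgroup.mem_inf.mp ht).1, fun a ha => ?_⟩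
          have h := (Subgroup.mem_inf.mp ht).2
          rw [mem_centralizer_iff] at h
          have : ⁅t, a⁆ = 1 := commutatorElement_eq_one_iff_commute.mpr (h a ha).symm
          rw [this]; exact one_mem _
      | one => exact ⟨one_mem _, fun a ha => by simp⟩
      | mul v w _ _ ihv ihw =>
        refine ⟨V.mul_mem ihv.1 ihw.1, fun a ha => ?_⟩
        have e : ⁅v * w, a⁆ = v * ⁅w, a⁆ * v⁻¹ * ⁅v, a⁆ := by
          simp only [commutatorElement_def]; group
        have hc : v * ⁅w, a⁆ * v⁻¹ = ⁅w, a⁆ := by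
          rw [hVc v ihv.1 _ (hXV (hXA (ihw.2 a ha))), mul_assoc, mul_inv_cancel, mul_one]
        rw [e, hc]
        exact mul_mem (ihw.2 a ha) (ihv.2 a ha)
      | inv v _ ihv =>
        refine ⟨V.inv_mem ihv.1, fun a ha => ?_⟩
        have e : ⁅v⁻¹, a⁆ = v⁻¹ * ⁅v, a⁆⁻¹ * v := by
          simp only [commutatorElement_def]; group
        have hc : v⁻¹ * ⁅v, a⁆⁻¹ * v = ⁅v, a⁆⁻¹ := by
          rw [hVc v⁻¹ (V.inv_mem ihv.1) _ (hXV (hXA (inv_mem (ihv.2 a ha)))), mul_assoc, inv_mul_cancel,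
            mul_one]
        rw [e, hc]
        exact inv_mem (ihv.2 a ha)
    have hXle : X ≤ ⁅X, A⁆ := by
      rw [hX, commutator_le]
      intro v hv a ha
      have hv' : v ∈ closure ((X : Set G) ∪ (cv V A : Set G)) := by
        rw [Subgroup.closure_union, Subgroup.closure_eq, Subgroup.closure_eq, ← hcv]
        exact hv
      exact (key2 v hv').2 a ha
    exact eq_bot_of_le_commutator V A X (isPGroup_of_elementaryAbelian hV)
      (isPGroup_of_elementaryAbelian hAe) hAV hXV hXle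

/-- a Sylow `p`-subgroup supplements a normal subgroup with `p`-group quotient -/
theorem exists_mul_of_quotient_isPGroup {K : Type*} [Group K] [Finite K] {p : ℕ} [hp : Fact p.Prime]
    (C : Subgroup K) [hC : C.Normal] (hQ : IsPGroup p (K ⧸ C)) (T : Sylow p K) (a : K) :
    ∃ t ∈ (T : Subgroup K), ∃ c ∈ C, a = t * c := by
  have h1 : ((T : Subgroup K) ⊔ C).index ∣ (T : Subgroup K).index := Subgroup.index_dvd_of_le le_sup_left
  have h2 : ((T : Subgroup K) ⊔ C).index ∣ C.index := Subgroup.index_dvd_of_le le_sup_right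
  obtain ⟨n, hn⟩ := IsPGroup.iff_card.mp hQ
  rw [Subgroup.index_eq_card C, hn] at h2
  obtain ⟨j, -, hj⟩ := (Nat.dvd_prime_pow hp.out).mp h2
  have hj0 : j = 0 := by
    by_contra hne
    have : p ∣ ((T : Subgroup K) ⊔ C).index := by
      rw [hj]; exact dvd_pow_self p hne
    exact T.not_dvd_index (dvd_trans this h1)
  rw [hj0, pow_zero, Subgroup.index_eq_one] at hj
  have ha : a ∈ ((T : Subgroup K) ⊔ C : Subgroup K) := hj ▸ mem_top a
  have := Subgroup.mul_normal (T : Subgroup K) C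
  rw [← SetLike.mem_coe, this] at ha
  obtain ⟨t, ht, c, hc, rfl⟩ := Set.mem_mul.mp ha
  exact ⟨t, ht, c, hc, rfl⟩

/-- nilpotent action, general form: `A` normalizes the `p`-group `V`, and `p`-th powers of elements of `A`
centralize `V`. If `X ≤ V` and `X ≤ [X, A]` then `X = 1`. -/
theorem eq_bot_of_le_commutator' [Finite G] {p : ℕ} [hp : Fact p.Prime] (V A X : Subgroup G)
    (hV : IsPGroup p V) (hAV : A ≤ normalizer (V : Set G))
    (hpow : ∀ a ∈ A, a ^ p ∈ centralizer (V : Set G)) (hXV : X ≤ V) (hX : X ≤ ⁅X, A⁆) : X = ⊥ := by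
  set C : Subgroup A := (centralizer (V : Set G)).subgroupOf A with hC
  have hCn : C.Normal := by
    constructor
    intro c hc a
    rw [hC, mem_subgroupOf] at hc ⊢
    rw [mem_centralizer_iff] at hc ⊢
    intro v hv
    have haN := hAV a.2
    rw [mem_normalizer_iff] at haN
    have hv' : (a : G)⁻¹ * v * ((a : G)⁻¹)⁻¹ ∈ V := by
      have := (haN ((a : G)⁻¹ * v * ((a : G)⁻¹)⁻¹)).mpr (by
        have e : (a : G) * ((a : G)⁻¹ * v * ((a : G)⁻¹)⁻¹) * (a : G)⁻¹ = v := by group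
        rw [e]; exact hv)
      exact this
    have h1 := hc _ hv'
    simp only [Subgroup.coe_mul, Subgroup.coe_inv]
    calc v * ((a : G) * (c : G) * (a : G)⁻¹)
        = (a : G) * (((a : G)⁻¹ * v * ((a : G)⁻¹)⁻¹) * (c : G)) * (a : G)⁻¹ := by group
      _ = (a : G) * ((c : G) * ((a : G)⁻¹ * v * ((a : G)⁻¹)⁻¹)) * (a : G)⁻¹ := by rw [h1]
      _ = (a : G) * (c : G) * (a : G)⁻¹ * v := by group
  have hQ : IsPGroup p (A ⧸ C) := by
    intro g
    obtain ⟨a, rfl⟩ := QuotientGroup.mk_surjective g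
    refine ⟨1, ?_⟩
    rw [pow_one, ← QuotientGroup.mk_pow, QuotientGroup.eq_one_iff, hC, mem_subgroupOf]
    simpa using hpow a.1 a.2
  obtain ⟨T'⟩ : Nonempty (Sylow p A) := inferInstance
  set T : Subgroup G := (T' : Subgroup A).map A.subtype with hT
  have hTp : IsPGroup p T := T'.2.map A.subtype
  have hTA : T ≤ A := map_subtype_le _
  have hle : ⁅X, A⁆ ≤ ⁅X, T⁆ := by
    rw [commutator_le]
    intro x hx a ha
    obtain ⟨t, ht, c, hc, hac⟩ := exists_mul_of_quotient_isPGroup C hQ T' ⟨a, ha⟩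
    have hac' : a = (t : G) * (c : G) := by
      have := congrArg Subtype.val hac
      simpa using this
    have hcV : (c : G) ∈ centralizer (V : Set G) := by
      rw [hC, mem_subgroupOf] at hc; exact hc
    rw [mem_centralizer_iff] at hcV
    have hxc : ⁅x, (c : G)⁆ = 1 := commutatorElement_eq_one_iff_commute.mpr (hcV x (hXV hx))
    have e : ⁅x, (t : G) * (c : G)⁆ = ⁅x, (t : G)⁆ * ((t : G) * ⁅x, (c : G)⁆ * (t : G)⁻¹) := by
      simp only [commutatorElement_def]; group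
    rw [hac', e, hxc]
    simp only [mul_one, mul_inv_cancel]
    exact commutator_mem_commutator hx (mem_map_of_mem A.subtype ht)
  exact eq_bot_of_le_commutator V T X hV hTp (hTA.trans hAV) hXV (hX.trans hle)

/-- if `V = Y C_V(A)` with `Y ≤ [V, A]`, then `[V, A] ≤ [[V, A], A]` -/
theorem commutator_le_commutator_of_eq_sup (V A Y : Subgroup G)
    (hVc : ∀ x ∈ V, ∀ y ∈ V, x * y = y * x) (hAV : A ≤ normalizer (V : Set G))
    (hY : Y ≤ ⁅V, A⁆) (hsup : V = Y ⊔ cv V A) : ⁅V, A⁆ ≤ ⁅⁅V, A⁆, A⁆ ∧ ⁅V, A⁆ ≤ V := by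
  set X := ⁅V, A⁆ with hX
  have hXV : X ≤ V := by
    rw [hX, commutator_le]
    intro v hv a ha
    have : ⁅v, a⁆ = v * (a * v⁻¹ * a⁻¹) := by simp [commutatorElement_def, mul_assoc]
    rw [this]
    have haN := hAV ha
    rw [mem_normalizer_iff] at haN
    exact V.mul_mem hv ((haN v⁻¹).mp (V.inv_mem hv))
  refine ⟨?_, hXV⟩
  have hXA : ⁅X, A⁆ ≤ X := commutator_mono hXV le_rfl
  have key2 : ∀ v ∈ closure ((Y : Set G) ∪ (cv V A : Set G)), v ∈ V ∧ ∀ a ∈ A, ⁅v, a⁆ ∈ ⁅X, A⁆ := by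
    intro v hv
    induction hv using Subgroup.closure_induction with
    | mem t ht =>
      rcases ht with ht | ht
      · exact ⟨hXV (hY ht), fun a ha => commutator_mem_commutator (hY ht) ha⟩
      · refine ⟨(Subgroup.mem_inf.mp ht).1, fun a ha => ?_⟩
        have h := (Subgroup.mem_inf.mp ht).2
        rw [mem_centralizer_iff] at h
        have : ⁅t, a⁆ = 1 := commutatorElement_eq_one_iff_commute.mpr (h a ha).symm
        rw [this]; exact one_mem _
    | one => exact ⟨one_mem _, fun a ha => by simp⟩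
    | mul v w _ _ ihv ihw =>
      refine ⟨V.mul_mem ihv.1 ihw.1, fun a ha => ?_⟩
      have e : ⁅v * w, a⁆ = v * ⁅w, a⁆ * v⁻¹ * ⁅v, a⁆ := by
        simp only [commutatorElement_def]; group
      have hc : v * ⁅w, a⁆ * v⁻¹ = ⁅w, a⁆ := by
        rw [hVc v ihv.1 _ (hXV (hXA (ihw.2 a ha))), mul_assoc, mul_inv_cancel, mul_one]
      rw [e, hc]
      exact mul_mem (ihw.2 a ha) (ihv.2 a ha)
    | inv v _ ihv =>
      refine ⟨V.inv_mem ihv.1, fun a ha => ?_⟩
      have e : ⁅v⁻¹, a⁆ = v⁻¹ * ⁅v, a⁆⁻¹ * v := by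
        simp only [commutatorElement_def]; group
      have hc : v⁻¹ * ⁅v, a⁆⁻¹ * v = ⁅v, a⁆⁻¹ := by
        rw [hVc v⁻¹ (V.inv_mem ihv.1) _ (hXV (hXA (inv_mem (ihv.2 a ha)))), mul_assoc, inv_mul_cancel,
          mul_one]
      rw [e, hc]
      exact inv_mem (ihv.2 a ha)
  rw [hX, commutator_le]
  intro v hv a ha
  have hv' : v ∈ closure ((Y : Set G) ∪ (cv V A : Set G)) := by
    rw [Subgroup.closure_union, Subgroup.closure_eq, Subgroup.closure_eq, ← hsup]
    exact hv
  exact (key2 v hv').2 a ha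

/-- **Timmesfeld replacement (S0599).** -/
theorem timmesfeld_replacement [Finite G] {p : ℕ} [hp : Fact p.Prime] (V A : Subgroup G)
    (hV : Cfsg.IsElementaryAbelian p V) (hAV : A ≤ Subgroup.normalizer (V : Set G))
    (hA1 : ∀ B : Subgroup G, B ≤ A → mm V B ≤ mm V A)
    (hA2 : ⁅A, A⁆ ≤ Subgroup.centralizer (V : Set G))
    (hA3 : ∀ a ∈ A, a ^ p ∈ Subgroup.centralizer (V : Set G)) (U : Subgroup G) (hU : U ≤ V) :
    (∀ B : Subgroup G, B ≤ A ⊓ centralizer ((⁅U, A⁆ : Subgroup G) : Set G) →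
        mm V B ≤ mm V (A ⊓ centralizer ((⁅U, A⁆ : Subgroup G) : Set G))) ∧
      cv V (A ⊓ centralizer ((⁅U, A⁆ : Subgroup G) : Set G)) = ⁅U, A⁆ ⊔ cv V A ∧
      (⁅V, A⁆ ≠ ⊥ → ⁅V, A ⊓ centralizer ((⁅U, A⁆ : Subgroup G) : Set G)⁆ ≠ ⊥) := by
  have hVc := comm_of_elementaryAbelian hV
  obtain ⟨hmm, hcv⟩ := replacement V A U hVc hAV hA2 hU hA1
  refine ⟨fun B hB => ?_, hcv, ?_⟩
  · rw [hmm]; exact hA1 B (hB.trans inf_le_left)
  · intro hne hcon
    apply hne
    rw [commutator_eq_bot_iff_le_centralizer] at hcon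
    have hcvV : cv V (A ⊓ centralizer ((⁅U, A⁆ : Subgroup G) : Set G)) = V := inf_eq_left.mpr hcon
    rw [hcvV] at hcv
    obtain ⟨h1, h2⟩ := commutator_le_commutator_of_eq_sup V A ⁅U, A⁆ hVc hAV
      (commutator_mono hU le_rfl) hcv
    exact eq_bot_of_le_commutator' V A ⁅V, A⁆ (isPGroup_of_elementaryAbelian hV) hAV hA3 h2 h1

end Cfsg.Agent.Lib.Lead.ThompsonRepl
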