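import Mathlib
import Cfsg.Agent.S0598
import Cfsg.Agent.Lib.Lead.ThompsonRepl
import Cfsg.Agent.Lib.Lead.UniqueOrderP

/-! Glauberman's replacement theorem (abelian subgroups of maximal order, `p` odd, class `≤ 2`). -/

set_option autoImplicit false

namespace Cfsg.Agent.Lib.Lead.GlaubermanRepl

open Subgroup
open scoped commutatorElement
open Cfsg.Agent.Lib.Lead.UniqueOrderP

variable {G : Type*} [Group G]

/-- abelian subgroups of maximal order inside `S` (as subgroups of the ambient group) -/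
def maxAbIn (S : Subgroup G) : Set (Subgroup G) :=
  {A | A ≤ S ∧ (∀ a ∈ A, ∀ b ∈ A, a * b = b * a) ∧
    ∀ B : Subgroup G, B ≤ S → (∀ a ∈ B, ∀ b ∈ B, a * b = b * a) → Nat.card B ≤ Nat.card A}

theorem mem_of_centralizes [Finite G] {S A : Subgroup G} (hA : A ∈ maxAbIn S) {s : G} (hs : s ∈ S)
    (hc : ∀ a ∈ A, s * a = a * s) : s ∈ A := by
  obtain ⟨hAS, hAc, hAmax⟩ := hA
  set T : Set G := (A : Set G) ∪ {s} with hT
  have hTc : ∀ x ∈ T, ∀ y ∈ T, x * y = y * x := by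
    intro x hx y hy
    rcases hx with hx | hx <;> rcases hy with hy | hy
    · exact hAc x hx y hy
    · rw [Set.mem_singleton_iff.mp hy]; exact (hc x hx).symm
    · rw [Set.mem_singleton_iff.mp hx]; exact hc y hy
    · rw [Set.mem_singleton_iff.mp hx, Set.mem_singleton_iff.mp hy]
  have hcl := closure_comm_of_comm T hTc
  have hle : closure T ≤ S := by
    rw [closure_le]
    intro x hx
    rcases hx with hx | hx
    · exact hAS hx
    · rw [Set.mem_singleton_iff.mp hx]; exact hs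
  have hAle : A ≤ closure T := fun a ha => subset_closure (Or.inl ha)
  have hcard := hAmax _ hle hcl
  have heq : A = closure T := Subgroup.eq_of_le_of_card_ge hAle hcard
  rw [heq]
  exact subset_closure (Or.inr rfl)

theorem card_sup_mul_card_inf [Finite G] (H N : Subgroup G) (hLE : H ≤ normalizer (N : Set G)) :
    Nat.card (H ⊔ N : Subgroup G) * Nat.card (H ⊓ N : Subgroup G) = Nat.card H * Nat.card N := by
  have h1 : N.relIndex H = N.relIndex (H ⊔ N) := by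
    letI := Subgroup.normal_subgroupOf_of_le_normalizer hLE
    letI := Subgroup.normal_subgroupOf_sup_of_le_normalizer hLE
    exact Nat.card_congr (QuotientGroup.quotientInfEquivProdNormalizerQuotient H N hLE).toEquiv
  have h2 := Cfsg.Agent.S0598.card_mul_relIndex (inf_le_left : H ⊓ N ≤ H)
  have h3 := Cfsg.Agent.S0598.card_mul_relIndex (le_sup_right : N ≤ H ⊔ N)
  rw [Subgroup.inf_relIndex_left] at h2
  rw [← h3, ← h2, h1]
  ring

theorem comm_sup {H K : Subgroup G} (hH : ∀ a ∈ H, ∀ b ∈ H, a * b = b * a)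
    (hK : ∀ a ∈ K, ∀ b ∈ K, a * b = b * a) (hHK : ∀ a ∈ H, ∀ b ∈ K, a * b = b * a) :
    ∀ a ∈ H ⊔ K, ∀ b ∈ H ⊔ K, a * b = b * a := by
  have h1 : H ⊔ K = closure ((H : Set G) ∪ (K : Set G)) := by
    rw [Subgroup.closure_union, closure_eq, closure_eq]
  rw [h1]
  apply closure_comm_of_comm
  intro x hx y hy
  rcases hx with hx | hx <;> rcases hy with hy | hy
  · exact hH x hx y hy
  · exact hHK x hx y hy
  · exact (hHK y hy x hx).symm
  · exact hK x hx y hy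

theorem comm_mul_left {B : Subgroup G} (hZc : ∀ z ∈ ⁅B, B⁆, ∀ b ∈ B, z * b = b * z) {u v w : G}
    (hu : u ∈ B) (hv : v ∈ B) (hw : w ∈ B) : ⁅u * v, w⁆ = ⁅u, w⁆ * ⁅v, w⁆ := by
  have hBB : ⁅B, B⁆ ≤ B := by
    rw [commutator_le]
    intro g₁ h₁ g₂ h₂
    exact mul_mem (mul_mem (mul_mem h₁ h₂) (inv_mem h₁)) (inv_mem h₂)
  have h1 : ⁅u * v, w⁆ = u * ⁅v, w⁆ * u⁻¹ * ⁅u, w⁆ := by
    simp only [commutatorElement_def]; group
  have h2 : ⁅v, w⁆ ∈ ⁅B, B⁆ := commutator_mem_commutator hv hw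
  have h3 : u * ⁅v, w⁆ * u⁻¹ = ⁅v, w⁆ := by
    rw [← hZc _ h2 u hu, mul_inv_cancel_right]
  have h4 : ⁅u, w⁆ ∈ ⁅B, B⁆ := commutator_mem_commutator hu hw
  rw [h1, h3]
  exact hZc _ h2 _ (hBB h4)

theorem comm_mul_right {B : Subgroup G} (hZc : ∀ z ∈ ⁅B, B⁆, ∀ b ∈ B, z * b = b * z) {u v w : G}
    (hu : u ∈ B) (hv : v ∈ B) (hw : w ∈ B) : ⁅u, v * w⁆ = ⁅u, v⁆ * ⁅u, w⁆ := by
  have h1 : ⁅u, v * w⁆ = ⁅u, v⁆ * (v * ⁅u, w⁆ * v⁻¹) := by
    simp only [commutatorElement_def]; group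
  have h2 : ⁅u, w⁆ ∈ ⁅B, B⁆ := commutator_mem_commutator hu hw
  have h3 : v * ⁅u, w⁆ * v⁻¹ = ⁅u, w⁆ := by
    rw [← hZc _ h2 v hv, mul_inv_cancel_right]
  rw [h1, h3]

section core

variable [Finite G] {p : ℕ} [hp : Fact p.Prime]

theorem replacement_aux (hp2 : p ≠ 2) {S A B : Subgroup G} (hS : IsPGroup p S)
    (hA : A ∈ maxAbIn S) (hBS : B ≤ S) (hZA : ⁅B, B⁆ ≤ A)
    (hZc : ∀ z ∈ ⁅B, B⁆, ∀ b ∈ B, z * b = b * z)
    (hAB : ∀ a ∈ A, ∀ b ∈ B, a * b * a⁻¹ ∈ B)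
    (x : G) (hxB : x ∈ B) (hxN : x ∉ normalizer (A : Set G))
    (hxA : ∀ a ∈ A, ⁅a, x⁆ ∈ normalizer (A : Set G)) :
    ∃ A' ∈ maxAbIn S, A ⊓ B < A' ⊓ B ∧ A' ≤ normalizer (A : Set G) := by
  classical
  obtain ⟨hAS, hAc, hAmax⟩ := hA
  have hBB : ⁅B, B⁆ ≤ B := by
    rw [commutator_le]
    intro g₁ h₁ g₂ h₂
    exact mul_mem (mul_mem (mul_mem h₁ h₂) (inv_mem h₁)) (inv_mem h₂)
  have hyB : ∀ a ∈ A, ⁅a, x⁆ ∈ B := by
    intro a ha
    have : ⁅a, x⁆ = (a * x * a⁻¹) * x⁻¹ := by simp only [commutatorElement_def]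
    rw [this]
    exact mul_mem (hAB a ha x hxB) (inv_mem hxB)
  have hconj : ∀ a u : G, a * u * a⁻¹ = ⁅a, u⁆ * u := by
    intro a u
    simp only [commutatorElement_def]; group
  have hNA : ∀ n ∈ normalizer (A : Set G), ∀ a ∈ A, ⁅a, n⁆ ∈ A := by
    intro n hn a ha
    have h1 : n * a⁻¹ * n⁻¹ ∈ A := (mem_normalizer_iff.mp hn a⁻¹).mp (inv_mem ha)
    have : ⁅a, n⁆ = a * (n * a⁻¹ * n⁻¹) := by simp only [commutatorElement_def]; group
    rw [this]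
    exact mul_mem ha h1
  have hcommB : ∀ a ∈ A, ∀ u ∈ B, ⁅a, u⁆ ∈ B := by
    intro a ha u hu
    have : ⁅a, u⁆ = (a * u * a⁻¹) * u⁻¹ := by simp only [commutatorElement_def]
    rw [this]
    exact mul_mem (hAB a ha u hu) (inv_mem hu)
  have hBnA : ∀ b ∈ B, ∀ w ∈ A, w ∈ B → b * w * b⁻¹ ∈ A := by
    intro b hb w hwA hwB
    rw [hconj]
    exact mul_mem (hZA (commutator_mem_commutator hb hwB)) hwA
  -- (c)
  have hc : ∀ a ∈ A, ∀ w ∈ A, w ∈ B → ⁅a, x⁆ * w = w * ⁅a, x⁆ := by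
    intro a ha w hwA hwB
    have hw' : x⁻¹ * w * x ∈ A := by simpa using hBnA x⁻¹ (inv_mem hxB) w hwA hwB
    have h1 : a⁻¹ * (x⁻¹ * w * x) * a = x⁻¹ * w * x := by
      rw [mul_assoc, ← hAc a ha _ hw', ← mul_assoc, inv_mul_cancel, one_mul]
    have : ⁅a, x⁆ * w * ⁅a, x⁆⁻¹ = w := by
      calc ⁅a, x⁆ * w * ⁅a, x⁆⁻¹ = a * x * (a⁻¹ * (x⁻¹ * w * x) * a) * x⁻¹ * a⁻¹ := by
            simp only [commutatorElement_def]; group
        _ = a * x * (x⁻¹ * w * x) * x⁻¹ * a⁻¹ := by rw [h1]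
        _ = a * w * a⁻¹ := by group
        _ = w := by rw [hAc a ha w hwA, mul_inv_cancel_right]
    exact mul_inv_eq_iff_eq_mul.mp this
  have hinv2 : ∀ z ∈ S, z ^ 2 = 1 → z = 1 := by
    intro z hz h2
    obtain ⟨k, hk⟩ := (IsPGroup.iff_orderOf.mp hS) ⟨z, hz⟩
    rw [Subgroup.orderOf_mk] at hk
    have h1 : orderOf z ∣ 2 := orderOf_dvd_of_pow_eq_one h2
    rw [hk] at h1
    rcases Nat.eq_zero_or_pos k with h0 | h0
    · rw [h0, pow_zero] at hk; exact orderOf_eq_one_iff.mp hk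
    · exfalso
      have : p ∣ 2 := (dvd_pow_self p h0.ne').trans h1
      exact hp2 ((Nat.prime_dvd_prime_iff_eq hp.out Nat.prime_two).mp this)
  have hconjinv : ∀ a ∈ A, ∀ u ∈ B, ∀ v ∈ B, ⁅a * u * a⁻¹, a * v * a⁻¹⁆ = ⁅u, v⁆ := by
    intro a ha u hu v hv
    have h1 : ⁅a * u * a⁻¹, a * v * a⁻¹⁆ = a * ⁅u, v⁆ * a⁻¹ := by
      simp only [commutatorElement_def]; group
    have h2 : ⁅u, v⁆ ∈ A := hZA (commutator_mem_commutator hu hv)
    rw [h1, hAc a ha _ h2, mul_inv_cancel_right]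
  -- the relation between the two second commutators
  have hrel : ∀ a ∈ A, ∀ a' ∈ A, ⁅a', ⁅a, x⁆⁆ = ⁅a, ⁅a', x⁆⁆ * ⁅⁅a', x⁆, ⁅a, x⁆⁆ := by
    intro a ha a' ha'
    have h1 : a * (a' * x * a'⁻¹) * a⁻¹ = a' * (a * x * a⁻¹) * a'⁻¹ := by
      have : a * (a' * x * a'⁻¹) * a⁻¹ = (a * a') * x * (a * a')⁻¹ := by group
      rw [this, hAc a ha a' ha']; group
    rw [hconj a' x, hconj a x] at h1
    have h2 : a * (⁅a', x⁆ * x) * a⁻¹ = (a * ⁅a', x⁆ * a⁻¹) * (a * x * a⁻¹) := by group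
    have h3 : a' * (⁅a, x⁆ * x) * a'⁻¹ = (a' * ⁅a, x⁆ * a'⁻¹) * (a' * x * a'⁻¹) := by group
    rw [h2, h3, hconj a ⁅a', x⁆, hconj a x, hconj a' ⁅a, x⁆, hconj a' x] at h1
    -- h1 : ⁅a, y'⁆ * y' * (y * x) = ⁅a', y⁆ * y * (y' * x)
    have h4 : ⁅a, ⁅a', x⁆⁆ * ⁅a', x⁆ * ⁅a, x⁆ = ⁅a', ⁅a, x⁆⁆ * ⁅a, x⁆ * ⁅a', x⁆ := by
      have := congrArg (fun t => t * x⁻¹) h1
      simpa [mul_assoc] using this
    have h5 : ⁅a', ⁅a, x⁆⁆ = ⁅a, ⁅a', x⁆⁆ * ⁅a', x⁆ * ⁅a, x⁆ * (⁅a, x⁆ * ⁅a', x⁆)⁻¹ := by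
      rw [h4]; group
    rw [h5]
    simp only [commutatorElement_def]; group
  -- (d)
  have hd : ∀ a ∈ A, ∀ a' ∈ A, ⁅a, x⁆ * ⁅a', x⁆ = ⁅a', x⁆ * ⁅a, x⁆ := by
    intro a ha a' ha'
    have hy := hyB a ha
    have hy' := hyB a' ha'
    have hwA : ⁅a, ⁅a', x⁆⁆ ∈ A := hNA _ (hxA a' ha') a ha
    have hwB : ⁅a, ⁅a', x⁆⁆ ∈ B := hcommB a ha _ hy'
    have hw'A : ⁅a', ⁅a, x⁆⁆ ∈ A := hNA _ (hxA a ha) a' ha'
    have hw'B : ⁅a', ⁅a, x⁆⁆ ∈ B := hcommB a' ha' _ hy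
    -- (1)
    have e1 : ⁅⁅a, x⁆, ⁅a', x⁆⁆ * ⁅x, ⁅a, ⁅a', x⁆⁆⁆ = 1 := by
      have h1 := hconjinv a ha x hxB ⁅a', x⁆ hy'
      rw [hconj a x, hconj a ⁅a', x⁆, comm_mul_left hZc hy hxB (mul_mem hwB hy'),
        comm_mul_right hZc hy hwB hy', comm_mul_right hZc hxB hwB hy'] at h1
      have h2 : ⁅⁅a, x⁆, ⁅a, ⁅a', x⁆⁆⁆ = 1 :=
        commutatorElement_eq_one_iff_commute.mpr (hc a ha _ hwA hwB)
      rw [h2, one_mul, ← mul_assoc] at h1
      exact mul_right_cancel (h1.trans (one_mul _).symm)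
    -- (2)
    have e2 : ⁅⁅a', x⁆, ⁅a, x⁆⁆ * ⁅x, ⁅a', ⁅a, x⁆⁆⁆ = 1 := by
      have h1 := hconjinv a' ha' x hxB ⁅a, x⁆ hy
      rw [hconj a' x, hconj a' ⁅a, x⁆, comm_mul_left hZc hy' hxB (mul_mem hw'B hy),
        comm_mul_right hZc hy' hw'B hy, comm_mul_right hZc hxB hw'B hy] at h1
      have h2 : ⁅⁅a', x⁆, ⁅a', ⁅a, x⁆⁆⁆ = 1 :=
        commutatorElement_eq_one_iff_commute.mpr (hc a' ha' _ hw'A hw'B)
      rw [h2, one_mul, ← mul_assoc] at h1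
      exact mul_right_cancel (h1.trans (one_mul _).symm)
    -- ⁅x, w'⁆ = ⁅x, w⁆
    have e3 : ⁅x, ⁅a', ⁅a, x⁆⁆⁆ = ⁅x, ⁅a, ⁅a', x⁆⁆⁆ := by
      have hq : ⁅⁅a', x⁆, ⁅a, x⁆⁆ ∈ ⁅B, B⁆ := commutator_mem_commutator hy' hy
      rw [hrel a ha a' ha', comm_mul_right hZc hxB hwB (hBB hq)]
      have : ⁅x, ⁅⁅a', x⁆, ⁅a, x⁆⁆⁆ = 1 :=
        commutatorElement_eq_one_iff_commute.mpr (hZc _ hq x hxB).symm
      rw [this, mul_one]
    rw [e3] at e2
    have e4 : ⁅⁅a', x⁆, ⁅a, x⁆⁆ = ⁅⁅a, x⁆, ⁅a', x⁆⁆ := mul_right_cancel (e2.trans e1.symm)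
    have e5 : ⁅⁅a, x⁆, ⁅a', x⁆⁆ ^ 2 = 1 := by
      rw [pow_two]
      nth_rewrite 1 [← e4]
      rw [← commutatorElement_inv ⁅a, x⁆ ⁅a', x⁆]
      exact inv_mul_cancel _
    have e6 : ⁅⁅a, x⁆, ⁅a', x⁆⁆ = 1 :=
      hinv2 _ (hBS (hBB (commutator_mem_commutator hy hy'))) e5
    exact commutatorElement_eq_one_iff_commute.mp e6
  -- the subgroup M₀
  set gens : Set G := {g | ∃ a ∈ A, g = ⁅a, x⁆} with hgens
  set M₀ : Subgroup G := closure gens with hM₀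
  have hM₀B : M₀ ≤ B := by
    rw [hM₀, closure_le]
    rintro g ⟨a, ha, rfl⟩
    exact hyB a ha
  have hM₀N : M₀ ≤ normalizer (A : Set G) := by
    rw [hM₀, closure_le]
    rintro g ⟨a, ha, rfl⟩
    exact hxA a ha
  have hM₀c : ∀ u ∈ M₀, ∀ v ∈ M₀, u * v = v * u := by
    apply closure_comm_of_comm
    rintro u ⟨a, ha, rfl⟩ v ⟨a', ha', rfl⟩
    exact hd a ha a' ha'
  have hgenM : ∀ a ∈ A, ⁅a, x⁆ ∈ M₀ := fun a ha => subset_closure ⟨a, ha, rfl⟩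
  -- centralizing criterion
  have hcent : ∀ g : G, (∀ a ∈ A, g * ⁅a, x⁆ = ⁅a, x⁆ * g) → g ∈ centralizer (M₀ : Set G) := by
    intro g hg
    have h1 : M₀ ≤ centralizer ({g} : Set G) := by
      rw [hM₀, closure_le]
      rintro u ⟨a, ha, rfl⟩
      rw [SetLike.mem_coe, mem_centralizer_iff]
      intro t ht
      rw [Set.mem_singleton_iff.mp ht]
      exact hg a ha
    rw [mem_centralizer_iff]
    intro m hm
    have := h1 hm
    rw [mem_centralizer_iff] at this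
    exact (this g rfl).symm
  set C : Subgroup G := A ⊓ centralizer (M₀ : Set G) with hC
  have hCA : C ≤ A := inf_le_left
  have hCM : ∀ c ∈ C, ∀ m ∈ M₀, m * c = c * m := by
    intro c hc' m hm
    have := (Subgroup.mem_inf.mp hc').2
    rw [mem_centralizer_iff] at this
    exact this m hm
  -- A ⊓ B ≤ C
  have hABC : A ⊓ B ≤ C := by
    intro w hw
    obtain ⟨hwA, hwB⟩ := Subgroup.mem_inf.mp hw
    refine Subgroup.mem_inf.mpr ⟨hwA, hcent w (fun a ha => (hc a ha w hwA hwB).symm)⟩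
  -- the conjugate of A
  set A' : Subgroup G := A.map (MulAut.conj x).toMonoidHom with hA'
  have hA'mem : ∀ b, b ∈ A' ↔ ∃ a ∈ A, x * a * x⁻¹ = b := by
    intro b
    rw [hA', Subgroup.mem_map]
    simp [MulAut.conj_apply]
  have hxax : ∀ a : G, x * a * x⁻¹ = ⁅a, x⁆⁻¹ * a := by
    intro a
    simp only [commutatorElement_def]; group
  have hA'le : A' ≤ M₀ ⊔ A := by
    intro b hb
    obtain ⟨a, ha, rfl⟩ := (hA'mem b).mp hb
    rw [hxax]
    exact mul_mem (le_sup_left (a := M₀) (inv_mem (hgenM a ha))) (le_sup_right (a := M₀) ha)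
  have hAA'C : A ⊓ A' ≤ C := by
    intro b hb
    obtain ⟨hbA, hbA'⟩ := Subgroup.mem_inf.mp hb
    obtain ⟨a, ha, hab⟩ := (hA'mem b).mp hbA'
    refine Subgroup.mem_inf.mpr ⟨hbA, ?_⟩
    -- y_a ∈ A
    have hyA : ⁅a, x⁆ ∈ A := by
      have h1 : ⁅a, x⁆ = a * b⁻¹ := by
        rw [← hab]; simp only [commutatorElement_def]; group
      rw [h1]; exact mul_mem ha (inv_mem hbA)
    -- a centralizes M₀
    have haM : a ∈ centralizer (M₀ : Set G) := by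
      apply hcent
      intro a' ha'
      have h1 := hrel a ha a' ha'
      have h2 : ⁅a', ⁅a, x⁆⁆ = 1 := commutatorElement_eq_one_iff_commute.mpr (hAc a' ha' _ hyA)
      have h3 : ⁅⁅a', x⁆, ⁅a, x⁆⁆ = 1 :=
        commutatorElement_eq_one_iff_commute.mpr (hd a' ha' a ha)
      rw [h2, h3, mul_one] at h1
      exact commutatorElement_eq_one_iff_commute.mp h1.symm
    have hyM : ⁅a, x⁆⁻¹ ∈ centralizer (M₀ : Set G) := by
      apply inv_mem
      apply hcent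
      intro a' ha'
      exact hd a ha a' ha'
    rw [← hab, hxax]
    exact mul_mem hyM haM
  -- counting
  have hcardA' : Nat.card A' = Nat.card A :=
    Subgroup.card_map_of_injective (MulAut.conj x).injective
  have c1 := Cfsg.Agent.S0598.card_mul_card_le A A'
  have c2 : Nat.card (A ⊔ A' : Subgroup G) ≤ Nat.card (M₀ ⊔ A : Subgroup G) :=
    Subgroup.card_le_of_le (sup_le le_sup_right hA'le)
  have c3 := card_sup_mul_card_inf M₀ A hM₀N
  have c4 : Nat.card (A ⊓ A' : Subgroup G) ≤ Nat.card C := Subgroup.card_le_of_le hAA'C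
  have c5 := Cfsg.Agent.S0598.card_mul_card_le M₀ C
  have hMC : M₀ ⊓ C = M₀ ⊓ A := by
    apply le_antisymm
    · exact inf_le_inf_left _ hCA
    · intro m hm
      obtain ⟨hmM, hmA⟩ := Subgroup.mem_inf.mp hm
      refine Subgroup.mem_inf.mpr ⟨hmM, Subgroup.mem_inf.mpr ⟨hmA, ?_⟩⟩
      rw [mem_centralizer_iff]
      intro m' hm'
      exact hM₀c m' hm' m hmM
  rw [hMC] at c5
  rw [hcardA'] at c1
  have hcard : Nat.card A ≤ Nat.card (M₀ ⊔ C : Subgroup G) := by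
    have pA : 0 < Nat.card A := Nat.card_pos
    have pI : 0 < Nat.card (M₀ ⊓ A : Subgroup G) := Nat.card_pos
    -- |A|^2 ≤ |C| |M₀ ⊔ A|
    have d1 : Nat.card A * Nat.card A ≤ Nat.card C * Nat.card (M₀ ⊔ A : Subgroup G) :=
      c1.trans (Nat.mul_le_mul c4 c2)
    -- multiply by |M₀ ⊓ A|
    have d2 : Nat.card A * Nat.card A * Nat.card (M₀ ⊓ A : Subgroup G)
        ≤ Nat.card C * (Nat.card M₀ * Nat.card A) := by
      calc Nat.card A * Nat.card A * Nat.card (M₀ ⊓ A : Subgroup G)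
          ≤ Nat.card C * Nat.card (M₀ ⊔ A : Subgroup G) * Nat.card (M₀ ⊓ A : Subgroup G) :=
            Nat.mul_le_mul_right _ d1
        _ = Nat.card C * (Nat.card M₀ * Nat.card A) := by rw [mul_assoc, c3]
    have d3 : Nat.card A * Nat.card (M₀ ⊓ A : Subgroup G) ≤ Nat.card M₀ * Nat.card C := by
      have : Nat.card A * (Nat.card A * Nat.card (M₀ ⊓ A : Subgroup G))
          ≤ Nat.card A * (Nat.card M₀ * Nat.card C) := by
        calc Nat.card A * (Nat.card A * Nat.card (M₀ ⊓ A : Subgroup G))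
            = Nat.card A * Nat.card A * Nat.card (M₀ ⊓ A : Subgroup G) := by ring
          _ ≤ Nat.card C * (Nat.card M₀ * Nat.card A) := d2
          _ = Nat.card A * (Nat.card M₀ * Nat.card C) := by ring
      exact Nat.le_of_mul_le_mul_left this pA
    have d4 : Nat.card (M₀ ⊓ A : Subgroup G) * Nat.card A
        ≤ Nat.card (M₀ ⊓ A : Subgroup G) * Nat.card (M₀ ⊔ C : Subgroup G) := by
      calc Nat.card (M₀ ⊓ A : Subgroup G) * Nat.card A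
          = Nat.card A * Nat.card (M₀ ⊓ A : Subgroup G) := by ring
        _ ≤ Nat.card M₀ * Nat.card C := d3
        _ ≤ Nat.card (M₀ ⊓ A : Subgroup G) * Nat.card (M₀ ⊔ C : Subgroup G) := c5
    exact Nat.le_of_mul_le_mul_left d4 pI
  -- A* = M₀ ⊔ C
  have hAstar_c : ∀ u ∈ M₀ ⊔ C, ∀ v ∈ M₀ ⊔ C, u * v = v * u :=
    comm_sup hM₀c (fun u hu v hv => hAc u (hCA hu) v (hCA hv)) (fun m hm c hc' => hCM c hc' m hm)
  have hAstar_S : M₀ ⊔ C ≤ S := sup_le (hM₀B.trans hBS) (hCA.trans hAS)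
  refine ⟨M₀ ⊔ C, ⟨hAstar_S, hAstar_c, fun B' hB'S hB'c => (hAmax B' hB'S hB'c).trans hcard⟩, ?_, ?_⟩
  · -- strict increase
    have hle : A ⊓ B ≤ (M₀ ⊔ C) ⊓ B :=
      le_inf (hABC.trans le_sup_right) inf_le_right
    refine lt_of_le_of_ne hle ?_
    intro heq
    apply hxN
    apply mem_normalizer_fintype
    intro a ha
    rw [SetLike.mem_coe] at ha ⊢
    have h1 : ⁅a, x⁆ ∈ (M₀ ⊔ C) ⊓ B :=
      Subgroup.mem_inf.mpr ⟨le_sup_left (a := M₀) (hgenM a ha), hyB a ha⟩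
    rw [← heq] at h1
    rw [hxax]
    exact mul_mem (inv_mem (Subgroup.mem_inf.mp h1).1) ha
  · exact sup_le hM₀N (hCA.trans le_normalizer)

/-- **Glauberman's replacement theorem.** -/
theorem replacement (hp2 : p ≠ 2) {S A B : Subgroup G} (hS : IsPGroup p S)
    (hA : A ∈ maxAbIn S) (hBS : B ≤ S) (hZA : ⁅B, B⁆ ≤ A)
    (hZc : ∀ z ∈ ⁅B, B⁆, ∀ b ∈ B, z * b = b * z)
    (hAB : ∀ a ∈ A, ∀ b ∈ B, a * b * a⁻¹ ∈ B)
    (hnot : ¬ B ≤ normalizer (A : Set G)) :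
    ∃ A' ∈ maxAbIn S, A ⊓ B < A' ⊓ B ∧ A' ≤ normalizer (A : Set G) := by
  classical
  have hAc := hA.2.1
  have hAS := hA.1
  let P : Subgroup G → Prop := fun Y =>
    Y ≤ B ∧ (∀ a ∈ A, ∀ y ∈ Y, a * y * a⁻¹ ∈ Y) ∧ ¬ Y ≤ normalizer (A : Set G)
  have hPB : P B := ⟨le_rfl, hAB, hnot⟩
  obtain ⟨Y, -, hYmin⟩ := Finite.exists_le_minimal (p := P) hPB
  obtain ⟨hYB, hYinv, hYnot⟩ := hYmin.prop
  set K : Subgroup G := ⁅Y, A⁆ with hK
  have hKY : K ≤ Y := by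
    rw [hK, commutator_le]
    intro y hy a ha
    have : ⁅y, a⁆ = y * (a * y⁻¹ * a⁻¹) := by simp only [commutatorElement_def]; group
    rw [this]
    exact mul_mem hy (hYinv a ha _ (inv_mem hy))
  have hKinv : ∀ a ∈ A, ∀ k ∈ K, a * k * a⁻¹ ∈ K := by
    intro a ha k hk
    have h1 : K ≤ K.comap (MulAut.conj a).toMonoidHom := by
      rw [hK, commutator_le]
      intro y hy a' ha'
      rw [Subgroup.mem_comap]
      show (MulAut.conj a) ⁅y, a'⁆ ∈ ⁅Y, A⁆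
      rw [MulAut.conj_apply]
      have h2 : a * ⁅y, a'⁆ * a⁻¹ = ⁅a * y * a⁻¹, a * a' * a⁻¹⁆ := by
        simp only [commutatorElement_def]; group
      have h3 : a * a' * a⁻¹ = a' := by rw [hAc a ha a' ha', mul_inv_cancel_right]
      rw [h2, h3]
      exact commutator_mem_commutator (hYinv a ha y hy) ha'
    have := h1 hk
    rw [Subgroup.mem_comap] at this
    simpa [MulAut.conj_apply] using this
  have hKN : K ≤ normalizer (A : Set G) := by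
    by_contra hKnot
    have hPK : P K := ⟨hKY.trans hYB, hKinv, hKnot⟩
    have hYK : Y ≤ K := hYmin.le_of_le hPK hKY
    have hAnB : A ≤ normalizer (B : Set G) := by
      intro a ha
      apply mem_normalizer_fintype
      intro b hb
      exact hAB a ha b hb
    have := Cfsg.Agent.Lib.Lead.ThompsonRepl.eq_bot_of_le_commutator B A Y (hS.to_le hBS)
      (hS.to_le hAS) hAnB hYB hYK
    apply hYnot
    rw [this]
    exact bot_le
  obtain ⟨x, hxY, hxN⟩ := SetLike.not_le_iff_exists.mp hYnot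
  refine replacement_aux hp2 hS hA hBS hZA hZc hAB x (hYB hxY) hxN ?_
  intro a ha
  apply hKN
  rw [← commutatorElement_inv]
  exact inv_mem (commutator_mem_commutator hxY ha)

theorem maxAbIn_nonempty (S : Subgroup G) : (maxAbIn S).Nonempty := by
  classical
  let α := {A : Subgroup G // A ≤ S ∧ ∀ a ∈ A, ∀ b ∈ A, a * b = b * a}
  haveI : Nonempty α := ⟨⟨⊥, bot_le, fun a ha b hb => by
    rw [mem_bot.mp ha, mem_bot.mp hb]⟩⟩
  obtain ⟨A, hA⟩ := Finite.exists_max (fun A : α => Nat.card (A.1 : Subgroup G))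
  exact ⟨A.1, A.2.1, A.2.2, fun B hBS hBc => hA ⟨B, hBS, hBc⟩⟩

/-- iterating the replacement theorem -/
theorem exists_normalized (hp2 : p ≠ 2) {S B : Subgroup G} (hS : IsPGroup p S) (hBS : B ≤ S)
    (hSB : ∀ s ∈ S, ∀ b ∈ B, s * b * s⁻¹ ∈ B)
    (hZA : ∀ A ∈ maxAbIn S, ⁅B, B⁆ ≤ A)
    (hZc : ∀ z ∈ ⁅B, B⁆, ∀ b ∈ B, z * b = b * z) :
    ∃ A ∈ maxAbIn S, B ≤ normalizer (A : Set G) := by
  classical
  let α := {A : Subgroup G // A ∈ maxAbIn S}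
  haveI : Nonempty α := by
    obtain ⟨A, hA⟩ := maxAbIn_nonempty S
    exact ⟨⟨A, hA⟩⟩
  obtain ⟨A, hA⟩ := Finite.exists_max (fun A : α => Nat.card (A.1 ⊓ B : Subgroup G))
  refine ⟨A.1, A.2, ?_⟩
  by_contra hnot
  obtain ⟨A', hA', hlt, -⟩ := replacement hp2 hS A.2 hBS (hZA _ A.2) hZc
    (fun a ha b hb => hSB a (A.2.1 ha) b hb) hnot
  have h1 := hA ⟨A', hA'⟩
  have h2 : (A.1 ⊓ B : Subgroup G) = A' ⊓ B := Subgroup.eq_of_le_of_card_ge hlt.le h1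
  exact hlt.ne h2

end core

/-! ### The subgroups `J(S)` and `Z(J(S))` (abelian version) -/

/-- `J(S)` -/
def JA (S : Subgroup G) : Subgroup G := sSup (maxAbIn S)

/-- `Z(J(S))` -/
def ZJ (S : Subgroup G) : Subgroup G := JA S ⊓ centralizer (JA S : Set G)

theorem le_JA {S A : Subgroup G} (hA : A ∈ maxAbIn S) : A ≤ JA S := le_sSup hA

theorem JA_le (S : Subgroup G) : JA S ≤ S := sSup_le (fun _ hA => hA.1)

theorem ZJ_le_of_mem [Finite G] {S A : Subgroup G} (hA : A ∈ maxAbIn S) : ZJ S ≤ A := by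
  intro z hz
  obtain ⟨hzJ, hzC⟩ := Subgroup.mem_inf.mp hz
  apply mem_of_centralizes hA (JA_le S hzJ)
  intro a ha
  rw [mem_centralizer_iff] at hzC
  exact (hzC a (le_JA hA ha)).symm

theorem ZJ_comm [Finite G] (S : Subgroup G) : ∀ a ∈ ZJ S, ∀ b ∈ ZJ S, a * b = b * a := by
  intro a ha b hb
  obtain ⟨A, hA⟩ := maxAbIn_nonempty S
  exact hA.2.1 a (ZJ_le_of_mem hA ha) b (ZJ_le_of_mem hA hb)

theorem maxAbIn_mono {S S₁ A : Subgroup G} (hA : A ∈ maxAbIn S) (hAS₁ : A ≤ S₁) (hS₁ : S₁ ≤ S) :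
    A ∈ maxAbIn S₁ ∧ maxAbIn S₁ ⊆ maxAbIn S := by
  refine ⟨⟨hAS₁, hA.2.1, fun B hB hBc => hA.2.2 B (hB.trans hS₁) hBc⟩, ?_⟩
  intro A' hA'
  refine ⟨hA'.1.trans hS₁, hA'.2.1, fun B hB hBc => ?_⟩
  exact (hA.2.2 B hB hBc).trans (hA'.2.2 A hAS₁ hA.2.1)

theorem ZJ_le_ZJ [Finite G] {S S₁ A : Subgroup G} (hA : A ∈ maxAbIn S) (hAS₁ : A ≤ S₁)
    (hS₁ : S₁ ≤ S) : ZJ S ≤ ZJ S₁ := by
  obtain ⟨hA₁, hsub⟩ := maxAbIn_mono hA hAS₁ hS₁
  intro z hz
  refine Subgroup.mem_inf.mpr ⟨le_JA hA₁ (ZJ_le_of_mem hA hz), ?_⟩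
  have hJ : JA S₁ ≤ JA S := sSup_le (fun A' hA' => le_JA (hsub hA'))
  have := (Subgroup.mem_inf.mp hz).2
  exact Subgroup.centralizer_le (show (JA S₁ : Set G) ⊆ JA S from hJ) this

theorem maxAbIn_map (φ : G ≃* G) {S A : Subgroup G} (hA : A ∈ maxAbIn S) :
    A.map φ.toMonoidHom ∈ maxAbIn (S.map φ.toMonoidHom) := by
  obtain ⟨hAS, hAc, hAmax⟩ := hA
  refine ⟨Subgroup.map_mono hAS, ?_, ?_⟩
  · rintro _ ⟨a, ha, rfl⟩ _ ⟨b, hb, rfl⟩
    rw [← map_mul, ← map_mul, hAc a ha b hb]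
  · intro B hB hBc
    have h1 : B.comap φ.toMonoidHom ≤ S := by
      intro x hx
      obtain ⟨s, hs, hsx⟩ := hB (Subgroup.mem_comap.mp hx)
      have : s = x := φ.injective hsx
      rw [← this]; exact hs
    have h2 : ∀ a ∈ B.comap φ.toMonoidHom, ∀ b ∈ B.comap φ.toMonoidHom, a * b = b * a := by
      intro a ha b hb
      apply φ.injective
      rw [map_mul, map_mul]
      exact hBc _ (Subgroup.mem_comap.mp ha) _ (Subgroup.mem_comap.mp hb)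
    have h3 := hAmax _ h1 h2
    have h4 : Nat.card (B.comap φ.toMonoidHom) = Nat.card B := by
      have : (B.comap φ.toMonoidHom).map φ.toMonoidHom = B :=
        Subgroup.map_comap_eq_self_of_surjective φ.surjective B
      rw [← Subgroup.card_map_of_injective (f := φ.toMonoidHom) φ.injective, this]
    rw [Subgroup.card_map_of_injective (f := φ.toMonoidHom) φ.injective, ← h4]
    exact h3

theorem JA_map (φ : G ≃* G) (S : Subgroup G) :
    (JA S).map φ.toMonoidHom = JA (S.map φ.toMonoidHom) := by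
  apply le_antisymm
  · rw [Subgroup.map_le_iff_le_comap]
    apply sSup_le
    intro A hA
    rw [← Subgroup.map_le_iff_le_comap]
    exact le_JA (maxAbIn_map φ hA)
  · apply sSup_le
    intro A hA
    have h1 := maxAbIn_map φ.symm hA
    have h2 : (S.map φ.toMonoidHom).map φ.symm.toMonoidHom = S := by
      ext x
      simp [Subgroup.mem_map]
    rw [h2] at h1
    have h3 : A = (A.map φ.symm.toMonoidHom).map φ.toMonoidHom := by
      ext x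
      simp [Subgroup.mem_map]
    rw [h3]
    exact Subgroup.map_mono (le_JA h1)

theorem ZJ_map (φ : G ≃* G) (S : Subgroup G) :
    (ZJ S).map φ.toMonoidHom = ZJ (S.map φ.toMonoidHom) := by
  ext y
  constructor
  · rintro ⟨z, hz, rfl⟩
    obtain ⟨hzJ, hzC⟩ := Subgroup.mem_inf.mp hz
    refine Subgroup.mem_inf.mpr ⟨?_, ?_⟩
    · rw [← JA_map]; exact Subgroup.mem_map_of_mem _ hzJ
    · rw [mem_centralizer_iff]
      intro t ht
      rw [SetLike.mem_coe, ← JA_map] at ht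
      obtain ⟨u, hu, rfl⟩ := ht
      rw [mem_centralizer_iff] at hzC
      show φ u * φ z = φ z * φ u
      rw [← map_mul, ← map_mul, hzC u hu]
  · intro hy
    obtain ⟨hyJ, hyC⟩ := Subgroup.mem_inf.mp hy
    rw [← JA_map] at hyJ
    obtain ⟨z, hzJ, rfl⟩ := hyJ
    refine ⟨z, Subgroup.mem_inf.mpr ⟨hzJ, ?_⟩, rfl⟩
    rw [mem_centralizer_iff]
    intro u hu
    rw [mem_centralizer_iff] at hyC
    have h1 : φ.toMonoidHom u ∈ (JA (S.map φ.toMonoidHom) : Set G) := by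
      rw [SetLike.mem_coe, ← JA_map]; exact Subgroup.mem_map_of_mem _ hu
    have h2 := hyC _ h1
    apply φ.injective
    rw [map_mul, map_mul]
    exact h2

end Cfsg.Agent.Lib.Lead.GlaubermanRepl
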