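import Mathlib

/-! Baer–Suzuki theorem (Alperin–Lyons proof). -/

set_option autoImplicit false

namespace Cfsg.Agent.Lib.Lead

open Subgroup
open scoped Pointwise

variable {G : Type*} [Group G]

theorem conj_mem_closure {T : Set G} {x : G} (hx : ∀ t ∈ T, x * t * x⁻¹ ∈ T) {h : G}
    (hh : h ∈ closure T) : x * h * x⁻¹ ∈ closure T := by
  induction hh using Subgroup.closure_induction with
  | mem t ht => exact subset_closure (hx t ht)
  | one => simp
  | mul a b _ _ ha hb =>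
    have : x * (a * b) * x⁻¹ = (x * a * x⁻¹) * (x * b * x⁻¹) := by group
    rw [this]; exact mul_mem ha hb
  | inv a _ ha =>
    have : x * a⁻¹ * x⁻¹ = (x * a * x⁻¹)⁻¹ := by group
    rw [this]; exact inv_mem ha

theorem mem_normalizer_closure {T : Set G} {x : G} (hx : ∀ t ∈ T, x * t * x⁻¹ ∈ T)
    (hx' : ∀ t ∈ T, x⁻¹ * t * x ∈ T) : x ∈ normalizer (closure T : Set G) := by
  rw [Subgroup.mem_normalizer_iff]
  intro h
  constructor
  · intro hh; exact conj_mem_closure hx hh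
  · intro hh
    have hx'' : ∀ t ∈ T, x⁻¹ * t * (x⁻¹)⁻¹ ∈ T := by simpa using hx'
    have := conj_mem_closure hx'' hh
    have e : x⁻¹ * (x * h * x⁻¹) * (x⁻¹)⁻¹ = h := by group
    rwa [e] at this

/-- Normalizer growth inside a `p`-group, relative to a generating set normalized by the group. -/
theorem exists_mem_normalizer_of_generated [Finite G] {p : ℕ} [Fact p.Prime] (P : Subgroup G)
    (hP : IsPGroup p P) (S : Set G) (hSP : S ⊆ P) (hS : ∀ g ∈ P, ∀ s ∈ S, g * s * g⁻¹ ∈ S)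
    (D : Subgroup G) (hDP : D ≤ P) (hD : D = closure (S ∩ D)) (hSD : ¬ S ⊆ D) :
    ∃ x ∈ S, x ∉ D ∧ x ∈ normalizer (D : Set G) := by
  classical
  let 𝓛 : Set (Subgroup G) := {L | D ≤ L ∧ L ≤ P ∧ S ∩ L = S ∩ D}
  have hne : 𝓛.Nonempty := ⟨D, le_rfl, hDP, rfl⟩
  obtain ⟨L, hL𝓛, hLmax⟩ := (wellFounded_gt : WellFounded ((· > ·) : Subgroup G → Subgroup G → Prop)).has_min 𝓛 hne
  obtain ⟨hDL, hLP, hSL⟩ := hL𝓛
  -- L is a proper subgroup of P
  have hLneP : L ≠ P := by
    intro h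
    apply hSD
    intro s hs
    have : s ∈ S ∩ (L : Set G) := ⟨hs, by rw [h]; exact hSP hs⟩
    rw [hSL] at this
    exact this.2
  have hnil : Group.IsNilpotent ↥P := hP.isNilpotent
  have hNC := normalizerCondition_of_isNilpotent (G := ↥P)
  have hlt : L.subgroupOf P < ⊤ := by
    rw [lt_top_iff_ne_top]
    intro h
    rw [Subgroup.subgroupOf_eq_top] at h
    exact hLneP (le_antisymm hLP h)
  have hgrow := hNC _ hlt
  obtain ⟨n, hnN, hnL⟩ := SetLike.exists_of_lt hgrow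
  -- N = image in G of the normalizer of L in P
  let N : Subgroup G := (normalizer (L.subgroupOf P : Set ↥P)).map P.subtype
  have hLN : L ≤ N := by
    intro l hl
    refine ⟨⟨l, hLP hl⟩, ?_, rfl⟩
    exact le_normalizer (show (⟨l, hLP hl⟩ : ↥P) ∈ L.subgroupOf P from hl)
  have hNP : N ≤ P := by
    rintro _ ⟨m, _, rfl⟩; exact m.2
  have hNnorm : ∀ m ∈ N, ∀ l ∈ L, m * l * m⁻¹ ∈ L := by
    rintro _ ⟨m, hm, rfl⟩ l hl
    have := (Subgroup.mem_normalizer_iff.mp hm ⟨l, hLP hl⟩).mp hl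
    exact this
  have hLltN : L < N := by
    refine lt_of_le_of_ne hLN ?_
    intro h
    apply hnL
    have : (n : G) ∈ N := ⟨n, hnN, rfl⟩
    rw [← h] at this
    exact this
  have hN𝓛 : N ∉ 𝓛 := fun h => hLmax N h hLltN
  have hSN : S ∩ (N : Set G) ≠ S ∩ D := by
    intro h
    exact hN𝓛 ⟨hDL.trans hLN, hNP, h⟩
  have hsub : S ∩ (D : Set G) ⊆ S ∩ N := fun s hs => ⟨hs.1, hLN (hDL hs.2)⟩
  obtain ⟨x, hxSN, hxD⟩ : ∃ x ∈ S ∩ (N : Set G), x ∉ S ∩ (D : Set G) := by
    by_contra hcon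
    push_neg at hcon
    exact hSN (Set.Subset.antisymm hcon hsub)
  refine ⟨x, hxSN.1, fun hxD' => hxD ⟨hxSN.1, hxD'⟩, ?_⟩
  have hxP : x ∈ P := hNP hxSN.2
  have hxinvN : x⁻¹ ∈ N := inv_mem hxSN.2
  rw [hD]
  apply mem_normalizer_closure
  · rintro t ⟨htS, htD⟩
    have htL : t ∈ L := hDL htD
    have h1 : x * t * x⁻¹ ∈ S := hS x hxP t htS
    have h2 : x * t * x⁻¹ ∈ L := hNnorm x hxSN.2 t htL
    have : x * t * x⁻¹ ∈ S ∩ (L : Set G) := ⟨h1, h2⟩
    rw [hSL] at this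
    exact this
  · rintro t ⟨htS, htD⟩
    have htL : t ∈ L := hDL htD
    have h1 : x⁻¹ * t * x ∈ S := by
      have := hS x⁻¹ (inv_mem hxP) t htS
      simpa using this
    have h2 : x⁻¹ * t * x ∈ L := by
      have := hNnorm x⁻¹ hxinvN t htL
      simpa using this
    have : x⁻¹ * t * x ∈ S ∩ (L : Set G) := ⟨h1, h2⟩
    rw [hSL] at this
    exact this


/-- For a conjugation-invariant set `K`, the traces `K ∩ P` on Sylow subgroups all have the same size. -/
theorem ncard_inter_sylow_eq [Finite G] {p : ℕ} [Fact p.Prime] (K : Set G)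
    (hK : ∀ g x, x ∈ K → g * x * g⁻¹ ∈ K) (P Q : Sylow p G) :
    (K ∩ (P : Set G)).ncard = (K ∩ (Q : Set G)).ncard := by
  obtain ⟨g, rfl⟩ := MulAction.exists_smul_eq G P Q
  have : K ∩ ((g • P : Sylow p G) : Set G) = (fun x => g * x * g⁻¹) '' (K ∩ (P : Set G)) := by
    ext y
    constructor
    · rintro ⟨hyK, hyP⟩
      refine ⟨g⁻¹ * y * g, ⟨?_, ?_⟩, by group⟩
      · have := hK g⁻¹ y hyK; simpa using this
      · have hcoe : ((g • P : Sylow p G) : Subgroup G) = MulAut.conj g • (P : Subgroup G) := Sylow.coe_subgroup_smul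
        have hyP' : y ∈ MulAut.conj g • (P : Subgroup G) := by rw [← hcoe]; exact hyP
        rw [Subgroup.mem_pointwise_smul_iff_inv_smul_mem] at hyP'
        have hyP'' : g⁻¹ * y * g ∈ (P : Subgroup G) := by
          simpa [MulAut.smul_def, MulAut.conj_inv_apply] using hyP'
        exact hyP''
    · rintro ⟨x, ⟨hxK, hxP⟩, rfl⟩
      refine ⟨hK g x hxK, ?_⟩
      have hcoe : ((g • P : Sylow p G) : Subgroup G) = MulAut.conj g • (P : Subgroup G) := Sylow.coe_subgroup_smul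
      show g * x * g⁻¹ ∈ ((g • P : Sylow p G) : Subgroup G)
      rw [hcoe]
      exact ⟨x, hxP, rfl⟩
  rw [this]
  symm
  apply Set.ncard_image_of_injective
  intro a b hab
  simpa using hab

/-- **Baer–Suzuki theorem**, set version: a conjugation-invariant subset `K` of a finite group, any two
elements of which generate a `p`-group, lies in every Sylow `p`-subgroup. -/
theorem baer_suzuki_subset_sylow [Finite G] {p : ℕ} [Fact p.Prime] (K : Set G)
    (hK : ∀ g x, x ∈ K → g * x * g⁻¹ ∈ K)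
    (h : ∀ x ∈ K, ∀ y ∈ K, IsPGroup p (closure ({x, y} : Set G))) (P : Sylow p G) :
    K ⊆ (P : Set G) := by
  classical
  by_contra hcon
  -- every element of K lies in some Sylow subgroup
  have hex : ∀ x ∈ K, ∃ Q : Sylow p G, x ∈ (Q : Subgroup G) := by
    intro x hx
    have h1 := h x hx x hx
    obtain ⟨Q, hQ⟩ := h1.exists_le_sylow
    exact ⟨Q, hQ (subset_closure (by simp))⟩
  obtain ⟨x₀, hx₀K, hx₀P⟩ := Set.not_subset.mp hcon
  obtain ⟨Q₀, hx₀Q⟩ := hex x₀ hx₀K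
  let 𝓟 : Set (Sylow p G × Sylow p G) := {PQ | K ∩ (PQ.1 : Set G) ≠ K ∩ (PQ.2 : Set G)}
  have h𝓟ne : 𝓟.Nonempty := by
    refine ⟨(P, Q₀), ?_⟩
    intro heq
    have : x₀ ∈ K ∩ (Q₀ : Set G) := ⟨hx₀K, hx₀Q⟩
    rw [← heq] at this
    exact hx₀P this.2
  obtain ⟨⟨P₁, Q₁⟩, hPQ, hmax⟩ := Set.exists_max_image 𝓟
    (fun PQ => (K ∩ (PQ.1 : Set G) ∩ (PQ.2 : Set G)).ncard) (Set.toFinite _) h𝓟ne
  simp only at hmax
  set E : Set G := K ∩ (P₁ : Set G) ∩ (Q₁ : Set G) with hE
  set D : Subgroup G := closure E with hDdef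
  have hDP : D ≤ P₁ := (closure_le _).mpr (fun e he => he.1.2)
  have hDQ : D ≤ Q₁ := (closure_le _).mpr (fun e he => he.2)
  have hcard := ncard_inter_sylow_eq K hK P₁ Q₁
  have hPQ' : K ∩ (P₁ : Set G) ≠ K ∩ (Q₁ : Set G) := hPQ
  -- neither trace is contained in D
  have hnotP : ¬ K ∩ (P₁ : Set G) ⊆ D := by
    intro hsub
    have hsub' : K ∩ (P₁ : Set G) ⊆ K ∩ (Q₁ : Set G) := fun s hs => ⟨hs.1, hDQ (hsub hs)⟩
    exact hPQ' (Set.eq_of_subset_of_ncard_le hsub' hcard.symm.le (Set.toFinite _))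
  have hnotQ : ¬ K ∩ (Q₁ : Set G) ⊆ D := by
    intro hsub
    have hsub' : K ∩ (Q₁ : Set G) ⊆ K ∩ (P₁ : Set G) := fun s hs => ⟨hs.1, hDP (hsub hs)⟩
    exact hPQ' (Set.eq_of_subset_of_ncard_le hsub' hcard.le (Set.toFinite _)).symm
  have hgenP : D = closure (K ∩ (P₁ : Set G) ∩ D) := by
    apply le_antisymm
    · apply Subgroup.closure_mono
      intro e he
      exact ⟨he.1, subset_closure he⟩
    · exact (closure_le _).mpr (fun e he => he.2)
  have hgenQ : D = closure (K ∩ (Q₁ : Set G) ∩ D) := by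
    apply le_antisymm
    · apply Subgroup.closure_mono
      intro e he
      exact ⟨⟨he.1.1, he.2⟩, subset_closure he⟩
    · exact (closure_le _).mpr (fun e he => he.2)
  obtain ⟨x, hxS, hxD, hxN⟩ := exists_mem_normalizer_of_generated (P₁ : Subgroup G) P₁.2
    (K ∩ (P₁ : Set G)) (fun s hs => hs.2)
    (fun g hg s hs => ⟨hK g s hs.1, mul_mem (mul_mem hg hs.2) (inv_mem hg)⟩) D hDP hgenP hnotP
  obtain ⟨y, hyS, hyD, hyN⟩ := exists_mem_normalizer_of_generated (Q₁ : Subgroup G) Q₁.2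
    (K ∩ (Q₁ : Set G)) (fun s hs => hs.2)
    (fun g hg s hs => ⟨hK g s hs.1, mul_mem (mul_mem hg hs.2) (inv_mem hg)⟩) D hDQ hgenQ hnotQ
  have hxE : x ∉ E := fun hx => hxD (subset_closure hx)
  have hyE : y ∉ E := fun hy => hyD (subset_closure hy)
  -- the p-group generated by D, x, y
  have hM : IsPGroup p (closure ({x, y} : Set G)) := h x hxS.1 y hyS.1
  have hMN : closure ({x, y} : Set G) ≤ normalizer (D : Set G) := by
    rw [closure_le]
    intro z hz
    rcases hz with rfl | rfl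
    · exact hxN
    · exact hyN
  have hDp : IsPGroup p D := P₁.2.to_le hDP
  have hsup : IsPGroup p ↥(closure ({x, y} : Set G) ⊔ D) := hM.to_sup_of_normal_right' hDp hMN
  obtain ⟨R, hR⟩ := hsup.exists_le_sylow
  have hxR : x ∈ (R : Subgroup G) := hR (le_sup_left (a := closure ({x, y} : Set G)) (subset_closure (by simp)))
  have hyR : y ∈ (R : Subgroup G) := hR (le_sup_left (a := closure ({x, y} : Set G)) (subset_closure (by simp)))
  have hER : E ⊆ (R : Set G) := fun e he => hR (le_sup_right (a := closure ({x, y} : Set G)) (subset_closure he))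
  -- compare (P₁, R)
  have h1 : K ∩ (P₁ : Set G) = K ∩ (R : Set G) := by
    by_contra hne
    have hle := hmax (P₁, R) hne
    simp only at hle
    have hlt : E.ncard < (K ∩ (P₁ : Set G) ∩ (R : Set G)).ncard := by
      apply Set.ncard_lt_ncard _ (Set.toFinite _)
      refine ⟨fun e he => ⟨he.1, hER he⟩, ?_⟩
      intro hsub
      exact hxE (hsub ⟨hxS, hxR⟩)
    omega
  have h2 : K ∩ (R : Set G) = K ∩ (Q₁ : Set G) := by
    by_contra hne
    have hle := hmax (R, Q₁) hne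
    simp only at hle
    have hlt : E.ncard < (K ∩ (R : Set G) ∩ (Q₁ : Set G)).ncard := by
      apply Set.ncard_lt_ncard _ (Set.toFinite _)
      refine ⟨fun e he => ⟨⟨he.1.1, hER he⟩, he.2⟩, ?_⟩
      intro hsub
      exact hyE (hsub ⟨⟨hyS.1, hyR⟩, hyS.2⟩)
    omega
  exact hPQ' (h1.trans h2)


theorem closure_normal_of_conjInv (K : Set G) (hK : ∀ g x, x ∈ K → g * x * g⁻¹ ∈ K) :
    (closure K).Normal := by
  constructor
  intro n hn g
  exact conj_mem_closure (fun t ht => hK g t ht) hn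

/-- **Baer–Suzuki theorem**: the subgroup generated by a conjugation-invariant set, any two elements of
which generate a `p`-group, is a normal `p`-subgroup. -/
theorem baer_suzuki_closure [Finite G] {p : ℕ} [Fact p.Prime] (K : Set G)
    (hK : ∀ g x, x ∈ K → g * x * g⁻¹ ∈ K)
    (h : ∀ x ∈ K, ∀ y ∈ K, IsPGroup p (closure ({x, y} : Set G))) :
    (closure K).Normal ∧ IsPGroup p (closure K) := by
  refine ⟨closure_normal_of_conjInv K hK, ?_⟩
  obtain ⟨P⟩ : Nonempty (Sylow p G) := inferInstance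
  exact P.2.to_le ((closure_le _).mpr (baer_suzuki_subset_sylow K hK h P))

/-- **Baer–Suzuki theorem**, subgroup version. -/
theorem baer_suzuki_subgroup [Finite G] {p : ℕ} [Fact p.Prime] (X : Subgroup G)
    (h : ∀ g : G, IsPGroup p ↥(X ⊔ X.map (MulAut.conj g).toMonoidHom)) :
    ∃ N : Subgroup G, N.Normal ∧ IsPGroup p N ∧ X ≤ N := by
  let K : Set G := {y | ∃ g : G, ∃ x ∈ X, y = g * x * g⁻¹}
  have hK : ∀ g x, x ∈ K → g * x * g⁻¹ ∈ K := by
    rintro g _ ⟨a, x, hx, rfl⟩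
    exact ⟨g * a, x, hx, by group⟩
  have hpair : ∀ x ∈ K, ∀ y ∈ K, IsPGroup p (closure ({x, y} : Set G)) := by
    rintro _ ⟨a, x, hx, rfl⟩ _ ⟨b, y, hy, rfl⟩
    -- closure {a x a⁻¹, b y b⁻¹} is the image under conj a of a subgroup of X ⊔ X^(a⁻¹ b)
    have h1 := h (a⁻¹ * b)
    have hle : closure ({a * x * a⁻¹, b * y * b⁻¹} : Set G) ≤
        (X ⊔ X.map (MulAut.conj (a⁻¹ * b)).toMonoidHom).map (MulAut.conj a).toMonoidHom := by
      rw [closure_le]
      intro z hz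
      rcases hz with rfl | rfl
      · exact ⟨x, le_sup_left (a := X) hx, rfl⟩
      · refine ⟨a⁻¹ * b * y * (a⁻¹ * b)⁻¹, ?_, ?_⟩
        · apply le_sup_right (a := X)
          exact ⟨y, hy, rfl⟩
        · simp only [MulEquiv.coe_toMonoidHom, MulAut.conj_apply]
          group
    have h2 : IsPGroup p ↥((X ⊔ X.map (MulAut.conj (a⁻¹ * b)).toMonoidHom).map (MulAut.conj a).toMonoidHom) :=
      h1.map _
    exact h2.to_le hle
  obtain ⟨hn, hp⟩ := baer_suzuki_closure K hK hpair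
  refine ⟨closure K, hn, hp, ?_⟩
  intro x hx
  exact subset_closure ⟨1, x, hx, by simp⟩

end Cfsg.Agent.Lib.Lead
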