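import Mathlib

/-! Recognising generalized quaternion groups: an isomorphism with Mathlib's `QuaternionGroup`. -/

set_option autoImplicit false

namespace Cfsg.Agent.Lib.Lead.QuatIso

open Subgroup

variable {G : Type*} [Group G]

theorem zpow_cast_add {N : ℕ} [NeZero N] {a : G} (ha : orderOf a = 2 * N) (i j : ZMod (2 * N)) :
    a ^ ((i + j).cast : ℤ) = a ^ ((i.cast : ℤ) + (j.cast : ℤ)) := by
  rw [zpow_eq_zpow_iff_modEq, ha, ← ZMod.intCast_eq_intCast_iff]
  push_cast
  simp

theorem zpow_cast_sub {N : ℕ} [NeZero N] {a : G} (ha : orderOf a = 2 * N) (i j : ZMod (2 * N)) :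
    a ^ ((j - i).cast : ℤ) = a ^ (-(i.cast : ℤ) + (j.cast : ℤ)) := by
  rw [zpow_eq_zpow_iff_modEq, ha, ← ZMod.intCast_eq_intCast_iff]
  push_cast
  ring

theorem zpow_cast_half {N : ℕ} [NeZero N] {a : G} (ha : orderOf a = 2 * N) (i j : ZMod (2 * N)) :
    a ^ ((((N : ZMod (2 * N)) + j - i).cast : ℤ)) = a ^ ((N : ℤ) + (-(i.cast : ℤ) + (j.cast : ℤ))) := by
  rw [zpow_eq_zpow_iff_modEq, ha, ← ZMod.intCast_eq_intCast_iff]
  push_cast
  ring

/-- the underlying function -/
noncomputable def quatFun (N : ℕ) (a b : G) : QuaternionGroup N → G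
  | QuaternionGroup.a i => a ^ (i.cast : ℤ)
  | QuaternionGroup.xa i => b * a ^ (i.cast : ℤ)

theorem quatFun_mul {N : ℕ} [NeZero N] {a b : G} (ha : orderOf a = 2 * N) (hb2 : b ^ 2 = a ^ N)
    (hinv : b * a * b⁻¹ = a⁻¹) (x y : QuaternionGroup N) :
    quatFun N a b (x * y) = quatFun N a b x * quatFun N a b y := by
  have hswap : ∀ k : ℤ, a ^ k * b = b * a ^ (-k) := by
    intro k
    have h1 : b * a ^ (-k) * b⁻¹ = a ^ k := by
      have := map_zpow (MulAut.conj b) a (-k)
      simp only [MulAut.conj_apply] at this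
      rw [this, hinv]; simp
    calc a ^ k * b = (b * a ^ (-k) * b⁻¹) * b := by rw [h1]
      _ = b * a ^ (-k) := by group
  cases x with
  | a i =>
    cases y with
    | a j =>
      simp only [QuaternionGroup.a_mul_a, quatFun]
      rw [zpow_cast_add ha, zpow_add]
    | xa j =>
      simp only [QuaternionGroup.a_mul_xa, quatFun]
      rw [zpow_cast_sub ha, zpow_add, ← mul_assoc (a ^ (i.cast : ℤ)), hswap]
      group
  | xa i =>
    cases y with
    | a j =>
      simp only [QuaternionGroup.xa_mul_a, quatFun]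
      rw [zpow_cast_add ha, zpow_add, mul_assoc]
    | xa j =>
      simp only [QuaternionGroup.xa_mul_xa, quatFun]
      rw [zpow_cast_half ha, zpow_add, zpow_add, zpow_natCast, ← hb2]
      calc b ^ 2 * (a ^ (-(i.cast : ℤ)) * a ^ (j.cast : ℤ))
          = b * (b * a ^ (-(i.cast : ℤ))) * a ^ (j.cast : ℤ) := by rw [pow_two]; group
        _ = b * (a ^ (i.cast : ℤ) * b) * a ^ (j.cast : ℤ) := by rw [hswap]
        _ = b * a ^ (i.cast : ℤ) * (b * a ^ (j.cast : ℤ)) := by group

/-- the homomorphism `QuaternionGroup N →* G` -/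
noncomputable def quatHom {N : ℕ} [NeZero N] {a b : G} (ha : orderOf a = 2 * N) (hb2 : b ^ 2 = a ^ N)
    (hinv : b * a * b⁻¹ = a⁻¹) : QuaternionGroup N →* G :=
  MonoidHom.mk' (quatFun N a b) (quatFun_mul ha hb2 hinv)

theorem cast_inj_of_zpow_eq {N : ℕ} [NeZero N] {a : G} (ha : orderOf a = 2 * N) {i j : ZMod (2 * N)}
    (h : a ^ (i.cast : ℤ) = a ^ (j.cast : ℤ)) : i = j := by
  rw [zpow_eq_zpow_iff_modEq, ha, ← ZMod.intCast_eq_intCast_iff] at h
  simpa using h

theorem quatHom_injective {N : ℕ} [NeZero N] {a b : G} (ha : orderOf a = 2 * N) (hb2 : b ^ 2 = a ^ N)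
    (hinv : b * a * b⁻¹ = a⁻¹) (hb : b ∉ zpowers a) : Function.Injective (quatHom ha hb2 hinv) := by
  intro x y hxy
  change quatFun N a b x = quatFun N a b y at hxy
  cases x with
  | a i =>
    cases y with
    | a j =>
      simp only [quatFun] at hxy
      rw [cast_inj_of_zpow_eq ha hxy]
    | xa j =>
      exfalso
      simp only [quatFun] at hxy
      apply hb
      have : b = a ^ (i.cast : ℤ) * (a ^ (j.cast : ℤ))⁻¹ := by rw [hxy]; group
      rw [this]
      exact mul_mem (zpow_mem (mem_zpowers a) _) (inv_mem (zpow_mem (mem_zpowers a) _))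
  | xa i =>
    cases y with
    | a j =>
      exfalso
      simp only [quatFun] at hxy
      apply hb
      have : b = a ^ (j.cast : ℤ) * (a ^ (i.cast : ℤ))⁻¹ := by rw [← hxy]; group
      rw [this]
      exact mul_mem (zpow_mem (mem_zpowers a) _) (inv_mem (zpow_mem (mem_zpowers a) _))
    | xa j =>
      simp only [quatFun] at hxy
      rw [cast_inj_of_zpow_eq ha (mul_left_cancel hxy)]

/-- **Recognition of generalized quaternion groups.** -/
theorem nonempty_mulEquiv_quaternionGroup [Finite G] {N : ℕ} [NeZero N] {a b : G} (ha : orderOf a = 2 * N)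
    (hb2 : b ^ 2 = a ^ N) (hinv : b * a * b⁻¹ = a⁻¹) (hb : b ∉ zpowers a) (hcard : Nat.card G = 4 * N) :
    Nonempty (G ≃* QuaternionGroup N) := by
  have hinj := quatHom_injective ha hb2 hinv hb
  have hbij : Function.Bijective (quatHom ha hb2 hinv) := by
    apply hinj.bijective_of_nat_card_le
    rw [hcard, Nat.card_eq_fintype_card, QuaternionGroup.card]
  exact ⟨(MulEquiv.ofBijective _ hbij).symm⟩

end Cfsg.Agent.Lib.Lead.QuatIso
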