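import Mathlib
import Cfsg.Agent.Lib.Helper15.TwoByTwo

/-!
# Unipotent elements normalizing semisimple abelian subgroups of `SL₂(F)`

Matrix-level lemmas: a matrix `g` with `g ^ p = 1` (`char F = p` odd) commuting with a non-scalar
matrix of order prime to `p` is `1`; the same when `g` only normalizes an abelian group containing it.
Group-level: `mat`, scalar elements of a subgroup of `SL₂(F)`.
-/

set_option autoImplicit false

namespace Cfsg.Agent.Lib.Lead.SL2Scalar

open Matrix Cfsg.Agent.Lib.Helper15.TwoByTwo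

variable {F : Type*} [Field F]

local notation "SL2" => Matrix.SpecialLinearGroup (Fin 2) F
local notation "M2" => Matrix (Fin 2) (Fin 2) F

theorem eq_zero_of_trace_det (z : M2) (hdisc : z.trace ^ 2 ≠ 4 * z.det) (a b : F)
    (h2 : (2 : F) ≠ 0)
    (htr : (a • (1 : M2) + b • z).trace = 0) (hdet : (a • (1 : M2) + b • z).det = 0) :
    a = 0 ∧ b = 0 := by
  rw [trace_smul_one_add] at htr
  rw [det_smul_one_add] at hdet
  have hb : b = 0 := by
    by_contra hb
    apply hdisc
    have h3 : b ^ 2 * (z.trace ^ 2 - 4 * z.det) = 0 := by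
      linear_combination (-4) * hdet + (2 * a + b * z.trace) * htr
    rcases mul_eq_zero.mp h3 with h | h
    · exact absurd ((pow_eq_zero_iff two_ne_zero).mp h) hb
    · exact sub_eq_zero.mp h
  refine ⟨?_, hb⟩
  rw [hb, zero_mul, add_zero] at htr
  rcases mul_eq_zero.mp htr with h | h
  · exact absurd h h2
  · exact h

theorem two_ne_zero_of_char (p : ℕ) [hp : Fact p.Prime] [CharP F p] (hp2 : p ≠ 2) : (2 : F) ≠ 0 := by
  intro h
  have h1 : ((2 : ℕ) : F) = 0 := by exact_mod_cast h
  have h3 := (CharP.cast_eq_zero_iff F p 2).1 h1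
  exact hp2 ((Nat.prime_dvd_prime_iff_eq hp.out Nat.prime_two).1 h3)

/-- a matrix of `p`-power order (`char F = p`) commuting with a non-scalar matrix of order prime to `p`
is the identity -/
theorem eq_one_of_commute (p : ℕ) [hp : Fact p.Prime] [CharP F p] (h2 : (2 : F) ≠ 0)
    (g z : M2) (hgp : g ^ p = 1) (hz : ∀ c : F, z ≠ c • 1) (r : ℕ) (hr : (r : F) ≠ 0)
    (hzr : z ^ r = 1) (hcomm : z * g = g * z) : g = 1 := by
  obtain ⟨α, β, hg⟩ := comm_nonscalar z g hz hcomm
  have hdisc := disc_ne_zero h2 z hz r hr hzr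
  set n : M2 := g - 1 with hn
  have hn' : n = (α - 1) • (1 : M2) + β • z := by rw [hn, hg]; module
  have hnp : n ^ p = 0 := by
    rw [hn, sub_pow_char_of_commute p (Commute.one_right g), hgp, one_pow, sub_self]
  have hdet : n.det = 0 := by
    have h1 : n.det ^ p = 0 := by rw [← Matrix.det_pow, hnp, Matrix.det_zero]
    exact (pow_eq_zero_iff hp.out.ne_zero).mp h1
  have hcay := cayley n
  rw [hdet, zero_smul, sub_zero] at hcay
  have hpow : ∀ k : ℕ, n ^ (k + 1) = n.trace ^ k • n := by
    intro k
    induction k with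
    | zero => simp
    | succ k ih => rw [pow_succ, ih, smul_mul_assoc, hcay, smul_smul, ← pow_succ]
  have htr : n.trace = 0 ∨ n = 0 := by
    have h1 := hpow (p - 1)
    rw [Nat.sub_add_cancel hp.out.one_le, hnp] at h1
    rcases smul_eq_zero.mp h1.symm with h | h
    · left
      by_cases hp1 : p - 1 = 0
      · have := hp.out.two_le; omega
      · exact (pow_eq_zero_iff hp1).mp h
    · right; exact h
  have hn0 : n = 0 := by
    rcases htr with h | h
    · rw [hn'] at h hdet
      obtain ⟨ha, hb⟩ := eq_zero_of_trace_det z hdisc _ _ h2 h hdet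
      rw [hn', ha, hb]; simp
    · exact h
  exact sub_eq_zero.mp hn0

/-- a matrix `g` of odd order `p = char F` such that `g z g⁻¹` commutes with the non-scalar
`p'`-matrix `z` is the identity -/
theorem eq_one_of_normalizes (p : ℕ) [hp : Fact p.Prime] [CharP F p] (hp2 : p ≠ 2)
    (g gi z : M2) (hg : g * gi = 1) (hg' : gi * g = 1) (hgp : g ^ p = 1)
    (hz : ∀ c : F, z ≠ c • 1) (r : ℕ) (hr : (r : F) ≠ 0) (hzr : z ^ r = 1)
    (hcomm : z * (g * z * gi) = (g * z * gi) * z) : g = 1 := by
  have h2 := two_ne_zero_of_char (F := F) p hp2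
  have h1 := conj_eq_self_of_odd h2 z g gi hg hg' hz r hr hzr hcomm p
    (hp.out.odd_of_ne_two hp2) hgp
  have h3 : z * g = g * z := by
    calc z * g = (g * z * gi) * g := by rw [h1]
      _ = g * z * (gi * g) := by simp only [mul_assoc]
      _ = g * z := by rw [hg', mul_one]
  exact eq_one_of_commute p h2 g z hgp hz r hr hzr h3

section group

variable {L : Subgroup (Matrix.SpecialLinearGroup (Fin 2) F)}

/-- the matrix of an element of a subgroup of `SL₂(F)` -/
def mat (g : L) : Matrix (Fin 2) (Fin 2) F := g.1.1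

theorem mat_mul (g h : L) : mat (g * h) = mat g * mat h := by
  simp [mat, Subgroup.coe_mul, Matrix.SpecialLinearGroup.coe_mul]

theorem mat_one : mat (1 : L) = 1 := by
  simp [mat]

theorem mat_pow (g : L) (n : ℕ) : mat (g ^ n) = mat g ^ n := by
  simp [mat, Subgroup.coe_pow, Matrix.SpecialLinearGroup.coe_pow]

theorem mat_inj {g h : L} (hgh : mat g = mat h) : g = h :=
  Subtype.ext (Subtype.ext hgh)

theorem mat_mul_inv (g : L) : mat g * mat g⁻¹ = 1 := by
  rw [← mat_mul, mul_inv_cancel, mat_one]

theorem mat_inv_mul (g : L) : mat g⁻¹ * mat g = 1 := by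
  rw [← mat_mul, inv_mul_cancel, mat_one]

theorem mat_det (g : L) : (mat g).det = 1 := (g : SL2).2

theorem scalar_sq {g : L} {c : F} (h : mat g = c • 1) : c * c = 1 := by
  have := mat_det g
  rw [h, Matrix.det_smul, Matrix.det_one, Fintype.card_fin, mul_one, pow_two] at this
  exact this

/-- a scalar element commutes with everything -/
theorem comm_of_scalar {g : L} {c : F} (h : mat g = c • 1) (k : L) : g * k = k * g := by
  apply mat_inj
  rw [mat_mul, mat_mul, h]
  simp

end group

end Cfsg.Agent.Lib.Lead.SL2Scalar
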