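import Mathlib
import Cfsg.Agent.Lib.Lead.SL2Scalar

/-!
# Anticommuting pairs in `M₂(F)`: the quaternion configuration
-/

set_option autoImplicit false

namespace Cfsg.Agent.Lib.Lead.SL2Quat

open Matrix Cfsg.Agent.Lib.Helper15.TwoByTwo

variable {F : Type*} [Field F]

local notation "M2" => Matrix (Fin 2) (Fin 2) F

theorem one_ne_zero_M2 : (1 : M2) ≠ 0 := by
  intro h
  have := congrFun (congrFun h 0) 0
  simp at this

theorem ne_zero_of_sq (A : M2) (hA2 : A * A = -1) : A ≠ 0 := by
  intro h
  rw [h, mul_zero] at hA2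
  have : (1 : M2) = 0 := by rw [← neg_neg (1 : M2), ← hA2, neg_zero]
  exact one_ne_zero_M2 this

theorem nonscalar_of_anticomm (h2 : (2 : F) ≠ 0) (A B : M2) (hAB : A * B = -(B * A))
    (hA2 : A * A = -1) (hB2 : B * B = -1) : ∀ c : F, A ≠ c • 1 := by
  intro c hc
  rw [hc] at hAB
  simp only [smul_mul_assoc, one_mul, mul_smul_comm, mul_one] at hAB
  have h1 : (2 * c) • B = 0 := by
    have : c • B + c • B = 0 := by nth_rw 1 [hAB]; simp
    rw [mul_smul, two_smul]; exact this
  rcases smul_eq_zero.mp h1 with h | h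
  · rcases mul_eq_zero.mp h with h | h
    · exact h2 h
    · rw [hc, h, zero_smul, zero_mul] at hA2
      exact one_ne_zero_M2 (by rw [← neg_neg (1 : M2), ← hA2, neg_zero])
  · exact ne_zero_of_sq B hB2 h

/-- a matrix commuting with both members of an anticommuting pair is scalar -/
theorem scalar_of_comm (h2 : (2 : F) ≠ 0) (A B X : M2) (hAB : A * B = -(B * A))
    (hA2 : A * A = -1) (hB2 : B * B = -1) (hXA : A * X = X * A) (hXB : B * X = X * B) :
    ∃ α : F, X = α • 1 := by
  obtain ⟨α, β, hX⟩ := comm_nonscalar A X (nonscalar_of_anticomm h2 A B hAB hA2 hB2) hXA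
  refine ⟨α, ?_⟩
  rw [hX] at hXB
  simp only [mul_add, add_mul, smul_mul_assoc, one_mul, mul_smul_comm, mul_one, hAB] at hXB
  have h1 : (2 * β) • (B * A) = 0 := by
    have h3 : β • (B * A) = -(β • (B * A)) := by
      have := add_left_cancel hXB
      rw [← smul_neg]; exact this
    rw [mul_smul, two_smul]
    nth_rw 1 [h3]; simp
  have hβ : β = 0 := by
    rcases smul_eq_zero.mp h1 with h | h
    · rcases mul_eq_zero.mp h with h | h
      · exact absurd h h2
      · exact h
    · exfalso
      have h4 : B * (B * A) = -A := by rw [← mul_assoc, hB2]; simp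
      rw [h, mul_zero] at h4
      exact ne_zero_of_sq A hA2 (by simpa using h4.symm)
  rw [hX, hβ, zero_smul, add_zero]

theorem sq_AB (A B : M2) (hAB : A * B = -(B * A)) (hA2 : A * A = -1) (hB2 : B * B = -1) :
    (A * B) * (A * B) = -1 := by
  calc (A * B) * (A * B) = A * (B * A) * B := by simp only [mul_assoc]
    _ = A * (-(A * B)) * B := by rw [hAB, neg_neg]
    _ = -((A * A) * (B * B)) := by simp only [mul_neg, neg_mul, mul_assoc]
    _ = -1 := by rw [hA2, hB2]; simp

/-- structure of a matrix commuting or anticommuting with each member of an anticommuting pair -/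
theorem quat_struct (h2 : (2 : F) ≠ 0) (A B C : M2) (hAB : A * B = -(B * A))
    (hA2 : A * A = -1) (hB2 : B * B = -1)
    (hCA : A * C = C * A ∨ A * C = -(C * A)) (hCB : B * C = C * B ∨ B * C = -(C * B)) :
    ∃ l : F, C = l • 1 ∨ C = l • A ∨ C = l • B ∨ C = l • (A * B) := by
  have hBA : B * A = -(A * B) := by rw [hAB, neg_neg]
  rcases hCA with hCA | hCA <;> rcases hCB with hCB | hCB
  · obtain ⟨α, hα⟩ := scalar_of_comm h2 A B C hAB hA2 hB2 hCA hCB
    exact ⟨α, Or.inl hα⟩
  · -- X = C * A
    have h1 : A * (C * A) = (C * A) * A := by rw [← mul_assoc, hCA]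
    have h3 : B * (C * A) = (C * A) * B := by
      calc B * (C * A) = (B * C) * A := by rw [mul_assoc]
        _ = -(C * (B * A)) := by rw [hCB]; simp only [neg_mul, mul_assoc]
        _ = C * (A * B) := by rw [hBA]; simp
        _ = (C * A) * B := by rw [mul_assoc]
    obtain ⟨α, hα⟩ := scalar_of_comm h2 A B (C * A) hAB hA2 hB2 h1 h3
    refine ⟨-α, Or.inr (Or.inl ?_)⟩
    have : C = -((C * A) * A) := by rw [mul_assoc, hA2]; simp
    rw [this, hα]; simp
  · -- X = C * B
    have h1 : A * (C * B) = (C * B) * A := by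
      calc A * (C * B) = (A * C) * B := by rw [mul_assoc]
        _ = -(C * (A * B)) := by rw [hCA]; simp only [neg_mul, mul_assoc]
        _ = C * (B * A) := by rw [hAB]; simp
        _ = (C * B) * A := by rw [mul_assoc]
    have h3 : B * (C * B) = (C * B) * B := by rw [← mul_assoc, hCB]
    obtain ⟨α, hα⟩ := scalar_of_comm h2 A B (C * B) hAB hA2 hB2 h1 h3
    refine ⟨-α, Or.inr (Or.inr (Or.inl ?_))⟩
    have : C = -((C * B) * B) := by rw [mul_assoc, hB2]; simp
    rw [this, hα]; simp
  · -- X = C * (A * B)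
    have h1 : A * (C * (A * B)) = (C * (A * B)) * A := by
      calc A * (C * (A * B)) = (A * C) * (A * B) := by rw [mul_assoc]
        _ = -(C * ((A * A) * B)) := by rw [hCA]; simp only [neg_mul, mul_assoc]
        _ = C * B := by rw [hA2]; simp
        _ = -(C * ((A * A) * B)) := by rw [hA2]; simp
        _ = C * (A * (-(A * B))) := by simp only [mul_neg, mul_assoc]
        _ = C * (A * (B * A)) := by rw [hBA]
        _ = (C * (A * B)) * A := by simp only [mul_assoc]
    have h3 : B * (C * (A * B)) = (C * (A * B)) * B := by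
      calc B * (C * (A * B)) = (B * C) * (A * B) := by rw [mul_assoc]
        _ = -(C * ((B * A) * B)) := by rw [hCB]; simp only [neg_mul, mul_assoc]
        _ = C * ((A * B) * B) := by rw [hBA]; simp
        _ = (C * (A * B)) * B := by simp only [mul_assoc]
    obtain ⟨α, hα⟩ := scalar_of_comm h2 A B (C * (A * B)) hAB hA2 hB2 h1 h3
    refine ⟨-α, Or.inr (Or.inr (Or.inr ?_))⟩
    have : C = -((C * (A * B)) * (A * B)) := by
      rw [mul_assoc, sq_AB A B hAB hA2 hB2]; simp
    rw [this, hα]; simp

/-- a determinant-one matrix anticommuting with an invertible matrix squares to `-1` -/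
theorem sq_eq_neg_one_of_anticomm (h2 : (2 : F) ≠ 0) (X Y Yi : M2) (hY : Y * Yi = 1)
    (hYi : Yi * Y = 1) (hXY : X * Y = -(Y * X)) (hdet : X.det = 1) : X * X = -1 := by
  have h1 : X = -((Y * X) * Yi) := by
    calc X = (X * Y) * Yi := by rw [mul_assoc, hY, mul_one]
      _ = -((Y * X) * Yi) := by rw [hXY, neg_mul]
  have h3 : X.trace = -X.trace := by
    have h4 : ((Y * X) * Yi).trace = X.trace := by
      rw [Matrix.trace_mul_comm, ← mul_assoc, hYi, one_mul]
    nth_rw 1 [h1]
    rw [Matrix.trace_neg, h4]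
  have h5 : X.trace = 0 := by
    have : (2 : F) * X.trace = 0 := by linear_combination h3
    rcases mul_eq_zero.mp this with h | h
    · exact absurd h h2
    · exact h
  rw [cayley X, h5, hdet, zero_smul, one_smul, zero_sub]

end Cfsg.Agent.Lib.Lead.SL2Quat
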