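import Mathlib
import Cfsg.Agent.Lib.Lead.SL2Scalar
import Cfsg.Agent.Lib.Lead.SL2Quat

/-!
# `q`-subgroups of `SL₂(F)` normalized by an element of order `p = char F ≥ 5` are scalar
-/

set_option autoImplicit false

namespace Cfsg.Agent.Lib.Lead.SL2QGroup

open Matrix Cfsg.Agent.Lib.Helper15.TwoByTwo Cfsg.Agent.Lib.Lead.SL2Scalar
open Cfsg.Agent.Lib.Lead.SL2Quat

variable {F : Type*} [Field F]

local notation "SL2" => Matrix.SpecialLinearGroup (Fin 2) F
local notation "M2" => Matrix (Fin 2) (Fin 2) F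

/-- an abelian `p'`-subgroup normalized by a nontrivial element of order `p` is scalar -/
theorem scalar_of_abelian (p : ℕ) [hp : Fact p.Prime] [CharP F p] (hp2 : p ≠ 2)
    {L : Subgroup SL2} [Finite L] (A : Subgroup L)
    (hAc : ∀ a ∈ A, ∀ b ∈ A, a * b = b * a) (hAp : ∀ a ∈ A, (orderOf a).Coprime p)
    (g : L) (hg : g ^ p = 1) (hg1 : g ≠ 1) (hgA : ∀ a ∈ A, g * a * g⁻¹ ∈ A) :
    ∀ a ∈ A, ∃ c : F, mat a = c • 1 := by
  intro a ha
  by_contra hns
  push_neg at hns
  apply hg1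
  apply mat_inj
  rw [mat_one]
  refine eq_one_of_normalizes p hp2 (mat g) (mat g⁻¹) (mat a) (mat_mul_inv g) (mat_inv_mul g)
    (by rw [← mat_pow, hg, mat_one]) hns (orderOf a) ?_
    (by rw [← mat_pow, pow_orderOf_eq_one, mat_one]) ?_
  · intro h0
    have h1 := (CharP.cast_eq_zero_iff F p _).mp h0
    have h2 := Nat.Coprime.eq_one_of_dvd (hAp a ha).symm h1
    exact hp.out.one_lt.ne' h2
  · have := hAc a ha _ (hgA a ha)
    rw [← mat_mul, ← mat_mul, ← mat_mul, ← mat_mul]
    exact congrArg mat this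

theorem scalar_pm {L : Subgroup SL2} {z : L} {c : F} (h : mat z = c • 1) : c = 1 ∨ c = -1 := by
  have h1 := scalar_sq h
  have h2 : (c - 1) * (c + 1) = 0 := by linear_combination h1
  rcases mul_eq_zero.mp h2 with h | h
  · left; exact sub_eq_zero.mp h
  · right; exact eq_neg_of_add_eq_zero_left h

set_option maxHeartbeats 1000000 in
/-- **Key lemma.** A `q`-subgroup (`q ≠ p`) of `SL₂(F)`, `char F = p ≥ 5`, normalized by a nontrivial
element of order `p`, consists of scalar matrices. -/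
theorem scalar_of_qgroup (p : ℕ) [hp : Fact p.Prime] [CharP F p] (hp5 : 5 ≤ p)
    {L : Subgroup SL2} [Finite L] (q : ℕ) [hq : Fact q.Prime] (hqp : q ≠ p) (R : Subgroup L)
    (hR : IsPGroup q R) (g : L) (hg : g ^ p = 1) (hg1 : g ≠ 1)
    (hgR : g ∈ Subgroup.normalizer (R : Set L)) :
    ∀ r ∈ R, ∃ c : F, mat r = c • 1 := by
  classical
  have hp2 : p ≠ 2 := by omega
  have h2F := two_ne_zero_of_char (F := F) p hp2
  have hcop : ∀ r ∈ R, (orderOf r).Coprime p := by
    intro r hr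
    obtain ⟨k, hk⟩ := hR ⟨r, hr⟩
    have h1 : r ^ q ^ k = 1 := by simpa using congrArg Subtype.val hk
    have h2 : orderOf r ∣ q ^ k := orderOf_dvd_of_pow_eq_one h1
    exact Nat.Coprime.coprime_dvd_left h2
      (Nat.Coprime.pow_left k ((Nat.coprime_primes hq.out hp.out).mpr hqp))
  have hgk : ∀ k : ℕ, g ^ k ∈ Subgroup.normalizer (R : Set L) := fun k => pow_mem hgR k
  have hk1 : ∀ k : ℕ, ∀ r ∈ R, g ^ k * r * (g ^ k)⁻¹ ∈ R :=
    fun k r hr => (Subgroup.mem_normalizer_iff.mp (hgk k) r).mp hr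
  have hk2 : ∀ k : ℕ, ∀ r ∈ R, (g ^ k)⁻¹ * r * g ^ k ∈ R := by
    intro k r hr
    apply (Subgroup.mem_normalizer_iff.mp (hgk k) ((g ^ k)⁻¹ * r * g ^ k)).mpr
    convert hr using 1; group
  set ZR : Subgroup L := R ⊓ Subgroup.centralizer (R : Set L) with hZR
  have hZRk : ∀ k : ℕ, ∀ z ∈ ZR, g ^ k * z * (g ^ k)⁻¹ ∈ ZR := by
    intro k z hz
    obtain ⟨hzR, hzC⟩ := Subgroup.mem_inf.mp hz
    refine Subgroup.mem_inf.mpr ⟨hk1 k z hzR, ?_⟩
    rw [Subgroup.mem_centralizer_iff]
    intro r hr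
    have h1 := Subgroup.mem_centralizer_iff.mp hzC _ (hk2 k r hr)
    calc r * (g ^ k * z * (g ^ k)⁻¹) = g ^ k * (((g ^ k)⁻¹ * r * g ^ k) * z) * (g ^ k)⁻¹ := by group
      _ = g ^ k * (z * ((g ^ k)⁻¹ * r * g ^ k)) * (g ^ k)⁻¹ := by rw [h1]
      _ = g ^ k * z * (g ^ k)⁻¹ * r := by group
  have hZRsc : ∀ z ∈ ZR, ∃ c : F, mat z = c • 1 := by
    apply scalar_of_abelian p hp2 ZR _ _ g hg hg1 _
    · intro a ha b hb
      exact Subgroup.mem_centralizer_iff.mp (Subgroup.mem_inf.mp hb).2 a (Subgroup.mem_inf.mp ha).1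
    · intro a ha; exact hcop a (Subgroup.mem_inf.mp ha).1
    · intro z hz
      have := hZRk 1 z hz
      rwa [pow_one] at this
  have hsc_ZR : ∀ r ∈ R, (∃ c : F, mat r = c • 1) → r ∈ ZR := by
    rintro r hr ⟨c, hc⟩
    refine Subgroup.mem_inf.mpr ⟨hr, ?_⟩
    rw [Subgroup.mem_centralizer_iff]
    intro s _
    exact (comm_of_scalar hc s).symm
  intro r₀ hr₀
  by_contra hns
  have hr₀Z : r₀ ∉ ZR := fun h => hns (hZRsc r₀ h)
  have hcenter_ne : (⟨r₀, hr₀⟩ : R) ∉ Subgroup.center R := by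
    intro h
    apply hr₀Z
    refine Subgroup.mem_inf.mpr ⟨hr₀, ?_⟩
    rw [Subgroup.mem_centralizer_iff]
    intro s hs
    have := Subgroup.mem_center_iff.mp h ⟨s, hs⟩
    exact congrArg Subtype.val this
  have hnt : Nontrivial (R ⧸ Subgroup.center R) := by
    refine ⟨⟨QuotientGroup.mk ⟨r₀, hr₀⟩, 1, ?_⟩⟩
    intro h
    exact hcenter_ne ((QuotientGroup.eq_one_iff _).mp h)
  have hQp : IsPGroup q (R ⧸ Subgroup.center R) := hR.to_quotient _
  have hcn := hQp.center_nontrivial
  obtain ⟨⟨abar, habar⟩, hne⟩ := exists_ne (1 : Subgroup.center (R ⧸ Subgroup.center R))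
  obtain ⟨a', rfl⟩ := QuotientGroup.mk_surjective abar
  have ha'ne : a' ∉ Subgroup.center R := by
    intro h; apply hne; apply Subtype.ext; exact (QuotientGroup.eq_one_iff _).mpr h
  have ha'c : ∀ r' : R, a' * r' * a'⁻¹ * r'⁻¹ ∈ Subgroup.center R := by
    intro r'
    have h1 := Subgroup.mem_center_iff.mp habar (QuotientGroup.mk r')
    rw [← QuotientGroup.eq_one_iff]
    have h2 : ((a' * r' * a'⁻¹ * r'⁻¹ : R) : R ⧸ Subgroup.center R) =
        (QuotientGroup.mk a' * QuotientGroup.mk r') * (QuotientGroup.mk a')⁻¹ *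
          (QuotientGroup.mk r')⁻¹ := rfl
    rw [h2, ← h1]; group
  obtain ⟨a, haR⟩ := a'
  have haZ : a ∉ ZR := by
    intro h
    apply ha'ne
    rw [Subgroup.mem_center_iff]
    intro s
    apply Subtype.ext
    exact Subgroup.mem_centralizer_iff.mp (Subgroup.mem_inf.mp h).2 s s.2
  have haP : ∀ r ∈ R, a * r * a⁻¹ * r⁻¹ ∈ ZR := by
    intro r hr
    have h1 := ha'c ⟨r, hr⟩
    refine Subgroup.mem_inf.mpr ⟨?_, ?_⟩
    · exact R.mul_mem (R.mul_mem (R.mul_mem haR hr) (R.inv_mem haR)) (R.inv_mem hr)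
    · rw [Subgroup.mem_centralizer_iff]
      intro s hs
      have := Subgroup.mem_center_iff.mp h1 ⟨s, hs⟩
      exact congrArg Subtype.val this
  -- conjugates of `a`
  set cj : ℕ → L := fun i => g ^ i * a * (g ^ i)⁻¹ with hcj
  have hcj0 : cj 0 = a := by simp [hcj]
  have hcjR : ∀ i, cj i ∈ R := fun i => hk1 i a haR
  have hcj_add : ∀ i k, cj (i + k) = g ^ i * cj k * (g ^ i)⁻¹ := by
    intro i k
    simp only [hcj, pow_add]; group
  have hcjP : ∀ i, ∀ r ∈ R, cj i * r * (cj i)⁻¹ * r⁻¹ ∈ ZR := by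
    intro i r hr
    have h1 := hZRk i _ (haP _ (hk2 i r hr))
    convert h1 using 1
    simp only [hcj]; group
  -- a non-commuting pair
  have hpair : ∃ k : ℕ, a * cj k ≠ cj k * a := by
    by_contra hall
    push_neg at hall
    have hall' : ∀ i j, cj i * cj j = cj j * cj i := by
      intro i j
      rcases le_total i j with h | h
      · obtain ⟨k, rfl⟩ := Nat.exists_eq_add_of_le h
        have e1 : cj i = g ^ i * a * (g ^ i)⁻¹ := rfl
        rw [hcj_add i k, e1]
        calc g ^ i * a * (g ^ i)⁻¹ * (g ^ i * cj k * (g ^ i)⁻¹)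
            = g ^ i * (a * cj k) * (g ^ i)⁻¹ := by group
          _ = g ^ i * (cj k * a) * (g ^ i)⁻¹ := by rw [hall k]
          _ = g ^ i * cj k * (g ^ i)⁻¹ * (g ^ i * a * (g ^ i)⁻¹) := by group
      · obtain ⟨k, rfl⟩ := Nat.exists_eq_add_of_le h
        have e1 : cj j = g ^ j * a * (g ^ j)⁻¹ := rfl
        rw [hcj_add j k, e1]
        calc g ^ j * cj k * (g ^ j)⁻¹ * (g ^ j * a * (g ^ j)⁻¹)
            = g ^ j * (cj k * a) * (g ^ j)⁻¹ := by group
          _ = g ^ j * (a * cj k) * (g ^ j)⁻¹ := by rw [hall k]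
          _ = g ^ j * a * (g ^ j)⁻¹ * (g ^ j * cj k * (g ^ j)⁻¹) := by group
    set D : Subgroup L := Subgroup.closure (Set.range cj) with hD
    have hDR : D ≤ R := (Subgroup.closure_le _).mpr (by rintro _ ⟨i, rfl⟩; exact hcjR i)
    have h1 : D ≤ Subgroup.centralizer (Set.range cj) := (Subgroup.closure_le _).mpr (by
      rintro _ ⟨i, rfl⟩
      rw [SetLike.mem_coe, Subgroup.mem_centralizer_iff]
      rintro _ ⟨j, rfl⟩
      exact hall' j i)
    have hDc : ∀ x ∈ D, ∀ y ∈ D, x * y = y * x := by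
      have h2 : D ≤ Subgroup.centralizer (D : Set L) := (Subgroup.closure_le _).mpr (by
        rintro _ ⟨i, rfl⟩
        rw [SetLike.mem_coe, Subgroup.mem_centralizer_iff]
        intro n hn
        exact (Subgroup.mem_centralizer_iff.mp (h1 hn) _ ⟨i, rfl⟩).symm)
      intro x hx y hy
      exact Subgroup.mem_centralizer_iff.mp (h2 hy) x hx
    have hDg : ∀ d ∈ D, g * d * g⁻¹ ∈ D := by
      intro d hd
      induction hd using Subgroup.closure_induction with
      | mem x hx =>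
        obtain ⟨i, rfl⟩ := hx
        apply Subgroup.subset_closure
        refine ⟨1 + i, ?_⟩
        rw [hcj_add 1 i, pow_one]
      | one => simp
      | mul x y _ _ hx hy =>
        have : g * (x * y) * g⁻¹ = (g * x * g⁻¹) * (g * y * g⁻¹) := by group
        rw [this]; exact D.mul_mem hx hy
      | inv x _ hx =>
        have : g * x⁻¹ * g⁻¹ = (g * x * g⁻¹)⁻¹ := by group
        rw [this]; exact D.inv_mem hx
    have hDsc := scalar_of_abelian p hp2 D hDc (fun d hd => hcop d (hDR hd)) g hg hg1 hDg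
    have haD : a ∈ D := Subgroup.subset_closure ⟨0, hcj0⟩
    exact haZ (hsc_ZR a haR (hDsc a haD))
  obtain ⟨k, hk⟩ := hpair
  set b := cj k with hb
  have hbR : b ∈ R := hcjR k
  have hpk : ¬ p ∣ k := by
    rintro ⟨m, rfl⟩
    apply hk
    have : g ^ (p * m) = 1 := by rw [pow_mul, hg, one_pow]
    rw [hb]
    simp only [hcj, this]; group
  set A := mat a with hA
  set B := mat b with hB
  set Γ := mat (g ^ k) with hΓ
  set Γi := mat (g ^ k)⁻¹ with hΓi
  have hΓ1 : Γ * Γi = 1 := mat_mul_inv _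
  have hΓ2 : Γi * Γ = 1 := mat_inv_mul _
  have hBΓ : B = Γ * A * Γi := by rw [hB, hb, hA, hΓ, hΓi, ← mat_mul, ← mat_mul]
  -- sign relations
  have hsign : ∀ (x : L), (∀ r ∈ R, x * r * x⁻¹ * r⁻¹ ∈ ZR) → ∀ c ∈ R,
      mat x * mat c = mat c * mat x ∨ mat x * mat c = -(mat c * mat x) := by
    intro x hx c hc
    obtain ⟨ε, hε⟩ := hZRsc _ (hx c hc)
    have h1 : x * c = (x * c * x⁻¹ * c⁻¹) * (c * x) := by group
    have h2 : mat x * mat c = ε • (mat c * mat x) := by
      rw [← mat_mul, h1, mat_mul, hε, mat_mul, smul_mul_assoc, one_mul]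
    rcases scalar_pm hε with h | h
    · left; rw [h2, h, one_smul]
    · right; rw [h2, h, neg_smul, one_smul]
  have hAB : A * B = -(B * A) := by
    rcases hsign a haP b hbR with h | h
    · exfalso; apply hk
      apply mat_inj; rw [mat_mul, mat_mul]; exact h
    · exact h
  have hBA : B * A = -(A * B) := by rw [hAB, neg_neg]
  have hA2 : A * A = -1 :=
    sq_eq_neg_one_of_anticomm h2F A B (mat b⁻¹) (mat_mul_inv b) (mat_inv_mul b) hAB (mat_det a)
  have hB2 : B * B = -1 :=
    sq_eq_neg_one_of_anticomm h2F B A (mat a⁻¹) (mat_mul_inv a) (mat_inv_mul a) hBA (mat_det b)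
  -- the element `c = τ(b)`
  set c := g ^ k * b * (g ^ k)⁻¹ with hc
  have hcR : c ∈ R := hk1 k b hbR
  set C := mat c with hC
  have hCΓ : C = Γ * B * Γi := by rw [hC, hc, hB, hΓ, hΓi, ← mat_mul, ← mat_mul]
  obtain ⟨l, hl⟩ := quat_struct h2F A B C hAB hA2 hB2 (hsign a haP c hcR) (hsign b (hcjP k) c hcR)
  have hAns := nonscalar_of_anticomm h2F A B hAB hA2 hB2
  have hBns := nonscalar_of_anticomm h2F B A hBA hB2 hA2
  -- in each case some power of `g` prime to `p` commutes with `a`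
  have hkey : ∃ m : ℕ, ¬ p ∣ m ∧ mat (g ^ m) * A = A * mat (g ^ m) := by
    have hτ : ∀ X Y : M2, Γ * (X * Y) * Γi = (Γ * X * Γi) * (Γ * Y * Γi) := by
      intro X Y
      calc Γ * (X * Y) * Γi = Γ * X * (1 : M2) * Y * Γi := by simp only [mul_one, mul_assoc]
        _ = (Γ * X * Γi) * (Γ * Y * Γi) := by rw [← hΓ2]; simp only [mul_assoc]
    have hτs : ∀ (t : F) (X : M2), Γ * (t • X) * Γi = t • (Γ * X * Γi) := by
      intro t X; simp
    have hcomm_of : ∀ n : ℕ, Γ ^ n * A * Γi ^ n = A → mat (g ^ (k * n)) * A = A * mat (g ^ (k * n)) := by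
      intro n hn
      have h1 : mat (g ^ (k * n)) = Γ ^ n := by rw [pow_mul, mat_pow]
      have h2 : Γi ^ n * Γ ^ n = 1 := by
        have hcm : Commute Γi Γ := by
          show Γi * Γ = Γ * Γi
          rw [hΓ1, hΓ2]
        rw [← hcm.mul_pow, hΓ2, one_pow]
      rw [h1]
      calc Γ ^ n * A = Γ ^ n * A * (Γi ^ n * Γ ^ n) := by rw [h2, mul_one]
        _ = (Γ ^ n * A * Γi ^ n) * Γ ^ n := by simp only [mul_assoc]
        _ = A * Γ ^ n := by rw [hn]
    rcases hl with hl | hl | hl | hl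
    · -- `C` scalar: impossible
      exfalso
      have h1 : B = Γi * C * Γ := by
        rw [hCΓ]
        calc B = (Γi * Γ) * B * (Γi * Γ) := by rw [hΓ2]; simp
          _ = Γi * (Γ * B * Γi) * Γ := by simp only [mul_assoc]
      rw [hl] at h1
      apply hBns l
      rw [h1]
      simp only [mul_smul_comm, smul_mul_assoc, mul_one, hΓ2]
    · -- `C = l • A`
      have hll : l * l = 1 := by
        have h1 : C.det = 1 := mat_det c
        rw [hl, Matrix.det_smul, Fintype.card_fin, hA, mat_det a, mul_one, pow_two] at h1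
        exact h1
      refine ⟨k * 4, ?_, hcomm_of 4 ?_⟩
      · intro h
        rcases (Nat.Prime.dvd_mul hp.out).mp h with h | h
        · exact hpk h
        · have := Nat.le_of_dvd (by norm_num) h; omega
      · have e1 : Γ * A * Γi = B := hBΓ.symm
        have e2 : Γ * B * Γi = l • A := by rw [← hCΓ, hl]
        calc Γ ^ 4 * A * Γi ^ 4
            = Γ * (Γ * (Γ * (Γ * A * Γi) * Γi) * Γi) * Γi := by
              simp only [pow_succ, pow_zero, one_mul, mul_assoc]
          _ = Γ * (Γ * (l • A) * Γi) * Γi := by rw [e1, e2]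
          _ = A := by rw [hτs, e1, hτs, e2, smul_smul, hll, one_smul]
    · -- `C = l • B`
      exfalso
      have h1 : Γ * B * Γi = Γ * (l • A) * Γi := by
        rw [← hCΓ, hl, hτs, ← hBΓ]
      have h3 : B = l • A := by
        calc B = (Γi * Γ) * B * (Γi * Γ) := by rw [hΓ2]; simp
          _ = Γi * (Γ * B * Γi) * Γ := by simp only [mul_assoc]
          _ = Γi * (Γ * (l • A) * Γi) * Γ := by rw [h1]
          _ = (Γi * Γ) * (l • A) * (Γi * Γ) := by simp only [mul_assoc]
          _ = l • A := by rw [hΓ2]; simp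
      apply hk
      apply mat_inj
      rw [mat_mul, mat_mul]
      show A * B = B * A
      rw [h3]; simp
    · -- `C = l • (A * B)`
      have hll : l * l = 1 := by
        have h1 : C.det = 1 := mat_det c
        rw [hl, Matrix.det_smul, Fintype.card_fin, Matrix.det_mul, hA, mat_det a, hB, mat_det b,
          mul_one, mul_one, pow_two] at h1
        exact h1
      refine ⟨k * 3, ?_, hcomm_of 3 ?_⟩
      · intro h
        rcases (Nat.Prime.dvd_mul hp.out).mp h with h | h
        · exact hpk h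
        · have := Nat.le_of_dvd (by norm_num) h; omega
      · have e1 : Γ * A * Γi = B := hBΓ.symm
        have e2 : Γ * B * Γi = l • (A * B) := by rw [← hCΓ, hl]
        have e3 : Γ * (A * B) * Γi = l • A := by
          rw [hτ, e1, e2]
          have : B * (A * B) = A := by
            calc B * (A * B) = (B * A) * B := by rw [mul_assoc]
              _ = -(A * (B * B)) := by rw [hBA]; simp only [neg_mul, mul_assoc]
              _ = A := by rw [hB2]; simp
          rw [mul_smul_comm, this]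
        calc Γ ^ 3 * A * Γi ^ 3
            = Γ * (Γ * (Γ * A * Γi) * Γi) * Γi := by
              simp only [pow_succ, pow_zero, one_mul, mul_assoc]
          _ = Γ * (l • (A * B)) * Γi := by rw [e1, e2]
          _ = A := by rw [hτs, e3, smul_smul, hll, one_smul]
  obtain ⟨m, hpm, hm⟩ := hkey
  -- hence `g` commutes with `a`
  have hcopm : Nat.Coprime m p := ((Nat.Prime.coprime_iff_not_dvd hp.out).mpr hpm).symm
  obtain ⟨u, -, hu⟩ := Nat.exists_mul_mod_eq_one_of_coprime hcopm hp.out.one_lt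
  have hgu : (g ^ m) ^ u = g := by
    rw [← pow_mul, pow_eq_pow_mod (m * u) hg, hu, pow_one]
  have hcomm : mat a * mat g = mat g * mat a := by
    have h1 : Commute (mat (g ^ m)) A := hm
    have h2 := h1.pow_left u
    rw [← mat_pow, hgu] at h2
    exact h2.eq.symm
  apply hg1
  apply mat_inj
  rw [mat_one]
  refine eq_one_of_commute p h2F (mat g) A (by rw [← mat_pow, hg, mat_one]) hAns (orderOf a) ?_
    (by rw [hA, ← mat_pow, pow_orderOf_eq_one, mat_one]) hcomm
  intro h0
  have h1 := (CharP.cast_eq_zero_iff F p _).mp h0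
  have h2 := Nat.Coprime.eq_one_of_dvd (hcop a haR).symm h1
  exact hp.out.one_lt.ne' h2

end Cfsg.Agent.Lib.Lead.SL2QGroup
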