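import Mathlib
import Cfsg.Prelude.Def_Local
import Cfsg.Agent.Lib.Lead.SL2QGroup
import Cfsg.Agent.Lib.Helper15.QuadSL2
import Cfsg.Agent.Lib.Helper15.ModularPGroup
import Cfsg.Agent.Lib.Helper2.CoprimeSylow
import Cfsg.Agent.Lib.Helper3.PSolvable
import Cfsg.Agent.Lib.Helper20.PSolvable

/-!
# Finite subgroups of `SL₂(F)`, `char F = p ≥ 5`, generated by two elements of order `p`, are not
`p`-solvable unless they are `p`-groups (lead)
-/

set_option autoImplicit false

namespace Cfsg.Agent.Lib.Lead.SL2PSolv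

open Matrix Cfsg.Agent.Lib.Helper15.TwoByTwo Cfsg.Agent.Lib.Lead.SL2Scalar
open Cfsg.Agent.Lib.Lead.SL2QGroup Cfsg.Agent.Lib.Helper15.QuadSL2
open Cfsg.Agent.Lib.Helper15.QuadChain

/-- subgroups of `p`-solvable groups are `p`-solvable -/
theorem isPSolvable_subgroup {G : Type*} [Group G] {p : ℕ} (hp : p.Prime)
    (hsol : Cfsg.IsPSolvable p G) (K : Subgroup G) : Cfsg.IsPSolvable p K := by
  obtain ⟨n, H, h0, hlast, hmono, hnorm, hstep⟩ := hsol
  refine ⟨n, fun i => (H i).subgroupOf K, ?_, ?_, ?_, ?_, ?_⟩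
  · simp only [h0, Subgroup.bot_subgroupOf]
  · simp only [hlast, Subgroup.top_subgroupOf]
  · intro i j hij
    exact Subgroup.comap_mono (hmono hij)
  · intro i
    haveI := hnorm i
    infer_instance
  · intro i
    haveI := hnorm i.castSucc
    have hle : H i.castSucc ≤ H i.succ := hmono (Fin.castSucc_le_succ i)
    have h1 : ((H i.castSucc).subgroupOf K).relIndex ((H i.succ).subgroupOf K) =
        (H i.castSucc ⊓ K).relIndex (H i.succ ⊓ K) := by
      rw [← Subgroup.inf_subgroupOf_right (H i.castSucc) K,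
        ← Subgroup.inf_subgroupOf_right (H i.succ) K,
        Subgroup.relIndex_subgroupOf inf_le_right]
    have h2 := Cfsg.Agent.Lib.Helper3.inf_relIndex_inf_dvd (C := K) (hnorm i.castSucc) hle
    have h3 : Cfsg.Agent.Lib.Helper3.IsPOrP' p ((H i.castSucc).relIndex (H i.succ)) := hstep i
    have h4 := h3.of_dvd hp h2
    rw [← h1] at h4
    exact h4

variable {F : Type*} [Field F]

local notation "SL2" => Matrix.SpecialLinearGroup (Fin 2) F
local notation "M2" => Matrix (Fin 2) (Fin 2) F

/-- **Lemma A**: no nontrivial normal `p`-subgroups. -/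
theorem normal_pgroup_eq_bot (p : ℕ) [hp : Fact p.Prime] [CharP F p] (L : Subgroup SL2) [Finite L]
    (x y : L) (hgen : Subgroup.closure {x, y} = ⊤) (hx : x ^ p = 1) (hy : y ^ p = 1)
    (hnp : ¬ IsPGroup p L) (P : Subgroup L) [hPn : P.Normal] (hP : IsPGroup p P) : P = ⊥ := by
  by_contra hne
  have hpV : ∀ v : Fin 2 → F, p • v = 0 := by
    intro v
    funext i
    simp only [Pi.smul_apply, Pi.zero_apply]
    rw [← Nat.cast_smul_eq_nsmul F p (v i), CharP.cast_eq_zero, zero_smul]
  let ρ : P →* AddMonoid.End (Fin 2 → F) :=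
    { toFun := fun k => (Matrix.mulVecLin (mat k.1)).toAddMonoidHom
      map_one' := by
        apply AddMonoidHom.ext
        intro v
        show (mat (1 : L)).mulVec v = v
        rw [mat_one, Matrix.one_mulVec]
      map_mul' := by
        intro a b
        apply AddMonoidHom.ext
        intro v
        show (mat (a.1 * b.1)).mulVec v = (mat a.1).mulVec ((mat b.1).mulVec v)
        rw [mat_mul, Matrix.mulVec_mulVec] }
  have hρ : ∀ (k : P) (v : Fin 2 → F), ρ k v = (mat k.1).mulVec v := fun _ _ => rfl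
  obtain ⟨v, hv0, hvfix⟩ := Cfsg.Agent.Lib.Helper15.exists_fixed_ne_zero (p := p) hpV hP ρ
    (fun _ => (1 : F)) (by intro h; have := congrFun h 0; simp at this)
  have hmove : ∃ g : L, (mat g).mulVec v ∉ Submodule.span F {v} := by
    by_contra hcon
    push_neg at hcon
    exact hnp (isPGroup_of_common_eigen p L x y hgen hx hy v hv0 (hcon x) (hcon y))
  obtain ⟨g, hg⟩ := hmove
  have hwfix : ∀ k : P, (mat k.1).mulVec ((mat g).mulVec v) = (mat g).mulVec v := by
    intro k
    have hk' : g⁻¹ * k.1 * g ∈ P := by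
      have := hPn.conj_mem k.1 k.2 g⁻¹
      rwa [inv_inv] at this
    have h3 := hvfix ⟨_, hk'⟩
    rw [hρ] at h3
    have h4 : mat (g⁻¹ * k.1 * g) = mat g⁻¹ * mat k.1 * mat g := by rw [mat_mul, mat_mul]
    calc (mat k.1).mulVec ((mat g).mulVec v)
        = (mat g * (mat g⁻¹ * mat k.1 * mat g)).mulVec v := by
          rw [Matrix.mulVec_mulVec]
          congr 1
          rw [← mul_assoc, ← mul_assoc, mat_mul_inv, one_mul]
      _ = (mat g).mulVec v := by
          rw [← Matrix.mulVec_mulVec, ← h4, h3]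
  obtain ⟨u, hu1⟩ := (Subgroup.ne_bot_iff_exists_ne_one).mp hne
  have hfinal := eq_one_of_fix_two (mat u.1) v ((mat g).mulVec v) hv0 hg
    (by have := hvfix u; rwa [hρ] at this) (hwfix u)
  apply hu1
  apply Subtype.ext
  apply mat_inj
  rw [hfinal, Subgroup.coe_one, mat_one]

/-- **Lemma N**: normal `p'`-subgroups are scalar. -/
theorem scalar_of_normal_p' (p : ℕ) [hp : Fact p.Prime] [CharP F p] (hp5 : 5 ≤ p)
    {L : Subgroup SL2} [Finite L] (g : L) (hg : g ^ p = 1) (hg1 : g ≠ 1)
    (N : Subgroup L) [hNn : N.Normal] (hN : (Nat.card N).Coprime p) :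
    ∀ n ∈ N, ∃ c : F, mat n = c • 1 := by
  classical
  have hNtop : Subgroup.normalizer (N : Set L) = ⊤ := Subgroup.normalizer_eq_top N
  have hgN : g ∈ Subgroup.normalizer (N : Set L) := by
    rw [hNtop]; exact Subgroup.mem_top g
  have h2grp : IsPGroup 2 N := by
    have hcard : ∀ q : ℕ, q.Prime → q ∣ Nat.card N → q = 2 := by
      intro q hq hqd
      by_contra hq2
      haveI : Fact q.Prime := ⟨hq⟩
      have hqp : q ≠ p := by
        rintro rfl
        exact hq.one_lt.ne' (Nat.Coprime.eq_one_of_dvd hN.symm hqd)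
      have hA : Subgroup.zpowers g ≤ Subgroup.normalizer (N : Set L) := by
        rw [hNtop]; exact le_top
      have hcardA : Nat.card (Subgroup.zpowers g) = p := by
        rw [Nat.card_zpowers]
        exact orderOf_eq_prime hg hg1
      obtain ⟨Q, hQ⟩ := Cfsg.Agent.Lib.Helper2.exists_invariant_sylow
        (Subgroup.zpowers g) N hA (by rw [hcardA]; exact hN.symm) (Or.inl inferInstance) q
      set R := (Q : Subgroup N).map N.subtype with hR
      have hRq : IsPGroup q R := Q.2.map _
      have hgR : g ∈ Subgroup.normalizer (R : Set L) := hQ (Subgroup.mem_zpowers g)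
      have hsc := scalar_of_qgroup p hp5 q hqp R hRq g hg hg1 hgR
      have hRbot : ∀ r ∈ R, r = 1 := by
        intro r hr
        obtain ⟨c, hc⟩ := hsc r hr
        have h1 : r * r = 1 := by
          apply mat_inj
          rw [mat_mul, hc, mat_one, smul_mul_smul_comm, one_mul, scalar_sq hc, one_smul]
        obtain ⟨k, hk⟩ := hRq ⟨r, hr⟩
        have hk' : r ^ q ^ k = 1 := by simpa using congrArg Subtype.val hk
        have ho1 : orderOf r ∣ 2 := orderOf_dvd_of_pow_eq_one (by rw [pow_two]; exact h1)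
        have ho2 : orderOf r ∣ q ^ k := orderOf_dvd_of_pow_eq_one hk'
        have hcop : Nat.Coprime 2 (q ^ k) :=
          Nat.Coprime.pow_right _ ((Nat.coprime_primes Nat.prime_two hq).mpr (Ne.symm hq2))
        exact orderOf_eq_one_iff.mp (Nat.eq_one_of_dvd_coprimes hcop ho1 ho2)
      have hQbot : (Q : Subgroup N) = ⊥ := by
        rw [eq_bot_iff]
        intro z hz
        have := hRbot (z : L) ⟨z, hz, rfl⟩
        exact Subgroup.mem_bot.mpr (Subtype.ext this)
      exact Sylow.ne_bot_of_dvd_card Q hqd hQbot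
    have h0 : Nat.card N ≠ 0 := Nat.card_pos.ne'
    have := Nat.eq_prime_pow_of_unique_prime_dvd h0 (fun {d} hd hdd => hcard d hd hdd)
    exact IsPGroup.of_card this
  intro n hn
  haveI : Fact (Nat.Prime 2) := ⟨Nat.prime_two⟩
  exact scalar_of_qgroup p hp5 2 (by omega) N h2grp g hg hg1 hgN n hn

/-- **Main theorem.** -/
theorem not_isPSolvable (p : ℕ) [hp : Fact p.Prime] [CharP F p] (hp5 : 5 ≤ p) (L : Subgroup SL2)
    [Finite L] (x y : L) (hgen : Subgroup.closure {x, y} = ⊤) (hx : x ^ p = 1) (hy : y ^ p = 1)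
    (hnp : ¬ IsPGroup p L) : ¬ Cfsg.IsPSolvable p L := by
  intro hsol
  classical
  obtain ⟨g, hg, hg1⟩ : ∃ g : L, g ^ p = 1 ∧ g ≠ 1 := by
    by_contra hcon
    push_neg at hcon
    apply hnp
    have hx1 := hcon x hx
    have hy1 := hcon y hy
    have hbot : (⊤ : Subgroup L) = ⊥ := by
      rw [← hgen, hx1, hy1]; simp
    intro z
    refine ⟨0, ?_⟩
    have : z ∈ (⊥ : Subgroup L) := hbot ▸ Subgroup.mem_top z
    rw [pow_zero, pow_one]; exact Subgroup.mem_bot.mp this
  have hsq : ∀ z : L, (∃ c : F, mat z = c • 1) → z * z = 1 := by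
    rintro z ⟨c, hc⟩
    apply mat_inj
    rw [mat_mul, hc, mat_one, smul_mul_smul_comm, one_mul, scalar_sq hc, one_smul]
  let Z : Subgroup L :=
    { carrier := {z | ∃ c : F, mat z = c • 1}
      one_mem' := ⟨1, by rw [mat_one, one_smul]⟩
      mul_mem' := by
        rintro a b ⟨c, hc⟩ ⟨d, hd⟩
        exact ⟨c * d, by rw [mat_mul, hc, hd, smul_mul_smul_comm, one_mul]⟩
      inv_mem' := by
        rintro a ⟨c, hc⟩
        have : a⁻¹ = a := inv_eq_of_mul_eq_one_left (hsq a ⟨c, hc⟩)
        rw [this]; exact ⟨c, hc⟩ }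
  have hZc : ∀ z ∈ Z, ∀ k : L, z * k = k * z := by
    rintro z ⟨c, hc⟩ k
    exact comm_of_scalar hc k
  haveI hZn : Z.Normal := ⟨by
    intro z hz k
    rw [← hZc z hz k, mul_inv_cancel_right]
    exact hz⟩
  have hZ2 : IsPGroup 2 Z := by
    intro z
    refine ⟨1, Subtype.ext ?_⟩
    rw [Subgroup.coe_pow, Subgroup.coe_one, pow_one, pow_two]
    exact hsq z.1 z.2
  have h2p : Nat.Coprime 2 p := (Nat.coprime_primes Nat.prime_two hp.out).mpr (by omega)
  have hZcard : (Nat.card Z).Coprime p := by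
    obtain ⟨k, hk⟩ := hZ2.exists_card_eq
    rw [hk]
    exact Nat.Coprime.pow_left _ h2p
  have hZtop : Z ≠ ⊤ := by
    intro h
    apply hg1
    have hgZ : g ∈ Z := h ▸ Subgroup.mem_top g
    have h1 := hsq g hgZ
    have ho1 : orderOf g ∣ 2 := orderOf_dvd_of_pow_eq_one (by rw [pow_two]; exact h1)
    have ho2 : orderOf g ∣ p := orderOf_dvd_of_pow_eq_one hg
    exact orderOf_eq_one_iff.mp (Nat.eq_one_of_dvd_coprimes h2p ho1 ho2)
  obtain ⟨M, hMn, hZM, -, hM⟩ := Cfsg.Agent.Lib.Helper3.exists_normal_between hp.out hsol hZn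
    (inferInstance : (⊤ : Subgroup L).Normal) (lt_top_iff_ne_top.mpr hZtop)
  haveI := hMn
  have hcardM : Nat.card Z * Z.relIndex M = Nat.card M := by
    have := Subgroup.relIndex_mul_relIndex ⊥ Z M bot_le hZM.le
    rwa [Subgroup.relIndex_bot_left, Subgroup.relIndex_bot_left] at this
  rcases hM with ⟨m, hm⟩ | hcop
  · obtain ⟨P⟩ : Nonempty (Sylow p M) := inferInstance
    have hPn : (P : Subgroup M).Normal := by
      have hsup : Z.subgroupOf M ⊔ (P : Subgroup M) = ⊤ := by
        rw [← Subgroup.index_eq_one]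
        have h1 : (Z.subgroupOf M ⊔ (P : Subgroup M)).index ∣ (P : Subgroup M).index :=
          Subgroup.index_dvd_of_le le_sup_right
        have h2 : (Z.subgroupOf M ⊔ (P : Subgroup M)).index ∣ (Z.subgroupOf M).index :=
          Subgroup.index_dvd_of_le le_sup_left
        have h3 : (Z.subgroupOf M).index = p ^ m := by
          rw [← hm]; rfl
        rw [h3] at h2
        have h4 : ¬ p ∣ (P : Subgroup M).index := P.not_dvd_index
        have h5 : Nat.Coprime (p ^ m) (P : Subgroup M).index :=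
          Nat.Coprime.pow_left _ ((Nat.Prime.coprime_iff_not_dvd hp.out).mpr h4)
        exact Nat.eq_one_of_dvd_coprimes h5 h2 h1
      have hle : Z.subgroupOf M ⊔ (P : Subgroup M) ≤
          Subgroup.normalizer ((P : Subgroup M) : Set M) := by
        apply sup_le
        · intro z hz
          rw [Subgroup.mem_normalizer_iff]
          intro h
          have hzc : ∀ k : M, z * k = k * z := by
            intro k
            apply Subtype.ext
            exact hZc z.1 (Subgroup.mem_subgroupOf.mp hz) k.1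
          rw [hzc h, mul_inv_cancel_right]
        · exact Subgroup.le_normalizer
      rw [hsup] at hle
      exact Subgroup.normalizer_eq_top_iff.mp (top_le_iff.mp hle)
    haveI := hPn
    haveI hPc : (P : Subgroup M).Characteristic := P.characteristic_of_normal hPn
    haveI hPL : ((P : Subgroup M).map M.subtype).Normal :=
      ConjAct.normal_of_characteristic_of_normal
    have hPbot := normal_pgroup_eq_bot p L x y hgen hx hy hnp _ (P.2.map M.subtype)
    have hPbot' : (P : Subgroup M) = ⊥ := by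
      rwa [Subgroup.map_eq_bot_iff_of_injective _ M.subtype_injective] at hPbot
    have hpnd : ¬ p ∣ Nat.card M := fun h => Sylow.ne_bot_of_dvd_card P h hPbot'
    have hm0 : m = 0 := by
      by_contra hm0
      apply hpnd
      rw [← hcardM, hm]
      exact Dvd.dvd.mul_left (dvd_pow_self p hm0) _
    rw [hm0, pow_zero] at hm
    exact absurd (Subgroup.relIndex_eq_one.mp hm) (not_le_of_gt hZM)
  · have hMc : (Nat.card M).Coprime p := by
      rw [← hcardM]; exact Nat.Coprime.mul_left hZcard hcop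
    have := scalar_of_normal_p' p hp5 g hg hg1 M hMc
    exact absurd (fun z hz => this z hz) (not_le_of_gt hZM)

/-- abstract form -/
theorem not_isPSolvable_of_hom (p : ℕ) [Fact p.Prime] [CharP F p] (hp5 : 5 ≤ p)
    {G : Type*} [Group G] [Finite G] (a b : G) (hgen : Subgroup.closure {a, b} = ⊤)
    (φ : G →* SL2) (ha : φ a ^ p = 1) (hb : φ b ^ p = 1) (hnp : ¬ PQuot p φ.ker) :
    ¬ Cfsg.IsPSolvable p G := by
  intro hsol
  have hsurj : Function.Surjective φ.rangeRestrict := φ.rangeRestrict_surjective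
  haveI : Finite φ.range := Finite.of_surjective _ hsurj
  have hgen' : Subgroup.closure {φ.rangeRestrict a, φ.rangeRestrict b} = ⊤ := by
    have h1 := MonoidHom.map_closure φ.rangeRestrict {a, b}
    rw [hgen, Subgroup.map_top_of_surjective _ hsurj, Set.image_pair] at h1
    exact h1.symm
  have hx : φ.rangeRestrict a ^ p = 1 := Subtype.ext ha
  have hy : φ.rangeRestrict b ^ p = 1 := Subtype.ext hb
  have hnp' : ¬ IsPGroup p φ.range := fun h => hnp ((pquot_ker_iff_range p φ).2 h)
  have hsol' : Cfsg.IsPSolvable p φ.range :=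
    Cfsg.Agent.Lib.Helper20.isPSolvable_of_surjective φ.rangeRestrict hsurj hsol
  exact not_isPSolvable p hp5 φ.range _ _ hgen' hx hy hnp' hsol'

end Cfsg.Agent.Lib.Lead.SL2PSolv
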