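import Mathlib
import Cfsg.Prelude.Def_PLocal
import Cfsg.Agent.Lib.Helper16.PCore
import Cfsg.Agent.Lib.Lead.GlaubermanRepl

/-! Glauberman's ZJ-theorem (abelian version of the Thompson subgroup). -/

set_option autoImplicit false

namespace Cfsg.Agent.Lib.Lead.GlaubermanZJ

open Subgroup
open scoped commutatorElement
open Cfsg.Agent.Lib.Lead.GlaubermanRepl Cfsg.Agent.Lib.Helper16

variable {G : Type*} [Group G]

/-- the subgroup of elements centralizing `B` modulo `D` -/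
def centMod (B D : Subgroup G) [hB : B.Normal] [hD : D.Normal] : Subgroup G where
  carrier := {u | ∀ b ∈ B, ⁅u, b⁆ ∈ D}
  one_mem' := by
    intro b _
    rw [commutatorElement_one_left]
    exact one_mem D
  mul_mem' := by
    intro u v hu hv b hb
    have h1 : ⁅u * v, b⁆ = u * ⁅v, b⁆ * u⁻¹ * ⁅u, b⁆ := by
      simp only [commutatorElement_def]; group
    rw [h1]
    exact mul_mem (hD.conj_mem _ (hv b hb) u) (hu b hb)
  inv_mem' := by
    intro u hu b hb
    have h1 : ⁅u⁻¹, b⁆ = u⁻¹ * ⁅u, b⁆⁻¹ * u⁻¹⁻¹ := by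
      simp only [commutatorElement_def]; group
    rw [h1]
    exact hD.conj_mem _ (inv_mem (hu b hb)) u⁻¹

instance centMod_normal (B D : Subgroup G) [hB : B.Normal] [hD : D.Normal] :
    (centMod B D).Normal where
  conj_mem := by
    intro u hu g b hb
    have h1 : ⁅g * u * g⁻¹, b⁆ = g * ⁅u, g⁻¹ * b * g⁻¹⁻¹⁆ * g⁻¹ := by
      simp only [commutatorElement_def]; group
    rw [h1]
    exact hD.conj_mem _ (hu _ (hB.conj_mem b hb g⁻¹)) g

theorem ZJ_conj {S : Subgroup G} {g : G} (hg : g ∈ normalizer (S : Set G)) {z : G}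
    (hz : z ∈ ZJ S) : g * z * g⁻¹ ∈ ZJ S := by
  have h1 := ZJ_map (MulAut.conj g) S
  have h2 : S.map (MulAut.conj g).toMonoidHom = S := mem_normalizer_iff_map_conj_eq.mp hg
  rw [h2] at h1
  rw [← h1]
  exact ⟨z, hz, by simp [MulAut.conj_apply]⟩

section main

variable [Finite G] {p : ℕ} [hp : Fact p.Prime]

theorem derived_card_lt {B : Subgroup G} (hBp : IsPGroup p B) (hB1 : B ≠ ⊥) :
    Nat.card (⁅B, B⁆ : Subgroup G) < Nat.card B := by
  have hle : ⁅B, B⁆ ≤ B := by
    rw [commutator_le]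
    intro g₁ h₁ g₂ h₂
    exact mul_mem (mul_mem (mul_mem h₁ h₂) (inv_mem h₁)) (inv_mem h₂)
  by_contra h
  push_neg at h
  have heq : ⁅B, B⁆ = B := Subgroup.eq_of_le_of_card_ge hle h
  apply hB1
  exact Cfsg.Agent.Lib.Lead.ThompsonRepl.eq_bot_of_le_commutator B B B hBp hBp le_normalizer le_rfl
    (by rw [heq])

theorem ZJ_inf_normal (hp2 : p ≠ 2)
    (hst : ∀ (P : Subgroup G) [P.Normal], IsPGroup p P → Cfsg.IsPStableOn p P)
    (S : Sylow p G) (n : ℕ) : ∀ B : Subgroup G, B.Normal → IsPGroup p B → Nat.card B = n →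
      (ZJ (S : Subgroup G) ⊓ B).Normal := by
  induction n using Nat.strong_induction_on with
  | _ n ih =>
  intro B hBn hBp hBcard
  classical
  have hSp : IsPGroup p (S : Subgroup G) := S.isPGroup'
  have hBS : B ≤ S := normal_pgroup_le_sylow hBn hBp S
  by_cases hB1 : B = ⊥
  · rw [hB1, inf_bot_eq]; infer_instance
  haveI := hBn
  have hB'n : (⁅B, B⁆ : Subgroup G).Normal := inferInstance
  have hB'le : ⁅B, B⁆ ≤ B := by
    rw [commutator_le]
    intro g₁ h₁ g₂ h₂
    exact mul_mem (mul_mem (mul_mem h₁ h₂) (inv_mem h₁)) (inv_mem h₂)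
  have hB'lt : Nat.card (⁅B, B⁆ : Subgroup G) < n := hBcard ▸ derived_card_lt hBp hB1
  have hDn : (ZJ (S : Subgroup G) ⊓ ⁅B, B⁆).Normal :=
    ih _ hB'lt ⁅B, B⁆ hB'n (hBp.to_le hB'le) rfl
  haveI := hDn
  set Z := ZJ (S : Subgroup G) with hZ
  set D := Z ⊓ ⁅B, B⁆ with hD
  set B₁ := normalClosure ((Z ⊓ B : Subgroup G) : Set G) with hB₁
  haveI hB₁n : B₁.Normal := normalClosure_normal
  have hB₁B : B₁ ≤ B := normalClosure_le_normal inf_le_right
  have hB₁S : B₁ ≤ S := hB₁B.trans hBS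
  have hB₁p : IsPGroup p B₁ := hBp.to_le hB₁B
  have hsub : Z ⊓ B ≤ B₁ := le_normalClosure
  have hZS : ∀ s ∈ (S : Subgroup G), ∀ z ∈ Z, s * z * s⁻¹ ∈ Z :=
    fun s hs z hz => ZJ_conj (le_normalizer hs) hz
  have hcomm : ∀ z ∈ Z ⊓ B, ∀ b ∈ B, ⁅z, b⁆ ∈ D := by
    intro z hz b hb
    obtain ⟨hzZ, hzB⟩ := Subgroup.mem_inf.mp hz
    refine Subgroup.mem_inf.mpr ⟨?_, commutator_mem_commutator hzB hb⟩
    have h1 : ⁅z, b⁆ = z * (b * z⁻¹ * b⁻¹) := by simp only [commutatorElement_def]; group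
    rw [h1]
    exact mul_mem hzZ (hZS b (hBS hb) _ (inv_mem hzZ))
  have hB₁T : B₁ ≤ centMod B D := normalClosure_le_normal (fun z hz => hcomm z hz)
  have hB₁' : ⁅B₁, B₁⁆ ≤ D := by
    rw [commutator_le]
    intro u hu v hv
    exact hB₁T hu v (hB₁B hv)
  have hDcent : B₁ ≤ centralizer (D : Set G) := by
    apply normalClosure_le_normal
    intro z hz
    rw [SetLike.mem_coe, mem_centralizer_iff]
    intro d hd
    exact ZJ_comm (S : Subgroup G) d (Subgroup.mem_inf.mp hd).1 z (Subgroup.mem_inf.mp hz).1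
  have hZA : ∀ A ∈ maxAbIn (S : Subgroup G), ⁅B₁, B₁⁆ ≤ A :=
    fun A hA => hB₁'.trans (inf_le_left.trans (ZJ_le_of_mem hA))
  have hZc : ∀ z ∈ ⁅B₁, B₁⁆, ∀ b ∈ B₁, z * b = b * z := by
    intro z hz b hb
    have := hDcent hb
    rw [mem_centralizer_iff] at this
    exact this z (hB₁' hz)
  have hSB₁ : ∀ s ∈ (S : Subgroup G), ∀ b ∈ B₁, s * b * s⁻¹ ∈ B₁ :=
    fun s _ b hb => hB₁n.conj_mem b hb s
  obtain ⟨A, hA, hB₁A⟩ := exists_normalized hp2 hSp hB₁S hSB₁ hZA hZc
  -- the subgroup L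
  set C := centralizer (B₁ : Set G) with hC
  set L : Subgroup G := (Cfsg.pCore p (G ⧸ C)).comap (QuotientGroup.mk' C) with hL
  haveI hLn : L.Normal := (pCore_normal p (G ⧸ C)).comap _
  have hCL : C ≤ L := by
    intro c hc
    rw [hL, Subgroup.mem_comap, QuotientGroup.mk'_apply, (QuotientGroup.eq_one_iff c).mpr hc]
    exact one_mem _
  have hLpow : ∀ l ∈ L, ∃ k : ℕ, l ^ p ^ k ∈ C := by
    intro l hl
    rw [hL, Subgroup.mem_comap] at hl
    obtain ⟨k, hk⟩ := (pCore_isPGroup p (G ⧸ C)) ⟨_, hl⟩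
    refine ⟨k, ?_⟩
    have h1 := congrArg Subtype.val hk
    simp only [Subgroup.coe_pow, Subgroup.coe_one, QuotientGroup.mk'_apply] at h1
    rw [← QuotientGroup.mk_pow] at h1
    exact (QuotientGroup.eq_one_iff _).mp h1
  have hquad : ∀ A' ∈ maxAbIn (S : Subgroup G), B₁ ≤ normalizer (A' : Set G) → A' ≤ L := by
    intro A' hA' hN a ha
    have hq : ⁅⁅B₁, zpowers a⁆, zpowers a⁆ = ⊥ := by
      have h1 : ⁅B₁, zpowers a⁆ ≤ A' := by
        rw [commutator_le]
        intro b hb t ht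
        have ht' : t ∈ A' := (zpowers_le.mpr ha) ht
        have h2 : b * t * b⁻¹ ∈ A' := (mem_normalizer_iff.mp (hN hb) t).mp ht'
        have : ⁅b, t⁆ = (b * t * b⁻¹) * t⁻¹ := by simp only [commutatorElement_def]
        rw [this]
        exact mul_mem h2 (inv_mem ht')
      rw [eq_bot_iff]
      refine (commutator_mono h1 le_rfl).trans ?_
      rw [commutator_le]
      intro u hu t ht
      have ht' : t ∈ A' := (zpowers_le.mpr ha) ht
      rw [mem_bot]
      exact commutatorElement_eq_one_iff_commute.mpr (hA'.2.1 u hu t ht')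
    have := hst B₁ hB₁p a hq
    rw [hL, Subgroup.mem_comap]
    exact this
  have hAL : A ≤ L := hquad A hA hB₁A
  -- the Sylow subgroup S₁ = S ⊓ L of L
  set S₁ : Subgroup G := (S : Subgroup G) ⊓ L with hS₁
  have hAS₁ : A ≤ S₁ := le_inf hA.1 hAL
  have hS₁p : IsPGroup p (S₁.subgroupOf L) := (hSp.to_le inf_le_left).comap_subtype
  have hindex : ¬ p ∣ (S₁.subgroupOf L).index := by
    have e1 := card_sup_mul_card_inf (S : Subgroup G) L (le_normalizer_of_normal)
    have e2 := Cfsg.Agent.S0598.card_mul_relIndex (inf_le_right : (S : Subgroup G) ⊓ L ≤ L)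
    have e3 := Cfsg.Agent.S0598.card_mul_relIndex (le_sup_left : (S : Subgroup G) ≤ (S : Subgroup G) ⊔ L)
    have e4 : ((S : Subgroup G) ⊓ L).relIndex L = (S : Subgroup G).relIndex ((S : Subgroup G) ⊔ L) := by
      have pS : 0 < Nat.card (S : Subgroup G) := Nat.card_pos
      have pI : 0 < Nat.card ((S : Subgroup G) ⊓ L : Subgroup G) := Nat.card_pos
      rw [← e3, ← e2] at e1
      have : Nat.card (S : Subgroup G) * Nat.card ((S : Subgroup G) ⊓ L : Subgroup G) *
          (S : Subgroup G).relIndex ((S : Subgroup G) ⊔ L)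
          = Nat.card (S : Subgroup G) * Nat.card ((S : Subgroup G) ⊓ L : Subgroup G) *
          ((S : Subgroup G) ⊓ L).relIndex L := by
        calc Nat.card (S : Subgroup G) * Nat.card ((S : Subgroup G) ⊓ L : Subgroup G) *
            (S : Subgroup G).relIndex ((S : Subgroup G) ⊔ L)
            = Nat.card (S : Subgroup G) * (S : Subgroup G).relIndex ((S : Subgroup G) ⊔ L) *
              Nat.card ((S : Subgroup G) ⊓ L : Subgroup G) := by ring
          _ = Nat.card (S : Subgroup G) * (Nat.card ((S : Subgroup G) ⊓ L : Subgroup G) *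
              ((S : Subgroup G) ⊓ L).relIndex L) := e1
          _ = Nat.card (S : Subgroup G) * Nat.card ((S : Subgroup G) ⊓ L : Subgroup G) *
              ((S : Subgroup G) ⊓ L).relIndex L := by ring
      exact (Nat.eq_of_mul_eq_mul_left (Nat.mul_pos pS pI) this).symm
    intro hdvd
    have h1 : (S₁.subgroupOf L).index = ((S : Subgroup G) ⊓ L).relIndex L := rfl
    rw [h1, e4] at hdvd
    exact S.not_dvd_index (hdvd.trans (Subgroup.relIndex_dvd_index_of_le le_sup_left))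
  set Q : Sylow p L := hS₁p.toSylow hindex with hQ
  have hQmap : (Q : Subgroup L).map L.subtype = S₁ := by
    rw [hQ, IsPGroup.toSylow_coe, Subgroup.subgroupOf_map_subtype, hS₁]
    exact inf_eq_left.mpr inf_le_right
  have hfrat := Sylow.normalizer_sup_eq_top Q
  rw [hQmap] at hfrat
  -- L = S₁ C
  have hLdecomp : ∀ l ∈ L, ∃ t ∈ S₁, ∃ c ∈ C, l = t * c := by
    intro l hl
    haveI : (C.subgroupOf L).Normal := inferInstance
    have hQp : IsPGroup p (L ⧸ C.subgroupOf L) := by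
      intro x
      induction x using QuotientGroup.induction_on with
      | H y =>
        obtain ⟨k, hk⟩ := hLpow y y.2
        refine ⟨k, ?_⟩
        rw [← QuotientGroup.mk_pow, QuotientGroup.eq_one_iff, Subgroup.mem_subgroupOf]
        simpa using hk
    obtain ⟨t, ht, c, hc, htc⟩ :=
      Cfsg.Agent.Lib.Lead.ThompsonRepl.exists_mul_of_quotient_isPGroup (C.subgroupOf L) hQp Q ⟨l, hl⟩
    refine ⟨t, ?_, c, Subgroup.mem_subgroupOf.mp hc, ?_⟩
    · rw [← hQmap]; exact ⟨t, ht, rfl⟩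
    · have := congrArg Subtype.val htc
      simpa using this
  have hGdecomp : ∀ g : G, ∃ m ∈ normalizer (S₁ : Set G), ∃ c ∈ C, g = m * c := by
    intro g
    have hg : g ∈ (normalizer (S₁ : Set G) ⊔ L : Subgroup G) := hfrat ▸ mem_top g
    rw [← SetLike.mem_coe, mul_normal] at hg
    obtain ⟨m, hm, l, hl, rfl⟩ := Set.mem_mul.mp hg
    obtain ⟨t, ht, c, hc, rfl⟩ := hLdecomp l hl
    exact ⟨m * t, mul_mem hm (le_normalizer ht), c, hc, by rw [mul_assoc]⟩
  have hZZ₁ : Z ≤ ZJ S₁ := ZJ_le_ZJ hA hAS₁ inf_le_left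
  -- B₁ ≤ ZJ S₁
  have hB₁Z₁ : B₁ ≤ ZJ S₁ := by
    rw [hB₁, normalClosure, closure_le]
    intro y hy
    obtain ⟨z, hz, hzy⟩ := Group.mem_conjugatesOfSet_iff.mp hy
    obtain ⟨g, rfl⟩ := isConj_iff.mp hzy
    obtain ⟨m, hm, c, hc, rfl⟩ := hGdecomp g
    have hzB₁ : z ∈ B₁ := hsub hz
    have h1 : c * z * c⁻¹ = z := by
      rw [hC, mem_centralizer_iff] at hc
      rw [← hc z hzB₁, mul_inv_cancel_right]
    have h2 : m * c * z * (m * c)⁻¹ = m * (c * z * c⁻¹) * m⁻¹ := by group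
    rw [SetLike.mem_coe, h2, h1]
    exact ZJ_conj hm (hZZ₁ (Subgroup.mem_inf.mp hz).1)
  -- every member of 𝒜(S) centralizes B₁
  have hall : ∀ A' ∈ maxAbIn (S : Subgroup G), ∀ a ∈ A', ∀ b ∈ B₁, a * b = b * a := by
    by_contra hcon
    push_neg at hcon
    let α := {A' : Subgroup G // A' ∈ maxAbIn (S : Subgroup G) ∧
      ¬ (∀ a ∈ A', ∀ b ∈ B₁, a * b = b * a)}
    haveI : Nonempty α := by
      obtain ⟨A', hA', a, ha, b, hb, hab⟩ := hcon
      exact ⟨⟨A', hA', fun h => hab (h a ha b hb)⟩⟩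
    obtain ⟨⟨A', hA', hA'not⟩, hmax⟩ :=
      Finite.exists_max (fun A' : α => Nat.card (A'.1 ⊓ B₁ : Subgroup G))
    by_cases hN : B₁ ≤ normalizer (A' : Set G)
    · apply hA'not
      have h1 : A' ≤ S₁ := le_inf hA'.1 (hquad A' hA' hN)
      have h2 : A' ∈ maxAbIn S₁ := (maxAbIn_mono hA' h1 inf_le_left).1
      intro a ha b hb
      have h3 := (Subgroup.mem_inf.mp (hB₁Z₁ hb)).2
      rw [mem_centralizer_iff] at h3
      exact h3 a (le_JA h2 ha)
    · obtain ⟨A'', hA'', hlt, hA''N⟩ := replacement hp2 hSp hA' hB₁S (hZA A' hA') hZc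
        (fun a ha b hb => hSB₁ a (hA'.1 ha) b hb) hN
      by_cases hcen : ∀ a ∈ A'', ∀ b ∈ B₁, a * b = b * a
      · apply hN
        intro b hb
        apply hA''N
        exact mem_of_centralizes hA'' (hB₁S hb) (fun a ha => (hcen a ha b hb).symm)
      · have h1 := hmax ⟨A'', hA'', hcen⟩
        have h2 : (A' ⊓ B₁ : Subgroup G) = A'' ⊓ B₁ := Subgroup.eq_of_le_of_card_ge hlt.le h1
        exact hlt.ne h2
  have hB₁Z : B₁ ≤ Z := by
    intro b hb
    have hbA : b ∈ A := mem_of_centralizes hA (hB₁S hb) (fun a ha => (hall A hA a ha b hb).symm)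
    refine Subgroup.mem_inf.mpr ⟨le_JA hA hbA, ?_⟩
    have h1 : JA (S : Subgroup G) ≤ centralizer ({b} : Set G) := by
      apply sSup_le
      intro A' hA' a ha
      rw [mem_centralizer_iff]
      intro t ht
      rw [Set.mem_singleton_iff.mp ht]
      exact (hall A' hA' a ha b hb).symm
    rw [mem_centralizer_iff]
    intro u hu
    have := h1 hu
    rw [mem_centralizer_iff] at this
    exact (this b rfl).symm
  have heq : Z ⊓ B = B₁ := le_antisymm hsub (le_inf hB₁Z hB₁B)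
  rw [heq]
  exact hB₁n

end main

section final

variable [Finite G] {p : ℕ} [hp : Fact p.Prime]

theorem ZJ_le_pCore
    (hc : Subgroup.centralizer (Cfsg.pCore p G : Set G) ≤ Cfsg.pCore p G)
    (hst : ∀ (P : Subgroup G) [P.Normal], IsPGroup p P → Cfsg.IsPStableOn p P)
    (S : Sylow p G) : ZJ (S : Subgroup G) ≤ Cfsg.pCore p G := by
  classical
  set O := Cfsg.pCore p G with hO
  haveI hOn : O.Normal := pCore_normal p G
  have hOp : IsPGroup p O := pCore_isPGroup p G
  have hOS : O ≤ S := pCore_le_sylow S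
  set C := centralizer (O : Set G) with hC
  set L : Subgroup G := (Cfsg.pCore p (G ⧸ C)).comap (QuotientGroup.mk' C) with hL
  haveI hLn : L.Normal := (pCore_normal p (G ⧸ C)).comap _
  have hLp : IsPGroup p L := by
    rintro ⟨l, hl⟩
    rw [hL, Subgroup.mem_comap] at hl
    obtain ⟨k, hk⟩ := (pCore_isPGroup p (G ⧸ C)) ⟨_, hl⟩
    have h1 := congrArg Subtype.val hk
    simp only [Subgroup.coe_pow, Subgroup.coe_one, QuotientGroup.mk'_apply] at h1
    rw [← QuotientGroup.mk_pow] at h1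
    have h2 : l ^ p ^ k ∈ O := hc ((QuotientGroup.eq_one_iff _).mp h1)
    obtain ⟨k', hk'⟩ := hOp ⟨_, h2⟩
    refine ⟨k + k', ?_⟩
    apply Subtype.ext
    have h3 := congrArg Subtype.val hk'
    simp only [Subgroup.coe_pow, Subgroup.coe_one] at h3 ⊢
    rw [pow_add, pow_mul]
    exact h3
  have hLO : L ≤ O := le_pCore hLn hLp
  intro z hz
  apply hLO
  have hq : ⁅⁅O, zpowers z⁆, zpowers z⁆ = ⊥ := by
    have h1 : ⁅O, zpowers z⁆ ≤ ZJ (S : Subgroup G) := by
      rw [commutator_le]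
      intro o ho t ht
      have ht' : t ∈ ZJ (S : Subgroup G) := (zpowers_le.mpr hz) ht
      have h2 : o * t * o⁻¹ ∈ ZJ (S : Subgroup G) := ZJ_conj (le_normalizer (hOS ho)) ht'
      have : ⁅o, t⁆ = (o * t * o⁻¹) * t⁻¹ := by simp only [commutatorElement_def]
      rw [this]
      exact mul_mem h2 (inv_mem ht')
    rw [eq_bot_iff]
    refine (commutator_mono h1 le_rfl).trans ?_
    rw [commutator_le]
    intro u hu t ht
    have ht' : t ∈ ZJ (S : Subgroup G) := (zpowers_le.mpr hz) ht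
    rw [mem_bot]
    exact commutatorElement_eq_one_iff_commute.mpr (ZJ_comm (S : Subgroup G) u hu t ht')
  have := hst O hOp z hq
  rw [hL, Subgroup.mem_comap]
  exact this

theorem ZJ_normal (hp2 : p ≠ 2)
    (hc : Subgroup.centralizer (Cfsg.pCore p G : Set G) ≤ Cfsg.pCore p G)
    (hst : ∀ (P : Subgroup G) [P.Normal], IsPGroup p P → Cfsg.IsPStableOn p P)
    (S : Sylow p G) : (ZJ (S : Subgroup G)).Normal := by
  have h1 := ZJ_inf_normal hp2 hst S _ (Cfsg.pCore p G) (pCore_normal p G) (pCore_isPGroup p G) rfl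
  rwa [inf_eq_left.mpr (ZJ_le_pCore hc hst S)] at h1

theorem ZJ_characteristic (hp2 : p ≠ 2)
    (hc : Subgroup.centralizer (Cfsg.pCore p G : Set G) ≤ Cfsg.pCore p G)
    (hst : ∀ (P : Subgroup G) [P.Normal], IsPGroup p P → Cfsg.IsPStableOn p P)
    (S : Sylow p G) : (ZJ (S : Subgroup G)).Characteristic := by
  have hn := ZJ_normal hp2 hc hst S
  rw [characteristic_iff_map_le]
  intro φ
  rw [ZJ_map]
  have hsurj : Function.Surjective (φ.toMonoidHom : G → G) := φ.surjective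
  obtain ⟨g, hg⟩ := MulAction.exists_smul_eq G S (S.mapSurjective hsurj)
  have h1 : ((S : Subgroup G)).map φ.toMonoidHom = (S : Subgroup G).map (MulAut.conj g).toMonoidHom := by
    have h2 := congrArg (fun P : Sylow p G => (P : Subgroup G)) hg
    simp only [Sylow.coe_subgroup_smul] at h2
    rw [Sylow.coe_mapSurjective hsurj S] at h2
    exact h2.symm.trans rfl
  rw [h1, ← ZJ_map]
  rintro _ ⟨z, hz, rfl⟩
  exact hn.conj_mem z hz g

/-- comparison with the Prelude definition -/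
theorem thompsonSubgroupAOf_eq (S : Subgroup G) : Cfsg.thompsonSubgroupAOf S = JA S := by
  unfold Cfsg.thompsonSubgroupAOf Cfsg.thompsonSubgroupA
  apply le_antisymm
  · rw [Subgroup.map_le_iff_le_comap]
    apply sSup_le
    intro A' hA'
    rw [← Subgroup.map_le_iff_le_comap]
    apply le_JA
    obtain ⟨hA'c, hA'max⟩ := hA'
    refine ⟨Subgroup.map_subtype_le _, ?_, ?_⟩
    · rintro _ ⟨a, ha, rfl⟩ _ ⟨b, hb, rfl⟩
      have := hA'c.is_comm.comm (⟨a, ha⟩ : A') ⟨b, hb⟩
      have h2 := congrArg (fun t : A' => ((t : S) : G)) this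
      simpa using h2
    · intro B hBS hBc
      have h1 : IsMulCommutative (B.subgroupOf S) :=
        ⟨⟨fun a b => Subtype.ext (Subtype.ext (hBc _ a.2 _ b.2))⟩⟩
      have h2 := hA'max _ h1
      rw [Subgroup.card_map_of_injective S.subtype_injective]
      rwa [Nat.card_congr (Subgroup.subgroupOfEquivOfLe hBS).toEquiv] at h2
  · apply sSup_le
    intro A hA
    obtain ⟨hAS, hAc, hAmax⟩ := hA
    have h1 : A = (A.subgroupOf S).map S.subtype := by
      rw [Subgroup.subgroupOf_map_subtype, inf_eq_left.mpr hAS]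
    rw [h1]
    apply Subgroup.map_mono
    apply le_sSup
    refine ⟨⟨⟨fun a b => Subtype.ext (Subtype.ext (hAc _ a.2 _ b.2))⟩⟩, ?_⟩
    intro B' hB'
    have h2 : ∀ a ∈ B'.map S.subtype, ∀ b ∈ B'.map S.subtype, a * b = b * a := by
      rintro _ ⟨a, ha, rfl⟩ _ ⟨b, hb, rfl⟩
      have := hB'.is_comm.comm (⟨a, ha⟩ : B') ⟨b, hb⟩
      have h3 := congrArg (fun t : B' => ((t : S) : G)) this
      simpa using h3
    have h3 := hAmax _ (Subgroup.map_subtype_le _) h2
    rw [Subgroup.card_map_of_injective S.subtype_injective] at h3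
    rwa [Nat.card_congr (Subgroup.subgroupOfEquivOfLe hAS).toEquiv]

theorem centerThompsonAOf_eq (S : Subgroup G) : Cfsg.centerThompsonAOf S = ZJ S := by
  unfold Cfsg.centerThompsonAOf ZJ
  rw [thompsonSubgroupAOf_eq]

end final

end Cfsg.Agent.Lib.Lead.GlaubermanZJ
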