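import Mathlib

/-! Dedekind groups (all cyclic subgroups normal): a non-abelian one contains `Q₈`-generators. -/

set_option autoImplicit false

namespace Cfsg.Agent.Lib.Lead.Dedekind

open Subgroup

variable {G : Type*} [Group G]

theorem pow_mul_comm_of_central {z y d : G} (hyz : y * z = d * z * y) (hdy : Commute d y) (n : ℕ) :
    y ^ n * z = d ^ n * z * y ^ n := by
  induction n with
  | zero => simp
  | succ n ih =>
    calc y ^ (n + 1) * z = y ^ n * (y * z) := by rw [pow_succ, mul_assoc]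
      _ = y ^ n * (d * z * y) := by rw [hyz]
      _ = (y ^ n * d) * z * y := by simp only [mul_assoc]
      _ = (d * y ^ n) * z * y := by rw [← (hdy.pow_right n).eq]
      _ = d * (y ^ n * z) * y := by simp only [mul_assoc]
      _ = d * (d ^ n * z * y ^ n) * y := by rw [ih]
      _ = d ^ (n + 1) * z * y ^ (n + 1) := by
          rw [pow_succ' d, pow_succ y]; simp only [mul_assoc]

theorem mul_pow_of_central {z y d : G} (hyz : y * z = d * z * y) (hdy : Commute d y)
    (hdz : Commute d z) (n : ℕ) :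
    (z * y) ^ n = d ^ (n.choose 2) * z ^ n * y ^ n := by
  induction n with
  | zero => simp
  | succ n ih =>
    have h1 := pow_mul_comm_of_central hyz hdy n
    have hc : (n + 1).choose 2 = n.choose 2 + n := by
      rw [Nat.choose_succ_succ' n 1, Nat.choose_one_right, add_comm]
    have h2 : z ^ n * d ^ n = d ^ n * z ^ n := (((hdz.pow_left n).pow_right n).eq).symm
    calc (z * y) ^ (n + 1) = (z * y) ^ n * (z * y) := pow_succ _ _
      _ = d ^ (n.choose 2) * z ^ n * y ^ n * (z * y) := by rw [ih]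
      _ = d ^ (n.choose 2) * z ^ n * (y ^ n * z) * y := by simp only [mul_assoc]
      _ = d ^ (n.choose 2) * z ^ n * (d ^ n * z * y ^ n) * y := by rw [h1]
      _ = d ^ (n.choose 2) * (z ^ n * d ^ n) * z * y ^ n * y := by simp only [mul_assoc]
      _ = d ^ (n.choose 2) * (d ^ n * z ^ n) * z * y ^ n * y := by rw [h2]
      _ = d ^ ((n + 1).choose 2) * z ^ (n + 1) * y ^ (n + 1) := by
          rw [hc, pow_add, pow_succ z, pow_succ y]; simp only [mul_assoc]

theorem dvd_choose_two {p k : ℕ} (hp : p.Prime) (hk : 1 ≤ k) (h : p ≠ 2 ∨ 2 ≤ k) :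
    p ∣ (p ^ k).choose 2 := by
  rw [Nat.choose_two_right]
  by_cases hp2 : p = 2
  · subst hp2
    have hk2 : 2 ≤ k := by
      rcases h with h | h
      · exact absurd rfl h
      · exact h
    obtain ⟨k', rfl⟩ : ∃ k', k = k' + 2 := ⟨k - 2, by omega⟩
    have : 2 ^ (k' + 2) * (2 ^ (k' + 2) - 1) / 2 = 2 ^ (k' + 1) * (2 ^ (k' + 2) - 1) := by
      have : 2 ^ (k' + 2) * (2 ^ (k' + 2) - 1) = 2 * (2 ^ (k' + 1) * (2 ^ (k' + 2) - 1)) := by
        rw [pow_succ 2 (k' + 1)]; ring
      rw [this, Nat.mul_div_cancel_left _ two_pos]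
    rw [this]
    exact Dvd.dvd.mul_right (dvd_pow_self 2 (by omega)) _
  · have hodd : Odd (p ^ k) := (hp.odd_of_ne_two hp2).pow
    obtain ⟨m, hm⟩ := hodd
    have h1 : p ^ k - 1 = 2 * m := by omega
    have : p ^ k * (p ^ k - 1) / 2 = p ^ k * m := by
      rw [h1]
      have : p ^ k * (2 * m) = 2 * (p ^ k * m) := by ring
      rw [this, Nat.mul_div_cancel_left _ two_pos]
    rw [this]
    exact Dvd.dvd.mul_right (dvd_pow_self p (by omega)) _

variable [Finite G]

theorem exists_pow_of_pow_prime_eq_one {p a : ℕ} (hp : p.Prime) {x t : G} (hx : orderOf x = p ^ a)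
    (ha : 1 ≤ a) (ht : t ∈ zpowers x) (htp : t ^ p = 1) : ∃ i : ℕ, t = x ^ (p ^ (a - 1) * i) := by
  obtain ⟨k, rfl⟩ := (Submonoid.mem_powers_iff _ _).mp (mem_powers_iff_mem_zpowers.mpr ht)
  rw [← pow_mul] at htp
  have h1 : p ^ a ∣ k * p := by rw [← hx]; exact orderOf_dvd_of_pow_eq_one htp
  obtain ⟨a', rfl⟩ : ∃ a', a = a' + 1 := ⟨a - 1, by omega⟩
  rw [pow_succ] at h1
  have h2 : p ^ a' ∣ k := Nat.dvd_of_mul_dvd_mul_right hp.pos h1
  obtain ⟨i, rfl⟩ := h2
  exact ⟨i, by simp⟩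

theorem key_aux (hD : ∀ u v : G, v * u * v⁻¹ ∈ zpowers u) (x y : G) (hxy : x * y ≠ y * x)
    (hmin : ∀ u v : G, u * v ≠ v * u → orderOf x + orderOf y ≤ orderOf u + orderOf v)
    (hle : orderOf y ≤ orderOf x) :
    orderOf x = 4 ∧ y ^ 2 = x ^ 2 ∧ y * x * y⁻¹ = x⁻¹ := by
  classical
  set c := x * y * x⁻¹ * y⁻¹ with hc
  have hxy' : x * y = c * y * x := by rw [hc]; group
  have hc1 : c ≠ 1 := by
    intro h
    apply hxy
    rw [hxy', h, one_mul]
  have hcx : c ∈ zpowers x := by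
    have h1 : y * x * y⁻¹ ∈ zpowers x := hD x y
    have : c = x * (y * x * y⁻¹)⁻¹ := by rw [hc]; group
    rw [this]
    exact mul_mem (mem_zpowers x) (inv_mem h1)
  have hcy : c ∈ zpowers y := by
    have h1 : x * y * x⁻¹ ∈ zpowers y := hD y x
    exact mul_mem h1 (inv_mem (mem_zpowers y))
  have hcomx : Commute c x := by
    obtain ⟨i, hi⟩ := mem_zpowers_iff.mp hcx
    rw [← hi]
    exact (Commute.refl x).zpow_left i
  have hcomy : Commute c y := by
    obtain ⟨i, hi⟩ := mem_zpowers_iff.mp hcy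
    rw [← hi]
    exact (Commute.refl y).zpow_left i
  have hyx' : y * x = c⁻¹ * x * y := by
    calc y * x = c⁻¹ * (c * y * x) := by group
      _ = c⁻¹ * (x * y) := by rw [← hxy']
      _ = c⁻¹ * x * y := by group
  have hpowx : ∀ j : ℕ, x ^ j * y = c ^ j * y * x ^ j :=
    fun j => pow_mul_comm_of_central hxy' hcomx j
  have hpowy : ∀ j : ℕ, y ^ j * x = (c⁻¹) ^ j * x * y ^ j :=
    fun j => pow_mul_comm_of_central hyx' hcomy.inv_left j
  have hqx : ∀ q : ℕ, q.Prime → q ∣ orderOf x → c ^ q = 1 := by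
    intro q hq hqx
    have hlt : orderOf (x ^ q) < orderOf x := by
      rw [orderOf_pow_of_dvd hq.ne_zero hqx]
      exact Nat.div_lt_self (orderOf_pos x) hq.one_lt
    have hcomm : x ^ q * y = y * x ^ q := by
      by_contra h
      have := hmin (x ^ q) y h
      omega
    have h1 := hpowx q
    rw [hcomm] at h1
    have h2 : c ^ q * (y * x ^ q) = 1 * (y * x ^ q) := by
      rw [one_mul, ← mul_assoc]; exact h1.symm
    exact mul_right_cancel h2
  have hqy : ∀ q : ℕ, q.Prime → q ∣ orderOf y → c ^ q = 1 := by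
    intro q hq hqy
    have hlt : orderOf (y ^ q) < orderOf y := by
      rw [orderOf_pow_of_dvd hq.ne_zero hqy]
      exact Nat.div_lt_self (orderOf_pos y) hq.one_lt
    have hcomm : y ^ q * x = x * y ^ q := by
      by_contra h
      have := hmin x (y ^ q) (fun h' => h h'.symm)
      omega
    have h1 := hpowy q
    rw [hcomm] at h1
    have h2 : (c⁻¹) ^ q * (x * y ^ q) = 1 * (x * y ^ q) := by
      rw [one_mul, ← mul_assoc]; exact h1.symm
    have h3 := mul_right_cancel h2
    rw [inv_pow, inv_eq_one] at h3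
    exact h3
  have hx1 : orderOf x ≠ 1 := by
    intro h; rw [orderOf_eq_one_iff] at h; apply hxy; rw [h]; simp
  have hy1 : orderOf y ≠ 1 := by
    intro h; rw [orderOf_eq_one_iff] at h; apply hxy; rw [h]; simp
  obtain ⟨p, hp, hpx⟩ := Nat.exists_prime_and_dvd hx1
  have hcp : c ^ p = 1 := hqx p hp hpx
  have hop : orderOf c = p := by
    have := orderOf_dvd_of_pow_eq_one hcp
    rcases (Nat.dvd_prime hp).mp this with h | h
    · exact absurd (orderOf_eq_one_iff.mp h) hc1
    · exact h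
  have hprime_x : ∀ q : ℕ, q.Prime → q ∣ orderOf x → q = p := by
    intro q hq hqd
    have h1 := orderOf_dvd_of_pow_eq_one (hqx q hq hqd)
    rw [hop] at h1
    exact ((Nat.prime_dvd_prime_iff_eq hp hq).mp h1).symm
  have hprime_y : ∀ q : ℕ, q.Prime → q ∣ orderOf y → q = p := by
    intro q hq hqd
    have h1 := orderOf_dvd_of_pow_eq_one (hqy q hq hqd)
    rw [hop] at h1
    exact ((Nat.prime_dvd_prime_iff_eq hp hq).mp h1).symm
  obtain ⟨a, ha⟩ : ∃ a, orderOf x = p ^ a :=
    ⟨_, Nat.eq_prime_pow_of_unique_prime_dvd (orderOf_pos x).ne'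
      (fun {d} hd hdd => hprime_x d hd hdd)⟩
  obtain ⟨b, hb⟩ : ∃ b, orderOf y = p ^ b :=
    ⟨_, Nat.eq_prime_pow_of_unique_prime_dvd (orderOf_pos y).ne'
      (fun {d} hd hdd => hprime_y d hd hdd)⟩
  have ha1 : 1 ≤ a := by
    rcases Nat.eq_zero_or_pos a with h | h
    · rw [h, pow_zero] at ha; exact absurd ha hx1
    · exact h
  have hb1 : 1 ≤ b := by
    rcases Nat.eq_zero_or_pos b with h | h
    · rw [h, pow_zero] at hb; exact absurd hb hy1
    · exact h
  have hba : b ≤ a := by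
    rw [ha, hb] at hle
    exact (Nat.pow_le_pow_iff_right hp.one_lt).mp hle
  obtain ⟨a', rfl⟩ : ∃ a', a = a' + 1 := ⟨a - 1, by omega⟩
  obtain ⟨b', rfl⟩ : ∃ b', b = b' + 1 := ⟨b - 1, by omega⟩
  have hb'a' : b' ≤ a' := by omega
  set w := y ^ (p ^ b') with hw
  have hwp : w ^ p = 1 := by
    rw [hw, ← pow_mul, ← pow_succ, ← hb, pow_orderOf_eq_one]
  have hw1 : w ≠ 1 := by
    intro h
    have h1 : orderOf y ∣ p ^ b' := orderOf_dvd_of_pow_eq_one h
    rw [hb] at h1
    have h2 := Nat.le_of_dvd (pow_pos hp.pos _) h1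
    have h3 : p ^ b' < p ^ (b' + 1) := Nat.pow_lt_pow_right hp.one_lt (Nat.lt_add_one b')
    omega
  have how : orderOf w = p := by
    have := orderOf_dvd_of_pow_eq_one hwp
    rcases (Nat.dvd_prime hp).mp this with h | h
    · exact absurd (orderOf_eq_one_iff.mp h) hw1
    · exact h
  have hcw : c ∈ zpowers w := by
    obtain ⟨i, hi⟩ := exists_pow_of_pow_prime_eq_one hp hb (by omega) hcy hcp
    rw [hi, Nat.add_sub_cancel, pow_mul]
    exact pow_mem (mem_zpowers w) i
  have hzc : zpowers c = zpowers w :=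
    Subgroup.eq_of_le_of_card_ge (zpowers_le.mpr hcw)
      (by rw [Nat.card_zpowers, Nat.card_zpowers, how, hop])
  have hwx : w ∈ zpowers x := by
    have h1 : w ∈ zpowers c := by rw [hzc]; exact mem_zpowers w
    exact zpowers_le.mpr hcx h1
  have hwinv : w⁻¹ ∈ zpowers x := inv_mem hwx
  have hwinvp : (w⁻¹) ^ p = 1 := by rw [inv_pow, hwp, inv_one]
  obtain ⟨i, hi⟩ := exists_pow_of_pow_prime_eq_one hp ha (by omega) hwinv hwinvp
  rw [Nat.add_sub_cancel] at hi
  set j := p ^ (a' - b') * i with hj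
  set z := x ^ j with hz
  have hzpow : z ^ (p ^ b') = w⁻¹ := by
    rw [hz, ← pow_mul, hj, hi]
    congr 1
    have : p ^ a' = p ^ (a' - b') * p ^ b' := by
      rw [← pow_add, Nat.sub_add_cancel hb'a']
    rw [this]; ring
  set d := (c ^ j)⁻¹ with hd
  have hzy : y * z = d * z * y := by
    have h1 := hpowx j
    calc y * z = (c ^ j)⁻¹ * (c ^ j * y * x ^ j) := by rw [hz]; group
      _ = (c ^ j)⁻¹ * (x ^ j * y) := by rw [← h1]
      _ = d * z * y := by rw [hd, hz]; group
  have hdy : Commute d y := (hcomy.pow_left j).inv_left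
  have hdz : Commute d z := ((hcomx.pow_left j).pow_right j).inv_left
  have hform := mul_pow_of_central hzy hdy hdz (p ^ b')
  rw [hzpow, ← hw, mul_assoc, inv_mul_cancel, mul_one] at hform
  have hy1ne : x * (z * y) ≠ (z * y) * x := by
    intro h
    apply hxy
    have hxz : x * z = z * x := ((Commute.refl x).pow_right j).eq
    have : z * (x * y) = z * (y * x) := by
      rw [← mul_assoc, ← hxz, mul_assoc, h, mul_assoc]
    exact mul_left_cancel this
  have hmin' := hmin x (z * y) hy1ne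
  have hne : d ^ ((p ^ b').choose 2) ≠ 1 := by
    intro h
    rw [h] at hform
    have h1 : orderOf (z * y) ∣ p ^ b' := orderOf_dvd_of_pow_eq_one hform
    have h2 := Nat.le_of_dvd (pow_pos hp.pos _) h1
    have h3 : p ^ b' < p ^ (b' + 1) := Nat.pow_lt_pow_right hp.one_lt (Nat.lt_add_one b')
    rw [hb] at hmin'
    omega
  have hndvd : ¬ p ∣ j * (p ^ b').choose 2 := by
    rintro ⟨k, hk⟩
    apply hne
    rw [hd, inv_pow, ← pow_mul, hk, pow_mul, hcp, one_pow, inv_one]
  have hpj : ¬ p ∣ j := fun h => hndvd (Dvd.dvd.mul_right h _)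
  have hpC : ¬ p ∣ (p ^ b').choose 2 := fun h => hndvd (Dvd.dvd.mul_left h _)
  have hab : a' = b' := by
    by_contra h
    apply hpj
    rw [hj]
    exact Dvd.dvd.mul_right (dvd_pow_self p (by omega)) _
  have hb'1 : 1 ≤ b' := by
    rcases Nat.eq_zero_or_pos b' with h | h
    · exfalso; apply hpC; rw [h, pow_zero]; simp
    · exact h
  have hp2 : p = 2 := by
    by_contra h
    exact hpC (dvd_choose_two hp hb'1 (Or.inl h))
  have hb'2 : b' = 1 := by
    by_contra h
    exact hpC (dvd_choose_two hp hb'1 (Or.inr (by omega)))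
  subst hab
  subst hb'2
  subst hp2
  have hx4 : orderOf x = 4 := by rw [ha]; norm_num
  have hy4 : orderOf y = 4 := by rw [hb]; norm_num
  have hcx2 : c = x ^ 2 := by
    obtain ⟨i, hi⟩ := exists_pow_of_pow_prime_eq_one hp ha (by omega) hcx hcp
    have h1 : x ^ (2 ^ (1 + 1 - 1) * i) = x ^ ((2 * i) % 4) := by
      rw [← hx4, pow_mod_orderOf]; norm_num
    rw [h1] at hi
    have h2 : (2 * i) % 4 = 0 ∨ (2 * i) % 4 = 2 := by omega
    rcases h2 with h2 | h2
    · rw [h2, pow_zero] at hi; exact absurd hi hc1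
    · rw [h2] at hi; exact hi
  have hcy2 : c = y ^ 2 := by
    obtain ⟨i, hi⟩ := exists_pow_of_pow_prime_eq_one hp hb (by omega) hcy hcp
    have h1 : y ^ (2 ^ (1 + 1 - 1) * i) = y ^ ((2 * i) % 4) := by
      rw [← hy4, pow_mod_orderOf]; norm_num
    rw [h1] at hi
    have h2 : (2 * i) % 4 = 0 ∨ (2 * i) % 4 = 2 := by omega
    rcases h2 with h2 | h2
    · rw [h2, pow_zero] at hi; exact absurd hi hc1
    · rw [h2] at hi; exact hi
  refine ⟨hx4, by rw [← hcy2, hcx2], ?_⟩
  have h1 : y * x⁻¹ * y⁻¹ = x := by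
    calc y * x⁻¹ * y⁻¹ = x⁻¹ * (x * y * x⁻¹ * y⁻¹) := by group
      _ = x⁻¹ * x ^ 2 := by rw [← hc, hcx2]
      _ = x := by group
  calc y * x * y⁻¹ = (y * x⁻¹ * y⁻¹)⁻¹ := by group
    _ = x⁻¹ := by rw [h1]

/-- A finite non-abelian group in which every cyclic subgroup is normal contains generators of a
quaternion group of order `8`. -/
theorem exists_quaternion_gens (hD : ∀ u v : G, v * u * v⁻¹ ∈ zpowers u)
    (hna : ∃ u v : G, u * v ≠ v * u) :
    ∃ x y : G, orderOf x = 4 ∧ y ^ 2 = x ^ 2 ∧ y * x * y⁻¹ = x⁻¹ := by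
  classical
  let S : Set ℕ := {n | ∃ u v : G, u * v ≠ v * u ∧ orderOf u + orderOf v = n}
  have hS : S.Nonempty := by
    obtain ⟨u, v, h⟩ := hna
    exact ⟨_, u, v, h, rfl⟩
  obtain ⟨x, y, hxy, hsum⟩ := Nat.sInf_mem hS
  have hmin : ∀ u v : G, u * v ≠ v * u → orderOf x + orderOf y ≤ orderOf u + orderOf v := by
    intro u v huv
    rw [hsum]
    exact Nat.sInf_le ⟨u, v, huv, rfl⟩
  rcases le_total (orderOf y) (orderOf x) with hle | hle
  · exact ⟨x, y, key_aux hD x y hxy hmin hle⟩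
  · refine ⟨y, x, key_aux hD y x (fun h => hxy h.symm) ?_ hle⟩
    intro u v huv
    have := hmin u v huv
    omega

end Cfsg.Agent.Lib.Lead.Dedekind
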