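import Mathlib
import Cfsg.Agent.S0598
import Cfsg.Agent.Lib.Lead.ThompsonRepl
import Cfsg.Agent.Lib.Lead.UniqueOrderP
import Cfsg.Agent.Lib.Lead.GlaubermanRepl

/-! Glauberman's replacement theorem, core form, and the elementary abelian version. -/

set_option autoImplicit false

namespace Cfsg.Agent.Lib.Lead.GlaubermanReplE

open Subgroup
open scoped commutatorElement
open Cfsg.Agent.Lib.Lead.UniqueOrderP
open Cfsg.Agent.Lib.Lead.GlaubermanRepl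

variable {G : Type*} [Group G]

section core

variable [Finite G] {p : ℕ} [hp : Fact p.Prime]

theorem replacement_core (hp2 : p ≠ 2) {S A B : Subgroup G} (hS : IsPGroup p S)
    (hAS : A ≤ S) (hAc : ∀ a ∈ A, ∀ b ∈ A, a * b = b * a) (hBS : B ≤ S) (hZA : ⁅B, B⁆ ≤ A)
    (hZc : ∀ z ∈ ⁅B, B⁆, ∀ b ∈ B, z * b = b * z)
    (hAB : ∀ a ∈ A, ∀ b ∈ B, a * b * a⁻¹ ∈ B)
    (x : G) (hxB : x ∈ B) (hxN : x ∉ normalizer (A : Set G))
    (hxA : ∀ a ∈ A, ⁅a, x⁆ ∈ normalizer (A : Set G)) :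
    ∃ M₀ C : Subgroup G, M₀ ≤ B ∧ C ≤ A ∧ (∀ u ∈ M₀ ⊔ C, ∀ v ∈ M₀ ⊔ C, u * v = v * u) ∧
      Nat.card A ≤ Nat.card (M₀ ⊔ C : Subgroup G) ∧ A ⊓ B < (M₀ ⊔ C) ⊓ B ∧
      M₀ ⊔ C ≤ normalizer (A : Set G) := by
  classical
  have hBB : ⁅B, B⁆ ≤ B := by
    rw [commutator_le]
    intro g₁ h₁ g₂ h₂
    exact mul_mem (mul_mem (mul_mem h₁ h₂) (inv_mem h₁)) (inv_mem h₂)
  have hyB : ∀ a ∈ A, ⁅a, x⁆ ∈ B := by
    intro a ha
    have : ⁅a, x⁆ = (a * x * a⁻¹) * x⁻¹ := by simp only [commutatorElement_def]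
    rw [this]
    exact mul_mem (hAB a ha x hxB) (inv_mem hxB)
  have hconj : ∀ a u : G, a * u * a⁻¹ = ⁅a, u⁆ * u := by
    intro a u
    simp only [commutatorElement_def]; group
  have hNA : ∀ n ∈ normalizer (A : Set G), ∀ a ∈ A, ⁅a, n⁆ ∈ A := by
    intro n hn a ha
    have h1 : n * a⁻¹ * n⁻¹ ∈ A := (mem_normalizer_iff.mp hn a⁻¹).mp (inv_mem ha)
    have : ⁅a, n⁆ = a * (n * a⁻¹ * n⁻¹) := by simp only [commutatorElement_def]; group
    rw [this]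
    exact mul_mem ha h1
  have hcommB : ∀ a ∈ A, ∀ u ∈ B, ⁅a, u⁆ ∈ B := by
    intro a ha u hu
    have : ⁅a, u⁆ = (a * u * a⁻¹) * u⁻¹ := by simp only [commutatorElement_def]
    rw [this]
    exact mul_mem (hAB a ha u hu) (inv_mem hu)
  have hBnA : ∀ b ∈ B, ∀ w ∈ A, w ∈ B → b * w * b⁻¹ ∈ A := by
    intro b hb w hwA hwB
    rw [hconj]
    exact mul_mem (hZA (commutator_mem_commutator hb hwB)) hwA
  -- (c)
  have hc : ∀ a ∈ A, ∀ w ∈ A, w ∈ B → ⁅a, x⁆ * w = w * ⁅a, x⁆ := by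
    intro a ha w hwA hwB
    have hw' : x⁻¹ * w * x ∈ A := by simpa using hBnA x⁻¹ (inv_mem hxB) w hwA hwB
    have h1 : a⁻¹ * (x⁻¹ * w * x) * a = x⁻¹ * w * x := by
      rw [mul_assoc, ← hAc a ha _ hw', ← mul_assoc, inv_mul_cancel, one_mul]
    have : ⁅a, x⁆ * w * ⁅a, x⁆⁻¹ = w := by
      calc ⁅a, x⁆ * w * ⁅a, x⁆⁻¹ = a * x * (a⁻¹ * (x⁻¹ * w * x) * a) * x⁻¹ * a⁻¹ := by
            simp only [commutatorElement_def]; group
        _ = a * x * (x⁻¹ * w * x) * x⁻¹ * a⁻¹ := by rw [h1]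
        _ = a * w * a⁻¹ := by group
        _ = w := by rw [hAc a ha w hwA, mul_inv_cancel_right]
    exact mul_inv_eq_iff_eq_mul.mp this
  have hinv2 : ∀ z ∈ S, z ^ 2 = 1 → z = 1 := by
    intro z hz h2
    obtain ⟨k, hk⟩ := (IsPGroup.iff_orderOf.mp hS) ⟨z, hz⟩
    rw [Subgroup.orderOf_mk] at hk
    have h1 : orderOf z ∣ 2 := orderOf_dvd_of_pow_eq_one h2
    rw [hk] at h1
    rcases Nat.eq_zero_or_pos k with h0 | h0
    · rw [h0, pow_zero] at hk; exact orderOf_eq_one_iff.mp hk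
    · exfalso
      have : p ∣ 2 := (dvd_pow_self p h0.ne').trans h1
      exact hp2 ((Nat.prime_dvd_prime_iff_eq hp.out Nat.prime_two).mp this)
  have hconjinv : ∀ a ∈ A, ∀ u ∈ B, ∀ v ∈ B, ⁅a * u * a⁻¹, a * v * a⁻¹⁆ = ⁅u, v⁆ := by
    intro a ha u hu v hv
    have h1 : ⁅a * u * a⁻¹, a * v * a⁻¹⁆ = a * ⁅u, v⁆ * a⁻¹ := by
      simp only [commutatorElement_def]; group
    have h2 : ⁅u, v⁆ ∈ A := hZA (commutator_mem_commutator hu hv)
    rw [h1, hAc a ha _ h2, mul_inv_cancel_right]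
  -- the relation between the two second commutators
  have hrel : ∀ a ∈ A, ∀ a' ∈ A, ⁅a', ⁅a, x⁆⁆ = ⁅a, ⁅a', x⁆⁆ * ⁅⁅a', x⁆, ⁅a, x⁆⁆ := by
    intro a ha a' ha'
    have h1 : a * (a' * x * a'⁻¹) * a⁻¹ = a' * (a * x * a⁻¹) * a'⁻¹ := by
      have : a * (a' * x * a'⁻¹) * a⁻¹ = (a * a') * x * (a * a')⁻¹ := by group
      rw [this, hAc a ha a' ha']; group
    rw [hconj a' x, hconj a x] at h1
    have h2 : a * (⁅a', x⁆ * x) * a⁻¹ = (a * ⁅a', x⁆ * a⁻¹) * (a * x * a⁻¹) := by group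
    have h3 : a' * (⁅a, x⁆ * x) * a'⁻¹ = (a' * ⁅a, x⁆ * a'⁻¹) * (a' * x * a'⁻¹) := by group
    rw [h2, h3, hconj a ⁅a', x⁆, hconj a x, hconj a' ⁅a, x⁆, hconj a' x] at h1
    -- h1 : ⁅a, y'⁆ * y' * (y * x) = ⁅a', y⁆ * y * (y' * x)
    have h4 : ⁅a, ⁅a', x⁆⁆ * ⁅a', x⁆ * ⁅a, x⁆ = ⁅a', ⁅a, x⁆⁆ * ⁅a, x⁆ * ⁅a', x⁆ := by
      have := congrArg (fun t => t * x⁻¹) h1
      simpa [mul_assoc] using this
    have h5 : ⁅a', ⁅a, x⁆⁆ = ⁅a, ⁅a', x⁆⁆ * ⁅a', x⁆ * ⁅a, x⁆ * (⁅a, x⁆ * ⁅a', x⁆)⁻¹ := by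
      rw [h4]; group
    rw [h5]
    simp only [commutatorElement_def]; group
  -- (d)
  have hd : ∀ a ∈ A, ∀ a' ∈ A, ⁅a, x⁆ * ⁅a', x⁆ = ⁅a', x⁆ * ⁅a, x⁆ := by
    intro a ha a' ha'
    have hy := hyB a ha
    have hy' := hyB a' ha'
    have hwA : ⁅a, ⁅a', x⁆⁆ ∈ A := hNA _ (hxA a' ha') a ha
    have hwB : ⁅a, ⁅a', x⁆⁆ ∈ B := hcommB a ha _ hy'
    have hw'A : ⁅a', ⁅a, x⁆⁆ ∈ A := hNA _ (hxA a ha) a' ha'
    have hw'B : ⁅a', ⁅a, x⁆⁆ ∈ B := hcommB a' ha' _ hy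
    -- (1)
    have e1 : ⁅⁅a, x⁆, ⁅a', x⁆⁆ * ⁅x, ⁅a, ⁅a', x⁆⁆⁆ = 1 := by
      have h1 := hconjinv a ha x hxB ⁅a', x⁆ hy'
      rw [hconj a x, hconj a ⁅a', x⁆, comm_mul_left hZc hy hxB (mul_mem hwB hy'),
        comm_mul_right hZc hy hwB hy', comm_mul_right hZc hxB hwB hy'] at h1
      have h2 : ⁅⁅a, x⁆, ⁅a, ⁅a', x⁆⁆⁆ = 1 :=
        commutatorElement_eq_one_iff_commute.mpr (hc a ha _ hwA hwB)
      rw [h2, one_mul, ← mul_assoc] at h1
      exact mul_right_cancel (h1.trans (one_mul _).symm)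
    -- (2)
    have e2 : ⁅⁅a', x⁆, ⁅a, x⁆⁆ * ⁅x, ⁅a', ⁅a, x⁆⁆⁆ = 1 := by
      have h1 := hconjinv a' ha' x hxB ⁅a, x⁆ hy
      rw [hconj a' x, hconj a' ⁅a, x⁆, comm_mul_left hZc hy' hxB (mul_mem hw'B hy),
        comm_mul_right hZc hy' hw'B hy, comm_mul_right hZc hxB hw'B hy] at h1
      have h2 : ⁅⁅a', x⁆, ⁅a', ⁅a, x⁆⁆⁆ = 1 :=
        commutatorElement_eq_one_iff_commute.mpr (hc a' ha' _ hw'A hw'B)
      rw [h2, one_mul, ← mul_assoc] at h1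
      exact mul_right_cancel (h1.trans (one_mul _).symm)
    -- ⁅x, w'⁆ = ⁅x, w⁆
    have e3 : ⁅x, ⁅a', ⁅a, x⁆⁆⁆ = ⁅x, ⁅a, ⁅a', x⁆⁆⁆ := by
      have hq : ⁅⁅a', x⁆, ⁅a, x⁆⁆ ∈ ⁅B, B⁆ := commutator_mem_commutator hy' hy
      rw [hrel a ha a' ha', comm_mul_right hZc hxB hwB (hBB hq)]
      have : ⁅x, ⁅⁅a', x⁆, ⁅a, x⁆⁆⁆ = 1 :=
        commutatorElement_eq_one_iff_commute.mpr (hZc _ hq x hxB).symm
      rw [this, mul_one]
    rw [e3] at e2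
    have e4 : ⁅⁅a', x⁆, ⁅a, x⁆⁆ = ⁅⁅a, x⁆, ⁅a', x⁆⁆ := mul_right_cancel (e2.trans e1.symm)
    have e5 : ⁅⁅a, x⁆, ⁅a', x⁆⁆ ^ 2 = 1 := by
      rw [pow_two]
      nth_rewrite 1 [← e4]
      rw [← commutatorElement_inv ⁅a, x⁆ ⁅a', x⁆]
      exact inv_mul_cancel _
    have e6 : ⁅⁅a, x⁆, ⁅a', x⁆⁆ = 1 :=
      hinv2 _ (hBS (hBB (commutator_mem_commutator hy hy'))) e5
    exact commutatorElement_eq_one_iff_commute.mp e6
  -- the subgroup M₀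
  set gens : Set G := {g | ∃ a ∈ A, g = ⁅a, x⁆} with hgens
  set M₀ : Subgroup G := closure gens with hM₀
  have hM₀B : M₀ ≤ B := by
    rw [hM₀, closure_le]
    rintro g ⟨a, ha, rfl⟩
    exact hyB a ha
  have hM₀N : M₀ ≤ normalizer (A : Set G) := by
    rw [hM₀, closure_le]
    rintro g ⟨a, ha, rfl⟩
    exact hxA a ha
  have hM₀c : ∀ u ∈ M₀, ∀ v ∈ M₀, u * v = v * u := by
    apply closure_comm_of_comm
    rintro u ⟨a, ha, rfl⟩ v ⟨a', ha', rfl⟩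
    exact hd a ha a' ha'
  have hgenM : ∀ a ∈ A, ⁅a, x⁆ ∈ M₀ := fun a ha => subset_closure ⟨a, ha, rfl⟩
  -- centralizing criterion
  have hcent : ∀ g : G, (∀ a ∈ A, g * ⁅a, x⁆ = ⁅a, x⁆ * g) → g ∈ centralizer (M₀ : Set G) := by
    intro g hg
    have h1 : M₀ ≤ centralizer ({g} : Set G) := by
      rw [hM₀, closure_le]
      rintro u ⟨a, ha, rfl⟩
      rw [SetLike.mem_coe, mem_centralizer_iff]
      intro t ht
      rw [Set.mem_singleton_iff.mp ht]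
      exact hg a ha
    rw [mem_centralizer_iff]
    intro m hm
    have := h1 hm
    rw [mem_centralizer_iff] at this
    exact (this g rfl).symm
  set C : Subgroup G := A ⊓ centralizer (M₀ : Set G) with hC
  have hCA : C ≤ A := inf_le_left
  have hCM : ∀ c ∈ C, ∀ m ∈ M₀, m * c = c * m := by
    intro c hc' m hm
    have := (Subgroup.mem_inf.mp hc').2
    rw [mem_centralizer_iff] at this
    exact this m hm
  -- A ⊓ B ≤ C
  have hABC : A ⊓ B ≤ C := by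
    intro w hw
    obtain ⟨hwA, hwB⟩ := Subgroup.mem_inf.mp hw
    refine Subgroup.mem_inf.mpr ⟨hwA, hcent w (fun a ha => (hc a ha w hwA hwB).symm)⟩
  -- the conjugate of A
  set A' : Subgroup G := A.map (MulAut.conj x).toMonoidHom with hA'
  have hA'mem : ∀ b, b ∈ A' ↔ ∃ a ∈ A, x * a * x⁻¹ = b := by
    intro b
    rw [hA', Subgroup.mem_map]
    simp [MulAut.conj_apply]
  have hxax : ∀ a : G, x * a * x⁻¹ = ⁅a, x⁆⁻¹ * a := by
    intro a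
    simp only [commutatorElement_def]; group
  have hA'le : A' ≤ M₀ ⊔ A := by
    intro b hb
    obtain ⟨a, ha, rfl⟩ := (hA'mem b).mp hb
    rw [hxax]
    exact mul_mem (le_sup_left (a := M₀) (inv_mem (hgenM a ha))) (le_sup_right (a := M₀) ha)
  have hAA'C : A ⊓ A' ≤ C := by
    intro b hb
    obtain ⟨hbA, hbA'⟩ := Subgroup.mem_inf.mp hb
    obtain ⟨a, ha, hab⟩ := (hA'mem b).mp hbA'
    refine Subgroup.mem_inf.mpr ⟨hbA, ?_⟩
    -- y_a ∈ A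
    have hyA : ⁅a, x⁆ ∈ A := by
      have h1 : ⁅a, x⁆ = a * b⁻¹ := by
        rw [← hab]; simp only [commutatorElement_def]; group
      rw [h1]; exact mul_mem ha (inv_mem hbA)
    -- a centralizes M₀
    have haM : a ∈ centralizer (M₀ : Set G) := by
      apply hcent
      intro a' ha'
      have h1 := hrel a ha a' ha'
      have h2 : ⁅a', ⁅a, x⁆⁆ = 1 := commutatorElement_eq_one_iff_commute.mpr (hAc a' ha' _ hyA)
      have h3 : ⁅⁅a', x⁆, ⁅a, x⁆⁆ = 1 :=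
        commutatorElement_eq_one_iff_commute.mpr (hd a' ha' a ha)
      rw [h2, h3, mul_one] at h1
      exact commutatorElement_eq_one_iff_commute.mp h1.symm
    have hyM : ⁅a, x⁆⁻¹ ∈ centralizer (M₀ : Set G) := by
      apply inv_mem
      apply hcent
      intro a' ha'
      exact hd a ha a' ha'
    rw [← hab, hxax]
    exact mul_mem hyM haM
  -- counting
  have hcardA' : Nat.card A' = Nat.card A :=
    Subgroup.card_map_of_injective (MulAut.conj x).injective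
  have c1 := Cfsg.Agent.S0598.card_mul_card_le A A'
  have c2 : Nat.card (A ⊔ A' : Subgroup G) ≤ Nat.card (M₀ ⊔ A : Subgroup G) :=
    Subgroup.card_le_of_le (sup_le le_sup_right hA'le)
  have c3 := card_sup_mul_card_inf M₀ A hM₀N
  have c4 : Nat.card (A ⊓ A' : Subgroup G) ≤ Nat.card C := Subgroup.card_le_of_le hAA'C
  have c5 := Cfsg.Agent.S0598.card_mul_card_le M₀ C
  have hMC : M₀ ⊓ C = M₀ ⊓ A := by
    apply le_antisymm
    · exact inf_le_inf_left _ hCA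
    · intro m hm
      obtain ⟨hmM, hmA⟩ := Subgroup.mem_inf.mp hm
      refine Subgroup.mem_inf.mpr ⟨hmM, Subgroup.mem_inf.mpr ⟨hmA, ?_⟩⟩
      rw [mem_centralizer_iff]
      intro m' hm'
      exact hM₀c m' hm' m hmM
  rw [hMC] at c5
  rw [hcardA'] at c1
  have hcard : Nat.card A ≤ Nat.card (M₀ ⊔ C : Subgroup G) := by
    have pA : 0 < Nat.card A := Nat.card_pos
    have pI : 0 < Nat.card (M₀ ⊓ A : Subgroup G) := Nat.card_pos
    -- |A|^2 ≤ |C| |M₀ ⊔ A|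
    have d1 : Nat.card A * Nat.card A ≤ Nat.card C * Nat.card (M₀ ⊔ A : Subgroup G) :=
      c1.trans (Nat.mul_le_mul c4 c2)
    -- multiply by |M₀ ⊓ A|
    have d2 : Nat.card A * Nat.card A * Nat.card (M₀ ⊓ A : Subgroup G)
        ≤ Nat.card C * (Nat.card M₀ * Nat.card A) := by
      calc Nat.card A * Nat.card A * Nat.card (M₀ ⊓ A : Subgroup G)
          ≤ Nat.card C * Nat.card (M₀ ⊔ A : Subgroup G) * Nat.card (M₀ ⊓ A : Subgroup G) :=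
            Nat.mul_le_mul_right _ d1
        _ = Nat.card C * (Nat.card M₀ * Nat.card A) := by rw [mul_assoc, c3]
    have d3 : Nat.card A * Nat.card (M₀ ⊓ A : Subgroup G) ≤ Nat.card M₀ * Nat.card C := by
      have : Nat.card A * (Nat.card A * Nat.card (M₀ ⊓ A : Subgroup G))
          ≤ Nat.card A * (Nat.card M₀ * Nat.card C) := by
        calc Nat.card A * (Nat.card A * Nat.card (M₀ ⊓ A : Subgroup G))
            = Nat.card A * Nat.card A * Nat.card (M₀ ⊓ A : Subgroup G) := by ring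
          _ ≤ Nat.card C * (Nat.card M₀ * Nat.card A) := d2
          _ = Nat.card A * (Nat.card M₀ * Nat.card C) := by ring
      exact Nat.le_of_mul_le_mul_left this pA
    have d4 : Nat.card (M₀ ⊓ A : Subgroup G) * Nat.card A
        ≤ Nat.card (M₀ ⊓ A : Subgroup G) * Nat.card (M₀ ⊔ C : Subgroup G) := by
      calc Nat.card (M₀ ⊓ A : Subgroup G) * Nat.card A
          = Nat.card A * Nat.card (M₀ ⊓ A : Subgroup G) := by ring
        _ ≤ Nat.card M₀ * Nat.card C := d3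
        _ ≤ Nat.card (M₀ ⊓ A : Subgroup G) * Nat.card (M₀ ⊔ C : Subgroup G) := c5
    exact Nat.le_of_mul_le_mul_left d4 pI
  -- A* = M₀ ⊔ C
  have hAstar_c : ∀ u ∈ M₀ ⊔ C, ∀ v ∈ M₀ ⊔ C, u * v = v * u :=
    comm_sup hM₀c (fun u hu v hv => hAc u (hCA hu) v (hCA hv)) (fun m hm c hc' => hCM c hc' m hm)
  refine ⟨M₀, C, hM₀B, hCA, hAstar_c, hcard, ?_, ?_⟩
  · -- strict increase
    have hle : A ⊓ B ≤ (M₀ ⊔ C) ⊓ B :=
      le_inf (hABC.trans le_sup_right) inf_le_right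
    refine lt_of_le_of_ne hle ?_
    intro heq
    apply hxN
    apply mem_normalizer_fintype
    intro a ha
    rw [SetLike.mem_coe] at ha ⊢
    have h1 : ⁅a, x⁆ ∈ (M₀ ⊔ C) ⊓ B :=
      Subgroup.mem_inf.mpr ⟨le_sup_left (a := M₀) (hgenM a ha), hyB a ha⟩
    rw [← heq] at h1
    rw [hxax]
    exact mul_mem (inv_mem (Subgroup.mem_inf.mp h1).1) ha
  · exact sup_le hM₀N (hCA.trans le_normalizer)


/-- choice of the element `x` in the replacement theorems -/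
theorem exists_x {S A B : Subgroup G} (hS : IsPGroup p S)
    (hAS : A ≤ S) (hAc : ∀ a ∈ A, ∀ b ∈ A, a * b = b * a) (hBS : B ≤ S)
    (hAB : ∀ a ∈ A, ∀ b ∈ B, a * b * a⁻¹ ∈ B)
    (hnot : ¬ B ≤ normalizer (A : Set G)) :
    ∃ x ∈ B, x ∉ normalizer (A : Set G) ∧ ∀ a ∈ A, ⁅a, x⁆ ∈ normalizer (A : Set G) := by
  classical
  let P : Subgroup G → Prop := fun Y =>
    Y ≤ B ∧ (∀ a ∈ A, ∀ y ∈ Y, a * y * a⁻¹ ∈ Y) ∧ ¬ Y ≤ normalizer (A : Set G)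
  have hPB : P B := ⟨le_rfl, hAB, hnot⟩
  obtain ⟨Y, -, hYmin⟩ := Finite.exists_le_minimal (p := P) hPB
  obtain ⟨hYB, hYinv, hYnot⟩ := hYmin.prop
  set K : Subgroup G := ⁅Y, A⁆ with hK
  have hKY : K ≤ Y := by
    rw [hK, commutator_le]
    intro y hy a ha
    have : ⁅y, a⁆ = y * (a * y⁻¹ * a⁻¹) := by simp only [commutatorElement_def]; group
    rw [this]
    exact mul_mem hy (hYinv a ha _ (inv_mem hy))
  have hKinv : ∀ a ∈ A, ∀ k ∈ K, a * k * a⁻¹ ∈ K := by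
    intro a ha k hk
    have h1 : K ≤ K.comap (MulAut.conj a).toMonoidHom := by
      rw [hK, commutator_le]
      intro y hy a' ha'
      rw [Subgroup.mem_comap]
      show (MulAut.conj a) ⁅y, a'⁆ ∈ ⁅Y, A⁆
      rw [MulAut.conj_apply]
      have h2 : a * ⁅y, a'⁆ * a⁻¹ = ⁅a * y * a⁻¹, a * a' * a⁻¹⁆ := by
        simp only [commutatorElement_def]; group
      have h3 : a * a' * a⁻¹ = a' := by rw [hAc a ha a' ha', mul_inv_cancel_right]
      rw [h2, h3]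
      exact commutator_mem_commutator (hYinv a ha y hy) ha'
    have := h1 hk
    rw [Subgroup.mem_comap] at this
    simpa [MulAut.conj_apply] using this
  have hKN : K ≤ normalizer (A : Set G) := by
    by_contra hKnot
    have hPK : P K := ⟨hKY.trans hYB, hKinv, hKnot⟩
    have hYK : Y ≤ K := hYmin.le_of_le hPK hKY
    have hAnB : A ≤ normalizer (B : Set G) := by
      intro a ha
      apply mem_normalizer_fintype
      intro b hb
      exact hAB a ha b hb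
    have := Cfsg.Agent.Lib.Lead.ThompsonRepl.eq_bot_of_le_commutator B A Y (hS.to_le hBS)
      (hS.to_le hAS) hAnB hYB hYK
    apply hYnot
    rw [this]
    exact bot_le
  obtain ⟨x, hxY, hxN⟩ := SetLike.not_le_iff_exists.mp hYnot
  refine ⟨x, hYB hxY, hxN, ?_⟩
  intro a ha
  apply hKN
  rw [← commutatorElement_inv]
  exact inv_mem (commutator_mem_commutator hxY ha)

/-- elementary abelian subgroups of maximal order inside `S` -/
def maxEIn (p : ℕ) (S : Subgroup G) : Set (Subgroup G) :=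
  {A | A ≤ S ∧ (∀ a ∈ A, ∀ b ∈ A, a * b = b * a) ∧ (∀ a ∈ A, a ^ p = 1) ∧
    ∀ B : Subgroup G, B ≤ S → (∀ a ∈ B, ∀ b ∈ B, a * b = b * a) → (∀ a ∈ B, a ^ p = 1) →
      Nat.card B ≤ Nat.card A}

omit [Finite G] hp in
theorem exp_sup {H K : Subgroup G} (hc : ∀ a ∈ H ⊔ K, ∀ b ∈ H ⊔ K, a * b = b * a)
    (hH : ∀ a ∈ H, a ^ p = 1) (hK : ∀ a ∈ K, a ^ p = 1) : ∀ a ∈ H ⊔ K, a ^ p = 1 := by
  let T : Subgroup G :=
    { carrier := {u | u ∈ H ⊔ K ∧ u ^ p = 1}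
      mul_mem' := by
        rintro a b ⟨ha, ha1⟩ ⟨hb, hb1⟩
        refine ⟨mul_mem ha hb, ?_⟩
        rw [(show Commute a b from hc a ha b hb).mul_pow, ha1, hb1, one_mul]
      one_mem' := ⟨one_mem _, one_pow _⟩
      inv_mem' := by
        rintro a ⟨ha, ha1⟩
        exact ⟨inv_mem ha, by rw [inv_pow, ha1, inv_one]⟩ }
  have h1 : H ⊔ K ≤ T :=
    sup_le (fun a ha => ⟨le_sup_left (a := H) ha, hH a ha⟩) (fun a ha => ⟨le_sup_right (a := H) ha, hK a ha⟩)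
  intro a ha
  exact (h1 ha).2

theorem mem_of_centralizesE {S A : Subgroup G} (hA : A ∈ maxEIn p S) {s : G} (hs : s ∈ S)
    (hsp : s ^ p = 1) (hc : ∀ a ∈ A, s * a = a * s) : s ∈ A := by
  obtain ⟨hAS, hAc, hAe, hAmax⟩ := hA
  have hzc : ∀ a ∈ zpowers s, ∀ b ∈ zpowers s, a * b = b * a := by
    intro a ha b hb
    obtain ⟨i, rfl⟩ := mem_zpowers_iff.mp ha
    obtain ⟨j, rfl⟩ := mem_zpowers_iff.mp hb
    exact ((Commute.refl s).zpow_zpow i j).eq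
  have hAz : ∀ a ∈ A, ∀ b ∈ zpowers s, a * b = b * a := by
    intro a ha b hb
    obtain ⟨j, rfl⟩ := mem_zpowers_iff.mp hb
    exact ((show Commute s a from hc a ha).symm.zpow_right j).eq
  have hcs := comm_sup hAc hzc hAz
  have hze : ∀ a ∈ zpowers s, a ^ p = 1 := by
    intro a ha
    obtain ⟨i, rfl⟩ := mem_zpowers_iff.mp ha
    rw [← zpow_natCast, ← zpow_mul, mul_comm, zpow_mul, zpow_natCast, hsp, one_zpow]
  have hes := exp_sup (p := p) hcs hAe hze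
  have hle : A ⊔ zpowers s ≤ S := sup_le hAS (zpowers_le.mpr hs)
  have hcard := hAmax _ hle hcs hes
  have heq : A = A ⊔ zpowers s := Subgroup.eq_of_le_of_card_ge le_sup_left hcard
  rw [heq]
  exact le_sup_right (a := A) (mem_zpowers s)

/-- **Glauberman's replacement theorem, elementary abelian version.** -/
theorem replacementE (hp2 : p ≠ 2) {S A B : Subgroup G} (hS : IsPGroup p S)
    (hA : A ∈ maxEIn p S) (hBS : B ≤ S) (hBe : ∀ b ∈ B, b ^ p = 1) (hZA : ⁅B, B⁆ ≤ A)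
    (hZc : ∀ z ∈ ⁅B, B⁆, ∀ b ∈ B, z * b = b * z)
    (hAB : ∀ a ∈ A, ∀ b ∈ B, a * b * a⁻¹ ∈ B)
    (hnot : ¬ B ≤ normalizer (A : Set G)) :
    ∃ A' ∈ maxEIn p S, A ⊓ B < A' ⊓ B ∧ A' ≤ normalizer (A : Set G) := by
  obtain ⟨hAS, hAc, hAe, hAmax⟩ := hA
  obtain ⟨x, hxB, hxN, hxA⟩ := exists_x hS hAS hAc hBS hAB hnot
  obtain ⟨M₀, C, hM₀B, hCA, hc, hcard, hlt, hN⟩ :=
    replacement_core hp2 hS hAS hAc hBS hZA hZc hAB x hxB hxN hxA
  have he := exp_sup (p := p) hc (fun a ha => hBe a (hM₀B ha)) (fun a ha => hAe a (hCA ha))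
  refine ⟨M₀ ⊔ C, ⟨sup_le (hM₀B.trans hBS) (hCA.trans hAS), hc, he, ?_⟩, hlt, hN⟩
  intro B' hB'S hB'c hB'e
  exact (hAmax B' hB'S hB'c hB'e).trans hcard

theorem maxEIn_nonempty (S : Subgroup G) : (maxEIn p S).Nonempty := by
  classical
  let α := {A : Subgroup G // A ≤ S ∧ (∀ a ∈ A, ∀ b ∈ A, a * b = b * a) ∧ ∀ a ∈ A, a ^ p = 1}
  haveI : Nonempty α := ⟨⟨⊥, bot_le, fun a ha b hb => by
    rw [mem_bot.mp ha, mem_bot.mp hb], fun a ha => by rw [mem_bot.mp ha, one_pow]⟩⟩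
  obtain ⟨A, hA⟩ := Finite.exists_max (fun A : α => Nat.card (A.1 : Subgroup G))
  exact ⟨A.1, A.2.1, A.2.2.1, A.2.2.2, fun B hBS hBc hBe => hA ⟨B, hBS, hBc, hBe⟩⟩

theorem exists_normalizedE (hp2 : p ≠ 2) {S B : Subgroup G} (hS : IsPGroup p S) (hBS : B ≤ S)
    (hBe : ∀ b ∈ B, b ^ p = 1)
    (hSB : ∀ s ∈ S, ∀ b ∈ B, s * b * s⁻¹ ∈ B)
    (hZA : ∀ A ∈ maxEIn p S, ⁅B, B⁆ ≤ A)
    (hZc : ∀ z ∈ ⁅B, B⁆, ∀ b ∈ B, z * b = b * z) :
    ∃ A ∈ maxEIn p S, B ≤ normalizer (A : Set G) := by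
  classical
  let α := {A : Subgroup G // A ∈ maxEIn p S}
  haveI : Nonempty α := by
    obtain ⟨A, hA⟩ := maxEIn_nonempty (p := p) S
    exact ⟨⟨A, hA⟩⟩
  obtain ⟨A, hA⟩ := Finite.exists_max (fun A : α => Nat.card (A.1 ⊓ B : Subgroup G))
  refine ⟨A.1, A.2, ?_⟩
  by_contra hnot
  obtain ⟨A', hA', hlt, -⟩ := replacementE hp2 hS A.2 hBS hBe (hZA _ A.2) hZc
    (fun a ha b hb => hSB a (A.2.1 ha) b hb) hnot
  have h1 := hA ⟨A', hA'⟩
  have h2 : (A.1 ⊓ B : Subgroup G) = A' ⊓ B := Subgroup.eq_of_le_of_card_ge hlt.le h1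
  exact hlt.ne h2

end core

end Cfsg.Agent.Lib.Lead.GlaubermanReplE
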