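import Mathlib
import Cfsg.Prelude.Def_PLocal
import Cfsg.Prelude.Def_Transfer
import Cfsg.Agent.Lib.Helper16.PCore
import Cfsg.Agent.Lib.Helper17.ThompsonOf
import Cfsg.Agent.Lib.Lead.Dedekind
import Cfsg.Agent.Lib.Lead.GlaubermanReplE
import Cfsg.Agent.Lib.Lead.GlaubermanZJ

/-! Glauberman's ZJ-theorem, elementary abelian version: `Ω₁(Z(J_e(S)))` is characteristic. -/

set_option autoImplicit false

namespace Cfsg.Agent.Lib.Lead.GlaubermanZJE

open Subgroup
open scoped commutatorElement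
open Cfsg.Agent.Lib.Lead.GlaubermanRepl Cfsg.Agent.Lib.Lead.GlaubermanReplE
open Cfsg.Agent.Lib.Lead.GlaubermanZJ Cfsg.Agent.Lib.Helper16

variable {G : Type*} [Group G]

/-- `J_e(S)` -/
def JE (p : ℕ) (S : Subgroup G) : Subgroup G := sSup (maxEIn p S)

/-- the elements of `Z(J_e(S))` of order dividing `p` -/
def WE (p : ℕ) (S : Subgroup G) : Subgroup G where
  carrier := {z | z ∈ JE p S ⊓ centralizer (JE p S : Set G) ∧ z ^ p = 1}
  one_mem' := ⟨one_mem _, one_pow _⟩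
  mul_mem' := by
    rintro a b ⟨ha, ha1⟩ ⟨hb, hb1⟩
    refine ⟨mul_mem ha hb, ?_⟩
    have hc : Commute a b := by
      have := (Subgroup.mem_inf.mp hb).2
      rw [mem_centralizer_iff] at this
      exact this a (Subgroup.mem_inf.mp ha).1
    rw [hc.mul_pow, ha1, hb1, one_mul]
  inv_mem' := by
    rintro a ⟨ha, ha1⟩
    exact ⟨inv_mem ha, by rw [inv_pow, ha1, inv_one]⟩

theorem mem_WE {p : ℕ} {S : Subgroup G} {z : G} :
    z ∈ WE p S ↔ z ∈ JE p S ⊓ centralizer (JE p S : Set G) ∧ z ^ p = 1 := Iff.rfl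

theorem le_JE {p : ℕ} {S A : Subgroup G} (hA : A ∈ maxEIn p S) : A ≤ JE p S := le_sSup hA

theorem JE_le (p : ℕ) (S : Subgroup G) : JE p S ≤ S := sSup_le (fun _ hA => hA.1)

theorem WE_le_of_mem [Finite G] {p : ℕ} [Fact p.Prime] {S A : Subgroup G} (hA : A ∈ maxEIn p S) :
    WE p S ≤ A := by
  intro z hz
  obtain ⟨hz1, hzp⟩ := mem_WE.mp hz
  obtain ⟨hzJ, hzC⟩ := Subgroup.mem_inf.mp hz1
  apply mem_of_centralizesE hA (JE_le p S hzJ) hzp
  intro a ha
  rw [mem_centralizer_iff] at hzC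
  exact (hzC a (le_JE hA ha)).symm

theorem WE_comm [Finite G] {p : ℕ} [Fact p.Prime] (S : Subgroup G) :
    ∀ a ∈ WE p S, ∀ b ∈ WE p S, a * b = b * a := by
  intro a ha b hb
  obtain ⟨A, hA⟩ := maxEIn_nonempty (p := p) S
  exact hA.2.1 a (WE_le_of_mem hA ha) b (WE_le_of_mem hA hb)

theorem maxEIn_mono {p : ℕ} {S S₁ A : Subgroup G} (hA : A ∈ maxEIn p S) (hAS₁ : A ≤ S₁)
    (hS₁ : S₁ ≤ S) : A ∈ maxEIn p S₁ ∧ maxEIn p S₁ ⊆ maxEIn p S := by
  refine ⟨⟨hAS₁, hA.2.1, hA.2.2.1, fun B hB hBc hBe => hA.2.2.2 B (hB.trans hS₁) hBc hBe⟩, ?_⟩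
  intro A' hA'
  refine ⟨hA'.1.trans hS₁, hA'.2.1, hA'.2.2.1, fun B hB hBc hBe => ?_⟩
  exact (hA.2.2.2 B hB hBc hBe).trans (hA'.2.2.2 A hAS₁ hA.2.1 hA.2.2.1)

theorem WE_le_WE [Finite G] {p : ℕ} [Fact p.Prime] {S S₁ A : Subgroup G} (hA : A ∈ maxEIn p S)
    (hAS₁ : A ≤ S₁) (hS₁ : S₁ ≤ S) : WE p S ≤ WE p S₁ := by
  obtain ⟨hA₁, hsub⟩ := maxEIn_mono hA hAS₁ hS₁
  intro z hz
  refine mem_WE.mpr ⟨Subgroup.mem_inf.mpr ⟨le_JE hA₁ (WE_le_of_mem hA hz), ?_⟩, (mem_WE.mp hz).2⟩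
  have hJ : JE p S₁ ≤ JE p S := sSup_le (fun A' hA' => le_JE (hsub hA'))
  have := (Subgroup.mem_inf.mp (mem_WE.mp hz).1).2
  exact Subgroup.centralizer_le (show (JE p S₁ : Set G) ⊆ JE p S from hJ) this

theorem maxEIn_map {p : ℕ} (φ : G ≃* G) {S A : Subgroup G} (hA : A ∈ maxEIn p S) :
    A.map φ.toMonoidHom ∈ maxEIn p (S.map φ.toMonoidHom) := by
  obtain ⟨hAS, hAc, hAe, hAmax⟩ := hA
  refine ⟨Subgroup.map_mono hAS, ?_, ?_, ?_⟩
  · rintro _ ⟨a, ha, rfl⟩ _ ⟨b, hb, rfl⟩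
    rw [← map_mul, ← map_mul, hAc a ha b hb]
  · rintro _ ⟨a, ha, rfl⟩
    rw [← map_pow, hAe a ha, map_one]
  · intro B hB hBc hBe
    have h1 : B.comap φ.toMonoidHom ≤ S := by
      intro x hx
      obtain ⟨s, hs, hsx⟩ := hB (Subgroup.mem_comap.mp hx)
      have : s = x := φ.injective hsx
      rw [← this]; exact hs
    have h2 : ∀ a ∈ B.comap φ.toMonoidHom, ∀ b ∈ B.comap φ.toMonoidHom, a * b = b * a := by
      intro a ha b hb
      apply φ.injective
      rw [map_mul, map_mul]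
      exact hBc _ (Subgroup.mem_comap.mp ha) _ (Subgroup.mem_comap.mp hb)
    have h2' : ∀ a ∈ B.comap φ.toMonoidHom, a ^ p = 1 := by
      intro a ha
      apply φ.injective
      rw [map_pow, map_one]
      exact hBe _ (Subgroup.mem_comap.mp ha)
    have h3 := hAmax _ h1 h2 h2'
    have h4 : Nat.card (B.comap φ.toMonoidHom) = Nat.card B := by
      have : (B.comap φ.toMonoidHom).map φ.toMonoidHom = B :=
        Subgroup.map_comap_eq_self_of_surjective φ.surjective B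
      rw [← Subgroup.card_map_of_injective (f := φ.toMonoidHom) φ.injective, this]
    rw [Subgroup.card_map_of_injective (f := φ.toMonoidHom) φ.injective, ← h4]
    exact h3

theorem JE_map {p : ℕ} (φ : G ≃* G) (S : Subgroup G) :
    (JE p S).map φ.toMonoidHom = JE p (S.map φ.toMonoidHom) := by
  apply le_antisymm
  · rw [Subgroup.map_le_iff_le_comap]
    apply sSup_le
    intro A hA
    rw [← Subgroup.map_le_iff_le_comap]
    exact le_JE (maxEIn_map φ hA)
  · apply sSup_le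
    intro A hA
    have h1 := maxEIn_map φ.symm hA
    have h2 : (S.map φ.toMonoidHom).map φ.symm.toMonoidHom = S := by
      ext x
      simp [Subgroup.mem_map]
    rw [h2] at h1
    have h3 : A = (A.map φ.symm.toMonoidHom).map φ.toMonoidHom := by
      ext x
      simp [Subgroup.mem_map]
    rw [h3]
    exact Subgroup.map_mono (le_JE h1)

theorem WE_map {p : ℕ} (φ : G ≃* G) (S : Subgroup G) :
    (WE p S).map φ.toMonoidHom = WE p (S.map φ.toMonoidHom) := by
  ext y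
  constructor
  · rintro ⟨z, hz, rfl⟩
    obtain ⟨hz1, hzp⟩ := mem_WE.mp hz
    obtain ⟨hzJ, hzC⟩ := Subgroup.mem_inf.mp hz1
    refine mem_WE.mpr ⟨Subgroup.mem_inf.mpr ⟨?_, ?_⟩, ?_⟩
    · rw [← JE_map]; exact Subgroup.mem_map_of_mem _ hzJ
    · rw [mem_centralizer_iff]
      intro t ht
      rw [SetLike.mem_coe, ← JE_map] at ht
      obtain ⟨u, hu, rfl⟩ := ht
      rw [mem_centralizer_iff] at hzC
      show φ u * φ z = φ z * φ u
      rw [← map_mul, ← map_mul, hzC u hu]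
    · show (φ z) ^ p = 1
      rw [← map_pow, hzp, map_one]
  · intro hy
    obtain ⟨hy1, hyp⟩ := mem_WE.mp hy
    obtain ⟨hyJ, hyC⟩ := Subgroup.mem_inf.mp hy1
    rw [← JE_map] at hyJ
    obtain ⟨z, hzJ, rfl⟩ := hyJ
    refine ⟨z, mem_WE.mpr ⟨Subgroup.mem_inf.mpr ⟨hzJ, ?_⟩, ?_⟩, rfl⟩
    · rw [mem_centralizer_iff]
      intro u hu
      rw [mem_centralizer_iff] at hyC
      have h1 : φ.toMonoidHom u ∈ (JE p (S.map φ.toMonoidHom) : Set G) := by
        rw [SetLike.mem_coe, ← JE_map]; exact Subgroup.mem_map_of_mem _ hu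
      have h2 := hyC _ h1
      apply φ.injective
      rw [map_mul, map_mul]
      exact h2
    · apply φ.injective
      rw [map_pow, map_one]
      exact hyp

theorem WE_conj {p : ℕ} {S : Subgroup G} {g : G} (hg : g ∈ normalizer (S : Set G)) {z : G}
    (hz : z ∈ WE p S) : g * z * g⁻¹ ∈ WE p S := by
  have h1 := WE_map (p := p) (MulAut.conj g) S
  have h2 : S.map (MulAut.conj g).toMonoidHom = S := mem_normalizer_iff_map_conj_eq.mp hg
  rw [h2] at h1
  rw [← h1]
  exact ⟨z, hz, by simp [MulAut.conj_apply]⟩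

/-- commutators are multiplicative in a class-2 group: powers -/
theorem comm_pow_left {B : Subgroup G} (hZc : ∀ z ∈ ⁅B, B⁆, ∀ b ∈ B, z * b = b * z) {u w : G}
    (hu : u ∈ B) (hw : w ∈ B) (n : ℕ) : ⁅u ^ n, w⁆ = ⁅u, w⁆ ^ n := by
  induction n with
  | zero => simp
  | succ n ih =>
    rw [pow_succ, comm_mul_left hZc (pow_mem hu n) hu hw, ih, pow_succ]

/-- a group of class at most two generated by elements of order dividing an odd prime `p` has
exponent dividing `p` -/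
theorem exp_of_classTwo {p : ℕ} [hp : Fact p.Prime] (hp2 : p ≠ 2) {B : Subgroup G}
    (hZc : ∀ z ∈ ⁅B, B⁆, ∀ b ∈ B, z * b = b * z)
    {X : Set G} (hX : ∀ x ∈ X, x ∈ B ∧ x ^ p = 1) (hgen : B ≤ closure X) :
    ∀ b ∈ B, b ^ p = 1 := by
  let T : Subgroup G :=
    { carrier := {u | u ∈ B ∧ u ^ p = 1}
      one_mem' := ⟨one_mem _, one_pow _⟩
      mul_mem' := by
        rintro a b ⟨ha, ha1⟩ ⟨hb, hb1⟩
        refine ⟨mul_mem ha hb, ?_⟩
        have hd : ⁅b, a⁆ ∈ ⁅B, B⁆ := commutator_mem_commutator hb ha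
        have h1 : b * a = ⁅b, a⁆ * a * b := by simp only [commutatorElement_def]; group
        have h2 := Cfsg.Agent.Lib.Lead.Dedekind.mul_pow_of_central h1 (hZc _ hd b hb) (hZc _ hd a ha) p
        have h3 : ⁅b, a⁆ ^ p = 1 := by
          rw [← comm_pow_left hZc hb ha, hb1, commutatorElement_one_left]
        have h4 : p ∣ p.choose 2 := by
          have := Cfsg.Agent.Lib.Lead.Dedekind.dvd_choose_two hp.out (le_refl 1) (Or.inl hp2)
          rwa [pow_one] at this
        obtain ⟨k, hk⟩ := h4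
        rw [h2, hk, pow_mul, h3, one_pow, ha1, hb1, one_mul, one_mul]
      inv_mem' := by
        rintro a ⟨ha, ha1⟩
        exact ⟨inv_mem ha, by rw [inv_pow, ha1, inv_one]⟩ }
  have h1 : closure X ≤ T := by
    rw [closure_le]
    intro x hx
    exact hX x hx
  intro b hb
  exact (h1 (hgen hb)).2

section main

variable [Finite G] {p : ℕ} [hp : Fact p.Prime]

theorem WE_inf_normal (hp2 : p ≠ 2)
    (hst : ∀ (P : Subgroup G) [P.Normal], IsPGroup p P → Cfsg.IsPStableOn p P)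
    (S : Sylow p G) (n : ℕ) : ∀ B : Subgroup G, B.Normal → IsPGroup p B → Nat.card B = n →
      (WE p (S : Subgroup G) ⊓ B).Normal := by
  induction n using Nat.strong_induction_on with
  | _ n ih =>
  intro B hBn hBp hBcard
  classical
  have hSp : IsPGroup p (S : Subgroup G) := S.isPGroup'
  have hBS : B ≤ S := normal_pgroup_le_sylow hBn hBp S
  by_cases hB1 : B = ⊥
  · rw [hB1, inf_bot_eq]; infer_instance
  haveI := hBn
  have hB'n : (⁅B, B⁆ : Subgroup G).Normal := inferInstance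
  have hB'le : ⁅B, B⁆ ≤ B := by
    rw [commutator_le]
    intro g₁ h₁ g₂ h₂
    exact mul_mem (mul_mem (mul_mem h₁ h₂) (inv_mem h₁)) (inv_mem h₂)
  have hB'lt : Nat.card (⁅B, B⁆ : Subgroup G) < n := hBcard ▸ derived_card_lt hBp hB1
  have hDn : (WE p (S : Subgroup G) ⊓ ⁅B, B⁆).Normal :=
    ih _ hB'lt ⁅B, B⁆ hB'n (hBp.to_le hB'le) rfl
  haveI := hDn
  set Z := WE p (S : Subgroup G) with hZ
  set D := Z ⊓ ⁅B, B⁆ with hD
  set B₁ := normalClosure ((Z ⊓ B : Subgroup G) : Set G) with hB₁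
  haveI hB₁n : B₁.Normal := normalClosure_normal
  have hB₁B : B₁ ≤ B := normalClosure_le_normal inf_le_right
  have hB₁S : B₁ ≤ S := hB₁B.trans hBS
  have hB₁p : IsPGroup p B₁ := hBp.to_le hB₁B
  have hsub : Z ⊓ B ≤ B₁ := le_normalClosure
  have hZS : ∀ s ∈ (S : Subgroup G), ∀ z ∈ Z, s * z * s⁻¹ ∈ Z :=
    fun s hs z hz => WE_conj (le_normalizer hs) hz
  have hcomm : ∀ z ∈ Z ⊓ B, ∀ b ∈ B, ⁅z, b⁆ ∈ D := by
    intro z hz b hb
    obtain ⟨hzZ, hzB⟩ := Subgroup.mem_inf.mp hz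
    refine Subgroup.mem_inf.mpr ⟨?_, commutator_mem_commutator hzB hb⟩
    have h1 : ⁅z, b⁆ = z * (b * z⁻¹ * b⁻¹) := by simp only [commutatorElement_def]; group
    rw [h1]
    exact mul_mem hzZ (hZS b (hBS hb) _ (inv_mem hzZ))
  have hB₁T : B₁ ≤ centMod B D := normalClosure_le_normal (fun z hz => hcomm z hz)
  have hB₁' : ⁅B₁, B₁⁆ ≤ D := by
    rw [commutator_le]
    intro u hu v hv
    exact hB₁T hu v (hB₁B hv)
  have hDcent : B₁ ≤ centralizer (D : Set G) := by
    apply normalClosure_le_normal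
    intro z hz
    rw [SetLike.mem_coe, mem_centralizer_iff]
    intro d hd
    exact WE_comm (S : Subgroup G) d (Subgroup.mem_inf.mp hd).1 z (Subgroup.mem_inf.mp hz).1
  have hZA : ∀ A ∈ maxEIn p (S : Subgroup G), ⁅B₁, B₁⁆ ≤ A :=
    fun A hA => hB₁'.trans (inf_le_left.trans (WE_le_of_mem hA))
  have hZc : ∀ z ∈ ⁅B₁, B₁⁆, ∀ b ∈ B₁, z * b = b * z := by
    intro z hz b hb
    have := hDcent hb
    rw [mem_centralizer_iff] at this
    exact this z (hB₁' hz)
  have hSB₁ : ∀ s ∈ (S : Subgroup G), ∀ b ∈ B₁, s * b * s⁻¹ ∈ B₁ :=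
    fun s _ b hb => hB₁n.conj_mem b hb s
  -- B₁ has exponent p
  have hB₁e : ∀ b ∈ B₁, b ^ p = 1 := by
    apply exp_of_classTwo hp2 hZc (X := Group.conjugatesOfSet ((Z ⊓ B : Subgroup G) : Set G))
    · intro y hy
      refine ⟨Subgroup.subset_closure hy, ?_⟩
      obtain ⟨z, hz, hzy⟩ := Group.mem_conjugatesOfSet_iff.mp hy
      obtain ⟨g, rfl⟩ := isConj_iff.mp hzy
      rw [conj_pow, (mem_WE.mp (Subgroup.mem_inf.mp hz).1).2, mul_one, mul_inv_cancel]
    · exact le_rfl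
  obtain ⟨A, hA, hB₁A⟩ := exists_normalizedE hp2 hSp hB₁S hB₁e hSB₁ hZA hZc
  -- the subgroup L
  set C := centralizer (B₁ : Set G) with hC
  set L : Subgroup G := (Cfsg.pCore p (G ⧸ C)).comap (QuotientGroup.mk' C) with hL
  haveI hLn : L.Normal := (pCore_normal p (G ⧸ C)).comap _
  have hCL : C ≤ L := by
    intro c hc
    rw [hL, Subgroup.mem_comap, QuotientGroup.mk'_apply, (QuotientGroup.eq_one_iff c).mpr hc]
    exact one_mem _
  have hLpow : ∀ l ∈ L, ∃ k : ℕ, l ^ p ^ k ∈ C := by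
    intro l hl
    rw [hL, Subgroup.mem_comap] at hl
    obtain ⟨k, hk⟩ := (pCore_isPGroup p (G ⧸ C)) ⟨_, hl⟩
    refine ⟨k, ?_⟩
    have h1 := congrArg Subtype.val hk
    simp only [Subgroup.coe_pow, Subgroup.coe_one, QuotientGroup.mk'_apply] at h1
    rw [← QuotientGroup.mk_pow] at h1
    exact (QuotientGroup.eq_one_iff _).mp h1
  have hquad : ∀ A' ∈ maxEIn p (S : Subgroup G), B₁ ≤ normalizer (A' : Set G) → A' ≤ L := by
    intro A' hA' hN a ha
    have hq : ⁅⁅B₁, zpowers a⁆, zpowers a⁆ = ⊥ := by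
      have h1 : ⁅B₁, zpowers a⁆ ≤ A' := by
        rw [commutator_le]
        intro b hb t ht
        have ht' : t ∈ A' := (zpowers_le.mpr ha) ht
        have h2 : b * t * b⁻¹ ∈ A' := (mem_normalizer_iff.mp (hN hb) t).mp ht'
        have : ⁅b, t⁆ = (b * t * b⁻¹) * t⁻¹ := by simp only [commutatorElement_def]
        rw [this]
        exact mul_mem h2 (inv_mem ht')
      rw [eq_bot_iff]
      refine (commutator_mono h1 le_rfl).trans ?_
      rw [commutator_le]
      intro u hu t ht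
      have ht' : t ∈ A' := (zpowers_le.mpr ha) ht
      rw [mem_bot]
      exact commutatorElement_eq_one_iff_commute.mpr (hA'.2.1 u hu t ht')
    have := hst B₁ hB₁p a hq
    rw [hL, Subgroup.mem_comap]
    exact this
  have hAL : A ≤ L := hquad A hA hB₁A
  -- the Sylow subgroup S₁ = S ⊓ L of L
  set S₁ : Subgroup G := (S : Subgroup G) ⊓ L with hS₁
  have hAS₁ : A ≤ S₁ := le_inf hA.1 hAL
  have hS₁p : IsPGroup p (S₁.subgroupOf L) := (hSp.to_le inf_le_left).comap_subtype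
  have hindex : ¬ p ∣ (S₁.subgroupOf L).index := by
    have e1 := card_sup_mul_card_inf (S : Subgroup G) L (le_normalizer_of_normal)
    have e2 := Cfsg.Agent.S0598.card_mul_relIndex (inf_le_right : (S : Subgroup G) ⊓ L ≤ L)
    have e3 := Cfsg.Agent.S0598.card_mul_relIndex (le_sup_left : (S : Subgroup G) ≤ (S : Subgroup G) ⊔ L)
    have e4 : ((S : Subgroup G) ⊓ L).relIndex L = (S : Subgroup G).relIndex ((S : Subgroup G) ⊔ L) := by
      have pS : 0 < Nat.card (S : Subgroup G) := Nat.card_pos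
      have pI : 0 < Nat.card ((S : Subgroup G) ⊓ L : Subgroup G) := Nat.card_pos
      rw [← e3, ← e2] at e1
      have : Nat.card (S : Subgroup G) * Nat.card ((S : Subgroup G) ⊓ L : Subgroup G) *
          (S : Subgroup G).relIndex ((S : Subgroup G) ⊔ L)
          = Nat.card (S : Subgroup G) * Nat.card ((S : Subgroup G) ⊓ L : Subgroup G) *
          ((S : Subgroup G) ⊓ L).relIndex L := by
        calc Nat.card (S : Subgroup G) * Nat.card ((S : Subgroup G) ⊓ L : Subgroup G) *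
            (S : Subgroup G).relIndex ((S : Subgroup G) ⊔ L)
            = Nat.card (S : Subgroup G) * (S : Subgroup G).relIndex ((S : Subgroup G) ⊔ L) *
              Nat.card ((S : Subgroup G) ⊓ L : Subgroup G) := by ring
          _ = Nat.card (S : Subgroup G) * (Nat.card ((S : Subgroup G) ⊓ L : Subgroup G) *
              ((S : Subgroup G) ⊓ L).relIndex L) := e1
          _ = Nat.card (S : Subgroup G) * Nat.card ((S : Subgroup G) ⊓ L : Subgroup G) *
              ((S : Subgroup G) ⊓ L).relIndex L := by ring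
      exact (Nat.eq_of_mul_eq_mul_left (Nat.mul_pos pS pI) this).symm
    intro hdvd
    have h1 : (S₁.subgroupOf L).index = ((S : Subgroup G) ⊓ L).relIndex L := rfl
    rw [h1, e4] at hdvd
    exact S.not_dvd_index (hdvd.trans (Subgroup.relIndex_dvd_index_of_le le_sup_left))
  set Q : Sylow p L := hS₁p.toSylow hindex with hQ
  have hQmap : (Q : Subgroup L).map L.subtype = S₁ := by
    rw [hQ, IsPGroup.toSylow_coe, Subgroup.subgroupOf_map_subtype, hS₁]
    exact inf_eq_left.mpr inf_le_right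
  have hfrat := Sylow.normalizer_sup_eq_top Q
  rw [hQmap] at hfrat
  -- L = S₁ C
  have hLdecomp : ∀ l ∈ L, ∃ t ∈ S₁, ∃ c ∈ C, l = t * c := by
    intro l hl
    haveI : (C.subgroupOf L).Normal := inferInstance
    have hQp : IsPGroup p (L ⧸ C.subgroupOf L) := by
      intro x
      induction x using QuotientGroup.induction_on with
      | H y =>
        obtain ⟨k, hk⟩ := hLpow y y.2
        refine ⟨k, ?_⟩
        rw [← QuotientGroup.mk_pow, QuotientGroup.eq_one_iff, Subgroup.mem_subgroupOf]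
        simpa using hk
    obtain ⟨t, ht, c, hc, htc⟩ :=
      Cfsg.Agent.Lib.Lead.ThompsonRepl.exists_mul_of_quotient_isPGroup (C.subgroupOf L) hQp Q ⟨l, hl⟩
    refine ⟨t, ?_, c, Subgroup.mem_subgroupOf.mp hc, ?_⟩
    · rw [← hQmap]; exact ⟨t, ht, rfl⟩
    · have := congrArg Subtype.val htc
      simpa using this
  have hGdecomp : ∀ g : G, ∃ m ∈ normalizer (S₁ : Set G), ∃ c ∈ C, g = m * c := by
    intro g
    have hg : g ∈ (normalizer (S₁ : Set G) ⊔ L : Subgroup G) := hfrat ▸ mem_top g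
    rw [← SetLike.mem_coe, mul_normal] at hg
    obtain ⟨m, hm, l, hl, rfl⟩ := Set.mem_mul.mp hg
    obtain ⟨t, ht, c, hc, rfl⟩ := hLdecomp l hl
    exact ⟨m * t, mul_mem hm (le_normalizer ht), c, hc, by rw [mul_assoc]⟩
  have hZZ₁ : Z ≤ WE p S₁ := WE_le_WE hA hAS₁ inf_le_left
  -- B₁ ≤ WE S₁
  have hB₁Z₁ : B₁ ≤ WE p S₁ := by
    rw [hB₁, normalClosure, closure_le]
    intro y hy
    obtain ⟨z, hz, hzy⟩ := Group.mem_conjugatesOfSet_iff.mp hy
    obtain ⟨g, rfl⟩ := isConj_iff.mp hzy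
    obtain ⟨m, hm, c, hc, rfl⟩ := hGdecomp g
    have hzB₁ : z ∈ B₁ := hsub hz
    have h1 : c * z * c⁻¹ = z := by
      rw [hC, mem_centralizer_iff] at hc
      rw [← hc z hzB₁, mul_inv_cancel_right]
    have h2 : m * c * z * (m * c)⁻¹ = m * (c * z * c⁻¹) * m⁻¹ := by group
    rw [SetLike.mem_coe, h2, h1]
    exact WE_conj hm (hZZ₁ (Subgroup.mem_inf.mp hz).1)
  -- every member of 𝒜(S) centralizes B₁
  have hall : ∀ A' ∈ maxEIn p (S : Subgroup G), ∀ a ∈ A', ∀ b ∈ B₁, a * b = b * a := by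
    by_contra hcon
    push_neg at hcon
    let α := {A' : Subgroup G // A' ∈ maxEIn p (S : Subgroup G) ∧
      ¬ (∀ a ∈ A', ∀ b ∈ B₁, a * b = b * a)}
    haveI : Nonempty α := by
      obtain ⟨A', hA', a, ha, b, hb, hab⟩ := hcon
      exact ⟨⟨A', hA', fun h => hab (h a ha b hb)⟩⟩
    obtain ⟨⟨A', hA', hA'not⟩, hmax⟩ :=
      Finite.exists_max (fun A' : α => Nat.card (A'.1 ⊓ B₁ : Subgroup G))
    by_cases hN : B₁ ≤ normalizer (A' : Set G)
    · apply hA'not
      have h1 : A' ≤ S₁ := le_inf hA'.1 (hquad A' hA' hN)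
      have h2 : A' ∈ maxEIn p S₁ := (maxEIn_mono hA' h1 inf_le_left).1
      intro a ha b hb
      have h3 := (Subgroup.mem_inf.mp (mem_WE.mp (hB₁Z₁ hb)).1).2
      rw [mem_centralizer_iff] at h3
      exact h3 a (le_JE h2 ha)
    · obtain ⟨A'', hA'', hlt, hA''N⟩ := replacementE hp2 hSp hA' hB₁S hB₁e (hZA A' hA') hZc
        (fun a ha b hb => hSB₁ a (hA'.1 ha) b hb) hN
      by_cases hcen : ∀ a ∈ A'', ∀ b ∈ B₁, a * b = b * a
      · apply hN
        intro b hb
        apply hA''N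
        exact mem_of_centralizesE hA'' (hB₁S hb) (hB₁e b hb) (fun a ha => (hcen a ha b hb).symm)
      · have h1 := hmax ⟨A'', hA'', hcen⟩
        have h2 : (A' ⊓ B₁ : Subgroup G) = A'' ⊓ B₁ := Subgroup.eq_of_le_of_card_ge hlt.le h1
        exact hlt.ne h2
  have hB₁Z : B₁ ≤ Z := by
    intro b hb
    have hbA : b ∈ A := mem_of_centralizesE hA (hB₁S hb) (hB₁e b hb)
      (fun a ha => (hall A hA a ha b hb).symm)
    refine mem_WE.mpr ⟨Subgroup.mem_inf.mpr ⟨le_JE hA hbA, ?_⟩, hB₁e b hb⟩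
    have h1 : JE p (S : Subgroup G) ≤ centralizer ({b} : Set G) := by
      apply sSup_le
      intro A' hA' a ha
      rw [mem_centralizer_iff]
      intro t ht
      rw [Set.mem_singleton_iff.mp ht]
      exact (hall A' hA' a ha b hb).symm
    rw [mem_centralizer_iff]
    intro u hu
    have := h1 hu
    rw [mem_centralizer_iff] at this
    exact (this b rfl).symm
  have heq : Z ⊓ B = B₁ := le_antisymm hsub (le_inf hB₁Z hB₁B)
  rw [heq]
  exact hB₁n

end main

section final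

variable [Finite G] {p : ℕ} [hp : Fact p.Prime]

theorem WE_le_pCore
    (hc : Subgroup.centralizer (Cfsg.pCore p G : Set G) ≤ Cfsg.pCore p G)
    (hst : ∀ (P : Subgroup G) [P.Normal], IsPGroup p P → Cfsg.IsPStableOn p P)
    (S : Sylow p G) : WE p (S : Subgroup G) ≤ Cfsg.pCore p G := by
  classical
  set O := Cfsg.pCore p G with hO
  haveI hOn : O.Normal := pCore_normal p G
  have hOp : IsPGroup p O := pCore_isPGroup p G
  have hOS : O ≤ S := pCore_le_sylow S
  set C := centralizer (O : Set G) with hC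
  set L : Subgroup G := (Cfsg.pCore p (G ⧸ C)).comap (QuotientGroup.mk' C) with hL
  haveI hLn : L.Normal := (pCore_normal p (G ⧸ C)).comap _
  have hLp : IsPGroup p L := by
    rintro ⟨l, hl⟩
    rw [hL, Subgroup.mem_comap] at hl
    obtain ⟨k, hk⟩ := (pCore_isPGroup p (G ⧸ C)) ⟨_, hl⟩
    have h1 := congrArg Subtype.val hk
    simp only [Subgroup.coe_pow, Subgroup.coe_one, QuotientGroup.mk'_apply] at h1
    rw [← QuotientGroup.mk_pow] at h1
    have h2 : l ^ p ^ k ∈ O := hc ((QuotientGroup.eq_one_iff _).mp h1)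
    obtain ⟨k', hk'⟩ := hOp ⟨_, h2⟩
    refine ⟨k + k', ?_⟩
    apply Subtype.ext
    have h3 := congrArg Subtype.val hk'
    simp only [Subgroup.coe_pow, Subgroup.coe_one] at h3 ⊢
    rw [pow_add, pow_mul]
    exact h3
  have hLO : L ≤ O := le_pCore hLn hLp
  intro z hz
  apply hLO
  have hq : ⁅⁅O, zpowers z⁆, zpowers z⁆ = ⊥ := by
    have h1 : ⁅O, zpowers z⁆ ≤ WE p (S : Subgroup G) := by
      rw [commutator_le]
      intro o ho t ht
      have ht' : t ∈ WE p (S : Subgroup G) := (zpowers_le.mpr hz) ht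
      have h2 : o * t * o⁻¹ ∈ WE p (S : Subgroup G) := WE_conj (le_normalizer (hOS ho)) ht'
      have : ⁅o, t⁆ = (o * t * o⁻¹) * t⁻¹ := by simp only [commutatorElement_def]
      rw [this]
      exact mul_mem h2 (inv_mem ht')
    rw [eq_bot_iff]
    refine (commutator_mono h1 le_rfl).trans ?_
    rw [commutator_le]
    intro u hu t ht
    have ht' : t ∈ WE p (S : Subgroup G) := (zpowers_le.mpr hz) ht
    rw [mem_bot]
    exact commutatorElement_eq_one_iff_commute.mpr (WE_comm (S : Subgroup G) u hu t ht')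
  have := hst O hOp z hq
  rw [hL, Subgroup.mem_comap]
  exact this

theorem WE_normal (hp2 : p ≠ 2)
    (hc : Subgroup.centralizer (Cfsg.pCore p G : Set G) ≤ Cfsg.pCore p G)
    (hst : ∀ (P : Subgroup G) [P.Normal], IsPGroup p P → Cfsg.IsPStableOn p P)
    (S : Sylow p G) : (WE p (S : Subgroup G)).Normal := by
  have h1 := WE_inf_normal hp2 hst S _ (Cfsg.pCore p G) (pCore_normal p G) (pCore_isPGroup p G) rfl
  rwa [inf_eq_left.mpr (WE_le_pCore hc hst S)] at h1

theorem WE_characteristic (hp2 : p ≠ 2)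
    (hc : Subgroup.centralizer (Cfsg.pCore p G : Set G) ≤ Cfsg.pCore p G)
    (hst : ∀ (P : Subgroup G) [P.Normal], IsPGroup p P → Cfsg.IsPStableOn p P)
    (S : Sylow p G) : (WE p (S : Subgroup G)).Characteristic := by
  have hn := WE_normal hp2 hc hst S
  rw [characteristic_iff_map_le]
  intro φ
  rw [WE_map]
  have hsurj : Function.Surjective (φ.toMonoidHom : G → G) := φ.surjective
  obtain ⟨g, hg⟩ := MulAction.exists_smul_eq G S (S.mapSurjective hsurj)
  have h1 : ((S : Subgroup G)).map φ.toMonoidHom = (S : Subgroup G).map (MulAut.conj g).toMonoidHom := by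
    have h2 := congrArg (fun P : Sylow p G => (P : Subgroup G)) hg
    simp only [Sylow.coe_subgroup_smul] at h2
    rw [Sylow.coe_mapSurjective hsurj S] at h2
    exact h2.symm.trans rfl
  rw [h1, ← WE_map]
  rintro _ ⟨z, hz, rfl⟩
  exact hn.conj_mem z hz g

end final

section compare

variable {p : ℕ}

theorem isElementaryAbelian_iff (A : Subgroup G) :
    Cfsg.IsElementaryAbelian p A ↔
      (∀ a ∈ A, ∀ b ∈ A, a * b = b * a) ∧ ∀ a ∈ A, a ^ p = 1 := by
  unfold Cfsg.IsElementaryAbelian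
  constructor
  · rintro ⟨h1, h2⟩
    refine ⟨?_, h2⟩
    intro a ha b hb
    have := h1.is_comm.comm (⟨a, ha⟩ : A) ⟨b, hb⟩
    exact congrArg Subtype.val this
  · rintro ⟨h1, h2⟩
    exact ⟨⟨⟨fun a b => Subtype.ext (h1 _ a.2 _ b.2)⟩⟩, h2⟩

theorem maxEAIn_eq (S : Subgroup G) : Cfsg.Agent.Lib.Helper17.maxEAIn p S = maxEIn p S := by
  ext A
  unfold Cfsg.Agent.Lib.Helper17.maxEAIn maxEIn
  simp only [Set.mem_setOf_eq, isElementaryAbelian_iff]
  constructor
  · rintro ⟨h1, ⟨h2, h3⟩, h4⟩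
    exact ⟨h1, h2, h3, fun B hB hBc hBe => h4 B hB ⟨hBc, hBe⟩⟩
  · rintro ⟨h1, h2, h3, h4⟩
    exact ⟨h1, ⟨h2, h3⟩, fun B hB hBea => h4 B hB hBea.1 hBea.2⟩

theorem thompsonSubgroupOf_eq_JE (S : Subgroup G) : Cfsg.thompsonSubgroupOf p S = JE p S := by
  rw [Cfsg.Agent.Lib.Helper17.thompsonSubgroupOf_eq_sSup, maxEAIn_eq]
  rfl

theorem omegaCenterThompson_map_eq (S : Subgroup G) :
    (Cfsg.omegaCenterThompson p ↥S).map S.subtype = WE p S := by
  have hJ : (Cfsg.thompsonSubgroup p ↥S).map S.subtype = JE p S := thompsonSubgroupOf_eq_JE S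
  unfold Cfsg.omegaCenterThompson Cfsg.omegaOne
  rw [MonoidHom.map_closure]
  apply le_antisymm
  · rw [closure_le]
    rintro _ ⟨x, ⟨hx, hxp⟩, rfl⟩
    obtain ⟨hxJ, hxC⟩ := Subgroup.mem_inf.mp hx
    refine mem_WE.mpr ⟨Subgroup.mem_inf.mpr ⟨?_, ?_⟩, ?_⟩
    · rw [← hJ]; exact Subgroup.mem_map_of_mem _ hxJ
    · rw [mem_centralizer_iff]
      intro u hu
      rw [SetLike.mem_coe, ← hJ] at hu
      obtain ⟨u', hu', rfl⟩ := hu
      rw [mem_centralizer_iff] at hxC
      have := hxC u' hu'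
      exact congrArg Subtype.val this
    · have := congrArg Subtype.val hxp
      simpa using this
  · intro z hz
    obtain ⟨hz1, hzp⟩ := mem_WE.mp hz
    obtain ⟨hzJ, hzC⟩ := Subgroup.mem_inf.mp hz1
    have hzS : z ∈ S := JE_le p S hzJ
    apply Subgroup.subset_closure
    refine ⟨⟨z, hzS⟩, ⟨Subgroup.mem_inf.mpr ⟨?_, ?_⟩, ?_⟩, rfl⟩
    · rw [← hJ] at hzJ
      obtain ⟨u, hu, huz⟩ := hzJ
      have : u = ⟨z, hzS⟩ := Subtype.ext huz
      rwa [← this]
    · rw [mem_centralizer_iff]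
      intro u hu
      apply Subtype.ext
      rw [mem_centralizer_iff] at hzC
      have h1 : (u : G) ∈ (JE p S : Set G) := by
        rw [SetLike.mem_coe, ← hJ]; exact Subgroup.mem_map_of_mem _ hu
      exact hzC _ h1
    · apply Subtype.ext
      simpa using hzp

end compare

end Cfsg.Agent.Lib.Lead.GlaubermanZJE
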