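import Mathlib
import Cfsg.Prelude.Def_PLocal
import Cfsg.Prelude.Def_LocalEven
import Cfsg.Prelude.Def_TwoFusion
import Cfsg.Agent.Lib.Helper16.PCore
import Cfsg.Agent.Lib.Helper13.ThompsonTransfer
import Cfsg.Agent.Lib.Lead.GlaubermanZJ
import Cfsg.Agent.Lib.Lead.GlaubermanZJE

/-! Glauberman's ZJ-theorem for a strongly closed subgroup `D` of a Sylow `p`-subgroup. -/

set_option autoImplicit false

namespace Cfsg.Agent.Lib.Lead.GlaubermanZJD

open Subgroup
open scoped commutatorElement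
open Cfsg.Agent.Lib.Lead.GlaubermanRepl Cfsg.Agent.Lib.Lead.GlaubermanReplE
open Cfsg.Agent.Lib.Lead.GlaubermanZJ Cfsg.Agent.Lib.Lead.GlaubermanZJE Cfsg.Agent.Lib.Helper16

variable {G : Type*} [Group G]

section main

variable [Finite G] {p : ℕ} [hp : Fact p.Prime]

theorem mem_normalizer_of_strongly_closed {P D : Subgroup G} (hDP : D ≤ P)
    (hsc : ∀ x ∈ D, ∀ g : G, g * x * g⁻¹ ∈ P → g * x * g⁻¹ ∈ D) {s : G} (hs : s ∈ P) :
    s ∈ normalizer (D : Set G) := by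
  apply Cfsg.Agent.Lib.Helper13.mem_normalizer_of_conj_mem
  intro x hx
  exact hsc x hx s (mul_mem (mul_mem hs (hDP hx)) (inv_mem hs))

/-- the common part of the two versions: the subgroup `L`, its Sylow subgroup `S₁ = P ⊓ L`, the
factorization `G = N_G(S₁) C_G(B₁)`. -/
theorem exists_decomp (P : Sylow p G) (B₁ : Subgroup G) [hB₁n : B₁.Normal] :
    ∃ L : Subgroup G, L.Normal ∧
      (∀ a : G, (QuotientGroup.mk a : G ⧸ centralizer (B₁ : Set G)) ∈
        Cfsg.pCore p (G ⧸ centralizer (B₁ : Set G)) → a ∈ L) ∧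
      ∀ g : G, ∃ m ∈ normalizer (((P : Subgroup G) ⊓ L : Subgroup G) : Set G),
        ∃ c ∈ centralizer (B₁ : Set G), g = m * c := by
  classical
  have hSp : IsPGroup p (P : Subgroup G) := P.isPGroup'
  set C := centralizer (B₁ : Set G) with hC
  set L : Subgroup G := (Cfsg.pCore p (G ⧸ C)).comap (QuotientGroup.mk' C) with hL
  haveI hLn : L.Normal := (pCore_normal p (G ⧸ C)).comap _
  refine ⟨L, hLn, fun a ha => by rw [hL, Subgroup.mem_comap]; exact ha, ?_⟩
  have hLpow : ∀ l ∈ L, ∃ k : ℕ, l ^ p ^ k ∈ C := by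
    intro l hl
    rw [hL, Subgroup.mem_comap] at hl
    obtain ⟨k, hk⟩ := (pCore_isPGroup p (G ⧸ C)) ⟨_, hl⟩
    refine ⟨k, ?_⟩
    have h1 := congrArg Subtype.val hk
    simp only [Subgroup.coe_pow, Subgroup.coe_one, QuotientGroup.mk'_apply] at h1
    rw [← QuotientGroup.mk_pow] at h1
    exact (QuotientGroup.eq_one_iff _).mp h1
  set S₁ : Subgroup G := (P : Subgroup G) ⊓ L with hS₁
  have hS₁p : IsPGroup p (S₁.subgroupOf L) := (hSp.to_le inf_le_left).comap_subtype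
  have hindex : ¬ p ∣ (S₁.subgroupOf L).index := by
    have e1 := card_sup_mul_card_inf (P : Subgroup G) L (le_normalizer_of_normal)
    have e2 := Cfsg.Agent.S0598.card_mul_relIndex (inf_le_right : (P : Subgroup G) ⊓ L ≤ L)
    have e3 := Cfsg.Agent.S0598.card_mul_relIndex (le_sup_left : (P : Subgroup G) ≤ (P : Subgroup G) ⊔ L)
    have e4 : ((P : Subgroup G) ⊓ L).relIndex L = (P : Subgroup G).relIndex ((P : Subgroup G) ⊔ L) := by
      have pS : 0 < Nat.card (P : Subgroup G) := Nat.card_pos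
      have pI : 0 < Nat.card ((P : Subgroup G) ⊓ L : Subgroup G) := Nat.card_pos
      rw [← e3, ← e2] at e1
      have : Nat.card (P : Subgroup G) * Nat.card ((P : Subgroup G) ⊓ L : Subgroup G) *
          (P : Subgroup G).relIndex ((P : Subgroup G) ⊔ L)
          = Nat.card (P : Subgroup G) * Nat.card ((P : Subgroup G) ⊓ L : Subgroup G) *
          ((P : Subgroup G) ⊓ L).relIndex L := by
        calc Nat.card (P : Subgroup G) * Nat.card ((P : Subgroup G) ⊓ L : Subgroup G) *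
            (P : Subgroup G).relIndex ((P : Subgroup G) ⊔ L)
            = Nat.card (P : Subgroup G) * (P : Subgroup G).relIndex ((P : Subgroup G) ⊔ L) *
              Nat.card ((P : Subgroup G) ⊓ L : Subgroup G) := by ring
          _ = Nat.card (P : Subgroup G) * (Nat.card ((P : Subgroup G) ⊓ L : Subgroup G) *
              ((P : Subgroup G) ⊓ L).relIndex L) := e1
          _ = Nat.card (P : Subgroup G) * Nat.card ((P : Subgroup G) ⊓ L : Subgroup G) *
              ((P : Subgroup G) ⊓ L).relIndex L := by ring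
      exact (Nat.eq_of_mul_eq_mul_left (Nat.mul_pos pS pI) this).symm
    intro hdvd
    have h1 : (S₁.subgroupOf L).index = ((P : Subgroup G) ⊓ L).relIndex L := rfl
    rw [h1, e4] at hdvd
    exact P.not_dvd_index (hdvd.trans (Subgroup.relIndex_dvd_index_of_le le_sup_left))
  set Q : Sylow p L := hS₁p.toSylow hindex with hQ
  have hQmap : (Q : Subgroup L).map L.subtype = S₁ := by
    rw [hQ, IsPGroup.toSylow_coe, Subgroup.subgroupOf_map_subtype, hS₁]
    exact inf_eq_left.mpr inf_le_right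
  have hfrat := Sylow.normalizer_sup_eq_top Q
  rw [hQmap] at hfrat
  have hLdecomp : ∀ l ∈ L, ∃ t ∈ S₁, ∃ c ∈ C, l = t * c := by
    intro l hl
    haveI : (C.subgroupOf L).Normal := inferInstance
    have hQp : IsPGroup p (L ⧸ C.subgroupOf L) := by
      intro x
      induction x using QuotientGroup.induction_on with
      | H y =>
        obtain ⟨k, hk⟩ := hLpow y y.2
        refine ⟨k, ?_⟩
        rw [← QuotientGroup.mk_pow, QuotientGroup.eq_one_iff, Subgroup.mem_subgroupOf]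
        simpa using hk
    obtain ⟨t, ht, c, hc, htc⟩ :=
      Cfsg.Agent.Lib.Lead.ThompsonRepl.exists_mul_of_quotient_isPGroup (C.subgroupOf L) hQp Q ⟨l, hl⟩
    refine ⟨t, ?_, c, Subgroup.mem_subgroupOf.mp hc, ?_⟩
    · rw [← hQmap]; exact ⟨t, ht, rfl⟩
    · have := congrArg Subtype.val htc
      simpa using this
  intro g
  have hg : g ∈ (normalizer (S₁ : Set G) ⊔ L : Subgroup G) := hfrat ▸ mem_top g
  rw [← SetLike.mem_coe, mul_normal] at hg
  obtain ⟨m, hm, l, hl, rfl⟩ := Set.mem_mul.mp hg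
  obtain ⟨t, ht, c, hc, rfl⟩ := hLdecomp l hl
  exact ⟨m * t, mul_mem hm (le_normalizer ht), c, hc, by rw [mul_assoc]⟩

theorem ZJ_inf_normal_D (hp2 : p ≠ 2)
    (hst : ∀ (V : Subgroup G) [V.Normal], IsPGroup p V → Cfsg.IsPStableOn p V)
    (P : Sylow p G) (D : Subgroup G) (hDP : D ≤ P)
    (hsc : ∀ x ∈ D, ∀ g : G, g * x * g⁻¹ ∈ (P : Subgroup G) → g * x * g⁻¹ ∈ D) (n : ℕ) :
    ∀ B : Subgroup G, B.Normal → IsPGroup p B → Nat.card B = n → (ZJ D ⊓ B).Normal := by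
  induction n using Nat.strong_induction_on with
  | _ n ih =>
  intro B hBn hBp hBcard
  classical
  have hDp : IsPGroup p D := P.isPGroup'.to_le hDP
  have hBS : B ≤ P := normal_pgroup_le_sylow hBn hBp P
  by_cases hB1 : B = ⊥
  · rw [hB1, inf_bot_eq]; infer_instance
  haveI := hBn
  have hB'n : (⁅B, B⁆ : Subgroup G).Normal := inferInstance
  have hB'le : ⁅B, B⁆ ≤ B := by
    rw [commutator_le]
    intro g₁ h₁ g₂ h₂
    exact mul_mem (mul_mem (mul_mem h₁ h₂) (inv_mem h₁)) (inv_mem h₂)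
  have hB'lt : Nat.card (⁅B, B⁆ : Subgroup G) < n := hBcard ▸ derived_card_lt hBp hB1
  have hDn : (ZJ D ⊓ ⁅B, B⁆).Normal := ih _ hB'lt ⁅B, B⁆ hB'n (hBp.to_le hB'le) rfl
  haveI := hDn
  set Z := ZJ D with hZ
  set D' := Z ⊓ ⁅B, B⁆ with hD'
  set B₁ := normalClosure ((Z ⊓ B : Subgroup G) : Set G) with hB₁
  haveI hB₁n : B₁.Normal := normalClosure_normal
  have hB₁B : B₁ ≤ B := normalClosure_le_normal inf_le_right
  have hZD : Z ≤ D := inf_le_left.trans (JA_le D)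
  have hB₁D : B₁ ≤ D := by
    rw [hB₁, normalClosure, closure_le]
    intro y hy
    obtain ⟨z, hz, hzy⟩ := Group.mem_conjugatesOfSet_iff.mp hy
    obtain ⟨g, rfl⟩ := isConj_iff.mp hzy
    obtain ⟨hzZ, hzB⟩ := Subgroup.mem_inf.mp hz
    exact hsc z (hZD hzZ) g (hBS (hBn.conj_mem z hzB g))
  have hB₁p : IsPGroup p B₁ := hBp.to_le hB₁B
  have hsub : Z ⊓ B ≤ B₁ := le_normalClosure
  have hZS : ∀ s ∈ (P : Subgroup G), ∀ z ∈ Z, s * z * s⁻¹ ∈ Z :=
    fun s hs z hz => ZJ_conj (mem_normalizer_of_strongly_closed hDP hsc hs) hz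
  have hcomm : ∀ z ∈ Z ⊓ B, ∀ b ∈ B, ⁅z, b⁆ ∈ D' := by
    intro z hz b hb
    obtain ⟨hzZ, hzB⟩ := Subgroup.mem_inf.mp hz
    refine Subgroup.mem_inf.mpr ⟨?_, commutator_mem_commutator hzB hb⟩
    have h1 : ⁅z, b⁆ = z * (b * z⁻¹ * b⁻¹) := by simp only [commutatorElement_def]; group
    rw [h1]
    exact mul_mem hzZ (hZS b (hBS hb) _ (inv_mem hzZ))
  have hB₁T : B₁ ≤ centMod B D' := normalClosure_le_normal (fun z hz => hcomm z hz)
  have hB₁' : ⁅B₁, B₁⁆ ≤ D' := by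
    rw [commutator_le]
    intro u hu v hv
    exact hB₁T hu v (hB₁B hv)
  have hDcent : B₁ ≤ centralizer (D' : Set G) := by
    apply normalClosure_le_normal
    intro z hz
    rw [SetLike.mem_coe, mem_centralizer_iff]
    intro d hd
    exact ZJ_comm D d (Subgroup.mem_inf.mp hd).1 z (Subgroup.mem_inf.mp hz).1
  have hZA : ∀ A ∈ maxAbIn D, ⁅B₁, B₁⁆ ≤ A :=
    fun A hA => hB₁'.trans (inf_le_left.trans (ZJ_le_of_mem hA))
  have hZc : ∀ z ∈ ⁅B₁, B₁⁆, ∀ b ∈ B₁, z * b = b * z := by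
    intro z hz b hb
    have := hDcent hb
    rw [mem_centralizer_iff] at this
    exact this z (hB₁' hz)
  have hSB₁ : ∀ s ∈ D, ∀ b ∈ B₁, s * b * s⁻¹ ∈ B₁ :=
    fun s _ b hb => hB₁n.conj_mem b hb s
  obtain ⟨A, hA, hB₁A⟩ := exists_normalized hp2 hDp hB₁D hSB₁ hZA hZc
  obtain ⟨L, hLn, hLmem, hGdecomp⟩ := exists_decomp P B₁
  set C := centralizer (B₁ : Set G) with hC
  have hquad : ∀ A' ∈ maxAbIn D, B₁ ≤ normalizer (A' : Set G) → A' ≤ L := by
    intro A' hA' hN a ha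
    have hq : ⁅⁅B₁, zpowers a⁆, zpowers a⁆ = ⊥ := by
      have h1 : ⁅B₁, zpowers a⁆ ≤ A' := by
        rw [commutator_le]
        intro b hb t ht
        have ht' : t ∈ A' := (zpowers_le.mpr ha) ht
        have h2 : b * t * b⁻¹ ∈ A' := (mem_normalizer_iff.mp (hN hb) t).mp ht'
        have : ⁅b, t⁆ = (b * t * b⁻¹) * t⁻¹ := by simp only [commutatorElement_def]
        rw [this]
        exact mul_mem h2 (inv_mem ht')
      rw [eq_bot_iff]
      refine (commutator_mono h1 le_rfl).trans ?_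
      rw [commutator_le]
      intro u hu t ht
      have ht' : t ∈ A' := (zpowers_le.mpr ha) ht
      rw [mem_bot]
      exact commutatorElement_eq_one_iff_commute.mpr (hA'.2.1 u hu t ht')
    exact hLmem a (hst B₁ hB₁p a hq)
  have hAL : A ≤ L := hquad A hA hB₁A
  set S₁ : Subgroup G := (P : Subgroup G) ⊓ L with hS₁
  set D₁ : Subgroup G := D ⊓ L with hD₁
  have hAD₁ : A ≤ D₁ := le_inf hA.1 hAL
  have hD₁S₁ : D₁ ≤ S₁ := inf_le_inf_right L hDP
  have hND₁ : normalizer (S₁ : Set G) ≤ normalizer (D₁ : Set G) := by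
    intro m hm
    apply Cfsg.Agent.Lib.Helper13.mem_normalizer_of_conj_mem
    intro x hx
    have h1 : m * x * m⁻¹ ∈ S₁ := (mem_normalizer_iff.mp hm x).mp (hD₁S₁ hx)
    obtain ⟨h2, h3⟩ := Subgroup.mem_inf.mp h1
    exact Subgroup.mem_inf.mpr ⟨hsc x (Subgroup.mem_inf.mp hx).1 m h2, h3⟩
  have hZZ₁ : Z ≤ ZJ D₁ := ZJ_le_ZJ hA hAD₁ inf_le_left
  have hB₁Z₁ : B₁ ≤ ZJ D₁ := by
    rw [hB₁, normalClosure, closure_le]
    intro y hy
    obtain ⟨z, hz, hzy⟩ := Group.mem_conjugatesOfSet_iff.mp hy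
    obtain ⟨g, rfl⟩ := isConj_iff.mp hzy
    obtain ⟨m, hm, c, hc, rfl⟩ := hGdecomp g
    have hzB₁ : z ∈ B₁ := hsub hz
    have h1 : c * z * c⁻¹ = z := by
      rw [hC, mem_centralizer_iff] at hc
      rw [← hc z hzB₁, mul_inv_cancel_right]
    have h2 : m * c * z * (m * c)⁻¹ = m * (c * z * c⁻¹) * m⁻¹ := by group
    rw [SetLike.mem_coe, h2, h1]
    exact ZJ_conj (hND₁ hm) (hZZ₁ (Subgroup.mem_inf.mp hz).1)
  have hall : ∀ A' ∈ maxAbIn D, ∀ a ∈ A', ∀ b ∈ B₁, a * b = b * a := by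
    by_contra hcon
    push Not at hcon
    let α := {A' : Subgroup G // A' ∈ maxAbIn D ∧ ¬ (∀ a ∈ A', ∀ b ∈ B₁, a * b = b * a)}
    haveI : Nonempty α := by
      obtain ⟨A', hA', a, ha, b, hb, hab⟩ := hcon
      exact ⟨⟨A', hA', fun h => hab (h a ha b hb)⟩⟩
    obtain ⟨⟨A', hA', hA'not⟩, hmax⟩ :=
      Finite.exists_max (fun A' : α => Nat.card (A'.1 ⊓ B₁ : Subgroup G))
    by_cases hN : B₁ ≤ normalizer (A' : Set G)
    · apply hA'not
      have h1 : A' ≤ D₁ := le_inf hA'.1 (hquad A' hA' hN)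
      have h2 : A' ∈ maxAbIn D₁ := (maxAbIn_mono hA' h1 inf_le_left).1
      intro a ha b hb
      have h3 := (Subgroup.mem_inf.mp (hB₁Z₁ hb)).2
      rw [mem_centralizer_iff] at h3
      exact h3 a (le_JA h2 ha)
    · obtain ⟨A'', hA'', hlt, hA''N⟩ := replacement hp2 hDp hA' hB₁D (hZA A' hA') hZc
        (fun a ha b hb => hSB₁ a (hA'.1 ha) b hb) hN
      by_cases hcen : ∀ a ∈ A'', ∀ b ∈ B₁, a * b = b * a
      · apply hN
        intro b hb
        apply hA''N
        exact mem_of_centralizes hA'' (hB₁D hb) (fun a ha => (hcen a ha b hb).symm)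
      · have h1 := hmax ⟨A'', hA'', hcen⟩
        have h2 : (A' ⊓ B₁ : Subgroup G) = A'' ⊓ B₁ := Subgroup.eq_of_le_of_card_ge hlt.le h1
        exact hlt.ne h2
  have hB₁Z : B₁ ≤ Z := by
    intro b hb
    have hbA : b ∈ A := mem_of_centralizes hA (hB₁D hb) (fun a ha => (hall A hA a ha b hb).symm)
    refine Subgroup.mem_inf.mpr ⟨le_JA hA hbA, ?_⟩
    have h1 : JA D ≤ centralizer ({b} : Set G) := by
      apply sSup_le
      intro A' hA' a ha
      rw [mem_centralizer_iff]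
      intro t ht
      rw [Set.mem_singleton_iff.mp ht]
      exact (hall A' hA' a ha b hb).symm
    rw [mem_centralizer_iff]
    intro u hu
    have := h1 hu
    rw [mem_centralizer_iff] at this
    exact (this b rfl).symm
  have heq : Z ⊓ B = B₁ := le_antisymm hsub (le_inf hB₁Z hB₁B)
  rw [heq]
  exact hB₁n

theorem WE_inf_normal_D (hp2 : p ≠ 2)
    (hst : ∀ (V : Subgroup G) [V.Normal], IsPGroup p V → Cfsg.IsPStableOn p V)
    (P : Sylow p G) (D : Subgroup G) (hDP : D ≤ P)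
    (hsc : ∀ x ∈ D, ∀ g : G, g * x * g⁻¹ ∈ (P : Subgroup G) → g * x * g⁻¹ ∈ D) (n : ℕ) :
    ∀ B : Subgroup G, B.Normal → IsPGroup p B → Nat.card B = n → (WE p D ⊓ B).Normal := by
  induction n using Nat.strong_induction_on with
  | _ n ih =>
  intro B hBn hBp hBcard
  classical
  have hDp : IsPGroup p D := P.isPGroup'.to_le hDP
  have hBS : B ≤ P := normal_pgroup_le_sylow hBn hBp P
  by_cases hB1 : B = ⊥
  · rw [hB1, inf_bot_eq]; infer_instance
  haveI := hBn
  have hB'n : (⁅B, B⁆ : Subgroup G).Normal := inferInstance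
  have hB'le : ⁅B, B⁆ ≤ B := by
    rw [commutator_le]
    intro g₁ h₁ g₂ h₂
    exact mul_mem (mul_mem (mul_mem h₁ h₂) (inv_mem h₁)) (inv_mem h₂)
  have hB'lt : Nat.card (⁅B, B⁆ : Subgroup G) < n := hBcard ▸ derived_card_lt hBp hB1
  have hDn : (WE p D ⊓ ⁅B, B⁆).Normal := ih _ hB'lt ⁅B, B⁆ hB'n (hBp.to_le hB'le) rfl
  haveI := hDn
  set Z := WE p D with hZ
  set D' := Z ⊓ ⁅B, B⁆ with hD'
  set B₁ := normalClosure ((Z ⊓ B : Subgroup G) : Set G) with hB₁
  haveI hB₁n : B₁.Normal := normalClosure_normal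
  have hB₁B : B₁ ≤ B := normalClosure_le_normal inf_le_right
  have hZD : Z ≤ D := fun z hz => JE_le p D (Subgroup.mem_inf.mp (mem_WE.mp hz).1).1
  have hB₁D : B₁ ≤ D := by
    rw [hB₁, normalClosure, closure_le]
    intro y hy
    obtain ⟨z, hz, hzy⟩ := Group.mem_conjugatesOfSet_iff.mp hy
    obtain ⟨g, rfl⟩ := isConj_iff.mp hzy
    obtain ⟨hzZ, hzB⟩ := Subgroup.mem_inf.mp hz
    exact hsc z (hZD hzZ) g (hBS (hBn.conj_mem z hzB g))
  have hB₁p : IsPGroup p B₁ := hBp.to_le hB₁B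
  have hsub : Z ⊓ B ≤ B₁ := le_normalClosure
  have hZS : ∀ s ∈ (P : Subgroup G), ∀ z ∈ Z, s * z * s⁻¹ ∈ Z :=
    fun s hs z hz => WE_conj (mem_normalizer_of_strongly_closed hDP hsc hs) hz
  have hcomm : ∀ z ∈ Z ⊓ B, ∀ b ∈ B, ⁅z, b⁆ ∈ D' := by
    intro z hz b hb
    obtain ⟨hzZ, hzB⟩ := Subgroup.mem_inf.mp hz
    refine Subgroup.mem_inf.mpr ⟨?_, commutator_mem_commutator hzB hb⟩
    have h1 : ⁅z, b⁆ = z * (b * z⁻¹ * b⁻¹) := by simp only [commutatorElement_def]; group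
    rw [h1]
    exact mul_mem hzZ (hZS b (hBS hb) _ (inv_mem hzZ))
  have hB₁T : B₁ ≤ centMod B D' := normalClosure_le_normal (fun z hz => hcomm z hz)
  have hB₁' : ⁅B₁, B₁⁆ ≤ D' := by
    rw [commutator_le]
    intro u hu v hv
    exact hB₁T hu v (hB₁B hv)
  have hDcent : B₁ ≤ centralizer (D' : Set G) := by
    apply normalClosure_le_normal
    intro z hz
    rw [SetLike.mem_coe, mem_centralizer_iff]
    intro d hd
    exact WE_comm D d (Subgroup.mem_inf.mp hd).1 z (Subgroup.mem_inf.mp hz).1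
  have hZA : ∀ A ∈ maxEIn p D, ⁅B₁, B₁⁆ ≤ A :=
    fun A hA => hB₁'.trans (inf_le_left.trans (WE_le_of_mem hA))
  have hZc : ∀ z ∈ ⁅B₁, B₁⁆, ∀ b ∈ B₁, z * b = b * z := by
    intro z hz b hb
    have := hDcent hb
    rw [mem_centralizer_iff] at this
    exact this z (hB₁' hz)
  have hSB₁ : ∀ s ∈ D, ∀ b ∈ B₁, s * b * s⁻¹ ∈ B₁ :=
    fun s _ b hb => hB₁n.conj_mem b hb s
  have hB₁e : ∀ b ∈ B₁, b ^ p = 1 := by
    apply exp_of_classTwo hp2 hZc (X := Group.conjugatesOfSet ((Z ⊓ B : Subgroup G) : Set G))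
    · intro y hy
      refine ⟨Subgroup.subset_closure hy, ?_⟩
      obtain ⟨z, hz, hzy⟩ := Group.mem_conjugatesOfSet_iff.mp hy
      obtain ⟨g, rfl⟩ := isConj_iff.mp hzy
      rw [conj_pow, (mem_WE.mp (Subgroup.mem_inf.mp hz).1).2, mul_one, mul_inv_cancel]
    · exact le_rfl
  obtain ⟨A, hA, hB₁A⟩ := exists_normalizedE hp2 hDp hB₁D hB₁e hSB₁ hZA hZc
  obtain ⟨L, hLn, hLmem, hGdecomp⟩ := exists_decomp P B₁
  set C := centralizer (B₁ : Set G) with hC
  have hquad : ∀ A' ∈ maxEIn p D, B₁ ≤ normalizer (A' : Set G) → A' ≤ L := by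
    intro A' hA' hN a ha
    have hq : ⁅⁅B₁, zpowers a⁆, zpowers a⁆ = ⊥ := by
      have h1 : ⁅B₁, zpowers a⁆ ≤ A' := by
        rw [commutator_le]
        intro b hb t ht
        have ht' : t ∈ A' := (zpowers_le.mpr ha) ht
        have h2 : b * t * b⁻¹ ∈ A' := (mem_normalizer_iff.mp (hN hb) t).mp ht'
        have : ⁅b, t⁆ = (b * t * b⁻¹) * t⁻¹ := by simp only [commutatorElement_def]
        rw [this]
        exact mul_mem h2 (inv_mem ht')
      rw [eq_bot_iff]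
      refine (commutator_mono h1 le_rfl).trans ?_
      rw [commutator_le]
      intro u hu t ht
      have ht' : t ∈ A' := (zpowers_le.mpr ha) ht
      rw [mem_bot]
      exact commutatorElement_eq_one_iff_commute.mpr (hA'.2.1 u hu t ht')
    exact hLmem a (hst B₁ hB₁p a hq)
  have hAL : A ≤ L := hquad A hA hB₁A
  set S₁ : Subgroup G := (P : Subgroup G) ⊓ L with hS₁
  set D₁ : Subgroup G := D ⊓ L with hD₁
  have hAD₁ : A ≤ D₁ := le_inf hA.1 hAL
  have hD₁S₁ : D₁ ≤ S₁ := inf_le_inf_right L hDP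
  have hND₁ : normalizer (S₁ : Set G) ≤ normalizer (D₁ : Set G) := by
    intro m hm
    apply Cfsg.Agent.Lib.Helper13.mem_normalizer_of_conj_mem
    intro x hx
    have h1 : m * x * m⁻¹ ∈ S₁ := (mem_normalizer_iff.mp hm x).mp (hD₁S₁ hx)
    obtain ⟨h2, h3⟩ := Subgroup.mem_inf.mp h1
    exact Subgroup.mem_inf.mpr ⟨hsc x (Subgroup.mem_inf.mp hx).1 m h2, h3⟩
  have hZZ₁ : Z ≤ WE p D₁ := WE_le_WE hA hAD₁ inf_le_left
  have hB₁Z₁ : B₁ ≤ WE p D₁ := by
    rw [hB₁, normalClosure, closure_le]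
    intro y hy
    obtain ⟨z, hz, hzy⟩ := Group.mem_conjugatesOfSet_iff.mp hy
    obtain ⟨g, rfl⟩ := isConj_iff.mp hzy
    obtain ⟨m, hm, c, hc, rfl⟩ := hGdecomp g
    have hzB₁ : z ∈ B₁ := hsub hz
    have h1 : c * z * c⁻¹ = z := by
      rw [hC, mem_centralizer_iff] at hc
      rw [← hc z hzB₁, mul_inv_cancel_right]
    have h2 : m * c * z * (m * c)⁻¹ = m * (c * z * c⁻¹) * m⁻¹ := by group
    rw [SetLike.mem_coe, h2, h1]
    exact WE_conj (hND₁ hm) (hZZ₁ (Subgroup.mem_inf.mp hz).1)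
  have hall : ∀ A' ∈ maxEIn p D, ∀ a ∈ A', ∀ b ∈ B₁, a * b = b * a := by
    by_contra hcon
    push Not at hcon
    let α := {A' : Subgroup G // A' ∈ maxEIn p D ∧ ¬ (∀ a ∈ A', ∀ b ∈ B₁, a * b = b * a)}
    haveI : Nonempty α := by
      obtain ⟨A', hA', a, ha, b, hb, hab⟩ := hcon
      exact ⟨⟨A', hA', fun h => hab (h a ha b hb)⟩⟩
    obtain ⟨⟨A', hA', hA'not⟩, hmax⟩ :=
      Finite.exists_max (fun A' : α => Nat.card (A'.1 ⊓ B₁ : Subgroup G))
    by_cases hN : B₁ ≤ normalizer (A' : Set G)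
    · apply hA'not
      have h1 : A' ≤ D₁ := le_inf hA'.1 (hquad A' hA' hN)
      have h2 : A' ∈ maxEIn p D₁ := (maxEIn_mono hA' h1 inf_le_left).1
      intro a ha b hb
      have h3 := (Subgroup.mem_inf.mp (mem_WE.mp (hB₁Z₁ hb)).1).2
      rw [mem_centralizer_iff] at h3
      exact h3 a (le_JE h2 ha)
    · obtain ⟨A'', hA'', hlt, hA''N⟩ := replacementE hp2 hDp hA' hB₁D hB₁e (hZA A' hA') hZc
        (fun a ha b hb => hSB₁ a (hA'.1 ha) b hb) hN
      by_cases hcen : ∀ a ∈ A'', ∀ b ∈ B₁, a * b = b * a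
      · apply hN
        intro b hb
        apply hA''N
        exact mem_of_centralizesE hA'' (hB₁D hb) (hB₁e b hb) (fun a ha => (hcen a ha b hb).symm)
      · have h1 := hmax ⟨A'', hA'', hcen⟩
        have h2 : (A' ⊓ B₁ : Subgroup G) = A'' ⊓ B₁ := Subgroup.eq_of_le_of_card_ge hlt.le h1
        exact hlt.ne h2
  have hB₁Z : B₁ ≤ Z := by
    intro b hb
    have hbA : b ∈ A := mem_of_centralizesE hA (hB₁D hb) (hB₁e b hb)
      (fun a ha => (hall A hA a ha b hb).symm)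
    refine mem_WE.mpr ⟨Subgroup.mem_inf.mpr ⟨le_JE hA hbA, ?_⟩, hB₁e b hb⟩
    have h1 : JE p D ≤ centralizer ({b} : Set G) := by
      apply sSup_le
      intro A' hA' a ha
      rw [mem_centralizer_iff]
      intro t ht
      rw [Set.mem_singleton_iff.mp ht]
      exact (hall A' hA' a ha b hb).symm
    rw [mem_centralizer_iff]
    intro u hu
    have := h1 hu
    rw [mem_centralizer_iff] at this
    exact (this b rfl).symm
  have heq : Z ⊓ B = B₁ := le_antisymm hsub (le_inf hB₁Z hB₁B)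
  rw [heq]
  exact hB₁n

/-- `p`-stability forces a subgroup normalized by `P`, abelian, into `O_p(G)` -/
theorem le_pCore_of_abelian_of_conj
    (hc : Subgroup.centralizer (Cfsg.pCore p G : Set G) ≤ Cfsg.pCore p G)
    (hst : ∀ (V : Subgroup G) [V.Normal], IsPGroup p V → Cfsg.IsPStableOn p V)
    (P : Sylow p G) (Z : Subgroup G) (hZc : ∀ a ∈ Z, ∀ b ∈ Z, a * b = b * a)
    (hZP : ∀ s ∈ (P : Subgroup G), ∀ z ∈ Z, s * z * s⁻¹ ∈ Z) : Z ≤ Cfsg.pCore p G := by
  classical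
  set O := Cfsg.pCore p G with hO
  haveI hOn : O.Normal := pCore_normal p G
  have hOp : IsPGroup p O := pCore_isPGroup p G
  have hOS : O ≤ P := pCore_le_sylow P
  set C := centralizer (O : Set G) with hC
  set L : Subgroup G := (Cfsg.pCore p (G ⧸ C)).comap (QuotientGroup.mk' C) with hL
  haveI hLn : L.Normal := (pCore_normal p (G ⧸ C)).comap _
  have hLp : IsPGroup p L := by
    rintro ⟨l, hl⟩
    rw [hL, Subgroup.mem_comap] at hl
    obtain ⟨k, hk⟩ := (pCore_isPGroup p (G ⧸ C)) ⟨_, hl⟩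
    have h1 := congrArg Subtype.val hk
    simp only [Subgroup.coe_pow, Subgroup.coe_one, QuotientGroup.mk'_apply] at h1
    rw [← QuotientGroup.mk_pow] at h1
    have h2 : l ^ p ^ k ∈ O := hc ((QuotientGroup.eq_one_iff _).mp h1)
    obtain ⟨k', hk'⟩ := hOp ⟨_, h2⟩
    refine ⟨k + k', ?_⟩
    apply Subtype.ext
    have h3 := congrArg Subtype.val hk'
    simp only [Subgroup.coe_pow, Subgroup.coe_one] at h3 ⊢
    rw [pow_add, pow_mul]
    exact h3
  have hLO : L ≤ O := le_pCore hLn hLp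
  intro z hz
  apply hLO
  have hq : ⁅⁅O, zpowers z⁆, zpowers z⁆ = ⊥ := by
    have h1 : ⁅O, zpowers z⁆ ≤ Z := by
      rw [commutator_le]
      intro o ho t ht
      have ht' : t ∈ Z := (zpowers_le.mpr hz) ht
      have h2 : o * t * o⁻¹ ∈ Z := hZP o (hOS ho) t ht'
      have : ⁅o, t⁆ = (o * t * o⁻¹) * t⁻¹ := by simp only [commutatorElement_def]
      rw [this]
      exact mul_mem h2 (inv_mem ht')
    rw [eq_bot_iff]
    refine (commutator_mono h1 le_rfl).trans ?_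
    rw [commutator_le]
    intro u hu t ht
    have ht' : t ∈ Z := (zpowers_le.mpr hz) ht
    rw [mem_bot]
    exact commutatorElement_eq_one_iff_commute.mpr (hZc u hu t ht')
  have := hst O hOp z hq
  rw [hL, Subgroup.mem_comap]
  exact this

theorem ZJ_normal_D (hp2 : p ≠ 2)
    (hc : Subgroup.centralizer (Cfsg.pCore p G : Set G) ≤ Cfsg.pCore p G)
    (hst : ∀ (V : Subgroup G) [V.Normal], IsPGroup p V → Cfsg.IsPStableOn p V)
    (P : Sylow p G) (D : Subgroup G) (hDP : D ≤ P)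
    (hsc : ∀ x ∈ D, ∀ g : G, g * x * g⁻¹ ∈ (P : Subgroup G) → g * x * g⁻¹ ∈ D) :
    (ZJ D).Normal := by
  have h1 := ZJ_inf_normal_D hp2 hst P D hDP hsc _ (Cfsg.pCore p G) (pCore_normal p G)
    (pCore_isPGroup p G) rfl
  have h2 : ZJ D ≤ Cfsg.pCore p G :=
    le_pCore_of_abelian_of_conj hc hst P (ZJ D) (ZJ_comm D)
      (fun s hs z hz => ZJ_conj (mem_normalizer_of_strongly_closed hDP hsc hs) hz)
  rwa [inf_eq_left.mpr h2] at h1

theorem WE_normal_D (hp2 : p ≠ 2)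
    (hc : Subgroup.centralizer (Cfsg.pCore p G : Set G) ≤ Cfsg.pCore p G)
    (hst : ∀ (V : Subgroup G) [V.Normal], IsPGroup p V → Cfsg.IsPStableOn p V)
    (P : Sylow p G) (D : Subgroup G) (hDP : D ≤ P)
    (hsc : ∀ x ∈ D, ∀ g : G, g * x * g⁻¹ ∈ (P : Subgroup G) → g * x * g⁻¹ ∈ D) :
    (WE p D).Normal := by
  have h1 := WE_inf_normal_D hp2 hst P D hDP hsc _ (Cfsg.pCore p G) (pCore_normal p G)
    (pCore_isPGroup p G) rfl
  have h2 : WE p D ≤ Cfsg.pCore p G :=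
    le_pCore_of_abelian_of_conj hc hst P (WE p D) (WE_comm D)
      (fun s hs z hz => WE_conj (mem_normalizer_of_strongly_closed hDP hsc hs) hz)
  rwa [inf_eq_left.mpr h2] at h1

/-- normalizer-form `p`-stability gives `p`-stability on normal `p`-subgroups -/
theorem isPStableOn_of_normalizerPStable (hs : Cfsg.IsNormalizerPStable p G) (V : Subgroup G)
    [hVn : V.Normal] (hVp : IsPGroup p V) : Cfsg.IsPStableOn p V := by
  intro a hq
  set N := normalizer (V : Set G) with hN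
  set C := centralizer (V : Set G) with hC
  have hNtop : ∀ g : G, g ∈ N := fun g => by rw [hN, normalizer_eq_top]; exact mem_top g
  have hmain := hs V hVp a (hNtop a) hq
  haveI hCN : (C.subgroupOf N).Normal := inferInstance
  let φ : ↥N ⧸ C.subgroupOf N →* G ⧸ C :=
    QuotientGroup.map (C.subgroupOf N) C N.subtype (fun x hx => hx)
  have hφsurj : Function.Surjective φ := by
    intro y
    induction y using QuotientGroup.induction_on with
    | H g => exact ⟨QuotientGroup.mk ⟨g, hNtop g⟩, rfl⟩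
  have himg : (Cfsg.pCore p (↥N ⧸ C.subgroupOf N)).map φ ≤ Cfsg.pCore p (G ⧸ C) :=
    le_pCore ((pCore_normal p _).map φ hφsurj) ((pCore_isPGroup p _).map φ)
  exact himg ⟨_, hmain, rfl⟩

theorem omegaOne_centerThompsonOf_eq (D : Subgroup G) :
    Cfsg.omegaOne p (Cfsg.centerThompsonOf p D) = WE p D := by
  unfold Cfsg.omegaOne Cfsg.centerThompsonOf
  rw [thompsonSubgroupOf_eq_JE]
  apply le_antisymm
  · rw [closure_le]
    intro x hx
    exact mem_WE.mpr hx
  · intro x hx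
    exact Subgroup.subset_closure (mem_WE.mp hx)

end main

end Cfsg.Agent.Lib.Lead.GlaubermanZJD
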