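import Mathlib
import Cfsg.Prelude.Def_PLocal
import Cfsg.Agent.Lib.Helper16.PCore
import Cfsg.Agent.Lib.Helper13.QuadRing
import Cfsg.Agent.Lib.Helper13.ThompsonMin
import Cfsg.Agent.Lib.Helper10.PGroupCentral
import Cfsg.Agent.Lib.Helper17.ThompsonOf
import Cfsg.Agent.Lib.Lead.GlaubermanZJ

/-! `p`-stability of groups `G = T P` with `T / Q` an abelian `p'`-group, `Q` a normal `p`-subgroup. -/

set_option autoImplicit false

namespace Cfsg.Agent.Lib.Lead.QuadStable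

open Subgroup
open scoped commutatorElement
open Cfsg.Agent.Lib.Helper13 Cfsg.Agent.Lib.Helper16

universe u

section elem

variable {G : Type u} [Group G]

theorem quad_conj {V : Subgroup G} [hVn : V.Normal] {a : G}
    (hquad : ∀ v ∈ V, ⁅⁅v, a⁆, a⁆ = 1) (u : G) :
    ∀ v ∈ V, ⁅⁅v, u * a * u⁻¹⁆, u * a * u⁻¹⁆ = 1 := by
  intro v hv
  have h1 : ⁅⁅v, u * a * u⁻¹⁆, u * a * u⁻¹⁆ = u * ⁅⁅u⁻¹ * v * u⁻¹⁻¹, a⁆, a⁆ * u⁻¹ := by
    simp only [commutatorElement_def]; group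
  rw [h1, hquad _ (hVn.conj_mem v hv u⁻¹)]; group

variable [Finite G] {p : ℕ} [hp : Fact p.Prime]

/-- the elementary abelian case -/
theorem coprime_centralizes_elem (hp2 : p ≠ 2) {T Q P W : Subgroup G} [hTn : T.Normal]
    [hWn : W.Normal]
    (hPp : IsPGroup p P) (hsup : T ⊔ P = ⊤)
    (hab : ∀ a ∈ T, ∀ b ∈ T, (b * a)⁻¹ * (a * b) ∈ Q)
    {m : ℕ} (hm : m.Coprime p) (hexp : ∀ y ∈ T, y ^ m ∈ Q)
    [hWc : IsMulCommutative W] (hWe : ∀ w ∈ W, w ^ p = 1) (hQW : Q ≤ centralizer (W : Set G))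
    {a : G} (haP : a ∈ P) (hquad : ∀ v ∈ W, ⁅⁅v, a⁆, a⁆ = 1) :
    ∀ g ∈ normalClosure ({a} : Set G), (orderOf g).Coprime p → g ∈ centralizer (W : Set G) := by
  set N := centralizer (W : Set G) with hN
  haveI hNn : N.Normal := inferInstance
  -- step 1
  have h1 : ∀ u ∈ P, ∀ t ∈ T, (t * (u * a * u⁻¹))⁻¹ * ((u * a * u⁻¹) * t) ∈ N := by
    intro u _ t ht
    have hq := quad_conj hquad u
    apply quad_centralize W p hp.out hp2 hWe (u * a * u⁻¹) t hq m hm (hQW (hexp t ht))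
    · apply hQW
      exact hab _ (by simpa using hTn.conj_mem t ht (u * a * u⁻¹)⁻¹) t ht
    · apply hQW
      exact hab _ (hTn.conj_mem t ht (u * a * u⁻¹)) t ht
  -- step 2
  have h2 : ∀ g : G, g * a * g⁻¹ ∈ P ⊔ N := by
    intro g
    have hg : g ∈ T ⊔ P := hsup ▸ mem_top g
    obtain ⟨t, ht, u, hu, rfl⟩ := Subgroup.mem_sup_of_normal_left.mp hg
    have h3 := h1 u hu t⁻¹ (inv_mem ht)
    have h4 : t * u * a * (t * u)⁻¹ =
        (u * a * u⁻¹) * ((t⁻¹ * (u * a * u⁻¹))⁻¹ * ((u * a * u⁻¹) * t⁻¹)) := by group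
    rw [h4]
    exact mul_mem (le_sup_left (a := P) (mul_mem (mul_mem hu haP) (inv_mem hu)))
      (le_sup_right (a := P) h3)
  -- step 3
  have h3 : normalClosure ({a} : Set G) ≤ P ⊔ N := by
    rw [normalClosure, closure_le]
    intro y hy
    obtain ⟨z, hz, hzy⟩ := Group.mem_conjugatesOfSet_iff.mp hy
    rw [Set.mem_singleton_iff] at hz
    subst hz
    obtain ⟨g, rfl⟩ := isConj_iff.mp hzy
    exact h2 g
  -- step 4
  intro g hg hcop
  obtain ⟨u, hu, n, hn, rfl⟩ := Subgroup.mem_sup_of_normal_right.mp (h3 hg)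
  obtain ⟨k, hk⟩ := exists_pow_eq_one_of_mem hPp hu
  have h5 : (u * n) ^ (p ^ k) ∈ N := by
    rw [← QuotientGroup.eq_one_iff, QuotientGroup.mk_pow, QuotientGroup.mk_mul,
      (QuotientGroup.eq_one_iff n).mpr hn, mul_one, ← QuotientGroup.mk_pow, hk]
    rfl
  obtain ⟨j, hj⟩ := exists_pow_eq_self_of_coprime (Nat.Coprime.pow_left k hcop.symm)
  rw [← hj]
  exact pow_mem h5 j

end elem

section general

variable {p : ℕ} [hp : Fact p.Prime]

/-- `p'`-elements of the normal closure of a quadratically acting element of `P` centralize `V`. -/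
theorem coprime_centralizes (hp2 : p ≠ 2) : ∀ n : ℕ, ∀ (G : Type u) [Group G] [Finite G]
    (T Q P V : Subgroup G), T.Normal → Q.Normal → V.Normal → IsPGroup p Q → IsPGroup p P →
    T ⊔ P = ⊤ → (∀ a ∈ T, ∀ b ∈ T, (b * a)⁻¹ * (a * b) ∈ Q) →
    ∀ m : ℕ, m.Coprime p → (∀ y ∈ T, y ^ m ∈ Q) → V ≤ Q → Nat.card V = n →
    ∀ a ∈ P, (∀ v ∈ V, ⁅⁅v, a⁆, a⁆ = 1) →
    ∀ g ∈ normalClosure ({a} : Set G), (orderOf g).Coprime p → g ∈ centralizer (V : Set G) := by
  intro n
  induction n using Nat.strong_induction_on with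
  | _ n ih =>
  intro G _ _ T Q P V hTn hQn hVn hQp hPp hsup hab m hm hexp hVQ hcard a haP hquad g hg hcop
  by_cases hV1 : V = ⊥
  · rw [hV1, mem_centralizer_iff]
    intro v hv
    rw [SetLike.mem_coe, mem_bot] at hv
    rw [hv, one_mul, mul_one]
  -- the subgroup W
  set W : Subgroup G := V ⊓ omegaZ p Q with hW
  haveI : (omegaZ p Q).Normal := omegaZ_normal Q
  haveI hWn : W.Normal := inferInstance
  have hWV : W ≤ V := inf_le_left
  haveI hWc : IsMulCommutative W := by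
    have h1 := omegaZ_comm (p := p) Q
    refine ⟨⟨fun x y => ?_⟩⟩
    apply Subtype.ext
    have := h1.is_comm.comm (⟨x.1, (Subgroup.mem_inf.mp x.2).2⟩ : omegaZ p Q)
      ⟨y.1, (Subgroup.mem_inf.mp y.2).2⟩
    have h2 := congrArg Subtype.val this
    simpa using h2
  have hWe : ∀ w ∈ W, w ^ p = 1 := fun w hw => ((mem_omegaZ Q w).mp (Subgroup.mem_inf.mp hw).2).2
  have hQW : Q ≤ centralizer (W : Set G) :=
    (le_centralizer_omegaZ Q).trans (Subgroup.centralizer_le (fun w hw => (Subgroup.mem_inf.mp hw).2))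
  -- W is nontrivial
  obtain ⟨x, hxW, hx1⟩ : ∃ x ∈ W, x ≠ 1 := by
    have hQp' : IsPGroup p ↥Q := hQp
    haveI : (V.subgroupOf Q).Normal := inferInstance
    have hne : ¬ V.subgroupOf Q ≤ ⊥ := by
      intro hle
      apply hV1
      rw [eq_bot_iff]
      intro v hv
      have : (⟨v, hVQ hv⟩ : Q) ∈ V.subgroupOf Q := Subgroup.mem_subgroupOf.mpr hv
      have := hle this
      rw [mem_bot] at this ⊢
      exact congrArg Subtype.val this
    obtain ⟨x, hxN, hxM, hxp, hxc⟩ :=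
      Cfsg.Agent.Lib.Helper10.exists_central_mod hQp' (⊥ : Subgroup Q) (V.subgroupOf Q) hne
    refine ⟨(x : G), Subgroup.mem_inf.mpr ⟨Subgroup.mem_subgroupOf.mp hxN, ?_⟩, ?_⟩
    · rw [mem_omegaZ]
      refine ⟨Subgroup.mem_inf.mpr ⟨x.2, ?_⟩, ?_⟩
      · rw [mem_centralizer_iff]
        intro q hq
        have h1 := hxc ⟨q, hq⟩
        rw [mem_bot, commutatorElement_eq_one_iff_mul_comm] at h1
        exact (congrArg Subtype.val h1).symm
      · rw [mem_bot] at hxp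
        have := congrArg Subtype.val hxp
        simpa using this
    · intro h
      apply hxM
      rw [mem_bot]
      exact Subtype.ext h
  -- g centralizes W
  have hgW : g ∈ centralizer (W : Set G) :=
    coprime_centralizes_elem hp2 hPp hsup hab hm hexp hWe hQW haP
      (fun v hv => hquad v (hWV hv)) g hg hcop
  -- pass to the quotient
  set π := QuotientGroup.mk' W with hπ
  have hsurj : Function.Surjective π := QuotientGroup.mk'_surjective W
  have hcard' : Nat.card (V.map π) < n := by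
    rw [← hcard]
    classical
    letI := Fintype.ofFinite ↥V
    letI := Fintype.ofFinite ↥(V.map π)
    rw [Nat.card_eq_fintype_card, Nat.card_eq_fintype_card]
    apply Fintype.card_lt_of_surjective_not_injective (π.subgroupMap V) (π.subgroupMap_surjective V)
    intro hinj
    apply hx1
    have h1 : π.subgroupMap V ⟨x, hWV hxW⟩ = π.subgroupMap V 1 := by
      apply Subtype.ext
      rw [map_one]
      show π x = 1
      rw [hπ, QuotientGroup.mk'_apply, QuotientGroup.eq_one_iff]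
      exact hxW
    have := hinj h1
    exact congrArg Subtype.val this
  have hab' : ∀ a ∈ T.map π, ∀ b ∈ T.map π, (b * a)⁻¹ * (a * b) ∈ Q.map π := by
    rintro _ ⟨a', ha', rfl⟩ _ ⟨b', hb', rfl⟩
    refine ⟨(b' * a')⁻¹ * (a' * b'), hab a' ha' b' hb', ?_⟩
    simp only [map_mul, map_inv]
  have hexp' : ∀ y ∈ T.map π, y ^ m ∈ Q.map π := by
    rintro _ ⟨y, hy, rfl⟩
    exact ⟨y ^ m, hexp y hy, by rw [map_pow]⟩
  have hsup' : T.map π ⊔ P.map π = ⊤ := by
    rw [← Subgroup.map_sup, hsup, ← MonoidHom.range_eq_map, MonoidHom.range_eq_top]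
    exact hsurj
  have hquad' : ∀ v ∈ V.map π, ⁅⁅v, π a⁆, π a⁆ = 1 := by
    rintro _ ⟨v, hv, rfl⟩
    rw [← map_commutatorElement, ← map_commutatorElement, hquad v hv, map_one]
  have hg' : π g ∈ normalClosure ({π a} : Set (G ⧸ W)) := by
    have h1 := Subgroup.map_normalClosure ({a} : Set G) π hsurj
    rw [Set.image_singleton] at h1
    rw [← h1]
    exact Subgroup.mem_map_of_mem _ hg
  have hcop' : (orderOf (π g)).Coprime p :=
    Nat.Coprime.coprime_dvd_left (orderOf_map_dvd π g) hcop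
  have hih := ih _ hcard' (G ⧸ W) (T.map π) (Q.map π) (P.map π) (V.map π)
    (hTn.map π hsurj) (hQn.map π hsurj) (hVn.map π hsurj) (hQp.map π) (hPp.map π) hsup' hab' m hm
    hexp' (Subgroup.map_mono hVQ) rfl (π a) (Subgroup.mem_map_of_mem _ haP) hquad' (π g) hg' hcop'
  -- conclusion
  rw [mem_centralizer_iff]
  intro v hv
  have h1 : ⁅v, g⁆ ∈ W := by
    rw [mem_centralizer_iff] at hih
    have h2 := hih (π v) (Subgroup.mem_map_of_mem _ hv)
    have h3 : π ⁅v, g⁆ = 1 := by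
      rw [map_commutatorElement, commutatorElement_eq_one_iff_mul_comm]
      exact h2
    rw [hπ, QuotientGroup.mk'_apply, QuotientGroup.eq_one_iff] at h3
    exact h3
  have h2 : ⁅v, g⁆ * g = g * ⁅v, g⁆ := by
    rw [mem_centralizer_iff] at hgW
    exact hgW _ h1
  have h3 : ⁅v, g⁆ ^ (p ^ 1) = 1 := by rw [pow_one]; exact hWe _ h1
  exact commute_of_coprime_commutator v g h2 1 h3 hcop

end general


section stable

variable {G : Type u} [Group G]

theorem pow_conj_of_comm {a v : G} (hc : (a * v * a⁻¹ * v⁻¹) * a = a * (a * v * a⁻¹ * v⁻¹)) (k : ℕ) :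
    a ^ k * v * (a ^ k)⁻¹ = (a * v * a⁻¹ * v⁻¹) ^ k * v := by
  induction k with
  | zero => simp
  | succ k ih =>
    have h1 : a ^ (k + 1) * v * (a ^ (k + 1))⁻¹ = a * (a ^ k * v * (a ^ k)⁻¹) * a⁻¹ := by
      rw [pow_succ']; group
    have h2 : a * (a * v * a⁻¹ * v⁻¹) ^ k = (a * v * a⁻¹ * v⁻¹) ^ k * a :=
      ((show Commute (a * v * a⁻¹ * v⁻¹) a from hc).pow_left k).eq.symm
    rw [h1, ih, pow_succ]
    calc a * ((a * v * a⁻¹ * v⁻¹) ^ k * v) * a⁻¹
        = (a * (a * v * a⁻¹ * v⁻¹) ^ k) * v * a⁻¹ := by group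
      _ = ((a * v * a⁻¹ * v⁻¹) ^ k * a) * v * a⁻¹ := by rw [h2]
      _ = (a * v * a⁻¹ * v⁻¹) ^ k * (a * v * a⁻¹ * v⁻¹) * v := by group

theorem comm_eq_of_mul_centralizer {V : Subgroup G} {a b z : G} (hz : z ∈ centralizer (V : Set G))
    (hab : a = b * z) : ∀ v ∈ V, ⁅v, b⁆ = ⁅v, a⁆ := by
  intro v hv
  rw [mem_centralizer_iff] at hz
  have h1 : z * v⁻¹ = v⁻¹ * z := (hz v⁻¹ (inv_mem hv)).symm
  rw [hab]
  simp only [commutatorElement_def]
  calc v * b * v⁻¹ * b⁻¹ = v * b * (v⁻¹ * z) * z⁻¹ * b⁻¹ := by group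
    _ = v * b * (z * v⁻¹) * z⁻¹ * b⁻¹ := by rw [h1]
    _ = v * (b * z) * v⁻¹ * (b * z)⁻¹ := by group

variable [Finite G] {p : ℕ} [hp : Fact p.Prime]

/-- `p`-stability of the configuration `G = T P`, `T / Q` an abelian `p'`-group. -/
theorem isPStableOn_of_config (hp2 : p ≠ 2) (P : Sylow p G) {T Q : Subgroup G} [hTn : T.Normal]
    [hQn : Q.Normal] (hQp : IsPGroup p Q) (hsup : T ⊔ (P : Subgroup G) = ⊤)
    (hab : ∀ a ∈ T, ∀ b ∈ T, (b * a)⁻¹ * (a * b) ∈ Q)
    {m : ℕ} (hm : m.Coprime p) (hexp : ∀ y ∈ T, y ^ m ∈ Q)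
    (V : Subgroup G) [hVn : V.Normal] (hVQ : V ≤ Q) : Cfsg.IsPStableOn p V := by
  intro a hq
  set C := centralizer (V : Set G) with hC
  have hVp : IsPGroup p V := hQp.to_le hVQ
  have hquad : ∀ v ∈ V, ⁅⁅v, a⁆, a⁆ = 1 := by
    intro v hv
    have h1 : ⁅⁅v, a⁆, a⁆ ∈ ⁅⁅V, zpowers a⁆, zpowers a⁆ :=
      commutator_mem_commutator (commutator_mem_commutator hv (mem_zpowers a)) (mem_zpowers a)
    rw [hq, mem_bot] at h1
    exact h1
  -- a ^ |V| centralizes V
  have hapow : a ^ Nat.card V ∈ C := by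
    rw [hC, mem_centralizer_iff]
    intro v hv
    have hc : (a * v * a⁻¹ * v⁻¹) * a = a * (a * v * a⁻¹ * v⁻¹) := by
      have h1 := hquad v hv
      rw [commutatorElement_eq_one_iff_mul_comm] at h1
      have h2 : a * v * a⁻¹ * v⁻¹ = ⁅v, a⁆⁻¹ := by simp only [commutatorElement_def]; group
      rw [h2]
      calc ⁅v, a⁆⁻¹ * a = ⁅v, a⁆⁻¹ * (a * ⁅v, a⁆) * ⁅v, a⁆⁻¹ := by group
        _ = ⁅v, a⁆⁻¹ * (⁅v, a⁆ * a) * ⁅v, a⁆⁻¹ := by rw [h1]
        _ = a * ⁅v, a⁆⁻¹ := by group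
    have h3 := pow_conj_of_comm hc (Nat.card V)
    have h4 : a * v * a⁻¹ * v⁻¹ ∈ V := mul_mem (hVn.conj_mem v hv a) (inv_mem hv)
    have h5 : (a * v * a⁻¹ * v⁻¹) ^ Nat.card V = 1 := by
      have := pow_card_eq_one' (G := V) (x := ⟨_, h4⟩)
      have h6 := congrArg Subtype.val this
      rw [Subgroup.coe_pow, Subgroup.coe_one] at h6
      exact h6
    rw [h5, one_mul] at h3
    calc v * a ^ Nat.card V = (a ^ Nat.card V * v * (a ^ Nat.card V)⁻¹) * a ^ Nat.card V := by rw [h3]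
      _ = a ^ Nat.card V * v := by group
  -- the p-part b of a
  obtain ⟨e, he⟩ := IsPGroup.iff_card.mp hVp
  obtain ⟨k, r, hr, hkr⟩ := Nat.exists_eq_pow_mul_and_not_dvd (orderOf_pos a).ne' p hp.out.ne_one
  have hcop : Nat.Coprime r (Nat.card V) := by
    rw [he]
    exact Nat.Coprime.pow_right e ((Nat.Prime.coprime_iff_not_dvd hp.out).mpr hr).symm
  have hbez := Int.gcd_eq_gcd_ab r (Nat.card V)
  rw [Int.gcd_natCast_natCast, hcop] at hbez
  set x := Int.gcdA r (Nat.card V) with hx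
  set y := Int.gcdB r (Nat.card V) with hy
  set b : G := (a ^ r) ^ x with hb
  set z : G := (a ^ Nat.card V) ^ y with hz
  have hzC : z ∈ C := zpow_mem hapow y
  have habz : a = b * z := by
    rw [hb, hz, ← zpow_natCast a r, ← zpow_natCast a (Nat.card V), ← zpow_mul, ← zpow_mul,
      ← zpow_add, ← hbez]
    simp
  have hbp : b ^ (p ^ k) = 1 := by
    rw [hb, ← zpow_natCast, ← zpow_mul, mul_comm, zpow_mul, zpow_natCast, ← pow_mul, mul_comm r,
      ← hkr, pow_orderOf_eq_one, one_zpow]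
  have hzb : IsPGroup p (zpowers b) := by
    have h1 : orderOf b ∣ p ^ k := orderOf_dvd_of_pow_eq_one hbp
    obtain ⟨j, -, hj⟩ := (Nat.dvd_prime_pow hp.out).mp h1
    apply IsPGroup.of_card (n := j)
    rw [Nat.card_zpowers, hj]
  obtain ⟨S', hS'⟩ := hzb.exists_le_sylow
  obtain ⟨g, hg⟩ := MulAction.exists_smul_eq G S' P
  have ha'P : g * b * g⁻¹ ∈ (P : Subgroup G) := by
    rw [← hg]
    exact Cfsg.Agent.Lib.Helper17.conj_mem_smul_sylow g S' (hS' (mem_zpowers b))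
  have hcomm_eq := comm_eq_of_mul_centralizer hzC habz
  have hquadb : ∀ v ∈ V, ⁅⁅v, b⁆, b⁆ = 1 := by
    intro v hv
    have h1 : ⁅v, a⁆ ∈ V := by
      have : ⁅v, a⁆ = v * (a * v⁻¹ * a⁻¹) := by simp only [commutatorElement_def]; group
      rw [this]
      exact mul_mem hv (hVn.conj_mem _ (inv_mem hv) a)
    rw [hcomm_eq v hv, hcomm_eq _ h1]
    exact hquad v hv
  have hquada' := quad_conj hquadb g
  have hS := coprime_centralizes hp2 _ G T Q (P : Subgroup G) V hTn hQn hVn hQp P.isPGroup' hsup hab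
    m hm hexp hVQ rfl (g * b * g⁻¹) ha'P hquada'
  set X := normalClosure ({g * b * g⁻¹} : Set G) with hX
  haveI hXn : X.Normal := normalClosure_normal
  have hbX : b ∈ X := by
    have h1 : g * b * g⁻¹ ∈ X := subset_normalClosure (Set.mem_singleton _)
    have h2 := hXn.conj_mem _ h1 g⁻¹
    have h3 : g⁻¹ * (g * b * g⁻¹) * g⁻¹⁻¹ = b := by group
    rwa [h3] at h2
  set π := QuotientGroup.mk' C with hπ
  have hXp : IsPGroup p (X.map π) := by
    rintro ⟨_, x', hx', rfl⟩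
    obtain ⟨k', r', hr', hkr'⟩ :=
      Nat.exists_eq_pow_mul_and_not_dvd (orderOf_pos x').ne' p hp.out.ne_one
    refine ⟨k', ?_⟩
    apply Subtype.ext
    have hr'pos : 0 < r' := by
      rcases Nat.eq_zero_or_pos r' with h0 | h0
      · rw [h0, mul_zero] at hkr'
        exact absurd hkr' (orderOf_pos x').ne'
      · exact h0
    have h1 : orderOf (x' ^ p ^ k') = r' := by
      rw [orderOf_pow' x' (pow_ne_zero k' hp.out.ne_zero), hkr']
      rw [Nat.gcd_eq_right (Dvd.intro _ rfl)]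
      exact Nat.mul_div_cancel_left r' (pow_pos hp.out.pos k')
    have h2 : x' ^ p ^ k' ∈ C := by
      apply hS _ (pow_mem hx' _)
      rw [h1]
      exact ((Nat.Prime.coprime_iff_not_dvd hp.out).mpr hr').symm
    show (π x') ^ p ^ k' = 1
    rw [← map_pow, hπ, QuotientGroup.mk'_apply, QuotientGroup.eq_one_iff]
    exact h2
  have hXmn : (X.map π).Normal := hXn.map π (QuotientGroup.mk'_surjective C)
  have h1 : π b ∈ Cfsg.pCore p (G ⧸ C) := le_pCore hXmn hXp (Subgroup.mem_map_of_mem _ hbX)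
  have h2 : π a = π b := by
    rw [habz, map_mul]
    have : π z = 1 := by
      rw [hπ, QuotientGroup.mk'_apply, QuotientGroup.eq_one_iff]; exact hzC
    rw [this, mul_one]
  show π a ∈ Cfsg.pCore p (G ⧸ C)
  rw [h2]
  exact h1

open Cfsg.Agent.Lib.Lead.GlaubermanRepl Cfsg.Agent.Lib.Lead.GlaubermanZJ in
/-- In a group `G` with `Q = O_p(G)`, `C_G(Q) ≤ Q`, `G / Q` `p`-nilpotent, whose Sylow `p`-subgroup
is a maximal subgroup, every normal `p`-subgroup is acted on `p`-stably (`p` odd). -/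
theorem stable_of_coatom (hp2 : p ≠ 2) (T : Sylow p G) (Q : Subgroup G) [hQn : Q.Normal]
    (hQT : Q ≤ (T : Subgroup G))
    (hcent : centralizer (Q : Set G) ≤ Q) (hquot : NPC p (G ⧸ Q))
    (hT : IsCoatom (T : Subgroup G)) :
    ∀ (V : Subgroup G) [V.Normal], V ≤ Q → Cfsg.IsPStableOn p V := by
  have hQp : IsPGroup p Q := T.isPGroup'.to_le hQT
  have hG : ¬ NPC p G := by
    intro h
    have h1 := eq_sylow_of_le_of_npc T Q hQT hcent ⊤ le_top (NPC.to_top h)
    exact hT.1 h1.symm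
  have hmax : ∀ M : Subgroup G, (T : Subgroup G) ≤ M → M ≠ ⊤ → M = T := by
    intro M hTM hM
    by_contra hne
    exact hM (hT.2 M (lt_of_le_of_ne hTM (fun h => hne h.symm)))
  obtain ⟨T₁, hT₁n, hQT₁, hsup, hab, m, hm, hexp⟩ := exists_T T Q hQT hquot hG hmax
  haveI := hT₁n
  intro V hVn hVQ
  exact isPStableOn_of_config hp2 T hQp hsup hab hm hexp V hVQ

theorem pCore_eq_of_config (T : Sylow p G) (Q : Subgroup G) [hQn : Q.Normal]
    (hQT : Q ≤ (T : Subgroup G))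
    (hOp : ∀ R : Subgroup G, R.Normal → IsPGroup p R → R ≤ Q) : Cfsg.pCore p G = Q :=
  le_antisymm (hOp _ (pCore_normal p G) (pCore_isPGroup p G))
    (le_pCore hQn (T.isPGroup'.to_le hQT))

open Cfsg.Agent.Lib.Lead.GlaubermanRepl Cfsg.Agent.Lib.Lead.GlaubermanZJ in
/-- `Z(J(T))` is normal in the final configuration. -/
theorem ZJ_normal_of_coatom (hp2 : p ≠ 2) (T : Sylow p G) (Q : Subgroup G) [hQn : Q.Normal]
    (hQT : Q ≤ (T : Subgroup G))
    (hOp : ∀ R : Subgroup G, R.Normal → IsPGroup p R → R ≤ Q)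
    (hcent : centralizer (Q : Set G) ≤ Q) (hquot : NPC p (G ⧸ Q))
    (hT : IsCoatom (T : Subgroup G)) : (ZJ (T : Subgroup G)).Normal := by
  have hQeq := pCore_eq_of_config T Q hQT hOp
  have hc : centralizer (Cfsg.pCore p G : Set G) ≤ Cfsg.pCore p G := by rw [hQeq]; exact hcent
  have hst := stable_of_coatom hp2 T Q hQT hcent hquot hT
  apply ZJ_normal hp2 hc _ T
  intro V hVn hVp
  exact hst V (hOp V hVn hVp)

end stable

end Cfsg.Agent.Lib.Lead.QuadStable
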