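import Mathlib
import Cfsg.Agent.Lib.Lead.GlaubermanRepl
import Cfsg.Agent.Lib.Lead.FunctorNPC
import Cfsg.Agent.Lib.Lead.QuadStable

/-! `Z(J(P))` as a functor, and the Glauberman–Thompson normal `p`-complement theorem. -/

set_option autoImplicit false

universe u

namespace Cfsg.Agent.Lib.Lead.ZJFunctor

open Subgroup
open Cfsg.Agent.Lib.Lead.GlaubermanRepl Cfsg.Agent.Lib.Lead.FunctorNPC
open Cfsg.Agent.Lib.Helper13

section maps

variable {H K : Type*} [Group H] [Group K]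

theorem eq_of_injOn (f : H →* K) {U : Subgroup H}
    (hinj : ∀ x ∈ U, f x = 1 → x = 1) {a b : H} (ha : a ∈ U) (hb : b ∈ U) (h : f a = f b) :
    a = b := by
  have h1 : f (a * b⁻¹) = 1 := by rw [map_mul, map_inv, h, mul_inv_cancel]
  have h2 := hinj _ (U.mul_mem ha (U.inv_mem hb)) h1
  exact mul_inv_eq_one.mp h2

theorem card_map_of_injOn (f : H →* K) {U A : Subgroup H}
    (hinj : ∀ x ∈ U, f x = 1 → x = 1) (hAU : A ≤ U) : Nat.card (A.map f) = Nat.card A := by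
  have e : A ≃ A.map f := by
    refine Equiv.ofBijective (fun a => ⟨f a, Subgroup.mem_map_of_mem f a.2⟩) ⟨?_, ?_⟩
    · intro a b hab
      have : f a = f b := congrArg Subtype.val hab
      exact Subtype.ext (eq_of_injOn f hinj (hAU a.2) (hAU b.2) this)
    · rintro ⟨_, a, ha, rfl⟩
      exact ⟨⟨a, ha⟩, rfl⟩
  exact (Nat.card_congr e).symm

theorem map_comap_inf (f : H →* K) {U : Subgroup H} {B : Subgroup K}
    (hBU : B ≤ U.map f) : (B.comap f ⊓ U).map f = B := by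
  apply le_antisymm
  · rintro _ ⟨x, hx, rfl⟩
    exact Subgroup.mem_comap.mp (Subgroup.mem_inf.mp hx).1
  · intro b hb
    obtain ⟨u, hu, rfl⟩ := Subgroup.mem_map.mp (hBU hb)
    exact Subgroup.mem_map_of_mem f (Subgroup.mem_inf.mpr ⟨Subgroup.mem_comap.mpr hb, hu⟩)

theorem comm_comap_inf (f : H →* K) {U : Subgroup H} (hinj : ∀ x ∈ U, f x = 1 → x = 1)
    {B : Subgroup K} (hBc : ∀ a ∈ B, ∀ b ∈ B, a * b = b * a) :
    ∀ a ∈ B.comap f ⊓ U, ∀ b ∈ B.comap f ⊓ U, a * b = b * a := by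
  intro a ha b hb
  obtain ⟨ha1, ha2⟩ := Subgroup.mem_inf.mp ha
  obtain ⟨hb1, hb2⟩ := Subgroup.mem_inf.mp hb
  apply eq_of_injOn f hinj (mul_mem ha2 hb2) (mul_mem hb2 ha2)
  rw [map_mul, map_mul]
  exact hBc _ (Subgroup.mem_comap.mp ha1) _ (Subgroup.mem_comap.mp hb1)

theorem maxAbIn_map_of_injOn (f : H →* K) {U A : Subgroup H}
    (hinj : ∀ x ∈ U, f x = 1 → x = 1) (hA : A ∈ maxAbIn U) : A.map f ∈ maxAbIn (U.map f) := by
  obtain ⟨hAU, hAc, hAmax⟩ := hA
  refine ⟨Subgroup.map_mono hAU, ?_, ?_⟩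
  · rintro _ ⟨a, ha, rfl⟩ _ ⟨b, hb, rfl⟩
    rw [← map_mul, ← map_mul, hAc a ha b hb]
  · intro B hBU hBc
    rw [card_map_of_injOn f hinj hAU, ← map_comap_inf f hBU,
      card_map_of_injOn f hinj (inf_le_right : B.comap f ⊓ U ≤ U)]
    exact hAmax _ inf_le_right (comm_comap_inf f hinj hBc)

theorem comap_inf_mem_maxAbIn (f : H →* K) {U : Subgroup H} {B : Subgroup K}
    (hinj : ∀ x ∈ U, f x = 1 → x = 1) (hB : B ∈ maxAbIn (U.map f)) :
    B.comap f ⊓ U ∈ maxAbIn U := by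
  obtain ⟨hBU, hBc, hBmax⟩ := hB
  refine ⟨inf_le_right, comm_comap_inf f hinj hBc, ?_⟩
  intro C hCU hCc
  rw [← card_map_of_injOn f hinj hCU,
    ← card_map_of_injOn f hinj (inf_le_right : B.comap f ⊓ U ≤ U), map_comap_inf f hBU]
  apply hBmax _ (Subgroup.map_mono hCU)
  rintro _ ⟨a, ha, rfl⟩ _ ⟨b, hb, rfl⟩
  rw [← map_mul, ← map_mul, hCc a ha b hb]

theorem JA_map_of_injOn (f : H →* K) {U : Subgroup H} (hinj : ∀ x ∈ U, f x = 1 → x = 1) :
    JA (U.map f) = (JA U).map f := by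
  apply le_antisymm
  · apply sSup_le
    intro B hB
    rw [← map_comap_inf f hB.1]
    exact Subgroup.map_mono (le_JA (comap_inf_mem_maxAbIn f hinj hB))
  · rw [Subgroup.map_le_iff_le_comap]
    apply sSup_le
    intro A hA
    rw [← Subgroup.map_le_iff_le_comap]
    exact le_JA (maxAbIn_map_of_injOn f hinj hA)

theorem ZJ_map_of_injOn (f : H →* K) {U : Subgroup H} (hinj : ∀ x ∈ U, f x = 1 → x = 1) :
    ZJ (U.map f) = (ZJ U).map f := by
  ext y
  constructor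
  · intro hy
    obtain ⟨hyJ, hyC⟩ := Subgroup.mem_inf.mp hy
    rw [JA_map_of_injOn f hinj] at hyJ
    obtain ⟨z, hzJ, rfl⟩ := hyJ
    refine ⟨z, Subgroup.mem_inf.mpr ⟨hzJ, ?_⟩, rfl⟩
    rw [mem_centralizer_iff]
    intro u hu
    rw [mem_centralizer_iff] at hyC
    have h1 : f u ∈ (JA (U.map f) : Set K) := by
      rw [SetLike.mem_coe, JA_map_of_injOn f hinj]; exact Subgroup.mem_map_of_mem _ hu
    have h2 := hyC _ h1
    apply eq_of_injOn f hinj (mul_mem (JA_le U hu) (JA_le U hzJ)) (mul_mem (JA_le U hzJ) (JA_le U hu))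
    rw [map_mul, map_mul]
    exact h2
  · rintro ⟨z, hz, rfl⟩
    obtain ⟨hzJ, hzC⟩ := Subgroup.mem_inf.mp hz
    refine Subgroup.mem_inf.mpr ⟨?_, ?_⟩
    · rw [JA_map_of_injOn f hinj]; exact Subgroup.mem_map_of_mem _ hzJ
    · rw [mem_centralizer_iff]
      intro t ht
      rw [SetLike.mem_coe, JA_map_of_injOn f hinj] at ht
      obtain ⟨u, hu, rfl⟩ := ht
      rw [mem_centralizer_iff] at hzC
      rw [← map_mul, ← map_mul, hzC u hu]

theorem center_le_ZJ [Finite H] (U : Subgroup H) : U ⊓ centralizer (U : Set H) ≤ ZJ U := by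
  intro z hz
  obtain ⟨hzU, hzC⟩ := Subgroup.mem_inf.mp hz
  rw [mem_centralizer_iff] at hzC
  obtain ⟨A, hA⟩ := maxAbIn_nonempty U
  have hzA : z ∈ A := mem_of_centralizes hA hzU (fun a ha => (hzC a (hA.1 ha)).symm)
  refine Subgroup.mem_inf.mpr ⟨le_JA hA hzA, ?_⟩
  rw [mem_centralizer_iff]
  intro u hu
  exact hzC u (JA_le U hu)

end maps

/-- the functor `P ↦ Z(J(P))` -/
def WZ : ∀ (H : Type u) [Group H], Subgroup H → Subgroup H := fun _ _ P => ZJ P

theorem WZ_good (p : ℕ) [hp : Fact p.Prime] : IsGoodFunctor.{u} p WZ where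
  le := fun _ _ P => inf_le_left.trans (JA_le P)
  map := fun _ _ _ _ f P hinj => ZJ_map_of_injOn f hinj
  ne_bot := by
    intro H _ _ P hP hne h
    apply inf_centralizer_ne_bot_of_isPGroup P hP hne
    rw [eq_bot_iff]
    have h1 := center_le_ZJ P
    show P ⊓ centralizer (P : Set H) ≤ ⊥
    exact h1.trans (le_of_eq h)

/-- **Glauberman–Thompson normal `p`-complement theorem** (abelian version of `J`). -/
theorem glauberman_thompson {p : ℕ} [hp : Fact p.Prime] (hp2 : p ≠ 2) {G : Type u} [Group G]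
    [Finite G] (P : Sylow p G) (h : NPC p ↥(normalizer (ZJ (P : Subgroup G) : Set G))) : NPC p G := by
  apply npc_of_functor (WZ_good p) _ _ G rfl P h
  intro G _ _ P Q _ hQP hOp hcent hquot hcoatom
  exact Cfsg.Agent.Lib.Lead.QuadStable.ZJ_normal_of_coatom hp2 P Q hQP hOp hcent hquot hcoatom

end Cfsg.Agent.Lib.Lead.ZJFunctor
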