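import Cfsg.Agent.Lib.Lead.DicksonSL2m

/-!
Dickson's theorem for `SL₂`, normal form of the good pair (lead): a finite subgroup of `SL₂(F)`
(`F` any field of odd characteristic `p`) containing `upper a`, `lower b` with `a, b ≠ 0` contains
`M (upper 1) M⁻¹` and `M (lower c) M⁻¹` for some invertible `M` and `c` a nonzero element of the
prime field.
-/

set_option autoImplicit false

namespace Cfsg.Agent.Lib.Lead.DicksonSL2

open Matrix Cfsg.Agent.Lib.Helper9.SL2Upper Cfsg.Agent.Lib.Lead.DicksonBase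
  Cfsg.Agent.Lib.Helper15.TwoByTwo Cfsg.Agent.Lib.Lead.SL2Scalar

variable {F : Type*} [Field F]

local notation "SL2" => Matrix.SpecialLinearGroup (Fin 2) F
local notation "M2" => Matrix (Fin 2) (Fin 2) F

theorem conjHom_conjHom (M Mi : M2) (h1 : M * Mi = 1) (h2 : Mi * M = 1) (D Di : M2)
    (g1 : D * Di = 1) (g2 : Di * D = 1) (A : SL2) :
    ∃ (k1 : (M * D) * (Di * Mi) = 1) (k2 : (Di * Mi) * (M * D) = 1),
      conjHom M Mi h1 h2 (conjHom D Di g1 g2 A) = conjHom (M * D) (Di * Mi) k1 k2 A := by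
  have k1 : (M * D) * (Di * Mi) = 1 := by
    calc (M * D) * (Di * Mi) = M * (D * Di) * Mi := by simp only [mul_assoc]
      _ = 1 := by rw [g1, mul_one, h1]
  have k2 : (Di * Mi) * (M * D) = 1 := by
    calc (Di * Mi) * (M * D) = Di * (Mi * M) * D := by simp only [mul_assoc]
      _ = 1 := by rw [h2, mul_one, g2]
  refine ⟨k1, k2, ?_⟩
  apply Subtype.ext
  rw [conjHom_coe, conjHom_coe, conjHom_coe]
  simp only [mul_assoc]

variable (p : ℕ) [hp : Fact p.Prime] [CharP F p]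

/-- normal form of a good pair -/
theorem pair_normal_form (x y : SL2) (hx : x ^ p = 1) (hy : y ^ p = 1) (c₀ : ZMod p)
    (hc₀ : c₀ ≠ 0)
    (htr : ((x * y : SL2) : M2).trace = 2 + ZMod.castHom (dvd_refl p) F c₀) :
    ∃ (M Mi : M2) (h1 : M * Mi = 1) (h2 : Mi * M = 1),
      x = conjHom M Mi h1 h2 (upper 1) ∧
      y = conjHom M Mi h1 h2 (lower (ZMod.castHom (dvd_refl p) F c₀)) := by
  set f : ZMod p →+* F := ZMod.castHom (dvd_refl p) F with hf
  have hfinj : Function.Injective f := RingHom.injective f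
  have hc : f c₀ ≠ 0 := by
    intro h
    apply hc₀
    apply hfinj
    rw [h, map_zero]
  obtain ⟨v₁, hv₁, hxv⟩ := exists_fixed_vector p x (k := 1) (by simpa using hx)
  obtain ⟨v₂, hv₂, hyv⟩ := exists_fixed_vector p y (k := 1) (by simpa using hy)
  have hδ : v₁ 0 * v₂ 1 - v₁ 1 * v₂ 0 ≠ 0 := by
    intro hδ
    have hxv₂ := fix_of_det_zero x v₁ v₂ hv₁ hxv hδ
    have hxy : ((x * y : SL2) : M2).mulVec v₂ = v₂ := by
      rw [Matrix.SpecialLinearGroup.coe_mul, ← Matrix.mulVec_mulVec, hyv, hxv₂]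
    have := trace_eq_two_of_fix _ (x * y).2 v₂ hv₂ hxy
    rw [htr] at this
    apply hc
    linear_combination this
  obtain ⟨M, Mi, h1, h2, a, b, hxa, hyb⟩ := exists_normal_form x y v₁ v₂ hxv hyv hδ
  have hab : a * b = f c₀ := by
    have h3 : ((x * y : SL2) : M2).trace = 2 + a * b := by
      rw [hxa, hyb, ← map_mul, trace_conjHom, trace_upper_lower]
    rw [htr] at h3
    linear_combination -h3
  have ha : a ≠ 0 := by
    rintro rfl
    rw [zero_mul] at hab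
    exact hc hab.symm
  obtain ⟨D, Di, g1, g2, hDu, hDl⟩ := conj_diag_upper a ha
  obtain ⟨k1, k2, hk⟩ := conjHom_conjHom M Mi h1 h2 D Di g1 g2 (upper 1)
  obtain ⟨k1', k2', hk'⟩ := conjHom_conjHom M Mi h1 h2 D Di g1 g2 (lower (f c₀))
  refine ⟨M * D, Di * Mi, k1, k2, ?_, ?_⟩
  · rw [← hk, hDu, mul_one, hxa]
  · rw [← hk', hDl, hyb, ← hab, mul_div_cancel_left₀ b ha]

/-- **Dickson, pair form**: a finite subgroup of `SL₂(F)` containing `upper a` and `lower b`,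
`a, b ≠ 0`, contains a conjugate of the standard generators of `SL₂(𝔽_p)`. -/
theorem exists_std_pair {H : Subgroup (Matrix.SpecialLinearGroup (Fin 2) F)} [Finite H]
    (hp2 : p ≠ 2) {a b : F} (ha : a ≠ 0) (hb : b ≠ 0)
    (hx : upper a ∈ H) (hy : lower b ∈ H) :
    ∃ (c₀ : ZMod p) (M Mi : M2) (h1 : M * Mi = 1) (h2 : Mi * M = 1), c₀ ≠ 0 ∧
      conjHom M Mi h1 h2 (upper 1) ∈ H ∧
      conjHom M Mi h1 h2 (lower (ZMod.castHom (dvd_refl p) F c₀)) ∈ H := by
  obtain ⟨x', y', hx', hy', hx'p, hy'p, htr⟩ := exists_pair (H := H) p hp2 ha hb hx hy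
  have h2ne : (2 : ZMod p) ≠ 0 := by
    intro h
    have h2' : ((2 : ℕ) : ZMod p) = 0 := by exact_mod_cast h
    rw [ZMod.natCast_eq_zero_iff] at h2'
    exact hp2 ((Nat.prime_dvd_prime_iff_eq hp.out Nat.prime_two).mp h2')
  rcases htr with h | h | h
  · obtain ⟨M, Mi, h1, h2, e1, e2⟩ := pair_normal_form p x' y' hx'p hy'p 1 one_ne_zero (by
      rw [h, map_one])
    exact ⟨1, M, Mi, h1, h2, one_ne_zero, e1 ▸ hx', e2 ▸ hy'⟩
  · obtain ⟨M, Mi, h1, h2, e1, e2⟩ := pair_normal_form p x' y' hx'p hy'p (-1)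
      (neg_ne_zero.mpr one_ne_zero) (by rw [h, map_neg, map_one]; ring)
    exact ⟨-1, M, Mi, h1, h2, neg_ne_zero.mpr one_ne_zero, e1 ▸ hx', e2 ▸ hy'⟩
  · obtain ⟨M, Mi, h1, h2, e1, e2⟩ := pair_normal_form p x' y' hx'p hy'p (-2)
      (neg_ne_zero.mpr h2ne) (by rw [h, map_neg, map_ofNat]; ring)
    exact ⟨-2, M, Mi, h1, h2, neg_ne_zero.mpr h2ne, e1 ▸ hx', e2 ▸ hy'⟩

end Cfsg.Agent.Lib.Lead.DicksonSL2
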