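import Cfsg.Agent.Lib.Lead.QuadNatD
import Cfsg.Agent.Lib.Lead.DicksonSL2n

/-!
Quadratic pairs and the natural module, part E (lead): graph subgroups and the main theorem.
-/

set_option autoImplicit false

namespace Cfsg.Agent.Lib.Lead.QuadNatural

open Matrix Cfsg.Agent.Lib.Helper9.SL2Upper Cfsg.Agent.Lib.Lead.DicksonBase
  Cfsg.Agent.Lib.Lead.DicksonSL2

section Functional

variable {A B : Type*} [Group A] [Group B]

/-- a functional subgroup of a product is the graph of a homomorphism -/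
theorem exists_hom_of_functional (Γ : Subgroup (A × B))
    (hfun : ∀ a b b', (a, b) ∈ Γ → (a, b') ∈ Γ → b = b') :
    ∃ θ : (Γ.map (MonoidHom.fst A B)) →* B,
      ∀ k : Γ.map (MonoidHom.fst A B), ((k : A), θ k) ∈ Γ := by
  have hex : ∀ k : Γ.map (MonoidHom.fst A B), ∃ b : B, ((k : A), b) ∈ Γ := by
    intro k
    obtain ⟨z, hz, hzk⟩ := Subgroup.mem_map.mp k.2
    refine ⟨z.2, ?_⟩
    have : ((k : A), z.2) = z := by
      rw [← hzk]; rfl
    rw [this]; exact hz
  choose t ht using hex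
  refine ⟨MonoidHom.mk' t ?_, ht⟩
  intro k k'
  apply hfun ((k * k' : Γ.map (MonoidHom.fst A B)) : A)
  · exact ht (k * k')
  · have := Γ.mul_mem (ht k) (ht k')
    exact this

end Functional

section Graph

variable {k : Type*} [Field k] {V : Type*} [AddCommGroup V] [Module k V]
variable {G : Type*} [Group G] (ρ : Representation k G V)
variable {R : Type*} [CommRing R] (ι : (Fin 2 → R) →+ V)

/-- pairs `(g, A)` with `g ∘ ι = ι ∘ A` -/
def graph : Subgroup (G × Matrix.SpecialLinearGroup (Fin 2) R) where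
  carrier := {z | ∀ u, ρ z.1 (ι u) = ι ((z.2 : Matrix (Fin 2) (Fin 2) R).mulVec u)}
  one_mem' := by
    intro u
    show ρ (1 : G) (ι u) = ι (((1 : Matrix.SpecialLinearGroup (Fin 2) R) :
      Matrix (Fin 2) (Fin 2) R).mulVec u)
    rw [map_one, Module.End.one_apply, Matrix.SpecialLinearGroup.coe_one, Matrix.one_mulVec]
  mul_mem' := by
    intro z w hz hw u
    show ρ (z.1 * w.1) (ι u) = ι (((z.2 * w.2 : Matrix.SpecialLinearGroup (Fin 2) R) :
      Matrix (Fin 2) (Fin 2) R).mulVec u)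
    rw [map_mul, Module.End.mul_apply, hw u, hz, Matrix.SpecialLinearGroup.coe_mul,
      Matrix.mulVec_mulVec]
  inv_mem' := by
    intro z hz u
    show ρ (z.1⁻¹) (ι u) = ι (((z.2⁻¹ : Matrix.SpecialLinearGroup (Fin 2) R) :
      Matrix (Fin 2) (Fin 2) R).mulVec u)
    have h := hz (((z.2⁻¹ : Matrix.SpecialLinearGroup (Fin 2) R) :
      Matrix (Fin 2) (Fin 2) R).mulVec u)
    rw [Matrix.mulVec_mulVec, ← Matrix.SpecialLinearGroup.coe_mul, mul_inv_cancel,
      Matrix.SpecialLinearGroup.coe_one, Matrix.one_mulVec] at h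
    rw [← h, ← Module.End.mul_apply, ← map_mul, inv_mul_cancel, map_one, Module.End.one_apply]

theorem mem_graph (z : G × Matrix.SpecialLinearGroup (Fin 2) R) :
    z ∈ graph ρ ι ↔ ∀ u, ρ z.1 (ι u) = ι ((z.2 : Matrix (Fin 2) (Fin 2) R).mulVec u) := Iff.rfl

theorem graph_functional (hι : Function.Injective ι) (g : G)
    (B B' : Matrix.SpecialLinearGroup (Fin 2) R)
    (h : (g, B) ∈ graph ρ ι) (h' : (g, B') ∈ graph ρ ι) : B = B' := by
  apply Subtype.ext
  apply Matrix.mulVec_injective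
  funext u
  apply hι
  rw [← h u, ← h' u]

end Graph

section Main

variable (p : ℕ) [hp : Fact p.Prime]

theorem upper_mulVec {R : Type*} [Field R] (s : R) (u : Fin 2 → R) :
    ((upper s : Matrix.SpecialLinearGroup (Fin 2) R) : Matrix (Fin 2) (Fin 2) R).mulVec u =
      ![u 0 + s * u 1, u 1] := by
  ext i
  fin_cases i <;> simp [Matrix.mulVec, dotProduct, Fin.sum_univ_two]

theorem lower_mulVec {R : Type*} [Field R] (s : R) (u : Fin 2 → R) :
    ((lower s : Matrix.SpecialLinearGroup (Fin 2) R) : Matrix (Fin 2) (Fin 2) R).mulVec u =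
      ![u 0, s * u 0 + u 1] := by
  ext i
  fin_cases i <;> simp [Matrix.mulVec, dotProduct, Fin.sum_univ_two]

/-- **Main theorem**: a quadratic pair not generating a `p`-group yields a natural `𝔽_p²` inside the
module. -/
theorem main (hp2 : p ≠ 2) {G : Type*} [Group G] {V : Type*} [AddCommGroup V]
    [Module (ZMod p) V] [Finite V] (ρ : Representation (ZMod p) G V) (x y : G)
    (hx : (ρ x - 1) * (ρ x - 1) = 0) (hy : (ρ y - 1) * (ρ y - 1) = 0)
    (hnp : ¬ ∀ g ∈ Subgroup.closure {x, y}, ∃ j : ℕ, g ^ p ^ j ∈ ρ.ker) :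
    ∃ (K₀ : Subgroup G) (θ : K₀ →* Matrix.SpecialLinearGroup (Fin 2) (ZMod p))
      (e : (Fin 2 → ZMod p) →ₗ[ZMod p] V),
      K₀ ≤ Subgroup.closure {x, y} ∧ Function.Surjective θ ∧ Function.Injective e ∧
      ∀ (k : K₀) (u : Fin 2 → ZMod p),
        ρ (k : G) (e u) = e ((θ k : Matrix (Fin 2) (Fin 2) (ZMod p)).mulVec u) := by
  haveI : FiniteDimensional (ZMod p) V := Module.Finite.of_finite
  set a := ρ x - 1 with ha
  set b := ρ y - 1 with hb
  have hc : ¬ IsNilpotent (a * b + b * a) := fun h => hnp (pgroup_of_nilpotent ρ p x y hx hy h)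
  obtain ⟨f, hfi, hf0, hker⟩ := exists_irreducible_factor _ hc
  haveI : Fact (Irreducible f) := ⟨hfi⟩
  obtain ⟨ι, hιinj, hιa, hιb⟩ := exists_embedding_of_ker f hf0 a b hx hy hker
  have hfne : f ≠ 0 := hfi.ne_zero
  haveI : Module.Finite (ZMod p) (AdjoinRoot f) := PowerBasis.finite (AdjoinRoot.powerBasis hfne)
  haveI : Finite (AdjoinRoot f) := Module.finite_of_finite (ZMod p)
  haveI : CharP (AdjoinRoot f) p :=
    charP_of_injective_algebraMap (algebraMap (ZMod p) (AdjoinRoot f)).injective p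
  haveI : Fintype (AdjoinRoot f) := Fintype.ofFinite _
  set γ := AdjoinRoot.root f with hγdef
  have hγ : γ ≠ 0 := root_ne_zero f hf0
  have hρx : ∀ v, ρ x v = v + a v := by
    intro v
    rw [ha, LinearMap.sub_apply, Module.End.one_apply]; abel
  have hρy : ∀ v, ρ y v = v + b v := by
    intro v
    rw [hb, LinearMap.sub_apply, Module.End.one_apply]; abel
  have hxΓ : ((x, upper γ) : G × Matrix.SpecialLinearGroup (Fin 2) (AdjoinRoot f)) ∈
      graph ρ ι := by
    intro u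
    show ρ x (ι u) = ι _
    rw [hρx, hιa, upper_mulVec]
  have hyΓ : ((y, lower 1) : G × Matrix.SpecialLinearGroup (Fin 2) (AdjoinRoot f)) ∈
      graph ρ ι := by
    intro u
    show ρ y (ι u) = ι _
    rw [hρy, hιb, lower_mulVec, one_mul]
  set Γ₀ := Subgroup.closure
    {((x, upper γ) : G × Matrix.SpecialLinearGroup (Fin 2) (AdjoinRoot f)), (y, lower 1)} with hΓ₀
  have hΓ₀le : Γ₀ ≤ graph ρ ι := by
    rw [hΓ₀, Subgroup.closure_le]
    intro z hz
    rcases hz with rfl | rfl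
    · exact hxΓ
    · exact hyΓ
  have hΓ₀fst : Γ₀.map (MonoidHom.fst G _) = Subgroup.closure {x, y} := by
    rw [hΓ₀, MonoidHom.map_closure, Set.image_pair]
    rfl
  set L := Γ₀.map (MonoidHom.snd G (Matrix.SpecialLinearGroup (Fin 2) (AdjoinRoot f))) with hL
  have huL : upper γ ∈ L := by
    rw [hL]
    exact ⟨(x, upper γ), Subgroup.subset_closure (by simp), rfl⟩
  have hlL : lower (1 : AdjoinRoot f) ∈ L := by
    rw [hL]
    exact ⟨(y, lower 1), Subgroup.subset_closure (by simp), rfl⟩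
  haveI : Finite (Matrix.SpecialLinearGroup (Fin 2) (AdjoinRoot f)) := inferInstance
  obtain ⟨c₀, M, Mi, h1, h2, hc₀, hxM, hyM⟩ :=
    exists_std_pair (H := L) p hp2 hγ one_ne_zero huL hlL
  obtain ⟨z₁, hz₁Γ, hz₁⟩ := Subgroup.mem_map.mp hxM
  obtain ⟨z₂, hz₂Γ, hz₂⟩ := Subgroup.mem_map.mp hyM
  have hz₁' : z₁.2 = conjHom M Mi h1 h2 (upper 1) := hz₁
  have hz₂' : z₂.2 = conjHom M Mi h1 h2 (lower (ZMod.castHom (dvd_refl p) (AdjoinRoot f) c₀)) :=
    hz₂
  set φ : ZMod p →+* AdjoinRoot f := ZMod.castHom (dvd_refl p) (AdjoinRoot f) with hφ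
  -- the 𝔽_p-form
  let e₀ : (Fin 2 → ZMod p) →+ V :=
    ι.comp ((Matrix.mulVecLin M).toAddMonoidHom.comp (φ.toAddMonoidHom.compLeft (Fin 2)))
  have he₀ : ∀ u, e₀ u = ι (M.mulVec (φ ∘ u)) := fun u => rfl
  have he₀inj : Function.Injective e₀ := by
    intro u w huw
    rw [he₀, he₀] at huw
    have h3 := hιinj huw
    have h4 : φ ∘ u = φ ∘ w := by
      have := congrArg (fun t => Mi.mulVec t) h3
      simp only [Matrix.mulVec_mulVec, h2, Matrix.one_mulVec] at this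
      exact this
    funext i
    exact φ.injective (congrFun h4 i)
  have key : ∀ (z : G × Matrix.SpecialLinearGroup (Fin 2) (AdjoinRoot f))
      (B : Matrix.SpecialLinearGroup (Fin 2) (ZMod p)), z ∈ graph ρ ι →
      (∀ u : Fin 2 → ZMod p, (z.2 : Matrix (Fin 2) (Fin 2) (AdjoinRoot f)).mulVec
        (M.mulVec (φ ∘ u)) = M.mulVec (φ ∘ ((B : Matrix (Fin 2) (Fin 2) (ZMod p)).mulVec u))) →
      ((z.1, B) : G × Matrix.SpecialLinearGroup (Fin 2) (ZMod p)) ∈ graph ρ e₀ := by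
    intro z B hz hB u
    show ρ z.1 (e₀ u) = e₀ _
    rw [he₀, he₀, hz, hB]
  have hconj : ∀ (A : Matrix.SpecialLinearGroup (Fin 2) (AdjoinRoot f)) (w : Fin 2 → AdjoinRoot f),
      ((conjHom M Mi h1 h2 A : Matrix.SpecialLinearGroup (Fin 2) (AdjoinRoot f)) :
        Matrix (Fin 2) (Fin 2) (AdjoinRoot f)).mulVec (M.mulVec w) =
      M.mulVec ((A : Matrix (Fin 2) (Fin 2) (AdjoinRoot f)).mulVec w) := by
    intro A w
    rw [conjHom_coe, Matrix.mulVec_mulVec, Matrix.mulVec_mulVec]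
    congr 1
    calc M * (A : Matrix (Fin 2) (Fin 2) (AdjoinRoot f)) * Mi * M
        = M * (A : Matrix (Fin 2) (Fin 2) (AdjoinRoot f)) * (Mi * M) := by simp only [mul_assoc]
      _ = M * (A : Matrix (Fin 2) (Fin 2) (AdjoinRoot f)) := by rw [h2, mul_one]
  have hg₁ : ((z₁.1, upper 1) : G × Matrix.SpecialLinearGroup (Fin 2) (ZMod p)) ∈ graph ρ e₀ := by
    apply key z₁ _ (hΓ₀le hz₁Γ)
    intro u
    rw [hz₁', hconj, upper_mulVec, upper_mulVec]
    congr 1
    ext i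
    fin_cases i <;> simp
  have hg₂ : ((z₂.1, lower c₀) : G × Matrix.SpecialLinearGroup (Fin 2) (ZMod p)) ∈ graph ρ e₀ := by
    apply key z₂ _ (hΓ₀le hz₂Γ)
    intro u
    rw [hz₂', hconj, lower_mulVec, lower_mulVec]
    congr 1
    ext i
    fin_cases i <;> simp
  set Γ₁ := Subgroup.closure
    {((z₁.1, upper 1) : G × Matrix.SpecialLinearGroup (Fin 2) (ZMod p)), (z₂.1, lower c₀)} with hΓ₁
  have hΓ₁le : Γ₁ ≤ graph ρ e₀ := by
    rw [hΓ₁, Subgroup.closure_le]
    intro z hz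
    rcases hz with rfl | rfl
    · exact hg₁
    · exact hg₂
  have hfun : ∀ g B B', ((g, B) : G × Matrix.SpecialLinearGroup (Fin 2) (ZMod p)) ∈ Γ₁ →
      (g, B') ∈ Γ₁ → B = B' := by
    intro g B B' h h'
    exact graph_functional ρ e₀ he₀inj g B B' (hΓ₁le h) (hΓ₁le h')
  obtain ⟨θ, hθ⟩ := exists_hom_of_functional Γ₁ hfun
  have hfst : Γ₁.map (MonoidHom.fst G _) = Subgroup.closure {z₁.1, z₂.1} := by
    rw [hΓ₁, MonoidHom.map_closure, Set.image_pair]
    rfl
  have hsnd : Γ₁.map (MonoidHom.snd G (Matrix.SpecialLinearGroup (Fin 2) (ZMod p))) = ⊤ := by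
    rw [hΓ₁, MonoidHom.map_closure, Set.image_pair]
    exact closure_upper_lower (1 : ZMod p) c₀ one_ne_zero hc₀
  have hz₁x : z₁.1 ∈ Subgroup.closure {x, y} := by
    rw [← hΓ₀fst]
    exact ⟨z₁, hz₁Γ, rfl⟩
  have hz₂x : z₂.1 ∈ Subgroup.closure {x, y} := by
    rw [← hΓ₀fst]
    exact ⟨z₂, hz₂Γ, rfl⟩
  refine ⟨Γ₁.map (MonoidHom.fst G _), θ, AddMonoidHom.toZModLinearMap p e₀, ?_, ?_, he₀inj, ?_⟩
  · rw [hfst, Subgroup.closure_le]
    intro z hz
    rcases hz with rfl | rfl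
    · exact hz₁x
    · exact hz₂x
  · intro B
    have hB : B ∈ Γ₁.map (MonoidHom.snd G (Matrix.SpecialLinearGroup (Fin 2) (ZMod p))) := by
      rw [hsnd]; exact Subgroup.mem_top B
    obtain ⟨z, hz, hzB⟩ := Subgroup.mem_map.mp hB
    have hz1 : z.1 ∈ Γ₁.map (MonoidHom.fst G _) := ⟨z, hz, rfl⟩
    refine ⟨⟨z.1, hz1⟩, ?_⟩
    apply hfun z.1
    · exact hθ ⟨z.1, hz1⟩
    · have : ((z.1, B) : G × Matrix.SpecialLinearGroup (Fin 2) (ZMod p)) = z := by
        rw [← hzB]; rfl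
      rw [this]; exact hz
  · intro k u
    exact hΓ₁le (hθ k) u

end Main

end Cfsg.Agent.Lib.Lead.QuadNatural
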