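import Mathlib

/-!
Final arithmetic lemma for the class-equation proof of Dickson's theorem in characteristic `2`
(lead).
-/

set_option autoImplicit false

namespace Cfsg.Agent.Lib.Lead.DicksonNum

theorem lemD2 (Q n kb t : ℕ) (hQ2 : 2 ∣ Q) (hQ4 : 4 ≤ Q) (hkQ : kb + 1 ≤ Q) (hn : 2 ≤ n)
    (ht : 2 ≤ t) (hdvd : Q ∣ n - 1)
    (heq : n * Q * kb + t * (2 * n) = t * (n * Q + 2)) : n = Q + 1 := by
  obtain ⟨r, hr⟩ := hdvd
  have hn' : n = Q * r + 1 := by omega
  subst hn'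
  have hr1 : 1 ≤ r := by
    rcases Nat.eq_zero_or_pos r with h | h
    · subst h; simp at hn
    · exact h
  have hQpos : (Q : ℤ) ≠ 0 := by
    have : 0 < Q := by omega
    exact_mod_cast this.ne'
  -- key equation
  have h1 : (kb : ℤ) * (Q * r + 1) + 2 * r * t = t * (Q * r + 1) := by
    have hz : (((Q * r + 1) * Q * kb + t * (2 * (Q * r + 1)) : ℕ) : ℤ) =
        ((t * ((Q * r + 1) * Q + 2) : ℕ) : ℤ) := by rw [heq]
    push_cast at hz
    have : (Q : ℤ) * ((kb : ℤ) * (Q * r + 1) + 2 * r * t) = Q * (t * (Q * r + 1)) := by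
      linear_combination hz
    exact mul_left_cancel₀ hQpos this
  -- n ∣ 2 r t
  have hd : (Q * r + 1) ∣ (2 * r) * t := by
    have : ((Q * r + 1 : ℕ) : ℤ) ∣ (((2 * r) * t : ℕ) : ℤ) := by
      refine ⟨(t : ℤ) - kb, ?_⟩
      push_cast
      linear_combination h1
    exact Int.natCast_dvd_natCast.mp this
  obtain ⟨q', hq'⟩ := hQ2
  have hcop : Nat.Coprime (Q * r + 1) (2 * r) := by
    have e : Q * r + 1 = 1 + (2 * r) * q' := by rw [hq']; ring
    rw [e, Nat.coprime_add_mul_left_left]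
    exact Nat.coprime_one_left _
  obtain ⟨j, hj⟩ := hcop.dvd_of_dvd_mul_left hd
  have hj1 : 1 ≤ j := by
    rcases Nat.eq_zero_or_pos j with h | h
    · subst h; omega
    · exact h
  -- kb + 2 r j = j (Q r + 1)
  have h2 : (kb : ℤ) + 2 * r * j = j * (Q * r + 1) := by
    have hnpos : ((Q : ℤ) * r + 1) ≠ 0 := by positivity
    have h3 : ((Q : ℤ) * r + 1) * ((kb : ℤ) + 2 * r * j) = (Q * r + 1) * (j * (Q * r + 1)) := by
      have ht' : (t : ℤ) = (Q * r + 1) * j := by exact_mod_cast hj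
      rw [ht'] at h1
      linear_combination h1
    exact mul_left_cancel₀ hnpos h3
  -- r = 1
  have hr' : r = 1 := by
    by_contra hne
    have hr2 : 2 ≤ r := by omega
    obtain ⟨Q'', rfl⟩ : ∃ Q'', Q = Q'' + 4 := ⟨Q - 4, by omega⟩
    have h4 : (kb : ℤ) = j * ((Q'' + 2) * r + 1) := by
      push_cast at h2
      linear_combination h2
    have hj' : (1 : ℤ) ≤ j := by exact_mod_cast hj1
    have hr2' : (2 : ℤ) ≤ r := by exact_mod_cast hr2
    have hQ0 : (0 : ℤ) ≤ Q'' := by positivity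
    have h5 : (kb : ℤ) ≥ (Q'' + 2) * r + 1 := by
      rw [h4]
      have : (0 : ℤ) ≤ (Q'' + 2) * r + 1 := by positivity
      nlinarith
    have h6 : (kb : ℤ) + 1 ≤ Q'' + 4 := by exact_mod_cast hkQ
    nlinarith
  subst hr'
  ring

end Cfsg.Agent.Lib.Lead.DicksonNum
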