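import Cfsg.Agent.Lib.Lead.DicksonSL2e

/-!
Subgroups of `SL₂(F)`: the hypotheses of the abstract theorem hold; the case of `|P| + 1` Sylow
subgroups (lead).
-/

set_option autoImplicit false

namespace Cfsg.Agent.Lib.Lead.DicksonSL2

open Matrix Cfsg.Agent.Lib.Helper9.SL2Upper Cfsg.Agent.Lib.Lead.DicksonBase
  Cfsg.Agent.Lib.Helper15.TwoByTwo Cfsg.Agent.Lib.Lead.SL2Scalar Cfsg.Agent.Lib.Lead.DicksonCA

variable {F : Type*} [Field F]

local notation "SL2" => Matrix.SpecialLinearGroup (Fin 2) F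
local notation "M2" => Matrix (Fin 2) (Fin 2) F

variable {H : Subgroup (Matrix.SpecialLinearGroup (Fin 2) F)}

variable (p : ℕ) [hp : Fact p.Prime] [CharP F p]

theorem hyp_of [Finite H] (hp2 : p ≠ 2) (hne : PH H ≠ ⊥) (hnB : ∃ y : H, (y : SL2) ∉ Borel) :
    DicksonAbs.Hyp (ZH H) p (sylowPH p hne) where
  ca := isCA
  hP1 := hne
  hzp := by
    have h2 : (2 : F) ≠ 0 := two_ne_zero_of_char p hp2
    have h1 := card_ZH_dvd (H := H) h2
    exact Nat.Coprime.coprime_dvd_left h1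
      ((Nat.coprime_primes Nat.prime_two hp.out).mpr (Ne.symm hp2))
  hPC := fun u hu hu1 => C_of_mem_PH p hp2 hu hu1
  hT := fun g hg hnd => card_normalizer_C p hp2 hg hnd
  hA := by
    intro a ha b hb
    rw [sylowPH_coe, normalizer_PH hne, mem_BH] at ha hb
    rw [sylowPH_coe, mem_PH]
    have := comm_mem_Uni ha hb
    simpa using this
  hB := by
    intro h hh hnZP c hc
    rw [sylowPH_coe, normalizer_PH hne, mem_BH] at hh ⊢
    rw [sylowPH_coe] at hnZP
    have hk : ((h : SL2) : M2) 0 0 ^ 2 ≠ 1 := fun hd => hnZP (mem_ZP_of_diag p hp2 hh hd)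
    have hch : c * h = h * c := mem_C.mp hc
    apply mem_Borel_of_commute hh hk
    rw [← Subgroup.coe_mul, ← Subgroup.coe_mul, hch]
  hn := by
    rw [sylowPH_coe, normalizer_PH hne]
    intro htop
    obtain ⟨y, hy⟩ := hnB
    apply hy
    rw [← mem_BH, htop]
    exact Subgroup.mem_top y

/-- the dichotomy for non-`p`-closed subgroups of `SL₂(F)` -/
theorem dichotomy [Finite H] (hp2 : p ≠ 2) (hne : PH H ≠ ⊥) (hnB : ∃ y : H, (y : SL2) ∉ Borel) :
    (BH H).index = Nat.card (PH H) + 1 ∨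
    (Nat.card (PH H) = 3 ∧ ∀ x : H, x ^ 6 = 1 ∨ x ^ 4 = 1 ∨ x ^ 10 = 1) := by
  have h2 : (2 : F) ≠ 0 := two_ne_zero_of_char p hp2
  have := DicksonAbs.main (hyp_of p hp2 hne hnB) hp2 (card_ZH_dvd h2)
  rw [sylowPH_coe, normalizer_PH hne] at this
  exact this

end Cfsg.Agent.Lib.Lead.DicksonSL2
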