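import Mathlib
import Cfsg.Agent.Lib.Lead.UniqueOrderP
import Cfsg.Agent.Lib.Lead.CyclicMax
import Cfsg.Agent.Lib.Lead.QuatIso

/-! A finite `p`-group with a unique subgroup of order `p` is cyclic or generalized quaternion
(Gorenstein 5.4.10 (ii)). -/

set_option autoImplicit false

namespace Cfsg.Agent.Lib.Lead.UniqueSubgroup

open Subgroup
open Cfsg.Agent.Lib.Lead.UniqueOrderP
open Cfsg.Agent.Lib.Lead.CyclicMax

universe u

section Small
variable {K : Type u} [Group K]

theorem comm_of_card_le_sq [Finite K] {p : ℕ} [hp : Fact p.Prime] {n : ℕ} (hn : n ≤ 2)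
    (hK : Nat.card K = p ^ n) : ∀ x y : K, x * y = y * x := by
  interval_cases n
  · have : Subsingleton K := by
      rw [← Finite.card_le_one_iff_subsingleton]
      simp [hK]
    intro x y; rw [Subsingleton.elim x y]
  · have : IsCyclic K := isCyclic_of_prime_card (p := p) (by simpa using hK)
    intro x y
    letI := IsCyclic.commGroup (α := K)
    exact mul_comm x y
  · exact IsPGroup.commutative_of_card_eq_prime_sq hK

theorem orderOf_pow_pred {p : ℕ} [hp : Fact p.Prime] {a : K} {m : ℕ} (hm : 1 ≤ m)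
    (ha : orderOf a = p ^ m) : orderOf (a ^ (p ^ (m - 1))) = p := by
  rw [orderOf_pow_of_dvd (pow_ne_zero _ hp.out.ne_zero) (by rw [ha]; exact pow_dvd_pow p (by omega)), ha]
  obtain ⟨k, rfl⟩ : ∃ k, m = k + 1 := ⟨m - 1, by omega⟩
  rw [Nat.add_sub_cancel, pow_succ, Nat.mul_div_cancel_left _ (pow_pos hp.out.pos k)]

theorem mem_zpowers_of_orderOf {p : ℕ} [hp : Fact p.Prime] (huniq : UniqueOrderP p K) {a x : K} {m : ℕ}
    (hm : 1 ≤ m) (ha : orderOf a = p ^ m) (hx : orderOf x = p) : x ∈ zpowers a := by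
  have h1 := huniq.mem_zpowers (orderOf_pow_pred hm ha) hx
  exact (zpowers_le.mpr (Subgroup.pow_mem _ (mem_zpowers a) _)) h1

/-- odd `p`: a `p`-group with a unique subgroup of order `p` and a cyclic maximal subgroup is abelian -/
theorem comm_of_cyclic_index_odd [Finite K] {p : ℕ} [hp : Fact p.Prime] (hp2 : p ≠ 2) (n : ℕ)
    (hK : Nat.card K = p ^ n) (C : Subgroup K) (hC : IsCyclic C) (hCi : C.index = p)
    (huniq : UniqueOrderP p K) : ∀ x y : K, x * y = y * x := by
  by_contra hna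
  push_neg at hna
  have hn : 3 ≤ n := by
    by_contra h
    obtain ⟨x, y, hxy⟩ := hna
    exact hxy (comm_of_card_le_sq (by omega) hK x y)
  obtain ⟨a, b, horda, -, hordb, hb, -⟩ := exists_gens_odd hp2 n hn hK C hC hCi hna
  exact hb (mem_zpowers_of_orderOf huniq (by omega : 1 ≤ n - 1) horda hordb)

/-- `p = 2`: a nonabelian `2`-group with a unique involution and a cyclic maximal subgroup is
generalized quaternion -/
theorem quaternion_of_cyclic_index_two [Finite K] (n : ℕ)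
    (hK : Nat.card K = 2 ^ n) (C : Subgroup K) (hC : IsCyclic C) (hCi : C.index = 2)
    (huniq : UniqueOrderP 2 K) (hna : ∃ x y : K, x * y ≠ y * x) :
    3 ≤ n ∧ ∃ a b : K, orderOf a = 2 ^ (n - 1) ∧ C = zpowers a ∧ b ∉ zpowers a ∧
      b ^ 2 = a ^ (2 ^ (n - 2)) ∧ b * a * b⁻¹ = a⁻¹ := by
  have : Fact (Nat.Prime 2) := ⟨Nat.prime_two⟩
  have hn : 3 ≤ n := by
    by_contra h
    obtain ⟨x, y, hxy⟩ := hna
    exact hxy (comm_of_card_le_sq (p := 2) (by omega) hK x y)
  refine ⟨hn, ?_⟩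
  obtain ⟨a, b, horda, hCa, hb, hcases⟩ := exists_gens_two n hn hK C hC hCi hna
  have hb2 : b ^ 2 = 1 → False := by
    intro h
    have hb1 : b ≠ 1 := by
      rintro rfl
      exact hb (one_mem _)
    have hordb : orderOf b = 2 := orderOf_eq_prime h hb1
    exact hb (mem_zpowers_of_orderOf huniq (by omega : 1 ≤ n - 1) horda hordb)
  rcases hcases with ⟨h, -⟩ | ⟨h1, h2⟩ | ⟨-, h, -⟩ | ⟨-, h, -⟩
  · exact (hb2 h).elim
  · exact ⟨a, b, horda, hCa, hb, h1, h2⟩
  · exact (hb2 h).elim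
  · exact (hb2 h).elim

end Small

section Main
variable {G : Type u} [Group G]

/-- Key lemma: if `A` is a cyclic self-centralizing normal subgroup of a `p`-group `G` with a unique
subgroup of order `p`, then any `g ∉ A` with `g ^ p ∈ A` inverts `A`, and `p = 2`, `4 ∣ |A|`. -/
theorem key [Finite G] {p : ℕ} [hp : Fact p.Prime] (hG : IsPGroup p G) (huniq : UniqueOrderP p G)
    (A : Subgroup G) [hA : A.Normal] (hAc : IsCyclic A) (hcent : centralizer (A : Set G) = A)
    (g : G) (hgA : g ∉ A) (hgp : g ^ p ∈ A) :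
    p = 2 ∧ (∀ x ∈ A, g * x * g⁻¹ = x⁻¹) ∧ 4 ∣ Nat.card A := by
  -- the subgroup `H = ⟨A, g⟩` as a preimage
  set π := QuotientGroup.mk' A with hπ
  have hπg1 : π g ≠ 1 := by
    intro h
    exact hgA ((QuotientGroup.eq_one_iff g).mp h)
  have hπgp : (π g) ^ p = 1 := by
    rw [← map_pow]
    exact (QuotientGroup.eq_one_iff _).mpr hgp
  have hord : orderOf (π g) = p := orderOf_eq_prime hπgp hπg1
  set Q : Subgroup (G ⧸ A) := zpowers (π g) with hQ
  have hQcard : Nat.card Q = p := by rw [Nat.card_zpowers, hord]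
  set H : Subgroup G := Q.comap π with hH
  have hAH : A ≤ H := by
    intro x hx
    rw [hH, mem_comap]
    have : π x = 1 := (QuotientGroup.eq_one_iff x).mpr hx
    rw [this]
    exact one_mem _
  have hgH : g ∈ H := by
    rw [hH, mem_comap]
    exact mem_zpowers _
  have hrel : A.relIndex H = p := by
    have h1 : A.relIndex H * H.index = A.index := relIndex_mul_index hAH
    have h2 : H.index = Q.index := index_comap_of_surjective Q (QuotientGroup.mk'_surjective A)
    have h3 : A.index = Nat.card Q * Q.index := by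
      rw [Subgroup.card_mul_index, Subgroup.index_eq_card]
    rw [h2, h3, hQcard] at h1
    have hQi : Q.index ≠ 0 := Subgroup.index_ne_zero_of_finite
    exact Nat.eq_of_mul_eq_mul_right (Nat.pos_of_ne_zero hQi) h1
  -- data for `↥H`
  obtain ⟨n, hn⟩ := (hG.to_subgroup H).exists_card_eq
  have hCc : IsCyclic (A.subgroupOf H) :=
    (Subgroup.subgroupOfEquivOfLe hAH).isCyclic.mpr hAc
  have hCi : (A.subgroupOf H).index = p := hrel
  have huH : UniqueOrderP p ↥H := huniq.subgroup H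
  -- `↥H` is not abelian
  have hna : ∃ x y : ↥H, x * y ≠ y * x := by
    by_contra hcon
    push_neg at hcon
    apply hgA
    rw [← hcent, mem_centralizer_iff]
    intro x hx
    have := hcon ⟨x, hAH hx⟩ ⟨g, hgH⟩
    exact congrArg Subtype.val this
  have hp2 : p = 2 := by
    by_contra hp2
    obtain ⟨x, y, hxy⟩ := hna
    exact hxy (comm_of_cyclic_index_odd hp2 n hn _ hCc hCi huH x y)
  subst hp2
  refine ⟨rfl, ?_⟩
  obtain ⟨hn3, a, b, horda, hCa, hb, -, hinv⟩ :=
    quaternion_of_cyclic_index_two n hn _ hCc hCi huH hna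
  have hcardA : Nat.card A = 2 ^ (n - 1) := by
    rw [← Nat.card_congr (Subgroup.subgroupOfEquivOfLe hAH).toEquiv, hCa, Nat.card_zpowers, horda]
  constructor
  · -- inversion
    have hinv' : ∀ x ∈ zpowers a, b * x * b⁻¹ = x⁻¹ := by
      intro x hx
      obtain ⟨j, rfl⟩ := mem_zpowers_iff.mp hx
      have h1 : b * a * b⁻¹ = a ^ (-1 : ℤ) := by rw [hinv]; simp
      rw [conj_zpow_of_conj h1 j]
      simp
    set g' : ↥H := ⟨g, hgH⟩ with hg'
    have hg'C : g' ∉ zpowers a := by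
      rw [← hCa, mem_subgroupOf]
      exact hgA
    have hCi' : (zpowers a).index = 2 := by rw [← hCa]; exact hCi
    have hgb : g' * b⁻¹ ∈ zpowers a := by
      rw [mul_mem_iff_of_index_two hCi']
      constructor
      · intro h; exact absurd h hg'C
      · intro h; exact absurd (inv_mem_iff.mp h) hb
    have hall : ∀ x ∈ zpowers a, g' * x * g'⁻¹ = x⁻¹ := by
      intro x hx
      obtain ⟨i, hi⟩ := mem_zpowers_iff.mp hgb
      obtain ⟨j, rfl⟩ := mem_zpowers_iff.mp hx
      have hg'eq : g' = a ^ i * b := by rw [hi]; group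
      have h2 := hinv' (a ^ j) hx
      calc g' * a ^ j * g'⁻¹ = a ^ i * (b * a ^ j * b⁻¹) * (a ^ i)⁻¹ := by rw [hg'eq]; group
        _ = a ^ i * (a ^ j)⁻¹ * (a ^ i)⁻¹ := by rw [h2]
        _ = (a ^ j)⁻¹ := by
          rw [← zpow_neg, ← zpow_neg, ← zpow_add, ← zpow_add]
          congr 1
          ring
    intro x hx
    have hxC : (⟨x, hAH hx⟩ : ↥H) ∈ zpowers a := by
      rw [← hCa, mem_subgroupOf]
      exact hx
    have := hall _ hxC
    exact congrArg Subtype.val this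
  · rw [hcardA]
    obtain ⟨k, rfl⟩ : ∃ k, n = k + 3 := ⟨n - 3, by omega⟩
    have : k + 3 - 1 = k + 2 := by omega
    rw [this, pow_add]
    exact Dvd.intro_left _ rfl

/-- **Gorenstein 5.4.10 (ii)**: a finite `p`-group with a unique subgroup of order `p` is cyclic or
generalized quaternion. -/
theorem cyclic_or_quaternion [Finite G] {p : ℕ} [hp : Fact p.Prime] (hG : IsPGroup p G)
    (huniq : UniqueOrderP p G) :
    IsCyclic G ∨ (p = 2 ∧ ∃ n : ℕ, Nonempty (G ≃* QuaternionGroup (2 ^ n))) := by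
  by_cases hcomm : ∀ x y : G, x * y = y * x
  · exact Or.inl (abelian_cyclic hG hcomm huniq)
  right
  push_neg at hcomm
  -- maximal normal abelian subgroup
  obtain ⟨A, -, hAmax⟩ := Finite.exists_le_maximal
    (p := fun B : Subgroup G => B.Normal ∧ ∀ x ∈ B, ∀ y ∈ B, x * y = y * x) (a := ⊥)
    ⟨inferInstance, by
      intro x hx y hy
      rw [mem_bot] at hx hy
      rw [hx, hy]⟩
  obtain ⟨⟨hAn, hAab⟩, hAm⟩ := hAmax
  haveI := hAn
  have hcent : centralizer (A : Set G) = A :=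
    centralizer_eq_of_maximal_normal_abelian hG A hAab (by
      intro B hBn hBab hAB
      exact le_antisymm (hAm ⟨hBn, hBab⟩ hAB) hAB)
  have hAc : IsCyclic A := abelian_cyclic (hG.to_subgroup A) (by
      intro x y; exact Subtype.ext (hAab x x.2 y y.2)) (huniq.subgroup A)
  have hAtop : A ≠ ⊤ := by
    rintro rfl
    obtain ⟨x, y, hxy⟩ := hcomm
    exact hxy (hAab x (mem_top x) y (mem_top y))
  -- existence of g ∉ A with g^p ∈ A
  have hex : ∃ g, g ∉ A ∧ g ^ p ∈ A := by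
    obtain ⟨g₀, hg₀⟩ : ∃ g₀, g₀ ∉ A := by
      by_contra h; push_neg at h
      exact hAtop (eq_top_iff.mpr fun x _ => h x)
    have hex' : ∃ k, g₀ ^ (p ^ k) ∈ A := by
      obtain ⟨k, hk⟩ := hG g₀
      exact ⟨k, by rw [hk]; exact one_mem _⟩
    classical
    obtain ⟨k, hk, hmin⟩ : ∃ k, g₀ ^ (p ^ k) ∈ A ∧ ∀ j < k, g₀ ^ (p ^ j) ∉ A :=
      ⟨Nat.find hex', Nat.find_spec hex', fun j hj => Nat.find_min hex' hj⟩
    have hk1 : k ≠ 0 := by
      rintro rfl
      simp at hk
      exact hg₀ hk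
    refine ⟨g₀ ^ (p ^ (k - 1)), hmin (k - 1) (by omega), ?_⟩
    rw [← pow_mul, ← pow_succ]
    have : k - 1 + 1 = k := by omega
    rw [this]
    exact hk
  obtain ⟨g₁, hg₁A, hg₁p⟩ := hex
  obtain ⟨hp2, hinv₁, h4⟩ := key hG huniq A hAc hcent g₁ hg₁A hg₁p
  subst hp2
  refine ⟨rfl, ?_⟩
  -- every element outside A has square in A
  obtain ⟨a₀, ha₀⟩ := (Subgroup.isCyclic_iff_exists_zpowers_eq_top A).mp hAc
  have horda₀ : orderOf a₀ = Nat.card A := by rw [← ha₀, Nat.card_zpowers]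
  have ha₀A : a₀ ∈ A := by rw [← ha₀]; exact mem_zpowers a₀
  have hsq : ∀ g, g ∉ A → g ^ 2 ∈ A := by
    intro g hg
    by_contra hg2
    have hex' : ∃ k, g ^ (2 ^ k) ∈ A := by
      obtain ⟨k, hk⟩ := hG g
      exact ⟨k, by rw [hk]; exact one_mem _⟩
    classical
    obtain ⟨k, hk, hmin⟩ : ∃ k, g ^ (2 ^ k) ∈ A ∧ ∀ j < k, g ^ (2 ^ j) ∉ A :=
      ⟨Nat.find hex', Nat.find_spec hex', fun j hj => Nat.find_min hex' hj⟩
    have hk2 : 2 ≤ k := by
      by_contra hlt
      push_neg at hlt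
      interval_cases k
      · simp at hk; exact hg hk
      · simp at hk; exact hg2 hk
    set h := g ^ (2 ^ (k - 2)) with hh
    have hh2 : h ^ 2 = g ^ (2 ^ (k - 1)) := by
      rw [hh, ← pow_mul, ← pow_succ]
      congr 2
      omega
    have hh2A : h ^ 2 ∉ A := by
      rw [hh2]; exact hmin (k - 1) (by omega)
    have hh4A : (h ^ 2) ^ 2 ∈ A := by
      rw [hh2, ← pow_mul, ← pow_succ]
      have : k - 1 + 1 = k := by omega
      rw [this]; exact hk
    obtain ⟨-, hinvh, -⟩ := key hG huniq A hAc hcent (h ^ 2) hh2A hh4A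
    have hconjA : h * a₀ * h⁻¹ ∈ zpowers a₀ := by
      rw [ha₀]; exact hAn.conj_mem a₀ ha₀A h
    obtain ⟨r, hr⟩ := mem_zpowers_iff.mp hconjA
    have h1 := pow_conj_of_conj hr.symm 2
    rw [hinvh a₀ ha₀A] at h1
    have h2 : a₀ ^ (r ^ 2) = a₀ ^ (-1 : ℤ) := by rw [← h1]; simp
    have h3 := dvd_sub_of_zpow_eq horda₀ h2
    have h4r : (4 : ℤ) ∣ r ^ 2 + 1 := by
      have : ((4 : ℕ) : ℤ) ∣ ((Nat.card A : ℕ) : ℤ) := Int.natCast_dvd_natCast.mpr h4
      have := dvd_trans this h3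
      simpa using this
    have hno : ∀ t : ZMod 4, t ^ 2 + 1 ≠ 0 := by decide
    apply hno (r : ZMod 4)
    have := (ZMod.intCast_zmod_eq_zero_iff_dvd (r ^ 2 + 1) 4).mpr h4r
    push_cast at this
    exact this
  have hinv : ∀ g, g ∉ A → ∀ x ∈ A, g * x * g⁻¹ = x⁻¹ := by
    intro g hg
    exact (key hG huniq A hAc hcent g hg (hsq g hg)).2.1
  have hidx : A.index = 2 := by
    rw [index_eq_two_iff]
    refine ⟨g₁, fun b => ?_⟩
    by_cases hb : b ∈ A
    · refine Or.inr ⟨hb, ?_⟩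
      intro h
      exact hg₁A ((mul_mem_cancel_left hb).mp h)
    · refine Or.inl ⟨?_, hb⟩
      rw [← hcent, mem_centralizer_iff]
      intro x hx
      have h1 := hinv g₁ hg₁A x hx
      have h2 := hinv b hb x⁻¹ (inv_mem hx)
      have h3 : b * g₁ * x * (b * g₁)⁻¹ = x := by
        calc b * g₁ * x * (b * g₁)⁻¹ = b * (g₁ * x * g₁⁻¹) * b⁻¹ := by group
          _ = b * x⁻¹ * b⁻¹ := by rw [h1]
          _ = x := by rw [h2, inv_inv]
      calc x * (b * g₁) = (b * g₁ * x * (b * g₁)⁻¹) * (b * g₁) := by rw [h3]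
        _ = b * g₁ * x := by group
  obtain ⟨n, hn⟩ := hG.exists_card_eq
  obtain ⟨hn3, a, b, horda, -, hb, hb2, hinvab⟩ :=
    quaternion_of_cyclic_index_two n hn A hAc hidx huniq hcomm
  refine ⟨n - 2, ?_⟩
  obtain ⟨k, rfl⟩ : ∃ k, n = k + 2 := ⟨n - 2, by omega⟩
  have e1 : k + 2 - 1 = k + 1 := by omega
  have e2 : k + 2 - 2 = k := by omega
  rw [e1] at horda
  rw [e2] at hb2 ⊢
  exact QuatIso.nonempty_mulEquiv_quaternionGroup (N := 2 ^ k) (by rw [horda, pow_succ, mul_comm]) hb2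
    hinvab hb (by rw [hn, pow_add]; ring)

end Main

end Cfsg.Agent.Lib.Lead.UniqueSubgroup
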