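import Cfsg.Agent.Lib.Lead.DicksonField4

/-!
Subgroups of `SL₂(F)` with `|P| + 1` Sylow `p`-subgroups, every characteristic (lead): the subfield
of parameters and the structure `H = SL₂(K₀) · (H ∩ Diag)`.
-/

set_option autoImplicit false

namespace Cfsg.Agent.Lib.Lead.DicksonField

open Matrix Cfsg.Agent.Lib.Helper9.SL2Upper Cfsg.Agent.Lib.Lead.DicksonBase
  Cfsg.Agent.Lib.Helper15.TwoByTwo Cfsg.Agent.Lib.Lead.SL2Scalar Cfsg.Agent.Lib.Lead.DicksonCA
  Cfsg.Agent.Lib.Lead.DicksonSL2 Cfsg.Agent.Lib.Lead.DicksonGen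

variable {F : Type*} [Field F]

local notation "SL2" => Matrix.SpecialLinearGroup (Fin 2) F
local notation "M2" => Matrix (Fin 2) (Fin 2) F

variable {H : Subgroup (Matrix.SpecialLinearGroup (Fin 2) F)}

/-- from `upper 1` and some `lower b` to `lower 1`, every characteristic -/
theorem lower_one_mem_of_index' (p : ℕ) [hp : Fact p.Prime] [CharP F p] [Finite H] {b : F}
    (hb : b ≠ 0) (h1 : upper 1 ∈ H) (hy : lower b ∈ H)
    (hidx : (BH H).index = Nat.card (PH H) + 1) :
    lower 1 ∈ H := by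
  have hub : upper (-b⁻¹) ∈ H := upper_neg_inv_mem_of_index p one_ne_zero h1 hb hy hidx
  have hW : Wb b ∈ H := H.mul_mem (H.mul_mem hub hy) hub
  have hl2 : lower (-(b ^ 2 * 1)) ∈ H := by
    rw [lower_eq_conj_Wb b hb]
    exact H.mul_mem (H.mul_mem (H.inv_mem hW) h1) hW
  have hb2 : -(b ^ 2 * 1) ≠ 0 := by
    rw [mul_one]
    exact neg_ne_zero.mpr (pow_ne_zero 2 hb)
  have hu2' := upper_neg_inv_mem_of_index p one_ne_zero h1 hb2 hl2 hidx
  have hu2 : upper ((b ^ 2)⁻¹) ∈ H := by
    have : -(-(b ^ 2 * 1))⁻¹ = (b ^ 2)⁻¹ := by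
      rw [mul_one, inv_neg, neg_neg]
    rwa [this] at hu2'
  have hl3 : lower (-(b ^ 2 * (b ^ 2)⁻¹)) ∈ H := by
    rw [lower_eq_conj_Wb b hb]
    exact H.mul_mem (H.mul_mem (H.inv_mem hW) hu2) hW
  rw [mul_inv_cancel₀ (pow_ne_zero 2 hb)] at hl3
  have := H.inv_mem hl3
  rwa [lower_inv', neg_neg] at this

/-- the parameters of the upper unitriangular elements form a subfield, every characteristic -/
theorem exists_subfield' (p : ℕ) [hp : Fact p.Prime] [CharP F p] [Finite H]
    (h1 : upper 1 ∈ H) (hl : lower 1 ∈ H)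
    (hidx : (BH H).index = Nat.card (PH H) + 1) :
    ∃ K : Subfield F, (∀ t : F, upper t ∈ H ↔ t ∈ K) ∧ (∀ t : F, lower t ∈ H ↔ t ∈ K) := by
  have hadd : ∀ a b : F, upper a ∈ H → upper b ∈ H → upper (a + b) ∈ H := by
    intro a b ha hb
    rw [← upper_mul]; exact H.mul_mem ha hb
  have hneg : ∀ a : F, upper a ∈ H → upper (-a) ∈ H := by
    intro a ha
    rw [← upper_inv]; exact H.inv_mem ha
  have hsub : ∀ a b : F, upper a ∈ H → upper b ∈ H → upper (a - b) ∈ H := by
    intro a b ha hb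
    rw [sub_eq_add_neg]; exact hadd _ _ ha (hneg _ hb)
  have hnsmul : ∀ (a : F) (k : ℕ), upper a ∈ H → upper ((k : F) * a) ∈ H := by
    intro a k ha
    rw [← upper_pow]; exact H.pow_mem ha k
  have h0 : upper (0 : F) ∈ H := by rw [upper_zero]; exact H.one_mem
  have hW : (W : SL2) ∈ H := W_mem h1 hl
  have hlow : ∀ t : F, upper t ∈ H → lower (-t) ∈ H := by
    intro t ht
    rw [lower_eq_conj]
    exact H.mul_mem (H.mul_mem (H.inv_mem hW) ht) hW
  have hinv : ∀ t : F, upper t ∈ H → upper t⁻¹ ∈ H := by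
    intro t ht
    by_cases ht0 : t = 0
    · rw [ht0, _root_.inv_zero]; exact h0
    · have := upper_neg_inv_mem_of_index p one_ne_zero h1 (neg_ne_zero.mpr ht0) (hlow t ht) hidx
      rwa [inv_neg, neg_neg] at this
  have hsq : ∀ a : F, upper a ∈ H → upper (a * a) ∈ H := by
    intro a ha
    by_cases ha0 : a = 0
    · rw [ha0, mul_zero]; exact h0
    by_cases ha1 : a = 1
    · rw [ha1, mul_one]; exact h1
    have ha1' : a - 1 ≠ 0 := sub_ne_zero.mpr ha1
    have h3 : upper ((a - 1)⁻¹ - a⁻¹) ∈ H := hsub _ _ (hinv _ (hsub _ _ ha h1)) (hinv _ ha)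
    have h4 := hinv _ h3
    have h5 : ((a - 1)⁻¹ - a⁻¹)⁻¹ = a * a - a := by
      have : (a - 1)⁻¹ - a⁻¹ = (a * (a - 1))⁻¹ := by
        field_simp
        ring
      rw [this, inv_inv]; ring
    rw [h5] at h4
    have := hadd _ _ h4 ha
    rwa [sub_add_cancel] at this
  -- Hua's identity
  have hhua : ∀ a b : F, upper a ∈ H → upper b ∈ H → upper (a * a * b) ∈ H := by
    intro a b ha hb
    by_cases ha0 : a = 0
    · rw [ha0, mul_zero, zero_mul]; exact h0
    by_cases hb0 : b = 0
    · rw [hb0, mul_zero]; exact h0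
    by_cases hab : a * b = 1
    · rw [mul_assoc, hab, mul_one]; exact ha
    have hc0 : b⁻¹ - a ≠ 0 := by
      intro h
      apply hab
      have : b⁻¹ = a := sub_eq_zero.mp h
      rw [← this, inv_mul_cancel₀ hb0]
    have hc : upper (b⁻¹ - a) ∈ H := hsub _ _ (hinv _ hb) ha
    have hd : upper (a⁻¹ + (b⁻¹ - a)⁻¹) ∈ H := hadd _ _ (hinv _ ha) (hinv _ hc)
    have hd' := hinv _ hd
    have h5 : (a⁻¹ + (b⁻¹ - a)⁻¹)⁻¹ = a - a * a * b := by
      have : a⁻¹ + (b⁻¹ - a)⁻¹ = (a * (b⁻¹ - a) * b)⁻¹ := by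
        field_simp
        ring
      rw [this, inv_inv]
      field_simp
    rw [h5] at hd'
    have := hsub _ _ ha hd'
    rwa [sub_sub_cancel] at this
  have hmul : ∀ a b : F, upper a ∈ H → upper b ∈ H → upper (a * b) ∈ H := by
    by_cases hp2 : p = 2
    · subst hp2
      have h2 : (2 : F) = 0 := CharTwo.two_eq_zero
      let A := {t : F // upper t ∈ H}
      have hfin : Finite A := by
        let f : A → H := fun t => ⟨upper t.1, t.2⟩
        apply Finite.of_injective f
        intro s t hst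
        have h' : upper s.1 = upper t.1 := congrArg Subtype.val hst
        have h'' : upper (s.1 - t.1) = 1 := by
          rw [sub_eq_add_neg, ← upper_mul, ← upper_inv, h', mul_inv_cancel]
        exact Subtype.ext (sub_eq_zero.mp ((upper_eq_one_iff _).mp h''))
      let sq : A → A := fun a => ⟨a.1 * a.1, hsq a.1 a.2⟩
      have hsqinj : Function.Injective sq := by
        intro s t hst
        have haa : s.1 * s.1 = t.1 * t.1 := congrArg Subtype.val hst
        have : (s.1 - t.1) ^ 2 = 0 := by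
          linear_combination haa + (t.1 * t.1 - s.1 * t.1) * h2
        exact Subtype.ext (sub_eq_zero.mp ((pow_eq_zero_iff two_ne_zero).mp this))
      have hsqsurj : Function.Surjective sq := Finite.injective_iff_surjective.mp hsqinj
      intro a b ha hb
      obtain ⟨c, hc⟩ := hsqsurj ⟨a, ha⟩
      have hca : c.1 * c.1 = a := congrArg Subtype.val hc
      rw [← hca]
      exact hhua _ _ c.2 hb
    · have hhalf := half_mul (F := F) p hp2
      intro a b ha hb
      have hhalf' : ∀ a : F, upper (2 * a) ∈ H → upper a ∈ H := by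
        intro a ha
        have := hnsmul _ ((p + 1) / 2) ha
        rwa [← mul_assoc, hhalf, one_mul] at this
      apply hhalf'
      have h3 := hsub _ _ (hsub _ _ (hsq _ (hadd _ _ ha hb)) (hsq _ ha)) (hsq _ hb)
      have h4 : (a + b) * (a + b) - a * a - b * b = 2 * (a * b) := by ring
      rwa [h4] at h3
  let K : Subfield F :=
    { carrier := {t | upper t ∈ H}
      mul_mem' := fun {a b} ha hb => hmul a b ha hb
      one_mem' := h1
      add_mem' := fun {a b} ha hb => hadd a b ha hb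
      zero_mem' := h0
      neg_mem' := fun {a} ha => hneg a ha
      inv_mem' := fun a ha => hinv a ha }
  refine ⟨K, fun t => Iff.rfl, fun t => ?_⟩
  constructor
  · intro ht
    have h3 : upper (-t) ∈ H := by
      rw [upper_eq_conj, neg_neg]
      exact H.mul_mem (H.mul_mem hW ht) (H.inv_mem hW)
    have := hneg _ h3
    rwa [neg_neg] at this
  · intro ht
    have := hlow (-t) (hneg t ht)
    rwa [neg_neg] at this

/-- **Structure theorem** for `|P| + 1` Sylow subgroups in standard position, every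
characteristic. -/
theorem structure_of_index' (p : ℕ) [hp : Fact p.Prime] [CharP F p] [Finite H] {b : F} (hb : b ≠ 0)
    (h1 : upper 1 ∈ H) (hy : lower b ∈ H) (hidx : (BH H).index = Nat.card (PH H) + 1) :
    ∃ K : Subfield F, (∀ t : F, upper t ∈ H ↔ t ∈ K) ∧ (∀ t : F, lower t ∈ H ↔ t ∈ K) ∧
      SLK K ≤ H ∧
      ∀ g ∈ H, ∃ s ∈ SLK K, ∃ a : Fˣ, (a : F) ^ 2 ∈ K ∧ dg a ∈ H ∧ g = s * dg a := by
  have hl1 := lower_one_mem_of_index' p hb h1 hy hidx
  obtain ⟨K, hKu, hKl⟩ := exists_subfield' p h1 hl1 hidx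
  have hle : SLK K ≤ H := SLK_le K (fun t ht => (hKu t).mpr ht) (fun t ht => (hKl t).mpr ht)
  refine ⟨K, hKu, hKl, hle, ?_⟩
  -- Borel elements
  have hB : ∀ g ∈ H, g ∈ DicksonSL2.Borel →
      ∃ s ∈ SLK K, ∃ a : Fˣ, (a : F) ^ 2 ∈ K ∧ dg a ∈ H ∧ g = s * dg a := by
    intro g hgH hgB
    obtain ⟨a, ha, hga⟩ := borel_eq hgB
    -- a² ∈ K
    have ha2 : (a : F) ^ 2 ∈ K := by
      rw [← hKu]
      have := conj_upper_of_Borel hgB 1
      rw [mul_one, ← ha] at this
      rw [← this]
      exact H.mul_mem (H.mul_mem hgH h1) (H.inv_mem hgH)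
    -- a c ∈ K via the Bruhat decomposition of g * lower 1
    have hgy : g * lower 1 ∈ H := H.mul_mem hgH hl1
    have hac : (g : M2) 0 0 * (g : M2) 0 1 ∈ K := by
      rcases bruhat (one_ne_zero) hl1 hidx ⟨g * lower 1, hgy⟩ with hin | ⟨u, β, hu⟩
      · exfalso
        rw [mem_BH] at hin
        have h2 : lower (1 : F) ∈ DicksonSL2.Borel := by
          have : (lower 1 : SL2) = g⁻¹ * (g * lower 1) := by group
          rw [this]
          exact DicksonSL2.Borel.mul_mem (DicksonSL2.Borel.inv_mem hgB) hin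
        have : ((lower 1 : SL2) : M2) 1 0 = 0 := h2
        simp at this
      · have hu' := congrArg (fun x : H => (x : SL2)) hu
        simp only [Subgroup.coe_mul] at hu'
        have huU := mem_PH.mp u.2
        rw [mem_Uni_iff_upper] at huU
        obtain ⟨t, ht⟩ : ∃ t : F, ((u : H) : SL2) = upper t := ⟨_, huU⟩
        have htK : t ∈ K := by
          rw [← hKu, ← ht]; exact (u : H).2
        have hβ := mem_Borel.mp (mem_BH.mp β.2)
        rw [ht] at hu'
        have e00 := congrArg (fun x : SL2 => (x : M2) 0 0) hu'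
        have e10 := congrArg (fun x : SL2 => (x : M2) 1 0) hu'
        simp only [mul_10, mul_11, mul_00, mul_01, lower_coe, upper_coe, Matrix.of_apply,
          Matrix.cons_val', Matrix.cons_val_zero, Matrix.cons_val_one, Matrix.cons_val_fin_one,
          hβ, mem_Borel.mp hgB] at e00 e10
        -- e00 : g00 + g01 = (1 + t) * β00 ; e10 : g11 = β00
        have hd := det_Borel hgB
        have hkey : (g : M2) 0 0 * (g : M2) 0 1 = (1 + t) - (g : M2) 0 0 ^ 2 := by
          have e10' : (g : M2) 1 1 = ((β : H) : SL2).1 0 0 := by linear_combination e10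
          have e00' : (g : M2) 0 0 + (g : M2) 0 1 = (1 + t) * ((β : H) : SL2).1 0 0 := by
            linear_combination e00
          rw [← e10'] at e00'
          linear_combination (g : M2) 0 0 * e00' + (1 + t) * hd
        rw [hkey, ← ha]
        exact K.sub_mem (K.add_mem K.one_mem htK) ha2
    have hus : upper ((g : M2) 0 0 * (g : M2) 0 1) ∈ SLK K := upper_mem_SLK K hac
    refine ⟨_, hus, a, ha2, ?_, hga⟩
    have : dg a = (upper ((g : M2) 0 0 * (g : M2) 0 1))⁻¹ * g := by
      rw [eq_inv_mul_iff_mul_eq]; exact hga.symm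
    rw [this]
    exact H.mul_mem (H.inv_mem (hle hus)) hgH
  intro g hgH
  rcases bruhat (one_ne_zero) hl1 hidx ⟨g, hgH⟩ with hin | ⟨u, β, hu⟩
  · exact hB g hgH (mem_BH.mp hin)
  · have hu' := congrArg (fun x : H => (x : SL2)) hu
    simp only [Subgroup.coe_mul] at hu'
    obtain ⟨s, hs, a, ha2, hda, hβa⟩ := hB _ (β : H).2 (mem_BH.mp β.2)
    have huU := mem_PH.mp u.2
    rw [mem_Uni_iff_upper] at huU
    obtain ⟨t, ht⟩ : ∃ t : F, ((u : H) : SL2) = upper t := ⟨_, huU⟩
    have htK : t ∈ K := by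
      rw [← hKu, ← ht]; exact (u : H).2
    refine ⟨upper t * lower 1 * s, ?_, a, ha2, hda, ?_⟩
    · exact (SLK K).mul_mem ((SLK K).mul_mem (upper_mem_SLK K htK) (lower_mem_SLK K K.one_mem)) hs
    · have : g = upper t * lower 1 * ((β : H) : SL2) := by rw [← ht]; exact hu'
      rw [this, hβa]
      group

end Cfsg.Agent.Lib.Lead.DicksonField
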