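import Cfsg.Agent.Lib.Lead.DicksonSL2n
import Cfsg.Agent.Lib.Lead.DicksonAbs7

/-!
Dickson's generation theorem, part A (lead): in the generic case of the dichotomy the parameters of
the upper unitriangular elements form a subfield.
-/

set_option autoImplicit false

namespace Cfsg.Agent.Lib.Lead.DicksonGen

open Matrix Cfsg.Agent.Lib.Helper9.SL2Upper Cfsg.Agent.Lib.Lead.DicksonBase
  Cfsg.Agent.Lib.Helper15.TwoByTwo Cfsg.Agent.Lib.Lead.SL2Scalar Cfsg.Agent.Lib.Lead.DicksonCA
  Cfsg.Agent.Lib.Lead.DicksonSL2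

variable {F : Type*} [Field F]

local notation "SL2" => Matrix.SpecialLinearGroup (Fin 2) F
local notation "M2" => Matrix (Fin 2) (Fin 2) F

variable {H : Subgroup (Matrix.SpecialLinearGroup (Fin 2) F)}

variable (p : ℕ) [hp : Fact p.Prime] [CharP F p]

/-- the dichotomy, with the order of the group in the exceptional case -/
theorem dichotomy' [Finite H] (hp2 : p ≠ 2) (hne : PH H ≠ ⊥) (hnB : ∃ y : H, (y : SL2) ∉ DicksonSL2.Borel) :
    (BH H).index = Nat.card (PH H) + 1 ∨
    (Nat.card (PH H) = 3 ∧ Nat.card H = 60 * Nat.card (ZH H) ∧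
      ∀ x : H, x ^ 6 = 1 ∨ x ^ 4 = 1 ∨ x ^ 10 = 1) := by
  have h2 : (2 : F) ≠ 0 := two_ne_zero_of_char p hp2
  have := DicksonAbs.main' (hyp_of p hp2 hne hnB) hp2 (card_ZH_dvd h2)
  rw [sylowPH_coe, normalizer_PH hne] at this
  exact this

theorem half_mul (hp2 : p ≠ 2) : (((p + 1) / 2 : ℕ) : F) * 2 = 1 := by
  have hodd : p % 2 = 1 := by
    rcases hp.out.eq_two_or_odd with h | h
    · exact absurd h hp2
    · exact h
  have h1 : (p + 1) / 2 * 2 = p + 1 := by omega
  have h2 : ((((p + 1) / 2 * 2 : ℕ)) : F) = ((p + 1 : ℕ) : F) := by rw [h1]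
  push_cast at h2
  rw [h2, CharP.cast_eq_zero, zero_add]

/-- the Weyl element -/
def W : SL2 := upper 1 * lower (-1) * upper 1

theorem W_coe : ((W : SL2) : M2) = !![0, 1; -1, 0] := by
  ext i j
  fin_cases i <;> fin_cases j <;>
    simp [W, Matrix.SpecialLinearGroup.coe_mul, Matrix.mul_apply, Fin.sum_univ_two]

theorem W_inv_coe : (((W : SL2)⁻¹ : SL2) : M2) = !![0, -1; 1, 0] := by
  ext i j
  fin_cases i <;> fin_cases j
  · show ((W⁻¹ : SL2) : M2) 0 0 = _
    rw [inv_00, W_coe]; simp
  · show ((W⁻¹ : SL2) : M2) 0 1 = _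
    rw [inv_01, W_coe]; simp
  · show ((W⁻¹ : SL2) : M2) 1 0 = _
    rw [inv_10, W_coe]; simp
  · show ((W⁻¹ : SL2) : M2) 1 1 = _
    rw [inv_11, W_coe]; simp

theorem lower_eq_conj (t : F) : (lower (-t) : SL2) = W⁻¹ * upper t * W := by
  apply Subtype.ext
  rw [Matrix.SpecialLinearGroup.coe_mul, Matrix.SpecialLinearGroup.coe_mul, W_inv_coe, W_coe]
  ext i j
  fin_cases i <;> fin_cases j <;> simp [Matrix.mul_apply, Fin.sum_univ_two]

theorem upper_eq_conj (t : F) : (upper t : SL2) = W * lower (-t) * W⁻¹ := by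
  rw [lower_eq_conj]; group

theorem W_mem (h1 : upper 1 ∈ H) (hl : lower 1 ∈ H) : (W : SL2) ∈ H := by
  have hl' : lower (-1) ∈ H := by rw [← lower_inv']; exact H.inv_mem hl
  exact H.mul_mem (H.mul_mem h1 hl') h1

/-- in the generic case, `H` is everything as soon as the parameter of some upper element generates
the field -/
theorem eq_top_of_index [Finite H] (hp2 : p ≠ 2) {lam : F} (hl : lower 1 ∈ H)
    (hu : upper lam ∈ H) (hgen : Subfield.closure ({lam} : Set F) = ⊤)
    (hidx : (BH H).index = Nat.card (PH H) + 1) : H = ⊤ := by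
  have hhalf := half_mul (F := F) p hp2
  set n := (p + 1) / 2 with hn
  have hadd : ∀ a b : F, upper a ∈ H → upper b ∈ H → upper (a + b) ∈ H := by
    intro a b ha hb
    rw [← upper_mul]; exact H.mul_mem ha hb
  have hneg : ∀ a : F, upper a ∈ H → upper (-a) ∈ H := by
    intro a ha
    rw [← upper_inv]; exact H.inv_mem ha
  have hsub : ∀ a b : F, upper a ∈ H → upper b ∈ H → upper (a - b) ∈ H := by
    intro a b ha hb
    rw [sub_eq_add_neg]; exact hadd _ _ ha (hneg _ hb)
  have hnsmul : ∀ (a : F) (k : ℕ), upper a ∈ H → upper ((k : F) * a) ∈ H := by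
    intro a k ha
    rw [← upper_pow]; exact H.pow_mem ha k
  have hhalf' : ∀ a : F, upper (2 * a) ∈ H → upper a ∈ H := by
    intro a ha
    have := hnsmul _ n ha
    rwa [← mul_assoc, hhalf, one_mul] at this
  -- upper 1 ∈ H
  have h1 : upper (1 : F) ∈ H := by
    obtain ⟨s, hs, hsb⟩ := exists_upper_of_index (H := H) (one_ne_zero) hl hidx
    rw [mul_one] at hsb
    rw [hsb] at hs
    have h2 : upper (2 : F) ∈ H := by
      have := hneg _ hs
      rwa [neg_neg] at this
    apply hhalf'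
    rwa [mul_one]
  have hW : (W : SL2) ∈ H := W_mem h1 hl
  have hlow : ∀ t : F, upper t ∈ H → lower (-t) ∈ H := by
    intro t ht
    rw [lower_eq_conj]
    exact H.mul_mem (H.mul_mem (H.inv_mem hW) ht) hW
  have hinv : ∀ t : F, upper t ∈ H → upper t⁻¹ ∈ H := by
    intro t ht
    by_cases ht0 : t = 0
    · rw [ht0, _root_.inv_zero, upper_zero]; exact H.one_mem
    · obtain ⟨s, hs, hsb⟩ := exists_upper_of_index (H := H) (neg_ne_zero.mpr ht0) (hlow t ht) hidx
      have hs' : s = 2 * t⁻¹ := by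
        field_simp
        linear_combination -hsb
      rw [hs'] at hs
      exact hhalf' _ hs
  have hsq : ∀ a : F, upper a ∈ H → upper (a * a) ∈ H := by
    intro a ha
    by_cases ha0 : a = 0
    · rw [ha0, mul_zero, upper_zero]; exact H.one_mem
    by_cases ha1 : a = 1
    · rw [ha1, mul_one]; exact h1
    have ha1' : a - 1 ≠ 0 := sub_ne_zero.mpr ha1
    have h3 : upper ((a - 1)⁻¹ - a⁻¹) ∈ H := hsub _ _ (hinv _ (hsub _ _ ha h1)) (hinv _ ha)
    have h4 := hinv _ h3
    have h5 : ((a - 1)⁻¹ - a⁻¹)⁻¹ = a * a - a := by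
      have : (a - 1)⁻¹ - a⁻¹ = (a * (a - 1))⁻¹ := by
        field_simp
        ring
      rw [this, inv_inv]; ring
    rw [h5] at h4
    have := hadd _ _ h4 ha
    rwa [sub_add_cancel] at this
  have hmul : ∀ a b : F, upper a ∈ H → upper b ∈ H → upper (a * b) ∈ H := by
    intro a b ha hb
    apply hhalf'
    have h3 := hsub _ _ (hsub _ _ (hsq _ (hadd _ _ ha hb)) (hsq _ ha)) (hsq _ hb)
    have h4 : (a + b) * (a + b) - a * a - b * b = 2 * (a * b) := by ring
    rwa [h4] at h3
  let K : Subfield F :=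
    { carrier := {t | upper t ∈ H}
      mul_mem' := fun {a b} ha hb => hmul a b ha hb
      one_mem' := h1
      add_mem' := fun {a b} ha hb => hadd a b ha hb
      zero_mem' := by
        show upper (0 : F) ∈ H
        rw [upper_zero]; exact H.one_mem
      neg_mem' := fun {a} ha => hneg a ha
      inv_mem' := fun a ha => hinv a ha }
  have hK : K = ⊤ := by
    rw [eq_top_iff, ← hgen, Subfield.closure_le]
    intro t ht
    rw [Set.mem_singleton_iff] at ht
    rw [ht]
    exact hu
  have hall : ∀ t : F, upper t ∈ H := by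
    intro t
    have : t ∈ K := by rw [hK]; exact Subfield.mem_top t
    exact this
  rw [eq_top_iff]
  intro x _
  apply mem_of_upper_lower H hall
  intro t
  have := hlow (-t) (hall _)
  rwa [neg_neg] at this

end Cfsg.Agent.Lib.Lead.DicksonGen
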