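import Mathlib
import Cfsg.Agent.Lib.Lead.UniqueOrderP

/-! In a finite `p`-group, a normal subgroup contains normal subgroups (of the whole group) of every
possible order. -/

set_option autoImplicit false

namespace Cfsg.Agent.Lib.Lead.NormalChain

open Subgroup
open Cfsg.Agent.Lib.Lead.UniqueOrderP

variable {R : Type*} [Group R]

/-- order of a preimage under the quotient map -/
theorem card_comap_mk' [Finite R] (N : Subgroup R) [N.Normal] (Z : Subgroup (R ⧸ N)) :
    Nat.card (Z.comap (QuotientGroup.mk' N)) = Nat.card N * Nat.card Z := by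
  set H := Z.comap (QuotientGroup.mk' N) with hH
  have h1 := Subgroup.card_mul_index H
  have h2 := Subgroup.card_mul_index N
  have h3 := Subgroup.card_mul_index Z
  have h4 : H.index = Z.index := index_comap_of_surjective Z (QuotientGroup.mk'_surjective N)
  rw [Subgroup.index_eq_card N] at h2
  rw [h4] at h1
  have hZi : 0 < Z.index := Nat.pos_of_ne_zero Subgroup.index_ne_zero_of_finite
  apply Nat.eq_of_mul_eq_mul_right hZi
  rw [h1, ← h2, ← h3]; ring

theorem orderOf_pow_pred' {p : ℕ} [hp : Fact p.Prime] {a : R} {m : ℕ} (hm : 1 ≤ m)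
    (ha : orderOf a = p ^ m) : orderOf (a ^ (p ^ (m - 1))) = p := by
  rw [orderOf_pow_of_dvd (pow_ne_zero _ hp.out.ne_zero) (by rw [ha]; exact pow_dvd_pow p (by omega)), ha]
  obtain ⟨k, rfl⟩ : ∃ k, m = k + 1 := ⟨m - 1, by omega⟩
  rw [Nat.add_sub_cancel, pow_succ, Nat.mul_div_cancel_left _ (pow_pos hp.out.pos k)]

/-- one step of the chain -/
theorem exists_normal_step [Finite R] {p : ℕ} [hp : Fact p.Prime] (hR : IsPGroup p R)
    (N : Subgroup R) [hN : N.Normal] (M : Subgroup R) [hM : M.Normal] (hMN : M ≤ N) (hne : M ≠ N) :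
    ∃ M' : Subgroup R, M ≤ M' ∧ M' ≤ N ∧ M'.Normal ∧ Nat.card M' = Nat.card M * p := by
  set π := QuotientGroup.mk' M with hπ
  have hπs : Function.Surjective π := QuotientGroup.mk'_surjective M
  haveI hNbar : (N.map π).Normal := hN.map π hπs
  have hQ : IsPGroup p (R ⧸ M) := hR.to_quotient M
  have hne' : N.map π ≠ ⊥ := by
    intro h
    apply hne
    apply le_antisymm hMN
    intro x hx
    have : π x ∈ N.map π := mem_map_of_mem π hx
    rw [h, mem_bot] at this
    exact (QuotientGroup.eq_one_iff x).mp this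
  obtain ⟨z, hzN, hz1, hzc⟩ := exists_central_of_normal hQ (N.map π) hne'
  obtain ⟨j, hj⟩ := (IsPGroup.iff_orderOf.mp hQ) z
  have hj1 : 1 ≤ j := by
    by_contra h
    have : j = 0 := by omega
    rw [this, pow_zero, orderOf_eq_one_iff] at hj
    exact hz1 hj
  set w := z ^ (p ^ (j - 1)) with hw
  have hordw : orderOf w = p := orderOf_pow_pred' hj1 hj
  have hwN : w ∈ N.map π := pow_mem hzN _
  have hwc : w ∈ center (R ⧸ M) := pow_mem hzc _
  set Z := zpowers w with hZ
  have hZn : Z.Normal := by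
    constructor
    intro n hn g
    have hnc : n ∈ center (R ⧸ M) := (zpowers_le.mpr hwc) hn
    have : g * n * g⁻¹ = n := by
      rw [mem_center_iff] at hnc
      rw [hnc g, mul_assoc, mul_inv_cancel, mul_one]
    rw [this]; exact hn
  have hZcard : Nat.card Z = p := by rw [Nat.card_zpowers, hordw]
  refine ⟨Z.comap π, ?_, ?_, hZn.comap π, ?_⟩
  · intro x hx
    rw [mem_comap]
    have : π x = 1 := (QuotientGroup.eq_one_iff x).mpr hx
    rw [this]; exact one_mem _
  · intro x hx
    rw [mem_comap] at hx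
    have h1 : π x ∈ N.map π := (zpowers_le.mpr hwN) hx
    obtain ⟨y, hy, hyx⟩ := mem_map.mp h1
    have h2 : y⁻¹ * x ∈ M := by
      rw [← QuotientGroup.eq_one_iff]
      have : ((y⁻¹ * x : R) : R ⧸ M) = (π y)⁻¹ * π x := by simp [hπ]
      rw [this, hyx]; simp
    have : x = y * (y⁻¹ * x) := by group
    rw [this]
    exact mul_mem hy (hMN h2)
  · rw [card_comap_mk', hZcard]

/-- **Chain lemma**: a normal subgroup `N` of a finite `p`-group `R` contains an `R`-normal subgroup
of order `p ^ k` whenever `p ^ k ∣ |N|`. -/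
theorem exists_normal_le_card [Finite R] {p : ℕ} [hp : Fact p.Prime] (hR : IsPGroup p R)
    (N : Subgroup R) [hN : N.Normal] (k : ℕ) (hk : p ^ k ∣ Nat.card N) :
    ∃ M : Subgroup R, M ≤ N ∧ M.Normal ∧ Nat.card M = p ^ k := by
  induction k with
  | zero => exact ⟨⊥, bot_le, inferInstance, by simp⟩
  | succ k ih =>
    obtain ⟨M, hMN, hMn, hMc⟩ := ih (dvd_trans (pow_dvd_pow p (Nat.le_succ k)) hk)
    haveI := hMn
    have hne : M ≠ N := by
      rintro rfl
      rw [hMc] at hk
      have := Nat.le_of_dvd (pow_pos hp.out.pos k) hk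
      exact absurd this (not_le.mpr (Nat.pow_lt_pow_right hp.out.one_lt (Nat.lt_succ_self k)))
    obtain ⟨M', -, hM'N, hM'n, hM'c⟩ := exists_normal_step hR N M hMN hne
    exact ⟨M', hM'N, hM'n, by rw [hM'c, hMc, pow_succ]⟩

end Cfsg.Agent.Lib.Lead.NormalChain
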