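import Mathlib
import Cfsg.Agent.Lib.Lead.CyclicMax
import Cfsg.Agent.Lib.Lead.UniqueOrderP
import Cfsg.Agent.Lib.Lead.NormalChain

/-! Taussky's theorem: a `2`-group with commutator quotient of order `4` has a cyclic maximal subgroup. -/

set_option autoImplicit false

namespace Cfsg.Agent.Lib.Lead.Taussky

open Subgroup
open scoped commutatorElement
open Cfsg.Agent.Lib.Lead.CyclicMax
open Cfsg.Agent.Lib.Lead.UniqueOrderP
open Cfsg.Agent.Lib.Lead.NormalChain

universe u

section Basic
variable {X : Type u} [Group X]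

/-- a group of order 4 has a cyclic subgroup of index 2 -/
theorem exists_cyclic_index_two_of_card_four [Finite X] (h : Nat.card X = 4) :
    ∃ C : Subgroup X, IsCyclic C ∧ C.index = 2 := by
  haveI : Fact (Nat.Prime 2) := ⟨Nat.prime_two⟩
  obtain ⟨x, hx⟩ := exists_prime_orderOf_dvd_card' (G := X) 2 (by rw [h]; norm_num)
  refine ⟨zpowers x, inferInstance, ?_⟩
  have h1 := Subgroup.card_mul_index (zpowers x)
  rw [Nat.card_zpowers, hx, h] at h1
  omega

/-- a nonabelian group of order 8 has a cyclic subgroup of index 2 -/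
theorem exists_cyclic_index_two_of_card_eight [Finite X] (h : Nat.card X = 8)
    (hna : ∃ x y : X, x * y ≠ y * x) : ∃ C : Subgroup X, IsCyclic C ∧ C.index = 2 := by
  -- some element has `x ^ 2 ≠ 1`
  obtain ⟨x, hx⟩ : ∃ x : X, x ^ 2 ≠ 1 := by
    by_contra hcon
    push_neg at hcon
    obtain ⟨x, y, hxy⟩ := hna
    apply hxy
    have hinv : ∀ g : X, g⁻¹ = g := fun g => by
      have := hcon g
      rw [pow_two] at this
      exact inv_eq_of_mul_eq_one_left this
    calc x * y = (x * y)⁻¹ := (hinv _).symm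
      _ = y⁻¹ * x⁻¹ := mul_inv_rev x y
      _ = y * x := by rw [hinv y, hinv x]
  have hdvd : orderOf x ∣ 8 := by rw [← h]; exact orderOf_dvd_natCard x
  have hord : orderOf x = 4 ∨ orderOf x = 8 := by
    have hle : orderOf x ≤ 8 := Nat.le_of_dvd (by norm_num) hdvd
    have h1 : orderOf x ≠ 1 := by
      intro h1
      rw [orderOf_eq_one_iff] at h1
      exact hx (by rw [h1]; simp)
    have h2 : orderOf x ≠ 2 := by
      intro h2
      exact hx (by rw [← h2]; exact pow_orderOf_eq_one x)
    have h0 : orderOf x ≠ 0 := (orderOf_pos x).ne'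
    interval_cases (orderOf x) <;> simp_all <;> omega
  rcases hord with h4 | h8
  · refine ⟨zpowers x, inferInstance, ?_⟩
    have h1 := Subgroup.card_mul_index (zpowers x)
    rw [Nat.card_zpowers, h4, h] at h1
    omega
  · exfalso
    have hcyc : IsCyclic X := isCyclic_of_orderOf_eq_card x (by rw [h8, h])
    obtain ⟨a, b, hab⟩ := hna
    letI := IsCyclic.commGroup (α := X)
    exact hab (mul_comm a b)

/-- the index of the commutator subgroup is unchanged on passing to the quotient by a normal
subgroup contained in it -/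
theorem index_commutator_quotient (Z : Subgroup X) [hZ : Z.Normal] (hZle : Z ≤ commutator X) :
    (commutator (X ⧸ Z)).index = (commutator X).index := by
  have hsurj : Function.Surjective (QuotientGroup.mk' Z) := QuotientGroup.mk'_surjective Z
  have h1 : commutator (X ⧸ Z) = (commutator X).map (QuotientGroup.mk' Z) := by
    rw [commutator_def, commutator_def, Subgroup.map_commutator,
      ← MonoidHom.range_eq_map, MonoidHom.range_eq_top.mpr hsurj]
  rw [h1, ← Subgroup.index_comap_of_surjective _ hsurj, Subgroup.comap_map_eq,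
    QuotientGroup.ker_mk', sup_eq_left.mpr hZle]

/-- **Abelian maximal subgroup**: if `H` is an abelian subgroup of index 2 of `X` and `K ≤ H` is central
in `X`, then `|X'| |K| ≤ |H|`. -/
theorem card_commutator_mul_le [Finite X] (H : Subgroup X) (hHi : H.index = 2)
    (hHc : ∀ x ∈ H, ∀ y ∈ H, x * y = y * x) (K : Subgroup X) (hKH : K ≤ H) (hKc : K ≤ center X) :
    Nat.card (commutator X) * Nat.card K ≤ Nat.card H := by
  haveI hHn : H.Normal := Subgroup.normal_of_index_eq_two hHi
  obtain ⟨g, hg⟩ : ∃ g : X, g ∉ H := by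
    by_contra hcon
    push_neg at hcon
    have : H = ⊤ := eq_top_iff.mpr fun x _ => hcon x
    rw [this, Subgroup.index_top] at hHi
    omega
  -- the commutator map
  have hmem : ∀ x ∈ H, x * g * x⁻¹ * g⁻¹ ∈ H := by
    intro x hx
    have h1 : g * x⁻¹ * g⁻¹ ∈ H := hHn.conj_mem _ (H.inv_mem hx) g
    have : x * g * x⁻¹ * g⁻¹ = x * (g * x⁻¹ * g⁻¹) := by group
    rw [this]; exact H.mul_mem hx h1
  let φ : H →* H :=
    { toFun := fun x => ⟨(x : X) * g * (x : X)⁻¹ * g⁻¹, hmem x.1 x.2⟩
      map_one' := by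
        apply Subtype.ext
        simp
      map_mul' := by
        intro x y
        apply Subtype.ext
        have h1 : g * (x : X)⁻¹ * g⁻¹ ∈ H := hHn.conj_mem _ (H.inv_mem x.2) g
        have h2 := hmem y.1 y.2
        change ((x : X) * (y : X)) * g * ((x : X) * (y : X))⁻¹ * g⁻¹ =
          ((x : X) * g * (x : X)⁻¹ * g⁻¹) * ((y : X) * g * (y : X)⁻¹ * g⁻¹)
        calc ((x : X) * (y : X)) * g * ((x : X) * (y : X))⁻¹ * g⁻¹
            = (x : X) * (((y : X) * g * (y : X)⁻¹ * g⁻¹) * (g * (x : X)⁻¹ * g⁻¹)) := by group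
          _ = (x : X) * ((g * (x : X)⁻¹ * g⁻¹) * ((y : X) * g * (y : X)⁻¹ * g⁻¹)) := by
              rw [hHc _ h2 _ h1]
          _ = ((x : X) * g * (x : X)⁻¹ * g⁻¹) * ((y : X) * g * (y : X)⁻¹ * g⁻¹) := by group }
  have hφ : ∀ x : H, ((φ x : H) : X) = (x : X) * g * (x : X)⁻¹ * g⁻¹ := fun x => rfl
  set I : Subgroup X := (φ.range).map H.subtype with hI
  have hIφ : ∀ x : H, ((φ x : H) : X) ∈ I := fun x => mem_map_of_mem H.subtype (MonoidHom.mem_range.mpr ⟨x, rfl⟩)
  -- every element is in `H` or `H g`
  have hform : ∀ u : X, u ∈ H ∨ ∃ x ∈ H, u = x * g := by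
    intro u
    by_cases hu : u ∈ H
    · exact Or.inl hu
    · right
      refine ⟨u * g⁻¹, ?_, by group⟩
      rw [mul_mem_iff_of_index_two hHi]
      constructor
      · intro h; exact absurd h hu
      · intro h; exact absurd (inv_mem_iff.mp h) hg
  have hcomm_le : commutator X ≤ I := by
    rw [commutator_def, commutator_le]
    intro u _ v _
    rcases hform u with hu | ⟨x, hx, rfl⟩ <;> rcases hform v with hv | ⟨y, hy, rfl⟩
    · have : ⁅u, v⁆ = 1 := commutatorElement_eq_one_iff_commute.mpr (hHc u hu v hv)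
      rw [this]; exact one_mem _
    · -- ⁅u, y g⁆ = φ u
      have e : ⁅u, y * g⁆ = y * (u * g * u⁻¹ * g⁻¹) * y⁻¹ := by
        have h1 : u * y = y * u := hHc u hu y hy
        calc ⁅u, y * g⁆ = (u * y) * g * u⁻¹ * g⁻¹ * y⁻¹ := by
              simp only [commutatorElement_def]; group
          _ = (y * u) * g * u⁻¹ * g⁻¹ * y⁻¹ := by rw [h1]
          _ = y * (u * g * u⁻¹ * g⁻¹) * y⁻¹ := by group
      have h2 : y * (u * g * u⁻¹ * g⁻¹) * y⁻¹ = u * g * u⁻¹ * g⁻¹ := by
        rw [hHc y hy _ (hmem u hu), mul_assoc, mul_inv_cancel, mul_one]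
      rw [e, h2]
      exact hIφ ⟨u, hu⟩
    · -- ⁅x g, v⁆ = (φ v)⁻¹
      have e : ⁅x * g, v⁆ = (x * (v * g * v⁻¹ * g⁻¹) * x⁻¹)⁻¹ := by
        have h1 : v * x = x * v := hHc v hv x hx
        have : x * (v * g * v⁻¹ * g⁻¹) * x⁻¹ = (v * x) * g * v⁻¹ * g⁻¹ * x⁻¹ := by
          rw [h1]; group
        rw [this]
        simp only [commutatorElement_def]; group
      have h2 : x * (v * g * v⁻¹ * g⁻¹) * x⁻¹ = v * g * v⁻¹ * g⁻¹ := by
        rw [hHc x hx _ (hmem v hv), mul_assoc, mul_inv_cancel, mul_one]
      rw [e, h2]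
      exact I.inv_mem (hIφ ⟨v, hv⟩)
    · -- ⁅x g, y g⁆ = (φ (y x⁻¹))⁻¹
      set t := y * x⁻¹ with ht
      have htH : t ∈ H := H.mul_mem hy (H.inv_mem hx)
      have hφt := hmem t htH
      have e : ⁅x * g, y * g⁆ = x * (g * t * g⁻¹) * y⁻¹ := by
        simp only [commutatorElement_def, ht]; group
      have e2 : g * t * g⁻¹ = (t * g * t⁻¹ * g⁻¹)⁻¹ * t := by group
      have e3 : x * ((t * g * t⁻¹ * g⁻¹)⁻¹ * t) * y⁻¹ = (t * g * t⁻¹ * g⁻¹)⁻¹ := by
        have h1 : x * (t * g * t⁻¹ * g⁻¹)⁻¹ = (t * g * t⁻¹ * g⁻¹)⁻¹ * x :=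
          hHc x hx _ (H.inv_mem hφt)
        calc x * ((t * g * t⁻¹ * g⁻¹)⁻¹ * t) * y⁻¹
            = (x * (t * g * t⁻¹ * g⁻¹)⁻¹) * t * y⁻¹ := by group
          _ = ((t * g * t⁻¹ * g⁻¹)⁻¹ * x) * t * y⁻¹ := by rw [h1]
          _ = (t * g * t⁻¹ * g⁻¹)⁻¹ * (x * y * x⁻¹ * y⁻¹) := by rw [ht]; group
          _ = (t * g * t⁻¹ * g⁻¹)⁻¹ := by
              rw [hHc x hx y hy]; group
      rw [e, e2, e3]
      exact I.inv_mem (hIφ ⟨t, htH⟩)
  -- cardinalities
  have hker : K.subgroupOf H ≤ φ.ker := by
    intro x hx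
    rw [mem_subgroupOf] at hx
    rw [MonoidHom.mem_ker]
    apply Subtype.ext
    rw [hφ]
    have hc := mem_center_iff.mp (hKc hx) g
    -- hc : g * x = x * g
    calc (x : X) * g * (x : X)⁻¹ * g⁻¹ = (g * (x : X)) * (x : X)⁻¹ * g⁻¹ := by rw [hc]
      _ = 1 := by group
  have h1 : Nat.card I = Nat.card φ.range := Subgroup.card_map_of_injective H.subtype_injective
  have h2 : φ.ker.index = Nat.card φ.range := Subgroup.index_ker φ
  have h3 := Subgroup.card_mul_index φ.ker
  have h4 : Nat.card K ≤ Nat.card φ.ker := by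
    have := Subgroup.card_le_of_le hker
    rwa [Nat.card_congr (Subgroup.subgroupOfEquivOfLe hKH).toEquiv] at this
  calc Nat.card (commutator X) * Nat.card K ≤ Nat.card I * Nat.card φ.ker :=
        Nat.mul_le_mul (Subgroup.card_le_of_le hcomm_le) h4
    _ = Nat.card φ.ker * φ.ker.index := by rw [h1, h2, mul_comm]
    _ = Nat.card H := h3

end Basic

section Main

theorem taussky_aux (m : ℕ) : ∀ (X : Type u) [Group X] [Finite X], Nat.card X = 2 ^ (m + 2) →
    (commutator X).index = 4 → ∃ C : Subgroup X, IsCyclic C ∧ C.index = 2 := by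
  induction m with
  | zero =>
    intro X _ _ hX _
    exact exists_cyclic_index_two_of_card_four (by simpa using hX)
  | succ m ih =>
    intro X _ _ hX hidx
    haveI : Fact (Nat.Prime 2) := ⟨Nat.prime_two⟩
    have hXp : IsPGroup 2 X := IsPGroup.of_card hX
    have hbig : 8 ≤ 2 ^ (m + 1 + 2) := by
      calc 8 = 2 ^ 3 := by norm_num
        _ ≤ 2 ^ (m + 1 + 2) := Nat.pow_le_pow_right (by norm_num) (by omega)
    have hcne : commutator X ≠ ⊥ := by
      intro h
      rw [h, Subgroup.index_bot, hX] at hidx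
      omega
    have hna : ∃ x y : X, x * y ≠ y * x := by
      by_contra hcon
      push_neg at hcon
      apply hcne
      rw [commutator_def, commutator_eq_bot_iff_le_centralizer]
      intro x _
      rw [mem_centralizer_iff]
      intro y _
      exact hcon y x
    rcases Nat.eq_zero_or_pos m with rfl | hm
    · exact exists_cyclic_index_two_of_card_eight (by simpa using hX) hna
    obtain ⟨z₀, hz₀c, hz₀1, hz₀Z⟩ := exists_central_of_normal hXp (commutator X) hcne
    obtain ⟨j, hj⟩ := (IsPGroup.iff_orderOf.mp hXp) z₀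
    have hj1 : 1 ≤ j := by
      by_contra h
      have : j = 0 := by omega
      rw [this, pow_zero, orderOf_eq_one_iff] at hj
      exact hz₀1 hj
    set z := z₀ ^ (2 ^ (j - 1)) with hz
    have hordz : orderOf z = 2 := orderOf_pow_pred' hj1 hj
    have hzc : z ∈ commutator X := pow_mem hz₀c _
    have hzZ : z ∈ center X := pow_mem hz₀Z _
    have hz1 : z ≠ 1 := by
      intro h
      rw [h, orderOf_one] at hordz
      omega
    have hz2 : z ^ 2 = 1 := by rw [← hordz]; exact pow_orderOf_eq_one z
    set Z := zpowers z with hZ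
    haveI hZn : Z.Normal := by
      constructor
      intro n hn g
      have hnc : n ∈ center X := (zpowers_le.mpr hzZ) hn
      have : g * n * g⁻¹ = n := by
        rw [mem_center_iff] at hnc
        rw [hnc g, mul_assoc, mul_inv_cancel, mul_one]
      rw [this]; exact hn
    have hZcard : Nat.card Z = 2 := by rw [Nat.card_zpowers, hordz]
    have hZle : Z ≤ commutator X := zpowers_le.mpr hzc
    have hQcard : Nat.card (X ⧸ Z) = 2 ^ (m + 2) := by
      have := Subgroup.card_eq_card_quotient_mul_card_subgroup Z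
      rw [hX, hZcard] at this
      have e : 2 ^ (m + 1 + 2) = 2 ^ (m + 2) * 2 := by ring
      rw [e] at this
      exact (Nat.eq_of_mul_eq_mul_right (by norm_num) this).symm
    have hQidx : (commutator (X ⧸ Z)).index = 4 := by rw [index_commutator_quotient Z hZle, hidx]
    obtain ⟨Cbar, hCc, hCi⟩ := ih (X ⧸ Z) hQcard hQidx
    set π := QuotientGroup.mk' Z with hπ
    have hπs : Function.Surjective π := QuotientGroup.mk'_surjective Z
    set H := Cbar.comap π with hH
    have hHi : H.index = 2 := by rw [hH, Subgroup.index_comap_of_surjective _ hπs, hCi]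
    obtain ⟨cbar, hcbar⟩ := (Subgroup.isCyclic_iff_exists_zpowers_eq_top Cbar).mp hCc
    obtain ⟨h, hh⟩ := hπs cbar
    have hhH : h ∈ H := by
      rw [hH, mem_comap, hh, ← hcbar]; exact mem_zpowers _
    have hzH : z ∈ H := by
      rw [hH, mem_comap]
      have : π z = 1 := (QuotientGroup.eq_one_iff z).mpr (mem_zpowers z)
      rw [this]; exact one_mem _
    have hform : ∀ x ∈ H, ∃ (i : ℤ) (e : ℤ), x = h ^ i * z ^ e := by
      intro x hx
      rw [hH, mem_comap, ← hcbar, ← hh] at hx
      obtain ⟨i, hi⟩ := mem_zpowers_iff.mp hx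
      have h2 : (h ^ i)⁻¹ * x ∈ Z := by
        rw [← QuotientGroup.eq_one_iff]
        have : (((h ^ i)⁻¹ * x : X) : X ⧸ Z) = ((π h) ^ i)⁻¹ * π x := by simp [hπ]
        rw [this, hi]; simp
      obtain ⟨e, he⟩ := mem_zpowers_iff.mp h2
      exact ⟨i, e, by rw [he]; group⟩
    have hze : ∀ (k : ℤ) (y : X), z ^ k * y = y * z ^ k := by
      intro k y
      have : Commute z y := (mem_center_iff.mp hzZ y).symm
      exact (this.zpow_left k).eq
    have hHc : ∀ x ∈ H, ∀ y ∈ H, x * y = y * x := by
      intro x hx y hy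
      obtain ⟨i, e, rfl⟩ := hform x hx
      obtain ⟨i', e', rfl⟩ := hform y hy
      calc h ^ i * z ^ e * (h ^ i' * z ^ e') = h ^ i * (z ^ e * h ^ i') * z ^ e' := by group
        _ = h ^ i * (h ^ i' * z ^ e) * z ^ e' := by rw [hze e]
        _ = (h ^ i * h ^ i') * (z ^ e * z ^ e') := by group
        _ = (h ^ i' * h ^ i) * (z ^ e' * z ^ e) := by
            rw [← zpow_add, ← zpow_add, ← zpow_add, ← zpow_add, add_comm i, add_comm e]
        _ = h ^ i' * (h ^ i * z ^ e') * z ^ e := by group
        _ = h ^ i' * (z ^ e' * h ^ i) * z ^ e := by rw [hze e']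
        _ = h ^ i' * z ^ e' * (h ^ i * z ^ e) := by group
    by_cases hzh : z ∈ zpowers h
    · refine ⟨H, ?_, hHi⟩
      have : H = zpowers h := by
        apply le_antisymm
        · intro x hx
          obtain ⟨i, e, rfl⟩ := hform x hx
          exact mul_mem (zpow_mem (mem_zpowers h) i) (zpow_mem hzh e)
        · exact zpowers_le.mpr hhH
      rw [this]; infer_instance
    · exfalso
      have hordcbar : orderOf cbar = 2 ^ (m + 1) := by
        have h1 := Subgroup.card_mul_index Cbar
        rw [hCi, hQcard, ← hcbar, Nat.card_zpowers] at h1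
        have e : 2 ^ (m + 2) = 2 ^ (m + 1) * 2 := by ring
        rw [e] at h1
        exact Nat.eq_of_mul_eq_mul_right (by norm_num) h1
      have hZelts : ∀ u ∈ Z, u = 1 ∨ u = z := by
        intro u hu
        obtain ⟨e, rfl⟩ := mem_zpowers_iff.mp hu
        rcases Int.even_or_odd e with ⟨t, ht⟩ | ⟨t, ht⟩
        · left; rw [ht, ← two_mul, zpow_mul, zpow_two, ← pow_two, hz2, one_zpow]
        · right; rw [ht, zpow_add, zpow_mul, zpow_two, ← pow_two, hz2, one_zpow, one_mul, zpow_one]
      have hZh : ∀ k : ℕ, h ^ k ∈ Z → h ^ k = 1 := by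
        intro k hk
        rcases hZelts _ hk with h1 | h1
        · exact h1
        · exfalso; apply hzh; rw [← h1]; exact pow_mem (mem_zpowers h) k
      have hordh : orderOf h = 2 ^ (m + 1) := by
        rw [← hordcbar, ← hh]
        apply Nat.dvd_antisymm
        · apply orderOf_dvd_of_pow_eq_one
          apply hZh
          rw [← QuotientGroup.eq_one_iff]
          have : ((h ^ orderOf (π h) : X) : X ⧸ Z) = (π h) ^ orderOf (π h) := by simp [hπ]
          rw [this, pow_orderOf_eq_one]
        · exact orderOf_map_dvd π h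
      set w := h ^ (2 ^ m) with hw
      have hordw : orderOf w = 2 := by
        have := orderOf_pow_pred' (p := 2) (a := h) (m := m + 1) (by omega) hordh
        simpa using this
      have hw1 : w ≠ 1 := by
        intro h'
        rw [h', orderOf_one] at hordw
        omega
      have hw2 : w ^ 2 = 1 := by rw [← hordw]; exact pow_orderOf_eq_one w
      have hwZ : w ∉ Z := fun hwZ' => hw1 (hZh (2 ^ m) hwZ')
      have hwH : w ∈ H := pow_mem hhH _
      have huniq : ∀ u ∈ zpowers h, u ^ 2 = 1 → u = 1 ∨ u = w := by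
        intro u hu hu2
        obtain ⟨k, rfl⟩ := mem_zpowers_iff.mp hu
        rw [← zpow_natCast, ← zpow_mul] at hu2
        have h1 := dvd_sub_of_zpow_eq hordh (x := k * (2 : ℕ)) (y := 0) (by simpa using hu2)
        have h2 : (2 : ℤ) ^ m ∣ k := by
          push_cast at h1
          rw [sub_zero, pow_succ] at h1
          exact Int.dvd_of_mul_dvd_mul_right (by norm_num) h1
        obtain ⟨t, ht⟩ := h2
        have hkt : h ^ k = w ^ t := by
          rw [ht, zpow_mul, hw, ← zpow_natCast h]
          push_cast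
          rfl
        rw [hkt]
        rcases Int.even_or_odd t with ⟨s, hs⟩ | ⟨s, hs⟩
        · left; rw [hs, ← two_mul, zpow_mul, zpow_two, ← pow_two, hw2, one_zpow]
        · right; rw [hs, zpow_add, zpow_mul, zpow_two, ← pow_two, hw2, one_zpow, one_mul, zpow_one]
      haveI hHn : H.Normal := Subgroup.normal_of_index_eq_two hHi
      have hwc : w ∈ center X := by
        rw [mem_center_iff]
        intro g
        obtain ⟨m', rfl⟩ : ∃ m', m = m' + 1 := ⟨m - 1, by omega⟩
        set y := g * h ^ (2 ^ m') * g⁻¹ with hy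
        have hyH : y ∈ H := hHn.conj_mem _ (pow_mem hhH _) g
        have hy2 : y ^ 2 = g * w * g⁻¹ := by
          rw [hy, conj_pow, ← pow_mul, hw, pow_succ]
        obtain ⟨i, e, hie⟩ := hform y hyH
        have hy2' : y ^ 2 = h ^ (2 * i) := by
          rw [hie, pow_two]
          calc h ^ i * z ^ e * (h ^ i * z ^ e) = h ^ i * (z ^ e * h ^ i) * z ^ e := by group
            _ = h ^ i * (h ^ i * z ^ e) * z ^ e := by rw [hze e]
            _ = h ^ (2 * i) * (z ^ 2) ^ e := by
                rw [two_mul, zpow_add, ← zpow_natCast z 2, ← zpow_mul, mul_comm ((2 : ℕ) : ℤ) e, zpow_mul]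
                push_cast
                group
            _ = h ^ (2 * i) := by rw [hz2, one_zpow, mul_one]
        have hgw : g * w * g⁻¹ ∈ zpowers h := by
          rw [← hy2, hy2']; exact zpow_mem (mem_zpowers h) _
        have hgw2 : (g * w * g⁻¹) ^ 2 = 1 := by rw [conj_pow, hw2]; simp
        rcases huniq _ hgw hgw2 with h1 | h1
        · exfalso
          apply hw1
          have : w = g⁻¹ * (g * w * g⁻¹) * g := by group
          rw [this, h1]; group
        · calc g * w = (g * w * g⁻¹) * g := by group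
            _ = w * g := by rw [h1]
      set K := zpowers z ⊔ zpowers w with hK
      have hKc : K ≤ center X := sup_le (zpowers_le.mpr hzZ) (zpowers_le.mpr hwc)
      have hKH : K ≤ H := sup_le (zpowers_le.mpr hzH) (zpowers_le.mpr hwH)
      have hK4 : 4 ≤ Nat.card K := by
        obtain ⟨k, hk⟩ := (hXp.to_subgroup K).exists_card_eq
        have hZK : Z ≤ K := le_sup_left
        have h1 := Subgroup.card_dvd_of_le hZK
        rw [hk, hZcard] at h1
        have hk0 : k ≠ 0 := by
          rintro rfl
          simp at h1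
        have hk1 : k ≠ 1 := by
          rintro rfl
          have : Z = K := Subgroup.eq_of_le_of_card_ge hZK (by rw [hk, hZcard]; norm_num)
          exact hwZ (this ▸ (le_sup_right : zpowers w ≤ K) (mem_zpowers w))
        rw [hk]
        calc 4 = 2 ^ 2 := by norm_num
          _ ≤ 2 ^ k := Nat.pow_le_pow_right (by norm_num) (by omega)
      have h5 := card_commutator_mul_le H hHi hHc K hKH hKc
      have h6 := Subgroup.card_mul_index (commutator X)
      rw [hidx, hX] at h6
      have h7 := Subgroup.card_mul_index H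
      rw [hHi, hX] at h7
      have h8 : Nat.card (commutator X) * 4 ≤ Nat.card H := le_trans (Nat.mul_le_mul_left _ hK4) h5
      have hHpos : 0 < Nat.card H := Nat.card_pos
      omega

/-- **Taussky**: a `2`-group of order at least 4 with commutator quotient of order 4 has a cyclic
subgroup of index 2. -/
theorem exists_cyclic_index_two {X : Type u} [Group X] [Finite X] (n : ℕ) (hn : 2 ≤ n)
    (hX : Nat.card X = 2 ^ n) (hidx : (commutator X).index = 4) :
    ∃ C : Subgroup X, IsCyclic C ∧ C.index = 2 := by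
  obtain ⟨m, rfl⟩ : ∃ m, n = m + 2 := ⟨n - 2, by omega⟩
  exact taussky_aux m X hX hidx

/-- two generators: cyclic subgroup of prime index plus an element outside -/
theorem closure_pair_eq_top {X : Type u} [Group X] {p : ℕ} (hp : p.Prime) {a b : X}
    (hidx : (zpowers a).index = p) (hb : b ∉ zpowers a) : closure ({a, b} : Set X) = ⊤ := by
  set K := closure ({a, b} : Set X) with hK
  have hCK : zpowers a ≤ K := by
    rw [zpowers_le]
    exact Subgroup.subset_closure (by simp)
  have hbK : b ∈ K := Subgroup.subset_closure (by simp)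
  have h1 := Subgroup.relIndex_mul_index hCK
  rw [hidx] at h1
  have h2 : (zpowers a).relIndex K ≠ 1 := by
    intro h
    exact hb (Subgroup.relIndex_eq_one.mp h hbK)
  have h3 : (zpowers a).relIndex K ∣ p := Dvd.intro _ h1
  have h4 : (zpowers a).relIndex K = p := by
    rcases (Nat.dvd_prime hp).mp h3 with h | h
    · exact absurd h h2
    · exact h
  rw [h4] at h1
  have h5 : K.index = 1 := by
    have : p * K.index = p * 1 := by rw [h1, mul_one]
    exact Nat.eq_of_mul_eq_mul_left hp.pos this
  exact Subgroup.index_eq_one.mp h5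

/-- if `X = ⟨a, b⟩` and `[a, b]` lies in the normal subgroup `N`, then `X' ≤ N` -/
theorem commutator_le_of_closure_pair {X : Type u} [Group X] (N : Subgroup X) [hN : N.Normal] {a b : X}
    (htop : closure ({a, b} : Set X) = ⊤) (hab : ⁅a, b⁆ ∈ N) : commutator X ≤ N := by
  set π := QuotientGroup.mk' N with hπ
  have hπs : Function.Surjective π := QuotientGroup.mk'_surjective N
  have h1 : π a * π b = π b * π a := by
    have : π ⁅a, b⁆ = 1 := (QuotientGroup.eq_one_iff _).mpr hab
    rw [map_commutatorElement, commutatorElement_eq_one_iff_commute] at this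
    exact this.eq
  have h2 : closure ({π a, π b} : Set (X ⧸ N)) = ⊤ := by
    have : ({π a, π b} : Set (X ⧸ N)) = π '' ({a, b} : Set X) := by
      rw [Set.image_pair]
    rw [this, ← MonoidHom.map_closure, htop, ← MonoidHom.range_eq_map, MonoidHom.range_eq_top.mpr hπs]
  have hcomm := comm_of_closure_pair_eq_top h1 h2
  rw [commutator_def, commutator_le]
  intro u _ v _
  rw [← QuotientGroup.eq_one_iff]
  change π ⁅u, v⁆ = 1
  rw [map_commutatorElement, commutatorElement_eq_one_iff_commute]
  exact hcomm (π u) (π v)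

/-- **Structure** of `2`-groups with commutator quotient of order 4. -/
theorem structure_of_index_four {X : Type u} [Group X] [Finite X] (n : ℕ) (hn : 3 ≤ n)
    (hX : Nat.card X = 2 ^ n) (hidx : (commutator X).index = 4) :
    ∃ a b : X, orderOf a = 2 ^ (n - 1) ∧ b ∉ zpowers a ∧ (zpowers a).index = 2 ∧
      ((b ^ 2 = 1 ∧ b * a * b⁻¹ = a⁻¹) ∨ (b ^ 2 = a ^ (2 ^ (n - 2)) ∧ b * a * b⁻¹ = a⁻¹) ∨
       (4 ≤ n ∧ b ^ 2 = 1 ∧ b * a * b⁻¹ = a ^ (2 ^ (n - 2) - 1))) := by
  obtain ⟨C, hCc, hCi⟩ := exists_cyclic_index_two n (by omega) hX hidx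
  have hbig : 8 ≤ 2 ^ n := by
    calc 8 = 2 ^ 3 := by norm_num
      _ ≤ 2 ^ n := Nat.pow_le_pow_right (by norm_num) hn
  have hna : ∃ x y : X, x * y ≠ y * x := by
    by_contra hcon
    push_neg at hcon
    have : commutator X = ⊥ := by
      rw [commutator_def, commutator_eq_bot_iff_le_centralizer]
      intro x _
      rw [mem_centralizer_iff]
      intro y _
      exact hcon y x
    rw [this, Subgroup.index_bot, hX] at hidx
    omega
  obtain ⟨a, b, horda, hCa, hb, hcases⟩ := exists_gens_two n hn hX C hCc hCi hna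
  have hai : (zpowers a).index = 2 := by rw [← hCa]; exact hCi
  refine ⟨a, b, horda, hb, hai, ?_⟩
  rcases hcases with h | h | ⟨hn4, hb2, hconj⟩ | h
  · exact Or.inl h
  · exact Or.inr (Or.inl h)
  · -- the modular case is impossible
    exfalso
    have htop := closure_pair_eq_top Nat.prime_two hai hb
    obtain ⟨k, rfl⟩ : ∃ k, n = k + 4 := ⟨n - 4, by omega⟩
    have e1 : k + 4 - 1 = k + 3 := by omega
    have e2 : k + 4 - 2 = k + 2 := by omega
    rw [e1] at horda
    rw [e2] at hconj
    set z := a ^ (2 ^ (k + 2)) with hz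
    have hordz : orderOf z = 2 := by
      haveI : Fact (Nat.Prime 2) := ⟨Nat.prime_two⟩
      have := orderOf_pow_pred' (p := 2) (a := a) (m := k + 3) (by omega) horda
      simpa using this
    have hza : z * a = a * z := by
      rw [hz, ← pow_succ, ← pow_succ']
    have hzb : b * z * b⁻¹ = z := by
      rw [hz, ← conj_pow, hconj, ← pow_mul]
      have : (1 + 2 ^ (k + 2)) * 2 ^ (k + 2) = 2 ^ (k + 2) + 2 ^ (k + 3) * 2 ^ (k + 1) := by ring
      rw [this, pow_add, pow_mul, ← horda, pow_orderOf_eq_one, one_pow, mul_one]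
    have hzc : z ∈ center X := by
      have hle : closure ({a, b} : Set X) ≤ centralizer {z} := by
        rw [closure_le]
        intro u hu
        rw [SetLike.mem_coe, mem_centralizer_iff]
        intro w hw
        rw [Set.mem_singleton_iff] at hw
        rw [hw]
        rcases hu with rfl | rfl
        · exact hza
        · calc z * u = (u * z * u⁻¹) * u := by rw [hzb]
            _ = u * z := by group
      rw [mem_center_iff]
      intro g
      have hg : g ∈ centralizer {z} := hle (htop ▸ mem_top g)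
      rw [mem_centralizer_iff] at hg
      exact (hg z rfl).symm
    set N := zpowers z with hN
    haveI hNn : N.Normal := by
      constructor
      intro u hu g
      have huc : u ∈ center X := (zpowers_le.mpr hzc) hu
      have : g * u * g⁻¹ = u := by
        rw [mem_center_iff] at huc
        rw [huc g, mul_assoc, mul_inv_cancel, mul_one]
      rw [this]; exact hu
    have hab : ⁅a, b⁆ ∈ N := by
      have : ⁅a, b⁆ = a * (b * a * b⁻¹)⁻¹ := by simp only [commutatorElement_def]; group
      rw [this, hconj, add_comm, pow_succ, mul_inv_rev, ← mul_assoc, mul_inv_cancel, one_mul]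
      exact N.inv_mem (mem_zpowers z)
    have hle := commutator_le_of_closure_pair N htop hab
    have h1 := Subgroup.card_le_of_le hle
    rw [hN, Nat.card_zpowers, hordz] at h1
    have h2 := Subgroup.card_mul_index (commutator X)
    rw [hidx, hX] at h2
    have h3 : 16 ≤ 2 ^ (k + 4) := by
      calc 16 = 2 ^ 4 := by norm_num
        _ ≤ 2 ^ (k + 4) := Nat.pow_le_pow_right (by norm_num) (by omega)
    omega
  · exact Or.inr (Or.inr h)

end Main

end Cfsg.Agent.Lib.Lead.Taussky
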