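import Mathlib
import Cfsg.Agent.Lib.Lead.Taussky

/-! `p`-groups of maximal class; `2`-groups of maximal class. -/

set_option autoImplicit false

namespace Cfsg.Agent.Lib.Lead.MaxClass

open Subgroup
open scoped commutatorElement
open Cfsg.Agent.Lib.Lead.CyclicMax
open Cfsg.Agent.Lib.Lead.UniqueOrderP
open Cfsg.Agent.Lib.Lead.Taussky

universe u

/-- a group of order `p ^ m` is nilpotent -/
theorem isNilpotent_of_card {X : Type u} [Group X] [Finite X] {p : ℕ} [hp : Fact p.Prime] {m : ℕ}
    (hX : Nat.card X = p ^ m) : Group.IsNilpotent X :=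
  (IsPGroup.of_card hX).isNilpotent

/-- the central quotient of a noncommutative `p`-group of order `p ^ m`: the centre has order
`p ^ k` with `1 ≤ k` and `k + 2 ≤ m`. -/
theorem card_center_of_not_comm {X : Type u} [Group X] [Finite X] {p : ℕ} [hp : Fact p.Prime]
    {m : ℕ} (hX : Nat.card X = p ^ m) (hnc : ∃ x y : X, x * y ≠ y * x) :
    ∃ k, 1 ≤ k ∧ k + 2 ≤ m ∧ Nat.card (center X) = p ^ k ∧
      Nat.card (X ⧸ center X) = p ^ (m - k) := by
  have hP : IsPGroup p X := IsPGroup.of_card hX
  obtain ⟨k, hk⟩ := (IsPGroup.iff_card.mp (hP.to_subgroup (center X)))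
  have hmul := Subgroup.card_eq_card_quotient_mul_card_subgroup (center X)
  have hppos : 0 < p := hp.out.pos
  have hkm : k ≤ m := by
    have hdvd : p ^ k ∣ p ^ m := by
      rw [← hk, ← hX]
      exact Subgroup.card_subgroup_dvd_card _
    exact (Nat.pow_dvd_pow_iff_le_right hp.out.one_lt).mp hdvd
  have hq : Nat.card (X ⧸ center X) = p ^ (m - k) := by
    rw [hX, hk] at hmul
    have h2 : p ^ m = p ^ (m - k) * p ^ k := by
      rw [← pow_add]
      congr 1
      omega
    rw [h2] at hmul
    exact (Nat.eq_of_mul_eq_mul_right (pow_pos hppos k) hmul).symm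
  have hk1 : 1 ≤ k := by
    rcases Nat.eq_zero_or_pos k with h0 | h0
    · exfalso
      haveI : Nontrivial X := by
        obtain ⟨x, y, hxy⟩ := hnc
        refine ⟨⟨x * y, y * x, hxy⟩⟩
      have := hP.center_nontrivial
      rw [h0, pow_zero] at hk
      have hsub : Subsingleton (center X) := (Nat.card_eq_one_iff_unique.mp hk).1
      exact not_subsingleton _ hsub
    · exact h0
  refine ⟨k, hk1, ?_, hk, hq⟩
  -- the quotient is not cyclic
  by_contra hlt
  have hle : m - k ≤ 1 := by omega
  have hcyc : IsCyclic (X ⧸ center X) := by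
    rcases Nat.le_one_iff_eq_zero_or_eq_one.mp hle with h0 | h1
    · rw [h0, pow_zero] at hq
      haveI : Subsingleton (X ⧸ center X) := (Nat.card_eq_one_iff_unique.mp hq).1
      infer_instance
    · rw [h1, pow_one] at hq
      exact isCyclic_of_prime_card hq
  obtain ⟨x, y, hxy⟩ := hnc
  exact hxy (commutative_of_cyclic_center_quotient (QuotientGroup.mk' (center X))
    (by rw [QuotientGroup.ker_mk']) x y)

/-- Lemma B: a group of order `p ^ m`, `2 ≤ m`, has class at most `m - 1`. -/
theorem nilpotencyClass_le (m : ℕ) : ∀ (X : Type u) [Group X] [Finite X] {p : ℕ} [Fact p.Prime],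
    Nat.card X = p ^ m → 2 ≤ m → Group.nilpotencyClass X ≤ m - 1 := by
  induction m using Nat.strong_induction_on with
  | _ m ih =>
    intro X _ _ p hp hX hm
    haveI hnil : Group.IsNilpotent X := isNilpotent_of_card hX
    by_cases hc : ∀ x y : X, x * y = y * x
    · have : Group.nilpotencyClass X ≤ 1 := by
        rw [Group.IsNilpotent.nilpotencyClass_le_one_iff]
        exact ⟨⟨hc⟩⟩
      omega
    · push_neg at hc
      obtain ⟨k, hk1, hk2, hkc, hq⟩ := card_center_of_not_comm hX hc
      haveI : Nontrivial X := by
        obtain ⟨x, y, hxy⟩ := hc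
        exact ⟨⟨x * y, y * x, hxy⟩⟩
      have h1 := ih (m - k) (by omega) (X ⧸ center X) hq (by omega)
      have h2 := Group.nilpotencyClass_eq_quotient_center_plus_one (G := X)
      omega

/-- a noncommutative group of order `p ^ m` of class `m - 1` has centre of order `p` -/
theorem card_center_of_maxClass {X : Type u} [Group X] [Finite X] {p : ℕ} [hp : Fact p.Prime]
    {m : ℕ} (hX : Nat.card X = p ^ m) (hm : 3 ≤ m) (hc : Group.nilpotencyClass X = m - 1) :
    Nat.card (center X) = p ∧ Nat.card (X ⧸ center X) = p ^ (m - 1) ∧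
      Group.nilpotencyClass (X ⧸ center X) = m - 2 := by
  haveI hnil : Group.IsNilpotent X := isNilpotent_of_card hX
  have hnc : ∃ x y : X, x * y ≠ y * x := by
    by_contra hcon
    push_neg at hcon
    have : Group.nilpotencyClass X ≤ 1 := by
      rw [Group.IsNilpotent.nilpotencyClass_le_one_iff]
      exact ⟨⟨hcon⟩⟩
    omega
  obtain ⟨k, hk1, hk2, hkc, hq⟩ := card_center_of_not_comm hX hnc
  have h1 := nilpotencyClass_le (m - k) (X ⧸ center X) hq (by omega)
  have h2 := Group.nilpotencyClass_quotient_center (G := X)
  have hk : k = 1 := by omega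
  subst hk
  refine ⟨by rw [hkc, pow_one], hq, by omega⟩

/-- in a `p`-group with centre of order `p` and nontrivial commutator subgroup, the centre lies in
the commutator subgroup -/
theorem center_le_commutator_of_card {X : Type u} [Group X] [Finite X] {p : ℕ} [hp : Fact p.Prime]
    (hP : IsPGroup p X) (hZ : Nat.card (center X) = p) (hne : commutator X ≠ ⊥) :
    center X ≤ commutator X := by
  obtain ⟨z, hzN, hz1, hzZ⟩ := exists_central_of_normal hP (commutator X) hne
  have hle : zpowers z ≤ center X := by
    rw [zpowers_le]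
    exact hzZ
  have hcard : Nat.card (zpowers z) = p := by
    rw [Nat.card_zpowers]
    have hdvd : orderOf z ∣ p := by
      have h1 : orderOf z = Nat.card (zpowers z) := (Nat.card_zpowers z).symm
      rw [h1, ← hZ]
      exact Subgroup.card_dvd_of_le hle
    rcases (Nat.dvd_prime hp.out).mp hdvd with h | h
    · exact absurd (orderOf_eq_one_iff.mp h) hz1
    · exact h
  have heq : zpowers z = center X := by
    apply Subgroup.eq_of_le_of_card_ge hle
    rw [hcard, hZ]
  rw [← heq, zpowers_le]
  exact hzN

/-- Lemma D: a `2`-group of order `2 ^ n`, `3 ≤ n`, with commutator quotient of order `4` has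
centre of order `2`. -/
theorem card_center_of_index_four {X : Type u} [Group X] [Finite X] (n : ℕ) (hn : 3 ≤ n)
    (hX : Nat.card X = 2 ^ n) (hidx : (commutator X).index = 4) :
    Nat.card (center X) = 2 := by
  haveI : Fact (Nat.Prime 2) := ⟨Nat.prime_two⟩
  have hP : IsPGroup 2 X := IsPGroup.of_card hX
  obtain ⟨a, b, hoa, hb, hai, -⟩ := structure_of_index_four n hn hX hidx
  -- the commutator subgroup has order `2 ^ (n - 2)`
  have hcomm : Nat.card (commutator X) = 2 ^ (n - 2) := by
    have h1 := Subgroup.card_mul_index (commutator X)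
    rw [hidx, hX] at h1
    have h2 : (2 : ℕ) ^ n = 2 ^ (n - 2) * 4 := by
      have : (4 : ℕ) = 2 ^ 2 := by norm_num
      rw [this, ← pow_add]
      congr 1
      omega
    rw [h2] at h1
    exact Nat.eq_of_mul_eq_mul_right (by norm_num) h1
  -- `X` is not commutative
  have hnc : ¬ ∀ x y : X, x * y = y * x := by
    intro hc
    have : commutator X = ⊥ := by
      rw [commutator_def, Subgroup.commutator_eq_bot_iff_le_centralizer]
      intro x _ y _
      exact hc y x
    rw [this, Subgroup.card_bot] at hcomm
    have h3 : 1 < 2 ^ (n - 2) := Nat.one_lt_two_pow (by omega)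
    omega
  -- the centre lies in `⟨a⟩`
  have hZle : center X ≤ zpowers a := by
    intro z hz
    by_contra hza
    have htop := closure_pair_eq_top Nat.prime_two hai hza
    exact hnc (comm_of_closure_pair_eq_top ((mem_center_iff.mp hz a)) htop)
  have hcomm_H : ∀ x ∈ zpowers a, ∀ y ∈ zpowers a, x * y = y * x := by
    intro x hx y hy
    obtain ⟨i, rfl⟩ := mem_zpowers_iff.mp hx
    obtain ⟨j, rfl⟩ := mem_zpowers_iff.mp hy
    rw [← zpow_add, ← zpow_add, add_comm]
  have hle := card_commutator_mul_le (zpowers a) hai hcomm_H (center X) hZle le_rfl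
  rw [hcomm, Nat.card_zpowers, hoa] at hle
  have h4 : (2 : ℕ) ^ (n - 1) = 2 ^ (n - 2) * 2 := by
    rw [← pow_succ]
    congr 1
    omega
  rw [h4] at hle
  have h5 : Nat.card (center X) ≤ 2 := Nat.le_of_mul_le_mul_left hle (by positivity)
  haveI : Nontrivial X := by
    push_neg at hnc
    obtain ⟨x, y, hxy⟩ := hnc
    exact ⟨⟨x * y, y * x, hxy⟩⟩
  have h6 : 1 < Nat.card (center X) := by
    haveI := hP.center_nontrivial
    exact Finite.one_lt_card
  omega

/-- a group of order `2 ^ n`, `2 ≤ n`, has class `n - 1` iff its commutator quotient has order `4` -/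
theorem maxClass_iff_index (m : ℕ) : ∀ (X : Type u) [Group X] [Finite X],
    Nat.card X = 2 ^ (m + 2) →
    (Group.nilpotencyClass X = m + 1 ↔ (commutator X).index = 4) := by
  haveI : Fact (Nat.Prime 2) := ⟨Nat.prime_two⟩
  induction m with
  | zero =>
    intro X _ _ hX
    have hP : IsPGroup 2 X := IsPGroup.of_card hX
    haveI hnil : Group.IsNilpotent X := hP.isNilpotent
    have hc : ∀ x y : X, x * y = y * x := by
      intro x y
      exact (IsPGroup.commutative_of_card_eq_prime_sq (p := 2) hX) x y
    have h1 : Group.nilpotencyClass X ≤ 1 := by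
      rw [Group.IsNilpotent.nilpotencyClass_le_one_iff]
      exact ⟨⟨hc⟩⟩
    have h2 : Group.nilpotencyClass X ≠ 0 := by
      intro h0
      rw [Group.nilpotencyClass_zero_iff_subsingleton] at h0
      have := Nat.card_eq_one_iff_unique.mpr ⟨h0, ⟨1⟩⟩
      rw [hX] at this
      norm_num at this
    have h3 : commutator X = ⊥ := by
      rw [commutator_def, Subgroup.commutator_eq_bot_iff_le_centralizer]
      intro x _ y _
      exact hc y x
    constructor
    · intro _
      rw [h3, Subgroup.index_bot, hX]
      norm_num
    · intro _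
      omega
  | succ m ih =>
    intro X _ _ hX
    have hP : IsPGroup 2 X := IsPGroup.of_card hX
    haveI hnil : Group.IsNilpotent X := hP.isNilpotent
    haveI : Nontrivial X := by
      apply (Finite.one_lt_card_iff_nontrivial).mp
      rw [hX]
      exact Nat.one_lt_two_pow (by omega)
    have key : Nat.card (center X) = 2 → commutator X ≠ ⊥ →
        (Group.nilpotencyClass X = m + 1 + 1 ↔ (commutator X).index = 4) := by
      intro hZ hne
      have hZle := center_le_commutator_of_card hP hZ hne
      have hq : Nat.card (X ⧸ center X) = 2 ^ (m + 2) := by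
        have hmul := Subgroup.card_eq_card_quotient_mul_card_subgroup (center X)
        rw [hX, hZ, pow_succ] at hmul
        exact (Nat.eq_of_mul_eq_mul_right (by norm_num) hmul).symm
      have h1 := ih (X ⧸ center X) hq
      have h2 := index_commutator_quotient (center X) hZle
      have h3 := Group.nilpotencyClass_eq_quotient_center_plus_one (G := X)
      rw [← h2, ← h1, h3]
      omega
    constructor
    · intro hc
      obtain ⟨hZ, -, -⟩ := card_center_of_maxClass (m := m + 1 + 2) hX (by omega) (by omega)
      have hne : commutator X ≠ ⊥ := by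
        intro hbot
        have : Group.nilpotencyClass X ≤ 1 := by
          rw [Group.IsNilpotent.nilpotencyClass_le_one_iff]
          refine ⟨⟨fun x y => ?_⟩⟩
          have := (Subgroup.commutator_eq_bot_iff_le_centralizer (H₁ := (⊤ : Subgroup X))
            (H₂ := (⊤ : Subgroup X))).mp (by rw [← commutator_def]; exact hbot)
          exact (this (mem_top y) x (mem_top x))
        omega
      exact (key hZ hne).mp hc
    · intro hidx
      have hZ := card_center_of_index_four (m + 1 + 2) (by omega) hX hidx
      have hne : commutator X ≠ ⊥ := by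
        intro hbot
        rw [hbot, Subgroup.index_bot, hX] at hidx
        have : (2 : ℕ) ^ (m + 1 + 2) = 2 ^ m * 8 := by ring
        omega
      exact (key hZ hne).mpr hidx

/-- Lemma C: a finite `p`-group with cyclic abelianization is commutative -/
theorem comm_of_cyclic_abelianization (m : ℕ) : ∀ (X : Type u) [Group X] [Finite X] {p : ℕ}
    [Fact p.Prime], Nat.card X = p ^ m → IsCyclic (Abelianization X) →
    ∀ x y : X, x * y = y * x := by
  induction m using Nat.strong_induction_on with
  | _ m ih =>
    intro X _ _ p hp hX hcyc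
    by_contra hc
    push_neg at hc
    obtain ⟨k, hk1, hk2, hkc, hq⟩ := card_center_of_not_comm hX hc
    -- the abelianization of the central quotient is cyclic
    have hsurj : Function.Surjective (Abelianization.map (QuotientGroup.mk' (center X))) := by
      intro y
      obtain ⟨y', rfl⟩ := QuotientGroup.mk_surjective y
      obtain ⟨x, rfl⟩ := QuotientGroup.mk_surjective y'
      exact ⟨Abelianization.of x, rfl⟩
    have hcyc' : IsCyclic (Abelianization (X ⧸ center X)) :=
      isCyclic_of_surjective _ hsurj
    have hcomm := ih (m - k) (by omega) (X ⧸ center X) hq hcyc'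
    -- so the central quotient is cyclic
    letI : CommGroup (X ⧸ center X) := { (inferInstance : Group (X ⧸ center X)) with
      mul_comm := hcomm }
    have hcyc2 : IsCyclic (X ⧸ center X) :=
      isCyclic_of_surjective (Abelianization.equivOfComm (H := X ⧸ center X)).symm
        (MulEquiv.surjective _)
    obtain ⟨x, y, hxy⟩ := hc
    exact hxy (commutative_of_cyclic_center_quotient (QuotientGroup.mk' (center X))
      (by rw [QuotientGroup.ker_mk']) x y)

/-- a non-cyclic group of order `4` is a Klein four group -/
theorem isKleinFour_of_card_four {Y : Type u} [Group Y] (h4 : Nat.card Y = 4)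
    (hnc : ¬ IsCyclic Y) : IsKleinFour Y := by
  haveI : Finite Y := Nat.finite_of_card_ne_zero (by rw [h4]; norm_num)
  haveI : Nontrivial Y := by
    apply (Finite.one_lt_card_iff_nontrivial).mp
    rw [h4]
    norm_num
  refine ⟨h4, ?_⟩
  rw [Monoid.exponent_eq_prime_iff Nat.prime_two]
  intro g hg
  have hdvd : orderOf g ∣ 2 ^ 2 := by
    have := orderOf_dvd_natCard g
    rw [h4] at this
    exact this
  obtain ⟨j, hj, hjo⟩ := (Nat.dvd_prime_pow Nat.prime_two).mp hdvd
  interval_cases j
  · rw [pow_zero] at hjo
    exact absurd (orderOf_eq_one_iff.mp hjo) hg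
  · simpa using hjo
  · exfalso
    apply hnc
    apply isCyclic_of_orderOf_eq_card g
    rw [hjo, h4]
    norm_num

/-- a `2`-group of order `2 ^ n`, `3 ≤ n`, is of maximal class iff its commutator quotient is a
Klein four group -/
theorem maxClass_iff_kleinFour {X : Type u} [Group X] [Finite X] (n : ℕ) (hn : 3 ≤ n)
    (hX : Nat.card X = 2 ^ n) :
    Group.nilpotencyClass X = n - 1 ↔ IsKleinFour (X ⧸ commutator X) := by
  haveI : Fact (Nat.Prime 2) := ⟨Nat.prime_two⟩
  obtain ⟨m, rfl⟩ : ∃ m, n = m + 2 := ⟨n - 2, by omega⟩
  have h1 := maxClass_iff_index m X hX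
  have h2 : m + 2 - 1 = m + 1 := by omega
  rw [h2, h1]
  constructor
  · intro hidx
    have h4 : Nat.card (X ⧸ commutator X) = 4 := by
      rw [← Subgroup.index_eq_card]
      exact hidx
    apply isKleinFour_of_card_four h4
    intro hcyc
    have hc := comm_of_cyclic_abelianization (m + 2) X hX hcyc
    have : commutator X = ⊥ := by
      rw [commutator_def, Subgroup.commutator_eq_bot_iff_le_centralizer]
      intro x _ y _
      exact hc y x
    rw [this, Subgroup.index_bot, hX] at hidx
    have : (2 : ℕ) ^ (m + 2) = 2 ^ m * 4 := by ring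
    have h3 : 1 < 2 ^ m := Nat.one_lt_two_pow (by omega)
    omega
  · intro hK
    rw [Subgroup.index_eq_card]
    exact hK.card_four

end Cfsg.Agent.Lib.Lead.MaxClass
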