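import Mathlib
import Cfsg.Prelude.Def_TwoFusion
import Cfsg.Agent.Lib.Helper10.PGroupCentral
import Cfsg.Agent.Lib.Lead.FunctorNPC

/-! The minimal counterexample reduction for normal `p`-complement theorems of
Glauberman–Thompson type, for `W(D)` with `D` strongly closed in a Sylow `p`-subgroup. -/

set_option autoImplicit false

universe u

namespace Cfsg.Agent.Lib.Lead.FunctorNPCD

open Subgroup
open Cfsg.Agent.Lib.Helper13 Cfsg.Agent.Lib.Lead.FunctorNPC

section sc

variable {G : Type u} [Group G]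

theorem sc_conj {D P : Subgroup G} (h : Cfsg.IsStronglyClosed D P) (g : G) :
    Cfsg.IsStronglyClosed (D.map (MulAut.conj g).toMonoidHom) (P.map (MulAut.conj g).toMonoidHom) := by
  refine ⟨Subgroup.map_mono h.1, ?_⟩
  rintro _ ⟨d, hd, rfl⟩ y ⟨u, hu, huy⟩
  simp only [MulEquiv.coe_toMonoidHom, MulAut.conj_apply] at huy ⊢
  have h1 : (g⁻¹ * y * g) * d * (g⁻¹ * y * g)⁻¹ = u := by
    have : u = g⁻¹ * (y * (g * d * g⁻¹) * y⁻¹) * g := by rw [← huy]; group
    rw [this]; group
  have h2 := h.2 d hd (g⁻¹ * y * g) (h1 ▸ hu)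
  refine ⟨(g⁻¹ * y * g) * d * (g⁻¹ * y * g)⁻¹, h2, ?_⟩
  simp only [MulEquiv.coe_toMonoidHom, MulAut.conj_apply]
  group

theorem sc_le_normalizer [Finite G] {D P : Subgroup G} (h : Cfsg.IsStronglyClosed D P) :
    P ≤ normalizer (D : Set G) := by
  intro s hs
  apply mem_normalizer_of_conj_mem
  intro x hx
  exact h.2 x hx s (mul_mem (mul_mem hs (h.1 hx)) (inv_mem hs))

theorem sc_subgroup {M : Subgroup G} {R₀ : Subgroup M} {D' P' : Subgroup G}
    (h : Cfsg.IsStronglyClosed D' P') (hR : R₀.map M.subtype ≤ P') :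
    Cfsg.IsStronglyClosed ((R₀.map M.subtype ⊓ D').subgroupOf M) R₀ := by
  constructor
  · intro x hx
    obtain ⟨y, hy, hyx⟩ := (Subgroup.mem_inf.mp (Subgroup.mem_subgroupOf.mp hx)).1
    have : y = x := M.subtype_injective hyx
    rwa [← this]
  · intro x hx m hm
    rw [Subgroup.mem_subgroupOf] at hx ⊢
    have h1 : ((m * x * m⁻¹ : M) : G) ∈ R₀.map M.subtype := Subgroup.mem_map_of_mem _ hm
    refine Subgroup.mem_inf.mpr ⟨h1, ?_⟩
    have h2 := h.2 (x : G) (Subgroup.mem_inf.mp hx).2 (m : G)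
    have h3 : ((m * x * m⁻¹ : M) : G) = (m : G) * (x : G) * (m : G)⁻¹ := by simp
    rw [h3] at h1 ⊢
    exact h2 (hR h1)

theorem sc_quot_p {Q D P : Subgroup G} [Q.Normal] (h : Cfsg.IsStronglyClosed D P) (hQP : Q ≤ P) :
    Cfsg.IsStronglyClosed (D.map (QuotientGroup.mk' Q)) (P.map (QuotientGroup.mk' Q)) := by
  refine ⟨Subgroup.map_mono h.1, ?_⟩
  rintro _ ⟨d, hd, rfl⟩ y hy
  obtain ⟨g, rfl⟩ := QuotientGroup.mk'_surjective Q y
  rw [← map_inv, ← map_mul, ← map_mul] at hy ⊢
  have h1 : g * d * g⁻¹ ∈ (P.map (QuotientGroup.mk' Q)).comap (QuotientGroup.mk' Q) := hy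
  rw [Subgroup.comap_map_eq, QuotientGroup.ker_mk', sup_eq_left.mpr hQP] at h1
  exact Subgroup.mem_map_of_mem _ (h.2 d hd g h1)

variable [Finite G] {p : ℕ} [hp : Fact p.Prime]

theorem sc_quot_coprime {K D P : Subgroup G} [K.Normal] (hK : (Nat.card K).Coprime p)
    (hP : IsPGroup p P) (h : Cfsg.IsStronglyClosed D P) :
    Cfsg.IsStronglyClosed (D.map (QuotientGroup.mk' K)) (P.map (QuotientGroup.mk' K)) := by
  refine ⟨Subgroup.map_mono h.1, ?_⟩
  rintro _ ⟨d, hd, rfl⟩ y hy
  obtain ⟨g, rfl⟩ := QuotientGroup.mk'_surjective K y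
  rw [← map_inv, ← map_mul, ← map_mul] at hy ⊢
  have h1 : g * d * g⁻¹ ∈ (P.map (QuotientGroup.mk' K)).comap (QuotientGroup.mk' K) := hy
  rw [Subgroup.comap_map_eq, QuotientGroup.ker_mk'] at h1
  have hidx : ¬ p ∣ P.relIndex (P ⊔ K) := by
    rw [relIndex_sup_of_coprime K hK P hP]
    exact (Nat.Prime.coprime_iff_not_dvd hp.out).mp hK.symm
  have hdp : IsPGroup p (zpowers (g * d * g⁻¹)) := by
    have h2 : IsPGroup p (zpowers d) := hP.to_le (zpowers_le.mpr (h.1 hd))
    have h3 : zpowers (g * d * g⁻¹) = (zpowers d).map (MulAut.conj g).toMonoidHom := by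
      rw [MonoidHom.map_zpowers]; rfl
    rw [h3]
    exact h2.map _
  obtain ⟨c, hcW, hc⟩ := Cfsg.Agent.Lib.Helper17.exists_conj_le_of_not_dvd_relIndex (P ⊔ K) P
    (zpowers (g * d * g⁻¹)) hP hidx hdp (zpowers_le.mpr h1)
  obtain ⟨u, hu, k, hk, rfl⟩ := Subgroup.mem_sup_of_normal_right.mp hcW
  have h4 : u * k * (g * d * g⁻¹) * (u * k)⁻¹ ∈ P := hc _ (mem_zpowers _)
  have h5 : (k * g) * d * (k * g)⁻¹ ∈ P := by
    have : (k * g) * d * (k * g)⁻¹ = u⁻¹ * (u * k * (g * d * g⁻¹) * (u * k)⁻¹) * u := by group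
    rw [this]
    exact mul_mem (mul_mem (inv_mem hu) h4) hu
  have h6 := h.2 d hd (k * g) h5
  refine ⟨(k * g) * d * (k * g)⁻¹, h6, ?_⟩
  have hk1 : QuotientGroup.mk' K k = 1 := by
    rw [← MonoidHom.mem_ker, QuotientGroup.ker_mk']; exact hk
  simp only [map_mul, map_inv, hk1, one_mul]

/-- a nontrivial strongly closed subgroup contains a nontrivial central element of `P` -/
theorem exists_central_of_sc {D P : Subgroup G} (hP : IsPGroup p P)
    (h : Cfsg.IsStronglyClosed D P) (hD1 : D ≠ ⊥) :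
    ∃ x ∈ D, x ≠ 1 ∧ ∀ u ∈ P, u * x = x * u := by
  have hPn := sc_le_normalizer h
  haveI : (D.subgroupOf P).Normal := by
    constructor
    intro x hx u
    rw [Subgroup.mem_subgroupOf] at hx ⊢
    have := (mem_normalizer_iff.mp (hPn u.2) (x : G)).mp hx
    simpa using this
  have hne : ¬ D.subgroupOf P ≤ ⊥ := by
    intro hle
    apply hD1
    rw [eq_bot_iff]
    intro v hv
    have h1 : (⟨v, h.1 hv⟩ : P) ∈ D.subgroupOf P := Subgroup.mem_subgroupOf.mpr hv
    have h2 := hle h1
    rw [mem_bot] at h2 ⊢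
    exact congrArg Subtype.val h2
  have hP' : IsPGroup p ↥P := hP
  obtain ⟨x, hxN, hxM, -, hxc⟩ :=
    Cfsg.Agent.Lib.Helper10.exists_central_mod hP' (⊥ : Subgroup P) (D.subgroupOf P) hne
  refine ⟨(x : G), Subgroup.mem_subgroupOf.mp hxN, ?_, ?_⟩
  · intro hx1
    apply hxM
    rw [mem_bot]
    exact Subtype.ext hx1
  · intro u hu
    have h1 := hxc ⟨u, hu⟩
    rw [mem_bot, commutatorElement_eq_one_iff_mul_comm] at h1
    exact (congrArg Subtype.val h1).symm

end sc

section induction

variable {p : ℕ} [hp : Fact p.Prime] {W : ∀ (H : Type u) [Group H], Subgroup H → Subgroup H}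

/-- **The reduction theorem, strongly closed version.** -/
theorem npc_of_functor_D (hW : IsGoodFunctor p W)
    (hfinal : ∀ (G : Type u) [Group G] [Finite G] (P : Sylow p G) (Q : Subgroup G) [Q.Normal],
      Q ≤ (P : Subgroup G) → (∀ R : Subgroup G, R.Normal → IsPGroup p R → R ≤ Q) →
      centralizer (Q : Set G) ≤ Q → NPC p (G ⧸ Q) → IsCoatom (P : Subgroup G) →
      ∀ D : Subgroup G, Cfsg.IsStronglyClosed D (P : Subgroup G) → (W G D).Normal) :
    ∀ n : ℕ, ∀ (G : Type u) [Group G] [Finite G],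
    Nat.card G = n → ∀ (P : Sylow p G) (D : Subgroup G), Cfsg.IsStronglyClosed D (P : Subgroup G) →
      NPC p ↥(normalizer (W G D : Set G)) → NPC p G := by
  intro n
  induction n using Nat.strong_induction_on with
  | _ n ih =>
  intro G _ _ hn P₀ D₀ hsc₀ hnpc₀
  by_contra hG
  have hD₀1 : D₀ ≠ ⊥ := by
    intro h
    have h1 : W G D₀ = ⊥ := by rw [eq_bot_iff, ← h]; exact hW.le G D₀
    rw [h1] at hnpc₀
    have h2 : normalizer ((⊥ : Subgroup G) : Set G) = ⊤ := Subgroup.normalizer_eq_top _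
    rw [h2] at hnpc₀
    exact hG (NPC.of_top hnpc₀)
  have hall : ∀ P : Sylow p G, ∃ D : Subgroup G, Cfsg.IsStronglyClosed D (P : Subgroup G) ∧ D ≠ ⊥ ∧
      NPC p ↥(normalizer (W G D : Set G)) := by
    intro P
    obtain ⟨g, hg⟩ := MulAction.exists_smul_eq G P₀ P
    refine ⟨D₀.map (MulAut.conj g).toMonoidHom, ?_, ?_, ?_⟩
    · rw [← hg, Cfsg.Agent.Lib.Helper17.coe_smul_sylow_eq_map]
      exact sc_conj hsc₀ g
    · intro h
      exact hD₀1 ((Subgroup.map_eq_bot_iff_of_injective _ (MulAut.conj g).injective).mp h)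
    · have := FHyp.conj hW g D₀ hnpc₀
      exact this
  have hOp' : ∀ K : Subgroup G, K.Normal → (Nat.card K).Coprime p → K = ⊥ := by
    intro K hK hcop
    by_contra hne
    have h1 : Nat.card (G ⧸ K) < n := by
      have h2 := Subgroup.card_eq_card_quotient_mul_card_subgroup K
      have h3 : 1 < Nat.card K := by
        rcases Nat.lt_or_ge 1 (Nat.card K) with h | h
        · exact h
        · exfalso
          apply hne
          have hpos : 0 < Nat.card K := Nat.card_pos
          exact Subgroup.card_eq_one.mp (by omega)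
      have hpos : 0 < Nat.card (G ⧸ K) := Nat.card_pos
      rw [← hn, h2]
      nlinarith
    have hD₀p : IsPGroup p D₀ := P₀.isPGroup'.to_le hsc₀.1
    have h2 := ih _ h1 (G ⧸ K) rfl (P₀.mapSurjective (QuotientGroup.mk'_surjective K))
      (D₀.map (QuotientGroup.mk' K))
      (by rw [Sylow.coe_mapSurjective]; exact sc_quot_coprime hcop P₀.isPGroup' hsc₀)
      (FHyp.quotient_of_coprime hW K hcop D₀ hD₀p hnpc₀)
    exact hG (NPC.of_quotient K hcop h2)
  have hex : ∃ Q : Subgroup G, IsPGroup p Q ∧ Q ≠ ⊥ ∧ ¬ NPC p ↥(normalizer (Q : Set G)) := by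
    by_contra hno
    push Not at hno
    apply hG
    rw [← npc_iff, Cfsg.Agent.S0072.result p]
    intro Q hQ hne
    rw [npc_iff]
    exact hno Q hQ hne
  obtain ⟨Q, hQmem, hQmax⟩ := Set.exists_max_image
    {Q : Subgroup G | IsPGroup p Q ∧ Q ≠ ⊥ ∧ ¬ NPC p ↥(normalizer (Q : Set G))}
    (fun Q => (Nat.card (normalizer (Q : Set G))).factorization p * (n + 1) + Nat.card Q)
    (Set.toFinite _) hex
  obtain ⟨hQp, hQne, hQnpc⟩ := hQmem
  have hcardle : ∀ H : Subgroup G, Nat.card H ≤ n := by
    intro H; rw [← hn]; exact Subgroup.card_le_card_group H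
  have hM1 : ∀ Q' : Subgroup G, IsPGroup p Q' → Q' ≠ ⊥ → ¬ NPC p ↥(normalizer (Q' : Set G)) →
      (Nat.card (normalizer (Q' : Set G))).factorization p ≤
        (Nat.card (normalizer (Q : Set G))).factorization p := by
    intro Q' h1 h2 h3
    have h4 := hQmax Q' ⟨h1, h2, h3⟩
    beta_reduce at h4
    by_contra hlt
    push Not at hlt
    have h5 : ((Nat.card (normalizer (Q : Set G))).factorization p + 1) * (n + 1) ≤
        (Nat.card (normalizer (Q' : Set G))).factorization p * (n + 1) :=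
      Nat.mul_le_mul_right _ hlt
    rw [Nat.add_mul] at h5
    have h6 := hcardle Q
    omega
  have hM2 : ∀ Q' : Subgroup G, IsPGroup p Q' → Q' ≠ ⊥ → ¬ NPC p ↥(normalizer (Q' : Set G)) →
      (Nat.card (normalizer (Q : Set G))).factorization p ≤
        (Nat.card (normalizer (Q' : Set G))).factorization p → Nat.card Q' ≤ Nat.card Q := by
    intro Q' h1 h2 h3 hle
    have h4 := hQmax Q' ⟨h1, h2, h3⟩
    beta_reduce at h4
    have h5 : (Nat.card (normalizer (Q : Set G))).factorization p * (n + 1) ≤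
        (Nat.card (normalizer (Q' : Set G))).factorization p * (n + 1) :=
      Nat.mul_le_mul_right _ hle
    omega
  -- Claim 1
  have hQn : Q.Normal := by
    rw [← Subgroup.normalizer_eq_top_iff]
    by_contra hN
    obtain ⟨N, hNdef⟩ : ∃ N : Subgroup G, N = normalizer (Q : Set G) := ⟨_, rfl⟩
    rw [← hNdef] at hN hQnpc
    have hQN : Q ≤ N := by rw [hNdef]; exact Subgroup.le_normalizer
    obtain ⟨R₀, hR₀⟩ := (hQp.comap_subtype (K := N) : IsPGroup p (Q.subgroupOf N)).exists_le_sylow
    obtain ⟨R, hRdef⟩ : ∃ R : Subgroup G, R = (R₀ : Subgroup N).map N.subtype := ⟨_, rfl⟩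
    have hRp : IsPGroup p R := by rw [hRdef]; exact R₀.isPGroup'.map _
    have hRN : R ≤ N := by rw [hRdef]; exact Subgroup.map_subtype_le _
    have hQR : Q ≤ R := by
      intro x hx
      rw [hRdef]
      exact Subgroup.mem_map.mpr ⟨⟨x, hQN hx⟩, hR₀ (Subgroup.mem_subgroupOf.mpr hx), rfl⟩
    have hRne : R ≠ ⊥ := by
      intro h; apply hQne; rw [eq_bot_iff, ← h]; exact hQR
    have hRcard : Nat.card R = p ^ (Nat.card N).factorization p := by
      rw [hRdef, Subgroup.card_map_of_injective N.subtype_injective]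
      exact R₀.card_eq_multiplicity
    obtain ⟨P, hRP⟩ := hRp.exists_le_sylow
    obtain ⟨D, hsc, hD1, hnpcD⟩ := hall P
    have hbig : ∀ X : Subgroup G, IsPGroup p X → X ≠ ⊥ → ∀ S : Subgroup G, IsPGroup p S →
        S ≤ normalizer (X : Set G) → Nat.card R < Nat.card S →
        NPC p ↥(normalizer (X : Set G)) := by
      intro X hX hXne S hS hSX hlt
      by_contra hnpc
      have h1 := hM1 X hX hXne hnpc
      rw [← hNdef] at h1
      have h2 := card_le_pow_factorization (normalizer (X : Set G)) S hS hSX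
      have h3 : p ^ (Nat.card (normalizer (X : Set G))).factorization p ≤
          p ^ (Nat.card N).factorization p := Nat.pow_le_pow_right hp.out.pos h1
      rw [← hRcard] at h3
      omega
    -- the strongly closed subgroup of `R`
    set DR : Subgroup G := R ⊓ D with hDR
    have hDRp : IsPGroup p DR := hRp.to_le inf_le_left
    have hDR1 : DR ≠ ⊥ := by
      obtain ⟨x, hxD, hx1, hxc⟩ := exists_central_of_sc P.isPGroup' hsc hD1
      have hxN : x ∈ N := by
        rw [hNdef]
        apply mem_normalizer_of_conj_mem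
        intro q hq
        have : x * q * x⁻¹ = q := by
          rw [← hxc q (hRP (hQR hq)), mul_inv_cancel_right]
        rw [this]; exact hq
      have hxp : IsPGroup p (zpowers (⟨x, hxN⟩ : N)) := by
        have h1 : IsPGroup p (zpowers x) := P.isPGroup'.to_le (zpowers_le.mpr (hsc.1 hxD))
        have h2 : (zpowers (⟨x, hxN⟩ : N)).map N.subtype = zpowers x := by
          rw [MonoidHom.map_zpowers]; rfl
        intro y
        obtain ⟨k, hk⟩ := h1 ⟨(y : N), by rw [← h2]; exact Subgroup.mem_map_of_mem _ y.2⟩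
        refine ⟨k, ?_⟩
        apply Subtype.ext
        apply Subtype.ext
        have := congrArg Subtype.val hk
        simpa using this
      have hnorm : zpowers (⟨x, hxN⟩ : N) ≤ normalizer ((R₀ : Subgroup N) : Set N) := by
        rw [zpowers_le]
        apply mem_normalizer_of_conj_mem
        intro r hr
        have hrR : (r : G) ∈ R := by rw [hRdef]; exact Subgroup.mem_map_of_mem _ hr
        have : (⟨x, hxN⟩ : N) * r * (⟨x, hxN⟩ : N)⁻¹ = r := by
          apply Subtype.ext
          simp only [Subgroup.coe_mul, Subgroup.coe_inv]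
          rw [← hxc (r : G) (hRP hrR), mul_inv_cancel_right]
        rw [this]; exact hr
      have hsup : IsPGroup p ↥((R₀ : Subgroup N) ⊔ zpowers (⟨x, hxN⟩ : N)) :=
        IsPGroup.to_sup_of_normal_left' R₀.isPGroup' hxp hnorm
      have heq := R₀.is_maximal' hsup le_sup_left
      have hxR₀ : (⟨x, hxN⟩ : N) ∈ (R₀ : Subgroup N) := by
        rw [← heq]; exact le_sup_right (a := (R₀ : Subgroup N)) (mem_zpowers _)
      intro hbot
      apply hx1
      have : x ∈ DR := Subgroup.mem_inf.mpr ⟨by rw [hRdef]; exact ⟨⟨x, hxN⟩, hxR₀, rfl⟩, hxD⟩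
      rw [hbot, mem_bot] at this
      exact this
    have hWDR : NPC p ↥(normalizer (W G DR : Set G)) := by
      by_cases hRPeq : R = (P : Subgroup G)
      · have : DR = D := by rw [hDR, hRPeq]; exact inf_eq_right.mpr hsc.1
        rw [this]; exact hnpcD
      · have hlt : R < (P : Subgroup G) := lt_of_le_of_ne hRP hRPeq
        have hlt2 := Cfsg.Agent.Lib.Helper15.lt_inf_normalizer_of_lt (P : Subgroup G) R P.isPGroup' hlt
        have hSp : IsPGroup p ↥((P : Subgroup G) ⊓ normalizer (R : Set G)) :=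
          P.isPGroup'.to_le inf_le_left
        have hcardlt : Nat.card R < Nat.card ↥((P : Subgroup G) ⊓ normalizer (R : Set G)) := by
          by_contra hge
          push Not at hge
          exact hlt2.ne (Subgroup.eq_of_le_of_card_ge hlt2.le hge)
        have hSDR : (P : Subgroup G) ⊓ normalizer (R : Set G) ≤ normalizer (DR : Set G) := by
          intro s hs
          obtain ⟨hsP, hsR⟩ := Subgroup.mem_inf.mp hs
          apply mem_normalizer_of_conj_mem
          intro y hy
          obtain ⟨hyR, hyD⟩ := Subgroup.mem_inf.mp hy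
          exact Subgroup.mem_inf.mpr ⟨(mem_normalizer_iff.mp hsR y).mp hyR,
            (mem_normalizer_iff.mp (sc_le_normalizer hsc hsP) y).mp hyD⟩
        exact hbig _ (hDRp.to_le (hW.le G DR)) (hW.ne_bot G DR hDRp hDR1) _ hSp
          (hSDR.trans (hW.normalizer_le DR)) hcardlt
    have hscN : Cfsg.IsStronglyClosed (DR.subgroupOf N) (R₀ : Subgroup N) := by
      have := sc_subgroup (M := N) (R₀ := (R₀ : Subgroup N)) hsc (by rw [← hRdef]; exact hRP)
      rw [← hRdef] at this
      exact this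
    have hmapD : (DR.subgroupOf N).map N.subtype = DR := by
      rw [Subgroup.subgroupOf_map_subtype]
      exact inf_eq_left.mpr (inf_le_left.trans hRN)
    have hThN : NPC p ↥(normalizer (W ↥N (DR.subgroupOf N) : Set ↥N)) := by
      have h1 : FHyp W p G ((DR.subgroupOf N).map N.subtype) := by
        rw [hmapD]; exact hWDR
      exact FHyp.subgroup hW N (DR.subgroupOf N) h1
    have hNlt : Nat.card N < n := by
      rw [← hn]
      rcases lt_or_eq_of_le (Subgroup.card_le_card_group N) with h | h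
      · exact h
      · exact absurd ((Subgroup.card_eq_iff_eq_top N).mp h) hN
    exact hQnpc (ih _ hNlt ↥N rfl R₀ (DR.subgroupOf N) hscN hThN)
  have hNtop : normalizer (Q : Set G) = ⊤ := Subgroup.normalizer_eq_top Q
  obtain ⟨P, hQP⟩ := hQp.exists_le_sylow
  obtain ⟨D, hsc, hD1, hnpcD⟩ := hall P
  have hOp : ∀ R : Subgroup G, R.Normal → IsPGroup p R → R ≤ Q := by
    intro R hRn hRp
    have hRQp : IsPGroup p ↥(R ⊔ Q) := IsPGroup.to_sup_of_normal_right hRp hQp
    have hRQn : (R ⊔ Q).Normal := inferInstance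
    have hRQne : R ⊔ Q ≠ ⊥ := by
      intro h; apply hQne; rw [eq_bot_iff, ← h]; exact le_sup_right
    have hNtop' : normalizer ((R ⊔ Q : Subgroup G) : Set G) = ⊤ := Subgroup.normalizer_eq_top _
    have h1 : Nat.card ↥(R ⊔ Q) ≤ Nat.card Q := by
      apply hM2 _ hRQp hRQne
      · rw [hNtop']; rw [hNtop] at hQnpc; exact hQnpc
      · rw [hNtop', hNtop]
    have h2 : Q = R ⊔ Q := Subgroup.eq_of_le_of_card_ge le_sup_right h1
    rw [h2]; exact le_sup_left
  have hPcard : Nat.card (P : Subgroup G) = p ^ (Nat.card G).factorization p :=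
    P.card_eq_multiplicity
  -- `D` is not contained in `Q`
  have hDQ : ¬ D ≤ Q := by
    intro hDQ
    have hDn : normalizer (D : Set G) = ⊤ := by
      rw [eq_top_iff]
      intro g _
      apply mem_normalizer_of_conj_mem
      intro x hx
      exact hsc.2 x hx g (hQP (hQn.conj_mem x (hDQ hx) g))
    have h1 : normalizer (W G D : Set G) = ⊤ := by
      rw [eq_top_iff, ← hDn]; exact hW.normalizer_le D
    rw [h1] at hnpcD
    exact hG (NPC.of_top hnpcD)
  have hquot : NPC p (G ⧸ Q) := by
    have hsurj := QuotientGroup.mk'_surjective Q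
    have hDbar1 : D.map (QuotientGroup.mk' Q) ≠ ⊥ := by
      intro h
      apply hDQ
      rw [← QuotientGroup.ker_mk' Q]
      exact (Subgroup.map_eq_bot_iff _).mp h
    have hlt : Nat.card (G ⧸ Q) < n := by
      have h2 := Subgroup.card_eq_card_quotient_mul_card_subgroup Q
      have h3 : 1 < Nat.card Q := by
        rcases Nat.lt_or_ge 1 (Nat.card Q) with h | h
        · exact h
        · exfalso
          apply hQne
          have hpos : 0 < Nat.card Q := Nat.card_pos
          exact Subgroup.card_eq_one.mp (by omega)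
      have hpos : 0 < Nat.card (G ⧸ Q) := Nat.card_pos
      rw [← hn, h2]
      nlinarith
    refine ih _ hlt (G ⧸ Q) rfl (P.mapSurjective hsurj) (D.map (QuotientGroup.mk' Q))
      (by rw [Sylow.coe_mapSurjective]; exact sc_quot_p hsc hQP) ?_
    -- the normalizer of `W` of the image
    set Xb := W (G ⧸ Q) (D.map (QuotientGroup.mk' Q)) with hXb
    have hDbp : IsPGroup p (D.map (QuotientGroup.mk' Q)) := (P.isPGroup'.to_le hsc.1).map _
    have hXb1 : Xb ≠ ⊥ := hW.ne_bot _ _ hDbp hDbar1
    have hXbD : Xb ≤ D.map (QuotientGroup.mk' Q) := hW.le _ _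
    have hcm : ((P : Subgroup G).map (QuotientGroup.mk' Q)).comap (QuotientGroup.mk' Q) = P := by
      rw [Subgroup.comap_map_eq, QuotientGroup.ker_mk', sup_eq_left.mpr hQP]
    have hPXb : (P : Subgroup G).map (QuotientGroup.mk' Q) ≤ normalizer (Xb : Set (G ⧸ Q)) := by
      refine le_trans ?_ (hW.normalizer_le _)
      have := sc_le_normalizer (sc_quot_p hsc hQP)
      exact this
    apply NPC.of_comap_normalizer (QuotientGroup.mk' Q) hsurj Xb _ le_rfl
    set K := Xb.comap (QuotientGroup.mk' Q) with hK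
    have hQK : Q ≤ K := by
      intro q hq
      rw [hK, Subgroup.mem_comap]
      have : QuotientGroup.mk' Q q = 1 := by
        rw [← MonoidHom.mem_ker, QuotientGroup.ker_mk']; exact hq
      rw [this]; exact Xb.one_mem
    have hKP : K ≤ P := by
      rw [← hcm]
      exact Subgroup.comap_mono (hXbD.trans (Subgroup.map_mono hsc.1))
    have hPK : (P : Subgroup G) ≤ normalizer (K : Set G) := by
      rw [hK, ← Subgroup.comap_normalizer_eq_of_surjective Xb hsurj, ← hcm]
      exact Subgroup.comap_mono hPXb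
    have hKQ : K ≠ Q := by
      intro hKQ
      apply hXb1
      rw [← Subgroup.map_comap_eq_self_of_surjective hsurj Xb, ← hK, hKQ, eq_bot_iff]
      rintro _ ⟨q, hq, rfl⟩
      rw [Subgroup.mem_bot, ← MonoidHom.mem_ker, QuotientGroup.ker_mk']; exact hq
    by_contra hnpc
    have hKp : IsPGroup p K := P.isPGroup'.to_le hKP
    have hKne : K ≠ ⊥ := by
      intro h; apply hQne; rw [eq_bot_iff, ← h]; exact hQK
    have h1 : Nat.card K ≤ Nat.card Q := by
      apply hM2 K hKp hKne hnpc
      rw [hNtop, Subgroup.card_top]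
      have h2 := card_le_pow_factorization (normalizer (K : Set G)) (P : Subgroup G)
        P.isPGroup' hPK
      rw [hPcard] at h2
      exact (Nat.pow_le_pow_iff_right hp.out.one_lt).mp h2
    exact hKQ (Subgroup.eq_of_le_of_card_ge hQK h1).symm
  have hmaxNPC : ∀ M : Subgroup G, (P : Subgroup G) ≤ M → M ≠ ⊤ → NPC p ↥M := by
    intro M hPM hM
    have hMlt : Nat.card M < n := by
      rw [← hn]
      rcases lt_or_eq_of_le (Subgroup.card_le_card_group M) with h | h
      · exact h
      · exact absurd ((Subgroup.card_eq_iff_eq_top M).mp h) hM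
    have hPmap : ((P.subtype hPM : Sylow p M) : Subgroup M).map M.subtype = P := by
      rw [Sylow.coe_subtype, Subgroup.map_subgroupOf_eq_of_le hPM]
    have hDM : D ≤ M := hsc.1.trans hPM
    have hscM : Cfsg.IsStronglyClosed (D.subgroupOf M) ((P.subtype hPM : Sylow p M) : Subgroup M) := by
      have := sc_subgroup (M := M) (R₀ := ((P.subtype hPM : Sylow p M) : Subgroup M)) hsc
        (by rw [hPmap])
      rw [hPmap, inf_eq_right.mpr hsc.1] at this
      exact this
    refine ih _ hMlt ↥M rfl (P.subtype hPM) (D.subgroupOf M) hscM ?_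
    apply FHyp.subgroup hW M
    rw [Subgroup.subgroupOf_map_subtype, inf_eq_left.mpr hDM]
    exact hnpcD
  -- the final configuration
  haveI := hQn
  have hcent := centralizer_le_of_config Q hOp hOp' hquot
  have hmax : ∀ M : Subgroup G, (P : Subgroup G) ≤ M → M ≠ ⊤ → M = P :=
    fun M h1 h2 => eq_sylow_of_le_of_npc P Q hQP hcent M h1 (hmaxNPC M h1 h2)
  have hPtop : (P : Subgroup G) ≠ ⊤ := by
    intro h
    apply hG
    apply NPC.of_isPGroup
    have h1 : IsPGroup p ↥(⊤ : Subgroup G) := h ▸ P.isPGroup'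
    exact h1.of_equiv Subgroup.topEquiv
  have hcoatom : IsCoatom (P : Subgroup G) := by
    refine ⟨hPtop, ?_⟩
    intro M hlt
    by_contra hM
    exact hlt.ne (hmax M hlt.le hM).symm
  have hWn := hfinal G P Q hQP hOp hcent hquot hcoatom D hsc
  have h1 : normalizer (W G D : Set G) = ⊤ := Subgroup.normalizer_eq_top _
  rw [h1] at hnpcD
  exact hG (NPC.of_top hnpcD)

end induction

end Cfsg.Agent.Lib.Lead.FunctorNPCD
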