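import Mathlib
import Cfsg.Prelude.Def_Local
import Cfsg.Prelude.Def_PLocal
import Cfsg.Agent.Lib.Helper16.PCore
import Cfsg.Agent.Lib.Lead.QuadStable
import Cfsg.Agent.Lib.Lead.ZJFunctor

/-! From `p`-constraint and `p`-stability (printed form) to the hypotheses of the ZJ-theorem, when
`O_{p'}(G) = 1`; and the consequences for `p`-locals. -/

set_option autoImplicit false

universe u

namespace Cfsg.Agent.Lib.Lead.PStableConv

open Subgroup
open scoped commutatorElement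
open Cfsg.Agent.Lib.Helper16 Cfsg.Agent.Lib.Lead.QuadStable
open Cfsg.Agent.Lib.Lead.GlaubermanRepl Cfsg.Agent.Lib.Lead.GlaubermanZJ

section pelement

variable {G : Type*} [Group G] [Finite G] {p : ℕ} [hp : Fact p.Prime]

/-- an element acting quadratically on a normal `p`-subgroup acts like a `p`-element -/
theorem exists_pElement_of_quad {V : Subgroup G} [hVn : V.Normal] (hVp : IsPGroup p V) {a : G}
    (hquad : ∀ v ∈ V, ⁅⁅v, a⁆, a⁆ = 1) :
    ∃ b ∈ zpowers a, (∃ k : ℕ, b ^ (p ^ k) = 1) ∧ ∃ z ∈ centralizer (V : Set G), a = b * z := by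
  set C := centralizer (V : Set G) with hC
  have hapow : a ^ Nat.card V ∈ C := by
    rw [hC, mem_centralizer_iff]
    intro v hv
    have hc : (a * v * a⁻¹ * v⁻¹) * a = a * (a * v * a⁻¹ * v⁻¹) := by
      have h1 := hquad v hv
      rw [commutatorElement_eq_one_iff_mul_comm] at h1
      have h2 : a * v * a⁻¹ * v⁻¹ = ⁅v, a⁆⁻¹ := by simp only [commutatorElement_def]; group
      rw [h2]
      calc ⁅v, a⁆⁻¹ * a = ⁅v, a⁆⁻¹ * (a * ⁅v, a⁆) * ⁅v, a⁆⁻¹ := by group
        _ = ⁅v, a⁆⁻¹ * (⁅v, a⁆ * a) * ⁅v, a⁆⁻¹ := by rw [h1]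
        _ = a * ⁅v, a⁆⁻¹ := by group
    have h3 := pow_conj_of_comm hc (Nat.card V)
    have h4 : a * v * a⁻¹ * v⁻¹ ∈ V := mul_mem (hVn.conj_mem v hv a) (inv_mem hv)
    have h5 : (a * v * a⁻¹ * v⁻¹) ^ Nat.card V = 1 := by
      have := pow_card_eq_one' (G := V) (x := ⟨_, h4⟩)
      have h6 := congrArg Subtype.val this
      rw [Subgroup.coe_pow, Subgroup.coe_one] at h6
      exact h6
    rw [h5, one_mul] at h3
    calc v * a ^ Nat.card V = (a ^ Nat.card V * v * (a ^ Nat.card V)⁻¹) * a ^ Nat.card V := by rw [h3]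
      _ = a ^ Nat.card V * v := by group
  obtain ⟨e, he⟩ := IsPGroup.iff_card.mp hVp
  obtain ⟨k, r, hr, hkr⟩ := Nat.exists_eq_pow_mul_and_not_dvd (orderOf_pos a).ne' p hp.out.ne_one
  have hcop : Nat.Coprime r (Nat.card V) := by
    rw [he]
    exact Nat.Coprime.pow_right e ((Nat.Prime.coprime_iff_not_dvd hp.out).mpr hr).symm
  have hbez := Int.gcd_eq_gcd_ab r (Nat.card V)
  rw [Int.gcd_natCast_natCast, hcop] at hbez
  set x := Int.gcdA r (Nat.card V) with hx
  set y := Int.gcdB r (Nat.card V) with hy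
  refine ⟨(a ^ r) ^ x, zpow_mem (pow_mem (mem_zpowers a) r) x, ⟨k, ?_⟩,
    (a ^ Nat.card V) ^ y, zpow_mem hapow y, ?_⟩
  · rw [← zpow_natCast, ← zpow_mul, mul_comm, zpow_mul, zpow_natCast, ← pow_mul, mul_comm r,
      ← hkr, pow_orderOf_eq_one, one_zpow]
  · rw [← zpow_natCast a r, ← zpow_natCast a (Nat.card V), ← zpow_mul, ← zpow_mul,
      ← zpow_add, ← hbez]
    simp

end pelement

section conv

variable {G : Type u} [Group G] [Finite G] {p : ℕ} [hp : Fact p.Prime]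

theorem le_pPrimePCore_of_normal {V : Subgroup G} (hVn : V.Normal) (hVp : IsPGroup p V) :
    V ≤ Cfsg.pPrimePCore p G := by
  unfold Cfsg.pPrimePCore
  rw [← Subgroup.map_le_iff_le_comap]
  exact le_pCore (hVn.map _ (QuotientGroup.mk'_surjective _)) (hVp.map _)

theorem pPrimePCore_eq_pCore (h : Cfsg.pPrimeCore p G = ⊥) :
    Cfsg.pPrimePCore p G = Cfsg.pCore p G := by
  apply le_antisymm
  · have hn : (Cfsg.pPrimePCore p G).Normal := by
      unfold Cfsg.pPrimePCore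
      exact (pCore_normal p _).comap _
    apply le_pCore hn
    rintro ⟨x, hx⟩
    unfold Cfsg.pPrimePCore at hx
    rw [Subgroup.mem_comap] at hx
    obtain ⟨k, hk⟩ := (pCore_isPGroup p (G ⧸ Cfsg.pPrimeCore p G)) ⟨_, hx⟩
    refine ⟨k, ?_⟩
    have h1 := congrArg Subtype.val hk
    simp only [Subgroup.coe_pow, Subgroup.coe_one, QuotientGroup.mk'_apply] at h1
    rw [← QuotientGroup.mk_pow, QuotientGroup.eq_one_iff, h, mem_bot] at h1
    exact Subtype.ext h1
  · exact le_pPrimePCore_of_normal (pCore_normal p G) (pCore_isPGroup p G)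

theorem centralizer_pCore_le (h : Cfsg.pPrimeCore p G = ⊥) (hc : Cfsg.IsPConstrained p G) :
    centralizer (Cfsg.pCore p G : Set G) ≤ Cfsg.pCore p G := by
  have hL := pPrimePCore_eq_pCore h
  have hLp : IsPGroup p ↥(Cfsg.pPrimePCore p G) := hL ▸ pCore_isPGroup p G
  obtain ⟨P⟩ : Nonempty (Sylow p ↥(Cfsg.pPrimePCore p G)) := inferInstance
  have hP : (P : Subgroup ↥(Cfsg.pPrimePCore p G)) = ⊤ := by
    have h1 : IsPGroup p ↥(⊤ : Subgroup ↥(Cfsg.pPrimePCore p G)) :=
      hLp.of_equiv Subgroup.topEquiv.symm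
    exact (P.is_maximal' h1 le_top).symm
  have h2 := hc P
  rw [hP, ← MonoidHom.range_eq_map, Subgroup.range_subtype] at h2
  rw [← hL]
  exact h2

/-- `p`-stability in the printed form gives `p`-stability on every normal `p`-subgroup. -/
theorem isPStableOn_of_isPStable (hs : Cfsg.IsPStable p G) (V : Subgroup G) [hVn : V.Normal]
    (hVp : IsPGroup p V) : Cfsg.IsPStableOn p V := by
  obtain ⟨-, -, hs⟩ := hs
  intro a hq
  have hquad : ∀ v ∈ V, ⁅⁅v, a⁆, a⁆ = 1 := by
    intro v hv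
    have h1 : ⁅⁅v, a⁆, a⁆ ∈ ⁅⁅V, zpowers a⁆, zpowers a⁆ :=
      commutator_mem_commutator (commutator_mem_commutator hv (mem_zpowers a)) (mem_zpowers a)
    rw [hq, mem_bot] at h1
    exact h1
  obtain ⟨b, hba, ⟨k, hbk⟩, z, hzC, habz⟩ := exists_pElement_of_quad hVp hquad
  have hAp : IsPGroup p (zpowers b) := by
    have h1 : orderOf b ∣ p ^ k := orderOf_dvd_of_pow_eq_one hbk
    obtain ⟨j, -, hj⟩ := (Nat.dvd_prime_pow hp.out).mp h1
    apply IsPGroup.of_card (n := j)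
    rw [Nat.card_zpowers, hj]
  have hAle : zpowers b ≤ zpowers a := zpowers_le.mpr hba
  have hq' : ⁅⁅V, zpowers b⁆, zpowers b⁆ = ⊥ := by
    rw [eq_bot_iff, ← hq]
    exact commutator_mono (commutator_mono le_rfl hAle) hAle
  have hnorm : ∀ a' ∈ zpowers b, ∀ x ∈ V, a' * x * a'⁻¹ ∈ V := fun a' _ x hx => hVn.conj_mem x hx a'
  haveI : (Cfsg.pPrimeCore p G ⊔ V).Normal := inferInstance
  have hmain := hs (zpowers b) V hAp hVp hnorm (le_pPrimePCore_of_normal hVn hVp) inferInstance hq'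
  -- transfer to `G ⧸ C_G(V)`
  set N := normalizer (V : Set G) with hN
  set C := centralizer (V : Set G) with hC
  have hNtop : ∀ g : G, g ∈ N := fun g => by rw [hN, normalizer_eq_top]; exact mem_top g
  haveI hCN : (C.subgroupOf N).Normal := inferInstance
  let φ : ↥N ⧸ C.subgroupOf N →* G ⧸ C :=
    QuotientGroup.map (C.subgroupOf N) C N.subtype (fun x hx => hx)
  have hφsurj : Function.Surjective φ := by
    intro y
    induction y using QuotientGroup.induction_on with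
    | H g => exact ⟨QuotientGroup.mk ⟨g, hNtop g⟩, rfl⟩
  have himg : (Cfsg.pCore p (↥N ⧸ C.subgroupOf N)).map φ ≤ Cfsg.pCore p (G ⧸ C) :=
    le_pCore ((pCore_normal p _).map φ hφsurj) ((pCore_isPGroup p _).map φ)
  have hb1 : (QuotientGroup.mk' (C.subgroupOf N)) ⟨b, hNtop b⟩ ∈
      Cfsg.pCore p (↥N ⧸ C.subgroupOf N) := by
    apply hmain
    exact ⟨⟨b, hNtop b⟩, Subgroup.mem_subgroupOf.mpr (mem_zpowers b), rfl⟩
  have hb2 : (QuotientGroup.mk b : G ⧸ C) ∈ Cfsg.pCore p (G ⧸ C) :=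
    himg ⟨_, hb1, rfl⟩
  have hab : (QuotientGroup.mk a : G ⧸ C) = QuotientGroup.mk b := by
    rw [habz, QuotientGroup.mk_mul, (QuotientGroup.eq_one_iff z).mpr hzC, mul_one]
  rw [hab]
  exact hb2

/-- the ZJ-theorem in the printed form, case `O_{p'}(G) = 1` -/
theorem ZJ_normal_of_constrained_stable (hp2 : p ≠ 2) (h : Cfsg.pPrimeCore p G = ⊥)
    (hc : Cfsg.IsPConstrained p G) (hs : Cfsg.IsPStable p G) (P : Sylow p G) :
    (ZJ (P : Subgroup G)).Normal := by
  apply ZJ_normal hp2 (centralizer_pCore_le h hc) _ P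
  intro V hVn hVp
  exact isPStableOn_of_isPStable hs V hVp

end conv

end Cfsg.Agent.Lib.Lead.PStableConv
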