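import Mathlib
import Cfsg.Agent.Lib.Lead.PStableConv
import Cfsg.Agent.Lib.Helper2.Cores

/-! `p`-constrained `p`-stable groups: passage to `G / O_{p'}(G)` and the factorization
`G = O_{p'}(G) N_G(Z(J(P)))`. -/

set_option autoImplicit false

universe u

namespace Cfsg.Agent.Lib.Lead.PStableQuot

open Subgroup
open scoped commutatorElement
open Cfsg.Agent.Lib.Helper16 Cfsg.Agent.Lib.Lead.QuadStable
open Cfsg.Agent.Lib.Lead.GlaubermanRepl Cfsg.Agent.Lib.Lead.GlaubermanZJ
open Cfsg.Agent.Lib.Lead.PStableConv Cfsg.Agent.Lib.Lead.ZJFunctor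
open Cfsg.Agent.Lib.Helper13

section pelement

variable {G : Type*} [Group G] [Finite G] {p : ℕ} [hp : Fact p.Prime]

/-- an element normalizing a `p`-subgroup and acting quadratically on it acts like a `p`-element -/
theorem exists_pElement_of_quad' {V : Subgroup G} (hVp : IsPGroup p V) {a : G}
    (haN : a ∈ normalizer (V : Set G))
    (hquad : ∀ v ∈ V, ⁅⁅v, a⁆, a⁆ = 1) :
    ∃ b ∈ zpowers a, (∃ k : ℕ, b ^ (p ^ k) = 1) ∧ ∃ z ∈ centralizer (V : Set G), a = b * z := by
  set C := centralizer (V : Set G) with hC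
  have hapow : a ^ Nat.card V ∈ C := by
    rw [hC, mem_centralizer_iff]
    intro v hv
    have hc : (a * v * a⁻¹ * v⁻¹) * a = a * (a * v * a⁻¹ * v⁻¹) := by
      have h1 := hquad v hv
      rw [commutatorElement_eq_one_iff_mul_comm] at h1
      have h2 : a * v * a⁻¹ * v⁻¹ = ⁅v, a⁆⁻¹ := by simp only [commutatorElement_def]; group
      rw [h2]
      calc ⁅v, a⁆⁻¹ * a = ⁅v, a⁆⁻¹ * (a * ⁅v, a⁆) * ⁅v, a⁆⁻¹ := by group
        _ = ⁅v, a⁆⁻¹ * (⁅v, a⁆ * a) * ⁅v, a⁆⁻¹ := by rw [h1]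
        _ = a * ⁅v, a⁆⁻¹ := by group
    have h3 := pow_conj_of_comm hc (Nat.card V)
    have h4 : a * v * a⁻¹ * v⁻¹ ∈ V := mul_mem ((mem_normalizer_iff.mp haN v).mp hv) (inv_mem hv)
    have h5 : (a * v * a⁻¹ * v⁻¹) ^ Nat.card V = 1 := by
      have := pow_card_eq_one' (G := V) (x := ⟨_, h4⟩)
      have h6 := congrArg Subtype.val this
      rw [Subgroup.coe_pow, Subgroup.coe_one] at h6
      exact h6
    rw [h5, one_mul] at h3
    calc v * a ^ Nat.card V = (a ^ Nat.card V * v * (a ^ Nat.card V)⁻¹) * a ^ Nat.card V := by rw [h3]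
      _ = a ^ Nat.card V * v := by group
  obtain ⟨e, he⟩ := IsPGroup.iff_card.mp hVp
  obtain ⟨k, r, hr, hkr⟩ := Nat.exists_eq_pow_mul_and_not_dvd (orderOf_pos a).ne' p hp.out.ne_one
  have hcop : Nat.Coprime r (Nat.card V) := by
    rw [he]
    exact Nat.Coprime.pow_right e ((Nat.Prime.coprime_iff_not_dvd hp.out).mpr hr).symm
  have hbez := Int.gcd_eq_gcd_ab r (Nat.card V)
  rw [Int.gcd_natCast_natCast, hcop] at hbez
  set x := Int.gcdA r (Nat.card V) with hx
  set y := Int.gcdB r (Nat.card V) with hy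
  refine ⟨(a ^ r) ^ x, zpow_mem (pow_mem (mem_zpowers a) r) x, ⟨k, ?_⟩,
    (a ^ Nat.card V) ^ y, zpow_mem hapow y, ?_⟩
  · rw [← zpow_natCast, ← zpow_mul, mul_comm, zpow_mul, zpow_natCast, ← pow_mul, mul_comm r,
      ← hkr, pow_orderOf_eq_one, one_zpow]
  · rw [← zpow_natCast a r, ← zpow_natCast a (Nat.card V), ← zpow_mul, ← zpow_mul,
      ← zpow_add, ← hbez]
    simp

/-- the image of a Sylow `p`-subgroup of `L` is everything when the image of `L` is a `p`-group -/
theorem map_sylow_eq {H : Type*} [Group H] {L : Subgroup G} (π : G →* H) (R : Sylow p ↥L)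
    (hLp : IsPGroup p (L.map π)) :
    ((R : Subgroup L).map L.subtype).map π = L.map π := by
  apply le_antisymm (Subgroup.map_mono (Subgroup.map_subtype_le _))
  have hf : Function.Surjective (π.subgroupMap L) := π.subgroupMap_surjective L
  have h1 : ((R.mapSurjective hf : Sylow p ↥(L.map π)) : Subgroup ↥(L.map π)) = ⊤ := by
    have h2 : IsPGroup p ↥(⊤ : Subgroup ↥(L.map π)) := hLp.of_equiv Subgroup.topEquiv.symm
    exact ((R.mapSurjective hf).is_maximal' h2 le_top).symm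
  intro y hy
  have h3 : (⟨y, hy⟩ : ↥(L.map π)) ∈ ((R.mapSurjective hf : Sylow p ↥(L.map π)) : Subgroup ↥(L.map π)) := by
    rw [h1]; exact mem_top _
  rw [Sylow.coe_mapSurjective] at h3
  obtain ⟨r, hr, hry⟩ := h3
  refine ⟨(r : G), ⟨r, hr, rfl⟩, ?_⟩
  exact congrArg Subtype.val hry

end pelement

section quot

variable {G : Type u} [Group G] [Finite G] {p : ℕ} [hp : Fact p.Prime]

theorem centralizer_pCore_quot_le (hc : Cfsg.IsPConstrained p G) :
    centralizer (Cfsg.pCore p (G ⧸ Cfsg.pPrimeCore p G) : Set (G ⧸ Cfsg.pPrimeCore p G)) ≤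
      Cfsg.pCore p (G ⧸ Cfsg.pPrimeCore p G) := by
  set K := Cfsg.pPrimeCore p G with hK
  have hKc : (Nat.card K).Coprime p := Cfsg.Agent.Lib.Helper2.pPrimeCore_coprime p
  set π := QuotientGroup.mk' K with hπ
  have hsurj : Function.Surjective π := QuotientGroup.mk'_surjective K
  set L := Cfsg.pPrimePCore p G with hL
  have hLmap : L.map π = Cfsg.pCore p (G ⧸ K) := by
    rw [hL]
    unfold Cfsg.pPrimePCore
    exact Subgroup.map_comap_eq_self_of_surjective hsurj _
  obtain ⟨R⟩ : Nonempty (Sylow p ↥L) := inferInstance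
  have hRmap : ((R : Subgroup L).map L.subtype).map π = Cfsg.pCore p (G ⧸ K) := by
    rw [← hLmap]
    apply map_sylow_eq
    rw [hLmap]
    exact pCore_isPGroup p _
  have hR'p : IsPGroup p ((R : Subgroup L).map L.subtype) := R.isPGroup'.map _
  rw [← hRmap]
  refine (centralizer_map_le_of_coprime K hKc _ hR'p).trans ?_
  rw [hRmap, ← hLmap]
  exact Subgroup.map_mono (hc R)

/-- `p`-stability passes to normal `p`-subgroups of `G / O_{p'}(G)`. -/
theorem isPStableOn_quot (hs : Cfsg.IsPStable p G) (Vb : Subgroup (G ⧸ Cfsg.pPrimeCore p G))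
    [hVbn : Vb.Normal] (hVbp : IsPGroup p Vb) : Cfsg.IsPStableOn p Vb := by
  obtain ⟨-, -, hs⟩ := hs
  set K := Cfsg.pPrimeCore p G with hK
  have hKc : (Nat.card K).Coprime p := Cfsg.Agent.Lib.Helper2.pPrimeCore_coprime p
  set π := QuotientGroup.mk' K with hπ
  have hsurj : Function.Surjective π := QuotientGroup.mk'_surjective K
  intro ab hq
  have hker : ∀ g : G, π g = 1 ↔ g ∈ K := by
    intro g
    rw [← MonoidHom.mem_ker, hπ, QuotientGroup.ker_mk']
  set LV := Vb.comap π with hLV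
  haveI hLVn : LV.Normal := hVbn.comap π
  have hLVmap : LV.map π = Vb := Subgroup.map_comap_eq_self_of_surjective hsurj _
  obtain ⟨R⟩ : Nonempty (Sylow p ↥LV) := inferInstance
  set R' := (R : Subgroup LV).map LV.subtype with hR'
  have hR'p : IsPGroup p R' := R.isPGroup'.map _
  have hR'LV : R' ≤ LV := Subgroup.map_subtype_le _
  have hR'map : R'.map π = Vb := by
    rw [← hLVmap]
    apply map_sylow_eq
    rw [hLVmap]; exact hVbp
  have hinj : ∀ x ∈ R', π x = 1 → x = 1 := injOn_of_coprime K hKc R' hR'p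
  -- π restricted to N(R') is surjective
  have hfrat := Sylow.normalizer_sup_eq_top R
  rw [← hR'] at hfrat
  have hNsurj : ∀ y : G ⧸ K, ∃ n ∈ normalizer (R' : Set G), π n = y := by
    intro y
    obtain ⟨g, rfl⟩ := hsurj y
    have hg : g ∈ (normalizer (R' : Set G) ⊔ LV : Subgroup G) := hfrat ▸ mem_top g
    obtain ⟨n, hn, l, hl, rfl⟩ := Subgroup.mem_sup_of_normal_right.mp hg
    have h1 : π l ∈ R'.map π := by rw [hR'map]; exact hl
    obtain ⟨r, hr, hrl⟩ := h1
    refine ⟨n * r, mul_mem hn (le_normalizer hr), ?_⟩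
    rw [map_mul, map_mul, hrl]
  obtain ⟨a, haN, haab⟩ := hNsurj ab
  rw [← haab] at hq ⊢
  -- elements of R' mapping to 1 are trivial; quadratic action of zpowers a on R'
  have hquad2 : ∀ v ∈ R', ∀ x ∈ zpowers a, ∀ y ∈ zpowers a, ⁅⁅v, x⁆, y⁆ = 1 := by
    intro v hv x hx y hy
    have hxN : x ∈ normalizer (R' : Set G) := (zpowers_le.mpr haN) hx
    have hyN : y ∈ normalizer (R' : Set G) := (zpowers_le.mpr haN) hy
    have h1 : ⁅v, x⁆ ∈ R' := by
      have : ⁅v, x⁆ = v * (x * v⁻¹ * x⁻¹) := by simp only [commutatorElement_def]; group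
      rw [this]
      exact mul_mem hv ((mem_normalizer_iff.mp hxN v⁻¹).mp (inv_mem hv))
    have h2 : ⁅⁅v, x⁆, y⁆ ∈ R' := by
      have : ⁅⁅v, x⁆, y⁆ = ⁅v, x⁆ * (y * ⁅v, x⁆⁻¹ * y⁻¹) := by
        simp only [commutatorElement_def]; group
      rw [this]
      exact mul_mem h1 ((mem_normalizer_iff.mp hyN _).mp (inv_mem h1))
    apply hinj _ h2
    have h3 : π ⁅⁅v, x⁆, y⁆ ∈ ⁅⁅Vb, zpowers (π a)⁆, zpowers (π a)⁆ := by
      rw [map_commutatorElement, map_commutatorElement]
      have hx' : π x ∈ zpowers (π a) := by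
        obtain ⟨i, rfl⟩ := mem_zpowers_iff.mp hx
        rw [map_zpow]; exact zpow_mem (mem_zpowers _) i
      have hy' : π y ∈ zpowers (π a) := by
        obtain ⟨i, rfl⟩ := mem_zpowers_iff.mp hy
        rw [map_zpow]; exact zpow_mem (mem_zpowers _) i
      have hv' : π v ∈ Vb := by rw [← hR'map]; exact Subgroup.mem_map_of_mem _ hv
      exact commutator_mem_commutator (commutator_mem_commutator hv' hx') hy'
    rw [hq, mem_bot] at h3
    exact h3
  have hquad : ∀ v ∈ R', ⁅⁅v, a⁆, a⁆ = 1 :=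
    fun v hv => hquad2 v hv a (mem_zpowers a) a (mem_zpowers a)
  obtain ⟨b, hba, ⟨k, hbk⟩, z, hzC, habz⟩ := exists_pElement_of_quad' hR'p haN hquad
  have hAp : IsPGroup p (zpowers b) := by
    have h1 : orderOf b ∣ p ^ k := orderOf_dvd_of_pow_eq_one hbk
    obtain ⟨j, -, hj⟩ := (Nat.dvd_prime_pow hp.out).mp h1
    apply IsPGroup.of_card (n := j)
    rw [Nat.card_zpowers, hj]
  have hAle : zpowers b ≤ zpowers a := zpowers_le.mpr hba
  have hAN : zpowers b ≤ normalizer (R' : Set G) := hAle.trans (zpowers_le.mpr haN)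
  have hq' : ⁅⁅R', zpowers b⁆, zpowers b⁆ = ⊥ := by
    rw [Subgroup.commutator_eq_bot_iff_le_centralizer, Subgroup.commutator_le]
    intro v hv x hx
    rw [mem_centralizer_iff]
    intro y hy
    have := hquad2 v hv x (hAle hx) y (hAle hy)
    rw [commutatorElement_eq_one_iff_mul_comm] at this
    exact this.symm
  have hnorm : ∀ a' ∈ zpowers b, ∀ x ∈ R', a' * x * a'⁻¹ ∈ R' :=
    fun a' ha' x hx => (mem_normalizer_iff.mp (hAN ha') x).mp hx
  have hR'le : R' ≤ Cfsg.pPrimePCore p G := by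
    refine hR'LV.trans ?_
    unfold Cfsg.pPrimePCore
    rw [hLV]
    exact Subgroup.comap_mono (le_pCore hVbn hVbp)
  have hsupeq : K ⊔ R' = LV := by
    apply le_antisymm
    · apply sup_le _ hR'LV
      intro x hx
      rw [hLV, Subgroup.mem_comap, (hker x).mpr hx]
      exact one_mem _
    · intro l hl
      have h1 : π l ∈ R'.map π := by rw [hR'map]; exact hl
      obtain ⟨r, hr, hrl⟩ := h1
      have h2 : r⁻¹ * l ∈ K := by
        rw [← hker, map_mul, map_inv, hrl, inv_mul_cancel]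
      have h3 : l = r * (r⁻¹ * l) := by group
      rw [h3]
      exact mul_mem (le_sup_right (a := K) hr) (le_sup_left (a := K) h2)
  have hsupn : (Cfsg.pPrimeCore p G ⊔ R').Normal := by
    rw [← hK, hsupeq]; exact hLVn
  have hmain := hs (zpowers b) R' hAp hR'p hnorm hR'le hsupn hq'
  -- transfer
  set N := normalizer (R' : Set G) with hN
  set C := centralizer (R' : Set G) with hC
  set Cb := centralizer (Vb : Set (G ⧸ K)) with hCb
  haveI hCN : (C.subgroupOf N).Normal := inferInstance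
  have hCmap : ∀ c ∈ C, π c ∈ Cb := by
    intro c hc
    rw [hCb, mem_centralizer_iff]
    intro y hy
    rw [SetLike.mem_coe, ← hR'map] at hy
    obtain ⟨r, hr, rfl⟩ := hy
    rw [hC, mem_centralizer_iff] at hc
    rw [← map_mul, ← map_mul, hc r hr]
  let f : ↥N →* (G ⧸ K) ⧸ Cb := (QuotientGroup.mk' Cb).comp (π.comp N.subtype)
  have hfker : C.subgroupOf N ≤ f.ker := by
    intro x hx
    rw [MonoidHom.mem_ker]
    show QuotientGroup.mk' Cb (π (x : G)) = 1
    rw [QuotientGroup.mk'_apply, QuotientGroup.eq_one_iff]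
    exact hCmap _ (Subgroup.mem_subgroupOf.mp hx)
  let φ : ↥N ⧸ C.subgroupOf N →* (G ⧸ K) ⧸ Cb := QuotientGroup.lift (C.subgroupOf N) f hfker
  have hφsurj : Function.Surjective φ := by
    intro y
    induction y using QuotientGroup.induction_on with
    | H g =>
      obtain ⟨n, hn, rfl⟩ := hNsurj g
      exact ⟨QuotientGroup.mk ⟨n, hn⟩, rfl⟩
  have himg : (Cfsg.pCore p (↥N ⧸ C.subgroupOf N)).map φ ≤ Cfsg.pCore p ((G ⧸ K) ⧸ Cb) :=
    le_pCore ((pCore_normal p _).map φ hφsurj) ((pCore_isPGroup p _).map φ)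
  have hbN : b ∈ N := hAN (mem_zpowers b)
  have hb1 : (QuotientGroup.mk' (C.subgroupOf N)) ⟨b, hbN⟩ ∈
      Cfsg.pCore p (↥N ⧸ C.subgroupOf N) := by
    apply hmain
    exact ⟨⟨b, hbN⟩, Subgroup.mem_subgroupOf.mpr (mem_zpowers b), rfl⟩
  have hb2 : (QuotientGroup.mk (π b) : (G ⧸ K) ⧸ Cb) ∈ Cfsg.pCore p ((G ⧸ K) ⧸ Cb) :=
    himg ⟨_, hb1, rfl⟩
  have hab : (QuotientGroup.mk (π a) : (G ⧸ K) ⧸ Cb) = QuotientGroup.mk (π b) := by
    rw [habz, map_mul, QuotientGroup.mk_mul, (QuotientGroup.eq_one_iff (π z)).mpr (hCmap z hzC),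
      mul_one]
  rw [hab]
  exact hb2

/-- **Glauberman**: `G = O_{p'}(G) N_G(Z(J(P)))` for `p`-constrained, `p`-stable `G`. -/
theorem ZJ_factorization (hp2 : p ≠ 2) (hc : Cfsg.IsPConstrained p G) (hs : Cfsg.IsPStable p G)
    (P : Sylow p G) :
    Cfsg.pPrimeCore p G ⊔ normalizer (ZJ (P : Subgroup G) : Set G) = ⊤ := by
  set K := Cfsg.pPrimeCore p G with hK
  have hKc : (Nat.card K).Coprime p := Cfsg.Agent.Lib.Helper2.pPrimeCore_coprime p
  set π := QuotientGroup.mk' K with hπ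
  have hsurj : Function.Surjective π := QuotientGroup.mk'_surjective K
  have hn : (ZJ ((P.mapSurjective hsurj : Sylow p (G ⧸ K)) : Subgroup (G ⧸ K))).Normal := by
    apply ZJ_normal hp2 (centralizer_pCore_quot_le hc) _ (P.mapSurjective hsurj)
    intro V hVn hVp
    exact isPStableOn_quot hs V hVp
  rw [Sylow.coe_mapSurjective, ZJ_map_of_injOn π (injOn_of_coprime K hKc P P.isPGroup')] at hn
  have hZp : IsPGroup p (ZJ (P : Subgroup G)) :=
    P.isPGroup'.to_le (inf_le_left.trans (JA_le _))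
  have h1 := normalizer_map_le_of_coprime K hKc (ZJ (P : Subgroup G)) hZp
  rw [Subgroup.normalizer_eq_top] at h1
  rw [eq_top_iff]
  intro g _
  obtain ⟨n, hnN, hng⟩ := h1 (mem_top (π g))
  have h2 : n⁻¹ * g ∈ K := by
    rw [← QuotientGroup.ker_mk' K, MonoidHom.mem_ker, map_mul, map_inv]
    rw [← hπ, hng, inv_mul_cancel]
  have h3 : g = n * (n⁻¹ * g) := by group
  rw [h3]
  exact mul_mem (le_sup_right (a := K) hnN) (le_sup_left (a := K) h2)

end quot

end Cfsg.Agent.Lib.Lead.PStableQuot
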