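import Mathlib
import Cfsg.Agent.Lib.Lead.ZJFunctor
import Cfsg.Agent.Lib.Lead.FunctorNPCD
import Cfsg.Agent.Lib.Lead.GlaubermanZJD

/-! Glauberman–Thompson normal `p`-complement theorems for `Z(J(D))` and `Ω₁(Z(J_e(D)))`,
`D` strongly closed in a Sylow `p`-subgroup. -/

set_option autoImplicit false

universe u

namespace Cfsg.Agent.Lib.Lead.ZJFunctorD

open Subgroup
open Cfsg.Agent.Lib.Lead.GlaubermanRepl Cfsg.Agent.Lib.Lead.GlaubermanReplE
open Cfsg.Agent.Lib.Lead.GlaubermanZJE Cfsg.Agent.Lib.Lead.FunctorNPC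
open Cfsg.Agent.Lib.Lead.ZJFunctor Cfsg.Agent.Lib.Helper13

section maps

variable {H K : Type*} [Group H] [Group K] {p : ℕ}

theorem exp_comap_inf (f : H →* K) {U : Subgroup H} (hinj : ∀ x ∈ U, f x = 1 → x = 1)
    {B : Subgroup K} (hBe : ∀ a ∈ B, a ^ p = 1) : ∀ a ∈ B.comap f ⊓ U, a ^ p = 1 := by
  intro a ha
  obtain ⟨ha1, ha2⟩ := Subgroup.mem_inf.mp ha
  apply hinj _ (pow_mem ha2 p)
  rw [map_pow]
  exact hBe _ (Subgroup.mem_comap.mp ha1)

theorem maxEIn_map_of_injOn (f : H →* K) {U A : Subgroup H}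
    (hinj : ∀ x ∈ U, f x = 1 → x = 1) (hA : A ∈ maxEIn p U) : A.map f ∈ maxEIn p (U.map f) := by
  obtain ⟨hAU, hAc, hAe, hAmax⟩ := hA
  refine ⟨Subgroup.map_mono hAU, ?_, ?_, ?_⟩
  · rintro _ ⟨a, ha, rfl⟩ _ ⟨b, hb, rfl⟩
    rw [← map_mul, ← map_mul, hAc a ha b hb]
  · rintro _ ⟨a, ha, rfl⟩
    rw [← map_pow, hAe a ha, map_one]
  · intro B hBU hBc hBe
    rw [card_map_of_injOn f hinj hAU, ← map_comap_inf f hBU,
      card_map_of_injOn f hinj (inf_le_right : B.comap f ⊓ U ≤ U)]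
    exact hAmax _ inf_le_right (comm_comap_inf f hinj hBc) (exp_comap_inf f hinj hBe)

theorem comap_inf_mem_maxEIn (f : H →* K) {U : Subgroup H} {B : Subgroup K}
    (hinj : ∀ x ∈ U, f x = 1 → x = 1) (hB : B ∈ maxEIn p (U.map f)) :
    B.comap f ⊓ U ∈ maxEIn p U := by
  obtain ⟨hBU, hBc, hBe, hBmax⟩ := hB
  refine ⟨inf_le_right, comm_comap_inf f hinj hBc, exp_comap_inf f hinj hBe, ?_⟩
  intro C hCU hCc hCe
  rw [← card_map_of_injOn f hinj hCU,
    ← card_map_of_injOn f hinj (inf_le_right : B.comap f ⊓ U ≤ U), map_comap_inf f hBU]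
  apply hBmax _ (Subgroup.map_mono hCU)
  · rintro _ ⟨a, ha, rfl⟩ _ ⟨b, hb, rfl⟩
    rw [← map_mul, ← map_mul, hCc a ha b hb]
  · rintro _ ⟨a, ha, rfl⟩
    rw [← map_pow, hCe a ha, map_one]

theorem JE_map_of_injOn (f : H →* K) {U : Subgroup H} (hinj : ∀ x ∈ U, f x = 1 → x = 1) :
    JE p (U.map f) = (JE p U).map f := by
  apply le_antisymm
  · apply sSup_le
    intro B hB
    rw [← map_comap_inf f hB.1]
    exact Subgroup.map_mono (le_JE (comap_inf_mem_maxEIn f hinj hB))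
  · rw [Subgroup.map_le_iff_le_comap]
    apply sSup_le
    intro A hA
    rw [← Subgroup.map_le_iff_le_comap]
    exact le_JE (maxEIn_map_of_injOn f hinj hA)

theorem WE_map_of_injOn (f : H →* K) {U : Subgroup H} (hinj : ∀ x ∈ U, f x = 1 → x = 1) :
    WE p (U.map f) = (WE p U).map f := by
  ext y
  constructor
  · intro hy
    obtain ⟨hy1, hyp⟩ := mem_WE.mp hy
    obtain ⟨hyJ, hyC⟩ := Subgroup.mem_inf.mp hy1
    rw [JE_map_of_injOn f hinj] at hyJ
    obtain ⟨z, hzJ, rfl⟩ := hyJ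
    refine ⟨z, mem_WE.mpr ⟨Subgroup.mem_inf.mpr ⟨hzJ, ?_⟩, ?_⟩, rfl⟩
    · rw [mem_centralizer_iff]
      intro u hu
      rw [mem_centralizer_iff] at hyC
      have h1 : f u ∈ (JE p (U.map f) : Set K) := by
        rw [SetLike.mem_coe, JE_map_of_injOn f hinj]; exact Subgroup.mem_map_of_mem _ hu
      have h2 := hyC _ h1
      apply eq_of_injOn f hinj (mul_mem (JE_le p U hu) (JE_le p U hzJ))
        (mul_mem (JE_le p U hzJ) (JE_le p U hu))
      rw [map_mul, map_mul]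
      exact h2
    · apply hinj _ (pow_mem (JE_le p U hzJ) p)
      rw [map_pow]; exact hyp
  · rintro ⟨z, hz, rfl⟩
    obtain ⟨hz1, hzp⟩ := mem_WE.mp hz
    obtain ⟨hzJ, hzC⟩ := Subgroup.mem_inf.mp hz1
    refine mem_WE.mpr ⟨Subgroup.mem_inf.mpr ⟨?_, ?_⟩, ?_⟩
    · rw [JE_map_of_injOn f hinj]; exact Subgroup.mem_map_of_mem _ hzJ
    · rw [mem_centralizer_iff]
      intro t ht
      rw [SetLike.mem_coe, JE_map_of_injOn f hinj] at ht
      obtain ⟨u, hu, rfl⟩ := ht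
      rw [mem_centralizer_iff] at hzC
      rw [← map_mul, ← map_mul, hzC u hu]
    · rw [← map_pow, hzp, map_one]

theorem omega_center_le_WE [Finite H] [hp : Fact p.Prime] (U : Subgroup H) {z : H} (hzU : z ∈ U)
    (hzC : z ∈ centralizer (U : Set H)) (hzp : z ^ p = 1) : z ∈ WE p U := by
  rw [mem_centralizer_iff] at hzC
  obtain ⟨A, hA⟩ := maxEIn_nonempty (p := p) U
  have hzA : z ∈ A := mem_of_centralizesE hA hzU hzp (fun a ha => (hzC a (hA.1 ha)).symm)
  refine mem_WE.mpr ⟨Subgroup.mem_inf.mpr ⟨le_JE hA hzA, ?_⟩, hzp⟩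
  rw [mem_centralizer_iff]
  intro u hu
  exact hzC u (JE_le p U hu)

end maps

/-- the functor `P ↦ Ω₁(Z(J_e(P)))` -/
def WEf (p : ℕ) : ∀ (H : Type u) [Group H], Subgroup H → Subgroup H := fun _ _ P => WE p P

theorem WEf_good (p : ℕ) [hp : Fact p.Prime] : IsGoodFunctor.{u} p (WEf p) where
  le := fun _ _ P z hz => JE_le p P (Subgroup.mem_inf.mp (mem_WE.mp hz).1).1
  map := fun _ _ _ _ f P hinj => WE_map_of_injOn f hinj
  ne_bot := by
    intro H _ _ P hP hne h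
    have hP' : IsPGroup p ↥P := hP
    have hne' : ¬ (⊤ : Subgroup P) ≤ ⊥ := by
      intro hle
      apply hne
      rw [eq_bot_iff]
      intro v hv
      have h2 := hle (mem_top (⟨v, hv⟩ : P))
      rw [mem_bot] at h2 ⊢
      exact congrArg Subtype.val h2
    obtain ⟨x, -, hxM, hxp, hxc⟩ :=
      Cfsg.Agent.Lib.Helper10.exists_central_mod hP' (⊥ : Subgroup P) (⊤ : Subgroup P) hne'
    have h1 : (x : H) ∈ WE p P := by
      apply omega_center_le_WE P x.2
      · rw [mem_centralizer_iff]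
        intro u hu
        have h1 := hxc ⟨u, hu⟩
        rw [mem_bot, commutatorElement_eq_one_iff_mul_comm] at h1
        exact (congrArg Subtype.val h1).symm
      · rw [mem_bot] at hxp
        have := congrArg Subtype.val hxp
        simpa using this
    apply hxM
    rw [mem_bot]
    apply Subtype.ext
    have h2 : (x : H) ∈ (⊥ : Subgroup H) := h ▸ h1
    exact (mem_bot.mp h2)

section thm

variable {p : ℕ} [hp : Fact p.Prime]

theorem glauberman_thompson_D (hp2 : p ≠ 2) {G : Type u} [Group G] [Finite G] (P : Sylow p G)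
    (D : Subgroup G) (hD : Cfsg.IsStronglyClosed D (P : Subgroup G))
    (h : NPC p ↥(normalizer (ZJ D : Set G))) : NPC p G := by
  apply Cfsg.Agent.Lib.Lead.FunctorNPCD.npc_of_functor_D (WZ_good p) _ _ G rfl P D hD h
  intro G _ _ P Q _ hQP hOp hcent hquot hcoatom D hsc
  have hQeq := Cfsg.Agent.Lib.Lead.QuadStable.pCore_eq_of_config P Q hQP hOp
  have hc : centralizer (Cfsg.pCore p G : Set G) ≤ Cfsg.pCore p G := by rw [hQeq]; exact hcent
  have hst := Cfsg.Agent.Lib.Lead.QuadStable.stable_of_coatom hp2 P Q hQP hcent hquot hcoatom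
  exact Cfsg.Agent.Lib.Lead.GlaubermanZJD.ZJ_normal_D hp2 hc
    (fun V hVn hVp => hst V (hOp V hVn hVp)) P D hsc.1 hsc.2

theorem glauberman_thompson_DE (hp2 : p ≠ 2) {G : Type u} [Group G] [Finite G] (P : Sylow p G)
    (D : Subgroup G) (hD : Cfsg.IsStronglyClosed D (P : Subgroup G))
    (h : NPC p ↥(normalizer (WE p D : Set G))) : NPC p G := by
  apply Cfsg.Agent.Lib.Lead.FunctorNPCD.npc_of_functor_D (WEf_good p) _ _ G rfl P D hD h
  intro G _ _ P Q _ hQP hOp hcent hquot hcoatom D hsc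
  have hQeq := Cfsg.Agent.Lib.Lead.QuadStable.pCore_eq_of_config P Q hQP hOp
  have hc : centralizer (Cfsg.pCore p G : Set G) ≤ Cfsg.pCore p G := by rw [hQeq]; exact hcent
  have hst := Cfsg.Agent.Lib.Lead.QuadStable.stable_of_coatom hp2 P Q hQP hcent hquot hcoatom
  exact Cfsg.Agent.Lib.Lead.GlaubermanZJD.WE_normal_D hp2 hc
    (fun V hVn hVp => hst V (hOp V hVn hVp)) P D hsc.1 hsc.2

end thm

end Cfsg.Agent.Lib.Lead.ZJFunctorD
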