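import Cfsg.Agent.Lib.Lead.DicksonSL2n

/-!
Subgroups of `SL₂(F)` with more than one Sylow `p`-subgroup: conjugation into standard position
(`upper 1` and some `lower b` in the group), every characteristic, and transport of the image in
`PSL₂(F)` along the conjugation (lead).
-/

set_option autoImplicit false

namespace Cfsg.Agent.Lib.Lead.DicksonStd

open Matrix Cfsg.Agent.Lib.Helper9.SL2Upper Cfsg.Agent.Lib.Lead.DicksonBase
  Cfsg.Agent.Lib.Helper15.TwoByTwo Cfsg.Agent.Lib.Lead.SL2Scalar Cfsg.Agent.Lib.Lead.DicksonCA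
  Cfsg.Agent.Lib.Lead.DicksonSL2

variable {F : Type*} [Field F]

local notation "SL2" => Matrix.SpecialLinearGroup (Fin 2) F
local notation "M2" => Matrix (Fin 2) (Fin 2) F

/-- **standard position**: a finite subgroup of `SL₂(F)` with more than one Sylow `p`-subgroup
contains a conjugate of `upper 1` and of some `lower b`, `b ≠ 0` (same conjugating matrix). -/
theorem exists_std (p : ℕ) [hp : Fact p.Prime] [CharP F p]
    (H : Subgroup (Matrix.SpecialLinearGroup (Fin 2) F)) [Finite H]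
    (hH : 1 < Nat.card (Sylow p H)) :
    ∃ (M Mi : M2) (h1 : M * Mi = 1) (h2 : Mi * M = 1) (b : F), b ≠ 0 ∧
      conjHom M Mi h1 h2 (upper 1) ∈ H ∧ conjHom M Mi h1 h2 (lower b) ∈ H := by
  obtain ⟨x, y, v₁, v₂, hxH, hyH, hx1, hy1, hxv, hyv, hδ⟩ := exists_indep_pair p H hH
  obtain ⟨M, Mi, h1, h2, a, b, hxa, hyb⟩ := exists_normal_form x y v₁ v₂ hxv hyv hδ
  have ha : a ≠ 0 := by
    rintro rfl
    rw [upper_zero, map_one] at hxa
    exact hx1 hxa
  have hb : b ≠ 0 := by
    rintro rfl
    rw [lower_zero, map_one] at hyb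
    exact hy1 hyb
  obtain ⟨D, Di, g1, g2, hDu, hDl⟩ := conj_diag_upper a ha
  obtain ⟨k1, k2, hk⟩ := conjHom_conjHom M Mi h1 h2 D Di g1 g2 (upper 1)
  obtain ⟨k1', k2', hk'⟩ := conjHom_conjHom M Mi h1 h2 D Di g1 g2 (lower (a * b))
  refine ⟨M * D, Di * Mi, k1, k2, a * b, mul_ne_zero ha hb, ?_, ?_⟩
  · rw [← hk, hDu, mul_one, ← hxa]; exact hxH
  · rw [← hk', hDl, mul_div_cancel_left₀ b ha, ← hyb]; exact hyH

/-- conjugation by an invertible matrix as an automorphism of `SL₂(F)` -/
def conjEquiv (M Mi : M2) (h1 : M * Mi = 1) (h2 : Mi * M = 1) : SL2 ≃* SL2 where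
  toFun := conjHom M Mi h1 h2
  invFun := conjHom Mi M h2 h1
  left_inv := by
    intro g
    apply Subtype.ext
    rw [conjHom_coe, conjHom_coe]
    calc Mi * (M * (g : M2) * Mi) * M = (Mi * M) * (g : M2) * (Mi * M) := by
          simp only [mul_assoc]
      _ = (g : M2) := by rw [h2, one_mul, mul_one]
  right_inv := by
    intro g
    apply Subtype.ext
    rw [conjHom_coe, conjHom_coe]
    calc M * (Mi * (g : M2) * M) * Mi = (M * Mi) * (g : M2) * (M * Mi) := by
          simp only [mul_assoc]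
      _ = (g : M2) := by rw [h1, one_mul, mul_one]
  map_mul' := map_mul (conjHom M Mi h1 h2)

@[simp] theorem conjEquiv_apply (M Mi : M2) (h1 : M * Mi = 1) (h2 : Mi * M = 1) (g : SL2) :
    conjEquiv M Mi h1 h2 g = conjHom M Mi h1 h2 g := rfl

/-- transport along an automorphism of the image of a subgroup modulo the centre -/
theorem nonempty_equiv_of_aut {G : Type*} [Group G] (e : G ≃* G) (H : Subgroup G) :
    Nonempty (↥((H.comap e.toMonoidHom).map (QuotientGroup.mk' (Subgroup.center G))) ≃*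
      ↥(H.map (QuotientGroup.mk' (Subgroup.center G)))) := by
  have he : (Subgroup.center G).map e.toMonoidHom = Subgroup.center G :=
    Subgroup.characteristic_iff_map_eq.mp Subgroup.centerCharacteristic e
  let ψ : G ⧸ Subgroup.center G ≃* G ⧸ Subgroup.center G :=
    QuotientGroup.congr (Subgroup.center G) (Subgroup.center G) e he
  have hψ : ∀ g : G, ψ (QuotientGroup.mk' (Subgroup.center G) g) =
      QuotientGroup.mk' (Subgroup.center G) (e g) := fun g => rfl
  have hmap : ((H.comap e.toMonoidHom).map (QuotientGroup.mk' (Subgroup.center G))).map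
      ψ.toMonoidHom = H.map (QuotientGroup.mk' (Subgroup.center G)) := by
    ext z
    constructor
    · rintro ⟨_, ⟨g, hg, rfl⟩, rfl⟩
      exact ⟨e g, hg, (hψ g).symm⟩
    · rintro ⟨h, hh, rfl⟩
      refine ⟨QuotientGroup.mk' (Subgroup.center G) (e.symm h), ⟨e.symm h, ?_, rfl⟩, ?_⟩
      · show e (e.symm h) ∈ H
        rw [MulEquiv.apply_symm_apply]; exact hh
      · show ψ (QuotientGroup.mk' (Subgroup.center G) (e.symm h)) = _
        rw [hψ, MulEquiv.apply_symm_apply]
  exact ⟨(Subgroup.equivMapOfInjective _ ψ.toMonoidHom ψ.injective).trans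
    (MulEquiv.subgroupCongr hmap)⟩

/-- **transport along the conjugation**: the images in `PSL₂(F)` of `H` and of its preimage under
`conjHom M Mi` are isomorphic. -/
theorem conj_iso (M Mi : M2) (h1 : M * Mi = 1) (h2 : Mi * M = 1)
    (H : Subgroup (Matrix.SpecialLinearGroup (Fin 2) F)) :
    Nonempty (↥((H.comap (conjHom M Mi h1 h2)).map (QuotientGroup.mk' (Subgroup.center SL2))) ≃*
      ↥(H.map (QuotientGroup.mk' (Subgroup.center SL2)))) :=
  nonempty_equiv_of_aut (conjEquiv M Mi h1 h2) H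

theorem conjHom_neg_one (M Mi : M2) (h1 : M * Mi = 1) (h2 : Mi * M = 1) :
    conjHom M Mi h1 h2 (-1) = -1 := by
  apply Subtype.ext
  rw [conjHom_coe]
  simp [h1]

theorem neg_one_mem_comap (M Mi : M2) (h1 : M * Mi = 1) (h2 : Mi * M = 1)
    {H : Subgroup (Matrix.SpecialLinearGroup (Fin 2) F)} (h : (-1 : SL2) ∈ H) :
    (-1 : SL2) ∈ H.comap (conjHom M Mi h1 h2) := by
  rw [Subgroup.mem_comap, conjHom_neg_one]; exact h

theorem finite_comap (M Mi : M2) (h1 : M * Mi = 1) (h2 : Mi * M = 1)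
    (H : Subgroup (Matrix.SpecialLinearGroup (Fin 2) F)) [Finite H] :
    Finite (H.comap (conjHom M Mi h1 h2)) := by
  let f : H.comap (conjHom M Mi h1 h2) → H := fun x => ⟨conjHom M Mi h1 h2 x.1, x.2⟩
  apply Finite.of_injective f
  intro x y hxy
  apply Subtype.ext
  apply conjHom_injective M Mi h1 h2
  exact congrArg Subtype.val hxy

/-- the comap is isomorphic to `H` -/
theorem nonempty_comap_equiv (M Mi : M2) (h1 : M * Mi = 1) (h2 : Mi * M = 1)
    (H : Subgroup (Matrix.SpecialLinearGroup (Fin 2) F)) :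
    Nonempty (↥(H.comap (conjHom M Mi h1 h2)) ≃* ↥H) := by
  have hmap : (H.comap (conjHom M Mi h1 h2)).map (conjEquiv M Mi h1 h2).toMonoidHom = H := by
    ext z
    constructor
    · rintro ⟨g, hg, rfl⟩
      exact hg
    · intro hz
      refine ⟨(conjEquiv M Mi h1 h2).symm z, ?_, ?_⟩
      · show conjEquiv M Mi h1 h2 ((conjEquiv M Mi h1 h2).symm z) ∈ H
        rw [MulEquiv.apply_symm_apply]; exact hz
      · show conjEquiv M Mi h1 h2 ((conjEquiv M Mi h1 h2).symm z) = z
        rw [MulEquiv.apply_symm_apply]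
  exact ⟨(Subgroup.equivMapOfInjective _ (conjEquiv M Mi h1 h2).toMonoidHom
    (conjEquiv M Mi h1 h2).injective).trans (MulEquiv.subgroupCongr hmap)⟩

end Cfsg.Agent.Lib.Lead.DicksonStd
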