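import Cfsg.Agent.Lib.Lead.DkCoatomC

/-!
Dihedral subgroups of `PSL₂(q)` of order `2(q ± 1)/d` are maximal (lead); from Dickson's theorem
`S0799`.
-/

set_option autoImplicit false

namespace Cfsg.Agent.Lib.Lead.DkCoatom

open Cfsg.Agent.Lib.Helper12.DkG Cfsg.Agent.Lib.Helper16.DkMax Cfsg.Agent.Lib.Lead.DicksonSL2
open Cfsg.Agent.Lib.Helper1.DkOrders

local notation "SL2" => Matrix.SpecialLinearGroup (Fin 2)
local notation "PSL2" => Matrix.ProjectiveSpecialLinearGroup (Fin 2)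
local notation "PGL2" => Matrix.ProjGenLinGroup (Fin 2)

/-- no proper subgroup lies strictly above a dihedral subgroup of order `2(q ± 1)/d` -/
theorem false_of_lt {F : Type*} [Field F] [Fintype F] {q : ℕ} (hF : Fintype.card F = q)
    (p : ℕ) [hp : Fact p.Prime] [CharP F p] {n : ℕ} (hn : 3 ≤ n) (hcop : Nat.Coprime n p)
    (hs : (n * Nat.gcd 2 (q - 1) = q + 1 ∧ q ≠ 7 ∧ q ≠ 9) ∨
      (n * Nat.gcd 2 (q - 1) = q - 1 ∧ q ≠ 7 ∧ q ≠ 9 ∧ q ≠ 11))
    (D M : Subgroup (PSL2 F)) (eD : D ≃* DihedralGroup n) (hDM : D < M) (hM : M ≠ ⊤) : False := by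
  have hq2 : 2 ≤ q := by rw [← hF]; exact Fintype.one_lt_card
  have hG := card_PSL2_mul (F := F)
  rw [hF] at hG
  obtain ⟨hlt, hdvd⟩ := card_lt_of_lt hDM
  have hDc : Nat.card D = 2 * n := by rw [Nat.card_congr eD.toEquiv, DihedralGroup.nat_card]
  rw [hDc] at hlt hdvd
  have hMne : Nat.card M ≠ Nat.card (PSL2 F) :=
    fun h => hM ((Subgroup.card_eq_iff_eq_top M).mp h)
  have hMdvd : Nat.card M ∣ Nat.card (PSL2 F) := Subgroup.card_subgroup_dvd_card M
  -- the embedding of the dihedral group in `M`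
  obtain ⟨ι, hι⟩ : ∃ ι : DihedralGroup n →* M, Function.Injective ι :=
    ⟨(Subgroup.inclusion hDM.le).comp eD.symm.toMonoidHom,
      (Subgroup.inclusion_injective hDM.le).comp eD.symm.injective⟩
  have hd := gcd_cases q (by omega)
  have hd0 : 0 < Nat.gcd 2 (q - 1) := Nat.gcd_pos_of_pos_left _ (by norm_num)
  have hdB : Nat.gcd 2 (q - 1) ∣ q - 1 := Nat.gcd_dvd_right _ _
  have hdA : Nat.gcd 2 (q - 1) ∣ q + 1 := by
    rcases hd with ⟨-, h⟩ | ⟨h1, h⟩
    · rw [h]; exact one_dvd _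
    · rw [h]; omega
  rcases Cfsg.Agent.S0799.result hF p M with
    ⟨k, hk, hkH⟩ | ⟨P, K, hK, ⟨e⟩⟩ | ⟨⟨e⟩⟩ | ⟨⟨e⟩⟩ | ⟨⟨e⟩⟩ | ⟨K, iK, iF, m, hm, e⟩
  · rcases hkH with ⟨hcyc, -⟩ | ⟨⟨e⟩⟩
    · -- cyclic
      haveI := hcyc
      exact dihedral_not_cyclic (by omega) (isCyclic_of_injective ι hι)
    · -- dihedral
      have hMc : Nat.card M = 2 * k := by
        rw [Nat.card_congr e.toEquiv, DihedralGroup.nat_card]
      rw [hMc] at hlt hdvd
      have hnk : n ∣ k := (Nat.mul_dvd_mul_iff_left (by norm_num)).mp hdvd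
      have hnk' : n < k := by omega
      have hA : (q + 1) / Nat.gcd 2 (q - 1) * Nat.gcd 2 (q - 1) = q + 1 :=
        Nat.div_mul_cancel hdA
      have hB : (q - 1) / Nat.gcd 2 (q - 1) * Nat.gcd 2 (q - 1) = q - 1 :=
        Nat.div_mul_cancel hdB
      have hkA : k ∣ (q + 1) / Nat.gcd 2 (q - 1) → k * Nat.gcd 2 (q - 1) ∣ q + 1 := by
        intro h
        rw [← hA]; exact Nat.mul_dvd_mul_right h _
      have hkB : k ∣ (q - 1) / Nat.gcd 2 (q - 1) → k * Nat.gcd 2 (q - 1) ∣ q - 1 := by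
        intro h
        have h' := Nat.mul_dvd_mul_right h (Nat.gcd 2 (q - 1))
        rwa [hB] at h'
      have hlt' : n * Nat.gcd 2 (q - 1) < k * Nat.gcd 2 (q - 1) :=
        Nat.mul_lt_mul_of_pos_right hnk' hd0
      rcases hs with ⟨h1, -⟩ | ⟨h1, -⟩
      · rcases hk with hk | hk
        · have := Nat.le_of_dvd (by omega) (hkA hk)
          omega
        · have := Nat.le_of_dvd (by omega) (hkB hk)
          omega
      · have hq4 : 4 ≤ q := by
          have : 3 * 1 ≤ n * Nat.gcd 2 (q - 1) := Nat.mul_le_mul hn hd0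
          omega
        rcases hk with hk | hk
        · have h2 : n * Nat.gcd 2 (q - 1) ∣ q + 1 :=
            (Nat.mul_dvd_mul_right hnk _).trans (hkA hk)
          rw [h1] at h2
          have h3 : q - 1 ∣ 2 := by
            have := Nat.dvd_sub h2 (dvd_refl (q - 1))
            have e : q + 1 - (q - 1) = 2 := by omega
            rwa [e] at this
          have := Nat.le_of_dvd (by norm_num) h3
          omega
        · have := Nat.le_of_dvd (by omega) (hkB hk)
          omega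
  · -- Borel type
    exact not_le_normalizer_of_dihedral p hn hcop P (K.subtype.comp (e.toMonoidHom.comp ι))
      (K.subtype_injective.comp (e.injective.comp hι)) (fun x => hK (e (ι x)).2)
  · exact no_embed_A4 hn (e.toMonoidHom.comp ι) (e.injective.comp hι)
  · have hM24 : Nat.card M = 24 := by rw [Nat.card_congr e.toEquiv, card_S4]
    rw [hM24] at hMdvd hMne
    exact small_arith q _ n _ 24 hd hG hMdvd hMne hs
      (Or.inl ⟨rfl, embed_S4 hn (e.toMonoidHom.comp ι) (e.injective.comp hι)⟩)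
  · have hM60 : Nat.card M = 60 := by rw [Nat.card_congr e.toEquiv, card_A5]
    rw [hM60] at hMdvd hMne
    exact small_arith q _ n _ 60 hd hG hMdvd hMne hs
      (Or.inr ⟨rfl, embed_A5 hn (e.toMonoidHom.comp ι) (e.injective.comp hι)⟩)
  · -- subfield type
    have hr2 : 2 ≤ Fintype.card K := Fintype.one_lt_card
    have hm0 : m ≠ 0 := by
      rintro rfl
      rw [pow_zero] at hm; omega
    -- the characteristic of `K` is `p`
    obtain ⟨a, hpp, hqa⟩ := FiniteField.card F p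
    rw [hF] at hqa
    obtain ⟨p', hp'⟩ := CharP.exists K
    haveI := hp'
    have hp'prime : p'.Prime := by
      rcases CharP.char_is_prime_or_zero K p' with h | h
      · exact h
      · exfalso
        subst h
        haveI : CharZero K := CharP.charP_to_charZero K
        exact not_finite K
    have hp'q : p' ∣ q := by
      have h1 : p' ∣ Fintype.card K :=
        (CharP.cast_eq_zero_iff K p' _).mp (Nat.cast_card_eq_zero K)
      exact h1.trans (hm ▸ dvd_pow_self _ hm0)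
    have hpq : p ∣ q := by rw [hqa]; exact dvd_pow_self _ a.pos.ne'
    have hpp' : p' = p :=
      Cfsg.Agent.Lib.Helper1.DkMinIndex.prime_unique_of_pow hpp hqa hp'prime hpp hp'q hpq
    subst hpp'
    have hdK := gcd_cases (Fintype.card K) (by omega)
    have hcK := card_PSL2_mul (F := K)
    rcases e with ⟨⟨e⟩⟩ | ⟨⟨e⟩⟩
    · have hb := embed_PSL_le p' hcop (e.toMonoidHom.comp ι) (e.injective.comp hι)
      rw [← Nat.card_congr e.toEquiv] at hcK
      exact subfield_arith q (Fintype.card K) m n _ _ _ _ hq2 hr2 hm hd hdK hG (Or.inl hcK)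
        (fun _ => by omega) hs hlt hMdvd hMne
    · have hb := embed_PGL_le p' hcop (e.toMonoidHom.comp ι) (e.injective.comp hι)
      have hcP := card_PGL2_eq (K := K)
      rw [← Nat.card_congr e.toEquiv, sq_sub_one' _ (by omega), ← mul_assoc] at hcP
      exact subfield_arith q (Fintype.card K) m n _ _ _ _ hq2 hr2 hm hd hdK hG (Or.inr hcP)
        (fun _ => hb) hs hlt hMdvd hMne

theorem exists_char_prime (F : Type*) [Field F] [Fintype F] :
    ∃ p : ℕ, p.Prime ∧ CharP F p ∧ p ∣ Fintype.card F := by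
  obtain ⟨p, hp⟩ := CharP.exists F
  haveI := hp
  have hprime : p.Prime := by
    rcases CharP.char_is_prime_or_zero F p with h | h
    · exact h
    · exfalso
      subst h
      haveI : CharZero F := CharP.charP_to_charZero F
      exact not_finite F
  exact ⟨p, hprime, hp, (CharP.cast_eq_zero_iff F p _).mp (Nat.cast_card_eq_zero F)⟩

theorem coprime_of_mul_eq {n d q p : ℕ} (hp : p.Prime) (hpq : p ∣ q)
    (h : n * d = q + 1 ∨ (n * d = q - 1 ∧ 1 ≤ q)) : Nat.Coprime n p := by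
  apply Nat.Coprime.symm
  rw [Nat.Prime.coprime_iff_not_dvd hp]
  intro hpn
  have h1 : p ∣ n * d := hpn.mul_right d
  have h2 : p ∣ 1 := by
    rcases h with h | ⟨h, hq⟩
    · rw [h] at h1
      exact (Nat.dvd_add_right hpq).mp h1
    · rw [h] at h1
      have h3 : p ∣ q - (q - 1) := Nat.dvd_sub hpq h1
      have e : q - (q - 1) = 1 := by omega
      rwa [e] at h3
  exact hp.one_lt.ne' (Nat.dvd_one.mp h2)

/-- a dihedral subgroup of order `2(q + 1)/d` of `PSL₂(q)` is maximal, `q ≠ 2, 7, 9` -/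
theorem coatom_of_dihedral_plus {F : Type*} [Field F] [Fintype F] {q : ℕ}
    (hF : Fintype.card F = q) (hq : q ∉ ({2, 7, 9} : Finset ℕ)) (D : Subgroup (PSL2 F))
    (hD : Nonempty (D ≃* DihedralGroup ((q + 1) / Nat.gcd 2 (q - 1)))) : IsCoatom D := by
  obtain ⟨eD⟩ := hD
  simp only [Finset.mem_insert, Finset.mem_singleton, not_or] at hq
  obtain ⟨hq_2, hq_7, hq_9⟩ := hq
  have hq2 : 2 ≤ q := by rw [← hF]; exact Fintype.one_lt_card
  obtain ⟨p, hpp, hcp, hpq⟩ := exists_char_prime F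
  rw [hF] at hpq
  haveI : Fact p.Prime := ⟨hpp⟩
  haveI := hcp
  have hd := gcd_cases q (by omega)
  have hdA : Nat.gcd 2 (q - 1) ∣ q + 1 := by
    rcases hd with ⟨-, h⟩ | ⟨h1, h⟩
    · rw [h]; exact one_dvd _
    · rw [h]; omega
  obtain ⟨n, hn⟩ : ∃ n, n = (q + 1) / Nat.gcd 2 (q - 1) := ⟨_, rfl⟩
  rw [← hn] at eD
  have hnd : n * Nat.gcd 2 (q - 1) = q + 1 := by rw [hn]; exact Nat.div_mul_cancel hdA
  have hG := card_PSL2_mul (F := F)
  rw [hF] at hG
  have hDc : Nat.card D = 2 * n := by rw [Nat.card_congr eD.toEquiv, DihedralGroup.nat_card]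
  have hne : D ≠ ⊤ := by
    intro h
    have h1 : Nat.card D = Nat.card (PSL2 F) := (Subgroup.card_eq_iff_eq_top D).mpr h
    rw [hDc] at h1
    rw [← h1] at hG
    have h2 : 2 * (q + 1) = q * (q - 1) * (q + 1) := by
      rw [← hG, ← hnd]; ring
    have h3 : 2 = q * (q - 1) := Nat.eq_of_mul_eq_mul_right (by omega) h2
    have h4 : 3 * 2 ≤ q * (q - 1) := Nat.mul_le_mul (by omega) (by omega)
    omega
  refine ⟨hne, fun M hDM => ?_⟩
  by_contra hM
  by_cases hq3 : q = 3
  · -- `PSL₂(3)` of order `12`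
    subst hq3
    obtain ⟨hlt, hdvd⟩ := card_lt_of_lt hDM
    have hMne : Nat.card M ≠ Nat.card (PSL2 F) :=
      fun h => hM ((Subgroup.card_eq_iff_eq_top M).mp h)
    have hMdvd : Nat.card M ∣ Nat.card (PSL2 F) := Subgroup.card_subgroup_dvd_card M
    rcases hd with ⟨h1, -⟩ | ⟨-, h⟩
    · omega
    · rw [h] at hG hnd
      have hG12 : Nat.card (PSL2 F) = 12 := by omega
      have hn2 : n = 2 := by omega
      rw [hDc, hn2] at hlt hdvd
      rw [hG12] at hMne hMdvd
      have hle : Nat.card M ≤ 12 := Nat.le_of_dvd (by norm_num) hMdvd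
      generalize Nat.card M = c at *
      interval_cases c <;> omega
  · have hn3 : 3 ≤ n := by
      have : Nat.gcd 2 (q - 1) ≤ 2 := Nat.le_of_dvd (by norm_num) (Nat.gcd_dvd_left _ _)
      have h5 : n * Nat.gcd 2 (q - 1) ≤ n * 2 := Nat.mul_le_mul_left _ this
      omega
    exact false_of_lt hF p hn3 (coprime_of_mul_eq hpp hpq (Or.inl hnd))
      (Or.inl ⟨hnd, hq_7, hq_9⟩) D M eD hDM hM

/-- a dihedral subgroup of order `2(q - 1)/d` of `PSL₂(q)` is maximal, `q ≠ 2, 3, 5, 7, 9, 11` -/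
theorem coatom_of_dihedral_minus {F : Type*} [Field F] [Fintype F] {q : ℕ}
    (hF : Fintype.card F = q) (hq : q ∉ ({2, 3, 5, 7, 9, 11} : Finset ℕ)) (D : Subgroup (PSL2 F))
    (hD : Nonempty (D ≃* DihedralGroup ((q - 1) / Nat.gcd 2 (q - 1)))) : IsCoatom D := by
  obtain ⟨eD⟩ := hD
  simp only [Finset.mem_insert, Finset.mem_singleton, not_or] at hq
  obtain ⟨hq_2, hq_3, hq_5, hq_7, hq_9, hq_11⟩ := hq
  have hq2 : 2 ≤ q := by rw [← hF]; exact Fintype.one_lt_card
  obtain ⟨p, hpp, hcp, hpq⟩ := exists_char_prime F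
  rw [hF] at hpq
  haveI : Fact p.Prime := ⟨hpp⟩
  haveI := hcp
  have hd := gcd_cases q (by omega)
  have hdB : Nat.gcd 2 (q - 1) ∣ q - 1 := Nat.gcd_dvd_right _ _
  obtain ⟨n, hn⟩ : ∃ n, n = (q - 1) / Nat.gcd 2 (q - 1) := ⟨_, rfl⟩
  rw [← hn] at eD
  have hnd : n * Nat.gcd 2 (q - 1) = q - 1 := by rw [hn]; exact Nat.div_mul_cancel hdB
  have hG := card_PSL2_mul (F := F)
  rw [hF] at hG
  have hDc : Nat.card D = 2 * n := by rw [Nat.card_congr eD.toEquiv, DihedralGroup.nat_card]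
  have hne : D ≠ ⊤ := by
    intro h
    have h1 : Nat.card D = Nat.card (PSL2 F) := (Subgroup.card_eq_iff_eq_top D).mpr h
    rw [hDc] at h1
    rw [← h1] at hG
    have h2 : (q - 1) * 2 = (q - 1) * (q * (q + 1)) := by
      have e1 : 2 * n * Nat.gcd 2 (q - 1) = (n * Nat.gcd 2 (q - 1)) * 2 := by ring
      rw [e1, hnd] at hG
      rw [hG]; ring
    have h3 : 2 = q * (q + 1) := Nat.eq_of_mul_eq_mul_left (by omega) h2
    have h4 : 2 * 3 ≤ q * (q + 1) := Nat.mul_le_mul (by omega) (by omega)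
    omega
  refine ⟨hne, fun M hDM => ?_⟩
  by_contra hM
  have hn3 : 3 ≤ n := by
    rcases hd with ⟨h1, h⟩ | ⟨h1, h⟩
    · rw [h] at hnd; omega
    · rw [h] at hnd; omega
  exact false_of_lt hF p hn3 (coprime_of_mul_eq hpp hpq (Or.inr ⟨hnd, by omega⟩))
    (Or.inr ⟨hnd, hq_7, hq_9, hq_11⟩) D M eD hDM hM

end Cfsg.Agent.Lib.Lead.DkCoatom
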