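import Mathlib
import Cfsg.Agent.Lib.Lead.PStableConv
import Cfsg.Agent.Lib.Helper17.SylowConj
import Cfsg.Agent.Lib.Helper15.SylowIn

/-! Groups all of whose `p`-locals are `p`-constrained, `p`-stable with trivial `p'`-core:
`N_G(Z(J(P)))` contains every `p`-local `N_G(Q)`, `1 ≠ Q ≤ P`. -/

set_option autoImplicit false

universe u

namespace Cfsg.Agent.Lib.Lead.PLocalZJ

open Subgroup
open Cfsg.Agent.Lib.Lead.GlaubermanRepl Cfsg.Agent.Lib.Lead.GlaubermanZJ
open Cfsg.Agent.Lib.Lead.PStableConv Cfsg.Agent.Lib.Lead.ZJFunctor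
open Cfsg.Agent.Lib.Lead.FunctorNPC

variable {G : Type u} [Group G] [Finite G] {p : ℕ} [hp : Fact p.Prime]

/-- the hypothesis on `p`-locals -/
def LocHyp (p : ℕ) (G : Type u) [Group G] : Prop :=
  ∀ Q : Subgroup G, IsPGroup p Q → Q ≠ ⊥ →
    Cfsg.pPrimeCore p ↥(Subgroup.normalizer (Q : Set G)) = ⊥ ∧
    Cfsg.IsPConstrained p ↥(Subgroup.normalizer (Q : Set G)) ∧
    Cfsg.IsPStable p ↥(Subgroup.normalizer (Q : Set G))

theorem ZJ_ne_bot {R : Subgroup G} (hR : IsPGroup p R) (hne : R ≠ ⊥) : ZJ R ≠ ⊥ :=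
  (WZ_good p).ne_bot G R hR hne

theorem ZJ_le (R : Subgroup G) : ZJ R ≤ R := inf_le_left.trans (JA_le R)

omit hp in
theorem normalizer_le_normalizer_ZJ (R : Subgroup G) :
    normalizer (R : Set G) ≤ normalizer (ZJ R : Set G) := by
  intro g hg
  apply Cfsg.Agent.Lib.Helper13.mem_normalizer_of_conj_mem
  intro z hz
  exact ZJ_conj hg hz

/-- Fact 1 -/
theorem fact_one (hp2 : p ≠ 2) (hloc : LocHyp p G) {Q : Subgroup G} (hQp : IsPGroup p Q)
    (hQ1 : Q ≠ ⊥) (R₀ : Sylow p ↥(normalizer (Q : Set G))) :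
    normalizer (Q : Set G) ≤
      normalizer (ZJ ((R₀ : Subgroup ↥(normalizer (Q : Set G))).map (normalizer (Q : Set G)).subtype) : Set G) := by
  obtain ⟨h1, h2, h3⟩ := hloc Q hQp hQ1
  have hn := ZJ_normal_of_constrained_stable hp2 h1 h2 h3 R₀
  have hmap : ZJ ((R₀ : Subgroup ↥(normalizer (Q : Set G))).map (normalizer (Q : Set G)).subtype) =
      (ZJ (R₀ : Subgroup ↥(normalizer (Q : Set G)))).map (normalizer (Q : Set G)).subtype :=
    ZJ_map_of_injOn (normalizer (Q : Set G)).subtype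
      (fun x _ hx => (normalizer (Q : Set G)).subtype_injective (by rw [hx, map_one]))
  rw [hmap]
  intro n hnN
  apply Cfsg.Agent.Lib.Helper13.mem_normalizer_of_conj_mem
  rintro _ ⟨z, hz, rfl⟩
  exact ⟨⟨n, hnN⟩ * z * ⟨n, hnN⟩⁻¹, hn.conj_mem z hz ⟨n, hnN⟩, by simp⟩

/-- a Sylow subgroup of `N_G(D)` containing a given `p`-subgroup, as a subgroup of `G` -/
theorem exists_sylow_normalizer (D X : Subgroup G) (hX : IsPGroup p X)
    (hXN : X ≤ normalizer (D : Set G)) :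
    ∃ R₀ : Sylow p ↥(normalizer (D : Set G)),
      X ≤ (R₀ : Subgroup ↥(normalizer (D : Set G))).map (normalizer (D : Set G)).subtype := by
  obtain ⟨R₀, hR₀⟩ := (hX.comap_subtype (K := normalizer (D : Set G)) :
    IsPGroup p (X.subgroupOf (normalizer (D : Set G)))).exists_le_sylow
  refine ⟨R₀, ?_⟩
  intro x hx
  exact ⟨⟨x, hXN hx⟩, hR₀ (Subgroup.mem_subgroupOf.mpr hx), rfl⟩

/-- Lemma L -/
theorem lemma_L (hp2 : p ≠ 2) (hloc : LocHyp p G) (d : ℕ)
    (hC : ∀ P P' : Sylow p G, d < Nat.card ↥((P : Subgroup G) ⊓ P') → ZJ (P : Subgroup G) = ZJ (P' : Subgroup G)) :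
    ∀ k : ℕ, ∀ R : Subgroup G, IsPGroup p R → R ≠ ⊥ → d ≤ Nat.card R → Nat.card G - Nat.card R = k →
      ∀ P₁ : Sylow p G, R ≤ P₁ → normalizer (ZJ R : Set G) ≤ normalizer (ZJ (P₁ : Subgroup G) : Set G) := by
  intro k
  induction k using Nat.strong_induction_on with
  | _ k ih =>
  intro R hRp hR1 hdR hk P₁ hRP₁
  by_cases hRP : R = (P₁ : Subgroup G)
  · rw [hRP]
  have hlt : R < (P₁ : Subgroup G) := lt_of_le_of_ne hRP₁ hRP
  have hltX := Cfsg.Agent.Lib.Helper15.lt_inf_normalizer_of_lt (P₁ : Subgroup G) R P₁.isPGroup' hlt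
  set X := (P₁ : Subgroup G) ⊓ normalizer (R : Set G) with hX
  have hXp : IsPGroup p X := P₁.isPGroup'.to_le inf_le_left
  have hcardX : Nat.card R < Nat.card X := by
    by_contra hge
    push Not at hge
    exact hltX.ne (Subgroup.eq_of_le_of_card_ge hltX.le hge)
  have hD₁p : IsPGroup p (ZJ R) := hRp.to_le (ZJ_le R)
  have hD₁1 : ZJ R ≠ ⊥ := ZJ_ne_bot hRp hR1
  have hXN₁ : X ≤ normalizer (ZJ R : Set G) := inf_le_right.trans (normalizer_le_normalizer_ZJ R)
  obtain ⟨R₁₀, hXR₁⟩ := exists_sylow_normalizer (ZJ R) X hXp hXN₁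
  set R₁ := (R₁₀ : Subgroup ↥(normalizer (ZJ R : Set G))).map (normalizer (ZJ R : Set G)).subtype with hR₁
  have hR₁p : IsPGroup p R₁ := R₁₀.isPGroup'.map _
  obtain ⟨P₂, hR₁P₂⟩ := hR₁p.exists_le_sylow
  have hXle : X ≤ (P₂ : Subgroup G) ⊓ P₁ := le_inf (hXR₁.trans hR₁P₂) inf_le_left
  have hZ : ZJ (P₂ : Subgroup G) = ZJ (P₁ : Subgroup G) := by
    apply hC
    have := Subgroup.card_le_of_le hXle
    omega
  have hf := fact_one hp2 hloc hD₁p hD₁1 R₁₀
  rw [← hR₁] at hf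
  have hcardR₁ : Nat.card R < Nat.card R₁ := lt_of_lt_of_le hcardX (Subgroup.card_le_of_le hXR₁)
  have hR₁1 : R₁ ≠ ⊥ := by
    intro h
    rw [h, Subgroup.card_bot] at hcardR₁
    have : 0 < Nat.card R := Nat.card_pos
    omega
  have hcardG : Nat.card R₁ ≤ Nat.card G := Subgroup.card_le_card_group R₁
  have h2 := ih (Nat.card G - Nat.card R₁) (by omega) R₁ hR₁p hR₁1 (by omega) rfl P₂ hR₁P₂
  rw [hZ] at h2
  exact hf.trans h2

/-- Claim C: Sylow subgroups meeting nontrivially have the same `Z(J)`. -/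
theorem claim_C (hp2 : p ≠ 2) (hloc : LocHyp p G) :
    ∀ k : ℕ, ∀ P P' : Sylow p G, Nat.card G - Nat.card ↥((P : Subgroup G) ⊓ P') = k →
      (P : Subgroup G) ⊓ P' ≠ ⊥ → ZJ (P : Subgroup G) = ZJ (P' : Subgroup G) := by
  intro k
  induction k using Nat.strong_induction_on with
  | _ k ih =>
  intro P P' hk hne
  set D := (P : Subgroup G) ⊓ P' with hD
  have hDp : IsPGroup p D := P.isPGroup'.to_le inf_le_left
  have hcardG : ∀ H : Subgroup G, Nat.card H ≤ Nat.card G := fun H => Subgroup.card_le_card_group H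
  -- the induction hypothesis in a convenient form
  have hC : ∀ P₁ P₂ : Sylow p G, Nat.card D < Nat.card ↥((P₁ : Subgroup G) ⊓ P₂) →
      ZJ (P₁ : Subgroup G) = ZJ (P₂ : Subgroup G) := by
    intro P₁ P₂ hlt
    have h1 := hcardG ((P₁ : Subgroup G) ⊓ P₂)
    have h2 := hcardG D
    apply ih (Nat.card G - Nat.card ↥((P₁ : Subgroup G) ⊓ P₂)) (by omega) P₁ P₂ rfl
    intro h
    rw [h, Subgroup.card_bot] at hlt
    have : 0 < Nat.card D := Nat.card_pos
    omega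
  by_cases hDP : D = (P : Subgroup G)
  · have h1 : (P : Subgroup G) ≤ P' := hDP ▸ inf_le_right
    have h2 : (P : Subgroup G) = P' := (P.is_maximal' P'.isPGroup' h1).symm
    rw [h2]
  by_cases hDP' : D = (P' : Subgroup G)
  · have h1 : (P' : Subgroup G) ≤ P := hDP' ▸ inf_le_left
    have h2 : (P' : Subgroup G) = P := (P'.is_maximal' P.isPGroup' h1).symm
    rw [h2]
  have hlt : D < (P : Subgroup G) := lt_of_le_of_ne inf_le_left hDP
  have hlt' : D < (P' : Subgroup G) := lt_of_le_of_ne inf_le_right hDP'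
  have hltX := Cfsg.Agent.Lib.Helper15.lt_inf_normalizer_of_lt (P : Subgroup G) D P.isPGroup' hlt
  have hltX' := Cfsg.Agent.Lib.Helper15.lt_inf_normalizer_of_lt (P' : Subgroup G) D P'.isPGroup' hlt'
  set N := normalizer (D : Set G) with hN
  set X := (P : Subgroup G) ⊓ N with hX
  set X' := (P' : Subgroup G) ⊓ N with hX'
  have hXp : IsPGroup p X := P.isPGroup'.to_le inf_le_left
  have hX'p : IsPGroup p X' := P'.isPGroup'.to_le inf_le_left
  have hcardX : Nat.card D < Nat.card X := by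
    by_contra hge
    push Not at hge
    exact hltX.ne (Subgroup.eq_of_le_of_card_ge hltX.le hge)
  have hcardX' : Nat.card D < Nat.card X' := by
    by_contra hge
    push Not at hge
    exact hltX'.ne (Subgroup.eq_of_le_of_card_ge hltX'.le hge)
  obtain ⟨R₀, hXR⟩ := exists_sylow_normalizer D X hXp inf_le_right
  set R := (R₀ : Subgroup ↥N).map N.subtype with hR
  have hRp : IsPGroup p R := R₀.isPGroup'.map _
  have hRN : R ≤ N := Subgroup.map_subtype_le _
  have hidx : ¬ p ∣ R.relIndex N := by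
    have h1 : R.subgroupOf N = (R₀ : Subgroup ↥N) :=
      Subgroup.comap_map_eq_self_of_injective N.subtype_injective _
    show ¬ p ∣ (R.subgroupOf N).index
    rw [h1]
    exact R₀.not_dvd_index
  obtain ⟨P₁, hRP₁⟩ := hRp.exists_le_sylow
  -- ZJ P₁ = ZJ P
  have hZ1 : ZJ (P₁ : Subgroup G) = ZJ (P : Subgroup G) := by
    apply hC
    have hle : X ≤ (P₁ : Subgroup G) ⊓ P := le_inf (hXR.trans hRP₁) inf_le_left
    have := Subgroup.card_le_of_le hle
    omega
  -- N ≤ N(ZJ P₁)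
  have hcardR : Nat.card D < Nat.card R := lt_of_lt_of_le hcardX (Subgroup.card_le_of_le hXR)
  have hR1 : R ≠ ⊥ := by
    intro h
    rw [h, Subgroup.card_bot] at hcardR
    have : 0 < Nat.card D := Nat.card_pos
    omega
  have hNle : N ≤ normalizer (ZJ (P₁ : Subgroup G) : Set G) := by
    have hf := fact_one hp2 hloc hDp hne R₀
    rw [← hR] at hf
    exact hf.trans (lemma_L hp2 hloc (Nat.card D) hC _ R hRp hR1 hcardR.le rfl P₁ hRP₁)
  -- conjugate X' into R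
  obtain ⟨c, hcN, hc⟩ := Cfsg.Agent.Lib.Helper17.exists_conj_le_of_not_dvd_relIndex N R X' hRp hidx hX'p
    inf_le_right
  have hX'le : X' ≤ ((c⁻¹ • P₁ : Sylow p G) : Subgroup G) := by
    intro b hb
    rw [Cfsg.Agent.Lib.Helper17.mem_smul_sylow_iff, inv_inv]
    exact hRP₁ (hc b hb)
  have hZ2 : ZJ ((c⁻¹ • P₁ : Sylow p G) : Subgroup G) = ZJ (P' : Subgroup G) := by
    apply hC
    have hle : X' ≤ ((c⁻¹ • P₁ : Sylow p G) : Subgroup G) ⊓ P' := le_inf hX'le inf_le_left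
    have := Subgroup.card_le_of_le hle
    omega
  have hZ3 : ZJ ((c⁻¹ • P₁ : Sylow p G) : Subgroup G) = ZJ (P₁ : Subgroup G) := by
    rw [Cfsg.Agent.Lib.Helper17.coe_smul_sylow_eq_map, ← ZJ_map]
    exact mem_normalizer_iff_map_conj_eq.mp (hNle (inv_mem hcN))
  rw [← hZ1, ← hZ3, hZ2]

/-- every `p`-local `N_G(Q)`, `1 ≠ Q ≤ P`, normalizes `Z(J(P))` -/
theorem normalizer_le_normalizer_ZJ_of_locHyp (hp2 : p ≠ 2) (hloc : LocHyp p G) (P : Sylow p G)
    (Q : Subgroup G) (hQP : Q ≤ (P : Subgroup G)) (hQ1 : Q ≠ ⊥) :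
    normalizer (Q : Set G) ≤ normalizer (ZJ (P : Subgroup G) : Set G) := by
  intro g hg
  have hQle : Q ≤ (P : Subgroup G) ⊓ ((g • P : Sylow p G) : Subgroup G) := by
    intro q hq
    refine Subgroup.mem_inf.mpr ⟨hQP hq, ?_⟩
    rw [Cfsg.Agent.Lib.Helper17.mem_smul_sylow_iff]
    apply hQP
    have h1 := (mem_normalizer_iff.mp (inv_mem hg) q).mp hq
    rwa [inv_inv] at h1
  have hne : (P : Subgroup G) ⊓ ((g • P : Sylow p G) : Subgroup G) ≠ ⊥ := by
    intro h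
    apply hQ1
    rw [eq_bot_iff, ← h]
    exact hQle
  have h1 := claim_C hp2 hloc _ P (g • P) rfl hne
  rw [Cfsg.Agent.Lib.Helper17.coe_smul_sylow_eq_map, ← ZJ_map] at h1
  exact mem_normalizer_iff_map_conj_eq.mpr h1.symm

end Cfsg.Agent.Lib.Lead.PLocalZJ
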