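import Mathlib
import Cfsg.Prelude.Def_Transfer
import Cfsg.Agent.Lib.Lead.OmegaOne
import Cfsg.Agent.Lib.Lead.NormalChain

/-! For odd `p`, a non-cyclic normal subgroup of a finite `p`-group contains a normal elementary abelian
subgroup of order `p²` (Huppert III.7.5). -/

set_option autoImplicit false

namespace Cfsg.Agent.Lib.Lead.NormalRankTwo

open Subgroup
open Cfsg.Agent.Lib.Lead.UniqueOrderP
open Cfsg.Agent.Lib.Lead.OmegaOne
open Cfsg.Agent.Lib.Lead.NormalChain

variable {R : Type*} [Group R]

theorem aux [Finite R] {p : ℕ} [hp : Fact p.Prime] (hp2 : p ≠ 2) (hR : IsPGroup p R) (n : ℕ) :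
    ∀ S : Subgroup R, S.Normal → Nat.card S = n → ¬ IsCyclic S →
      ∃ A : Subgroup R, A ≤ S ∧ A.Normal ∧ Cfsg.IsElementaryAbelian p A ∧ Nat.card A = p ^ 2 := by
  induction n using Nat.strong_induction_on with
  | _ n ih =>
    intro S hSn hSc hSnc
    haveI := hSn
    obtain ⟨k, hk⟩ := (hR.to_subgroup S).exists_card_eq
    have hk1 : 1 ≤ k := by
      by_contra h
      have h0 : k = 0 := by omega
      rw [h0, pow_zero] at hk
      apply hSnc
      haveI : Subsingleton S := (Nat.card_eq_one_iff_unique.mp hk).1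
      exact isCyclic_of_subsingleton
    obtain ⟨M, hMS, hMn, hMc⟩ := exists_normal_le_card hR S (k - 1)
      (by rw [hk]; exact pow_dvd_pow p (by omega))
    haveI := hMn
    by_cases hMcyc : IsCyclic M
    · -- `S` has a cyclic maximal subgroup
      have hCc : IsCyclic (M.subgroupOf S) := (Subgroup.subgroupOfEquivOfLe hMS).isCyclic.mpr hMcyc
      have hCi : (M.subgroupOf S).index = p := by
        have h1 := Subgroup.card_mul_index (M.subgroupOf S)
        rw [Nat.card_congr (Subgroup.subgroupOfEquivOfLe hMS).toEquiv, hMc, hk] at h1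
        obtain ⟨j, rfl⟩ : ∃ j, k = j + 1 := ⟨k - 1, by omega⟩
        rw [Nat.add_sub_cancel, pow_succ] at h1
        exact Nat.eq_of_mul_eq_mul_left (pow_pos hp.out.pos j) h1
      obtain ⟨⟨-, hEp⟩, hEcard⟩ :=
        omega_one_of_cyclic_index hp2 (hR.to_subgroup S) hSnc (M.subgroupOf S) hCc hCi
      set E' : Subgroup S := closure {x : S | x ^ p = 1} with hE'
      have hE'comm : ∀ x ∈ E', ∀ y ∈ E', x * y = y * x := by
        intro x hx y hy
        have hc : ∀ a b : E', a * b = b * a :=
          IsPGroup.commutative_of_card_eq_prime_sq hEcard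
        exact congrArg Subtype.val (hc ⟨x, hx⟩ ⟨y, hy⟩)
      refine ⟨E'.map S.subtype, map_subtype_le E', ?_, ⟨?_, ?_⟩, ?_⟩
      · -- normal
        have hmap : E'.map S.subtype = closure {y : R | y ∈ S ∧ y ^ p = 1} := by
          rw [hE', MonoidHom.map_closure]
          congr 1
          ext y
          constructor
          · rintro ⟨x, hx, rfl⟩
            refine ⟨x.2, ?_⟩
            have : x ^ p = 1 := hx
            exact congrArg Subtype.val this
          · rintro ⟨hyS, hyp⟩
            exact ⟨⟨y, hyS⟩, Subtype.ext hyp, rfl⟩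
        rw [hmap]
        apply closure_normal_of_conj_mem
        intro g s ⟨hsS, hsp⟩
        apply Subgroup.subset_closure
        refine ⟨hSn.conj_mem s hsS g, ?_⟩
        rw [conj_pow, hsp]; simp
      · refine ⟨⟨?_⟩⟩
        rintro ⟨a, ha⟩ ⟨b, hb⟩
        obtain ⟨x, hx, rfl⟩ := mem_map.mp ha
        obtain ⟨y, hy, rfl⟩ := mem_map.mp hb
        apply Subtype.ext
        change (x : R) * (y : R) = (y : R) * (x : R)
        exact congrArg Subtype.val (hE'comm x hx y hy)
      · intro a ha
        obtain ⟨x, hx, rfl⟩ := mem_map.mp ha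
        have := hEp x hx
        exact congrArg Subtype.val this
      · rw [Subgroup.card_map_of_injective S.subtype_injective, hEcard]
    · -- induction
      have hlt : Nat.card M < n := by
        rw [hMc, ← hSc, hk]
        exact Nat.pow_lt_pow_right hp.out.one_lt (by omega)
      obtain ⟨A, hAM, hAn, hAe, hAc⟩ := ih (Nat.card M) hlt M hMn rfl hMcyc
      exact ⟨A, hAM.trans hMS, hAn, hAe, hAc⟩

/-- **S0636** -/
theorem exists_normal_elementaryAbelian_sq [Finite R] {p : ℕ} [hp : Fact p.Prime] (hp2 : p ≠ 2)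
    (hR : IsPGroup p R) (S : Subgroup R) [hS : S.Normal] (hSnc : ¬ IsCyclic S) :
    ∃ A : Subgroup R, A ≤ S ∧ A.Normal ∧ Cfsg.IsElementaryAbelian p A ∧ Nat.card A = p ^ 2 :=
  aux hp2 hR (Nat.card S) S hS rfl hSnc

end Cfsg.Agent.Lib.Lead.NormalRankTwo
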