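import Mathlib
import Cfsg.Prelude.Def_Local
import Cfsg.Agent.Lib.Helper3.PSolvable

/-!
# Solvable finite groups are `p`-solvable (lead)
-/

set_option autoImplicit false

namespace Cfsg.Agent.Lib.Lead.PSolvOfSolv

open Subgroup Cfsg.Agent.Lib.Helper3
open scoped commutatorElement

universe u

/-- extension: `N ⊴ G` a `p`-group or `p'`-group and `G ⧸ N` `p`-solvable ⇒ `G` `p`-solvable -/
theorem isPSolvable_of_normal {G : Type u} [Group G] {p : ℕ} (N : Subgroup G) [hN : N.Normal]
    (hNp : IsPOrP' p (Nat.card N)) (hQ : Cfsg.IsPSolvable p (G ⧸ N)) : Cfsg.IsPSolvable p G := by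
  obtain ⟨n, H, h0, hlast, hmono, hnorm, hstep⟩ := hQ
  set π := QuotientGroup.mk' N with hπ
  have hsurj : Function.Surjective π := QuotientGroup.mk'_surjective N
  refine ⟨n + 1, Fin.cons (⊥ : Subgroup G) (fun i : Fin (n + 1) => (H i).comap π), ?_, ?_, ?_, ?_, ?_⟩
  · rw [Fin.cons_zero]
  · rw [← Fin.succ_last, Fin.cons_succ, hlast, comap_top]
  · rw [Fin.monotone_iff_le_succ]
    intro i
    induction i using Fin.cases with
    | zero =>
      rw [Fin.castSucc_zero, Fin.cons_zero]
      exact bot_le
    | succ j =>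
      rw [← Fin.succ_castSucc, Fin.cons_succ, Fin.cons_succ]
      exact comap_mono (hmono (Fin.castSucc_le_succ j))
  · intro i
    induction i using Fin.cases with
    | zero =>
      rw [Fin.cons_zero]
      infer_instance
    | succ j =>
      rw [Fin.cons_succ]
      exact (hnorm j).comap π
  · intro i
    induction i using Fin.cases with
    | zero =>
      rw [Fin.castSucc_zero, Fin.cons_zero, Fin.cons_succ, h0, relIndex_bot_left]
      have : (⊥ : Subgroup (G ⧸ N)).comap π = N := by
        rw [MonoidHom.comap_bot, hπ, QuotientGroup.ker_mk']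
      rw [this]
      exact hNp
    | succ j =>
      rw [← Fin.succ_castSucc, Fin.cons_succ, Fin.cons_succ, relIndex_comap,
        map_comap_eq_self_of_surjective hsurj]
      exact hstep j

theorem aux (p : ℕ) [hp : Fact p.Prime] : ∀ (n : ℕ) (G : Type u) [Group G] [Finite G],
    Nat.card G = n → Group.IsSolvable G → Cfsg.IsPSolvable p G := by
  intro n
  induction n using Nat.strong_induction_on with
  | _ n ih =>
  intro G _ _ hcard hsol
  by_cases htriv : Subsingleton G
  · refine ⟨0, fun _ => ⊥, rfl, ?_, fun _ _ _ => le_rfl, fun _ => inferInstance, fun i => i.elim0⟩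
    exact (Subsingleton.elim _ _)
  rw [not_subsingleton_iff_nontrivial] at htriv
  -- last nontrivial term of the derived series
  obtain ⟨k, hk⟩ := hsol.solvable
  classical
  have hex : ∃ k, derivedSeries G k = ⊥ := ⟨k, hk⟩
  set m := Nat.find hex with hm
  have hm1 : derivedSeries G m = ⊥ := Nat.find_spec hex
  have hm0 : m ≠ 0 := by
    intro h0
    rw [h0, derivedSeries_zero] at hm1
    exact top_ne_bot hm1
  obtain ⟨j, hj⟩ := Nat.exists_eq_succ_of_ne_zero hm0
  set A := derivedSeries G j with hA
  have hAne : A ≠ ⊥ := by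
    intro h
    have := Nat.find_min' hex h
    omega
  have hAA : ⁅A, A⁆ = ⊥ := by
    have hj' : m = j + 1 := hj
    rw [hA, ← derivedSeries_succ, ← hj']; exact hm1
  have hAc : ∀ a ∈ A, ∀ b ∈ A, a * b = b * a := by
    intro a ha b hb
    have h1 : ⁅a, b⁆ ∈ ⁅A, A⁆ := commutator_mem_commutator ha hb
    rw [hAA, mem_bot, commutatorElement_eq_one_iff_mul_comm] at h1
    exact h1
  haveI hAn : A.Normal := by rw [hA]; infer_instance
  -- a nontrivial normal subgroup which is a `p`-group or a `p'`-group
  obtain ⟨N, hNn, hNne, hNp⟩ : ∃ N : Subgroup G, N.Normal ∧ N ≠ ⊥ ∧ IsPOrP' p (Nat.card N) := by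
    by_cases hdvd : p ∣ Nat.card A
    · let T : Subgroup G :=
        { carrier := {a | a ∈ A ∧ a ^ p = 1}
          one_mem' := ⟨A.one_mem, one_pow _⟩
          mul_mem' := by
            rintro a b ⟨ha, ha1⟩ ⟨hb, hb1⟩
            refine ⟨A.mul_mem ha hb, ?_⟩
            rw [(show Commute a b from hAc a ha b hb).mul_pow, ha1, hb1, one_mul]
          inv_mem' := by
            rintro a ⟨ha, ha1⟩
            exact ⟨A.inv_mem ha, by rw [inv_pow, ha1, inv_one]⟩ }
      have hTn : T.Normal := ⟨by
        rintro a ⟨ha, ha1⟩ g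
        refine ⟨hAn.conj_mem a ha g, ?_⟩
        rw [conj_pow, ha1, mul_one, mul_inv_cancel]⟩
      have hTne : T ≠ ⊥ := by
        obtain ⟨a, ha⟩ := exists_prime_orderOf_dvd_card' (G := A) p hdvd
        intro hT
        have haT : (a : G) ∈ T := by
          refine ⟨a.2, ?_⟩
          have := pow_orderOf_eq_one a
          rw [ha] at this
          simpa using congrArg Subtype.val this
        rw [hT, mem_bot] at haT
        have : a = 1 := Subtype.ext haT
        rw [this, orderOf_one] at ha
        exact hp.out.one_lt.ne ha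
      have hTp : IsPGroup p T := by
        intro t
        refine ⟨1, Subtype.ext ?_⟩
        rw [pow_one, Subgroup.coe_pow, Subgroup.coe_one]
        exact t.2.2
      obtain ⟨e, he⟩ := hTp.exists_card_eq
      exact ⟨T, hTn, hTne, Or.inl ⟨e, he⟩⟩
    · exact ⟨A, hAn, hAne, Or.inr ((Nat.Prime.coprime_iff_not_dvd hp.out).mpr hdvd).symm⟩
  haveI := hNn
  have hlt : Nat.card (G ⧸ N) < n := by
    rw [← hcard, ← Subgroup.card_mul_index N, ← Subgroup.index_eq_card]
    have h1 : 1 < Nat.card N := by
      rw [Subgroup.one_lt_card_iff_ne_bot]; exact hNne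
    have h2 : 0 < N.index := Nat.pos_of_ne_zero (Subgroup.index_ne_zero_of_finite)
    nlinarith
  have hQ : Cfsg.IsPSolvable p (G ⧸ N) := ih _ hlt (G ⧸ N) rfl inferInstance
  exact isPSolvable_of_normal N hNp hQ

/-- a finite solvable group is `p`-solvable -/
theorem isPSolvable_of_isSolvable {G : Type u} [Group G] [Finite G] (p : ℕ) [Fact p.Prime]
    (hsol : Group.IsSolvable G) : Cfsg.IsPSolvable p G :=
  aux p _ G rfl hsol

end Cfsg.Agent.Lib.Lead.PSolvOfSolv
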