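import Mathlib
import Cfsg.Prelude.Def_PLocal
import Cfsg.Agent.S0622
import Cfsg.Agent.Lib.Helper16.PCore
import Cfsg.Agent.Lib.Lead.QuadStable

/-!
# The stable normal closure `W(S)` (Kurzweil–Stellmacher 9.4)

* `quad_of_elem`, `elem_of_quad`: elementwise form of quadratic action.
* `map_normal`: `W(S)^τ` is normal for every stable embedding `τ`.
* `quad_centralizes` (KS 9.4.2): elements of `S` acting quadratically on `W(S)` centralize it.
-/

set_option autoImplicit false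

namespace Cfsg.Agent.Lib.Lead.StableW

open Subgroup
open scoped commutatorElement
open Cfsg.Agent.Lib.Helper16
open Cfsg.Agent.Lib.Lead.QuadStable

universe u

section quad

variable {G : Type*} [Group G]

theorem comm_pow_of_comm {V : Subgroup G} {a : G} (h : ∀ v ∈ V, ⁅v, a⁆ * a = a * ⁅v, a⁆) :
    ∀ k : ℕ, ∀ v ∈ V, ⁅v, a ^ k⁆ * a = a * ⁅v, a ^ k⁆ := by
  intro k
  induction k with
  | zero => intro v _; simp
  | succ k ih =>
    intro v hv
    have h1 : ⁅v, a ^ (k + 1)⁆ = ⁅v, a⁆ * (a * ⁅v, a ^ k⁆ * a⁻¹) := by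
      rw [pow_succ']; simp only [commutatorElement_def]; group
    have h2 : a * ⁅v, a ^ k⁆ * a⁻¹ = ⁅v, a ^ k⁆ := by rw [← ih v hv]; group
    rw [h1, h2, mul_assoc, ih v hv, ← mul_assoc, h v hv, mul_assoc]

theorem quad_of_elem {V : Subgroup G} {a : G} (h : ∀ v ∈ V, ⁅⁅v, a⁆, a⁆ = 1) :
    ⁅⁅V, zpowers a⁆, zpowers a⁆ = ⊥ := by
  have hc : ∀ v ∈ V, ⁅v, a⁆ * a = a * ⁅v, a⁆ := fun v hv => by
    have := h v hv; rwa [commutatorElement_eq_one_iff_mul_comm] at this
  have hc' : ∀ v ∈ V, ⁅v, a⁻¹⁆ * a⁻¹ = a⁻¹ * ⁅v, a⁻¹⁆ := by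
    intro v hv
    have h1 : ⁅v, a⁻¹⁆ = a⁻¹ * ⁅v, a⁆⁻¹ * a := by simp only [commutatorElement_def]; group
    have h3 : ⁅v, a⁆⁻¹ * a = a * ⁅v, a⁆⁻¹ := by
      have : Commute ⁅v, a⁆ a := hc v hv
      exact this.inv_left.eq
    rw [h1]
    calc a⁻¹ * ⁅v, a⁆⁻¹ * a * a⁻¹ = a⁻¹ * (a⁻¹ * (a * ⁅v, a⁆⁻¹)) := by group
      _ = a⁻¹ * (a⁻¹ * (⁅v, a⁆⁻¹ * a)) := by rw [h3]
      _ = a⁻¹ * (a⁻¹ * ⁅v, a⁆⁻¹ * a) := by group
  rw [commutator_eq_bot_iff_le_centralizer, commutator_le]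
  intro v hv z hz
  obtain ⟨k, rfl⟩ := mem_zpowers_iff.mp hz
  rw [mem_centralizer_iff]
  intro y hy
  obtain ⟨j, rfl⟩ := mem_zpowers_iff.mp hy
  have key : Commute ⁅v, a ^ k⁆ a := by
    rcases Int.eq_nat_or_neg k with ⟨n, rfl | rfl⟩
    · rw [zpow_natCast]; exact comm_pow_of_comm hc n v hv
    · rw [zpow_neg, zpow_natCast, ← inv_pow]
      have h5 : Commute ⁅v, a⁻¹ ^ n⁆ a⁻¹ := comm_pow_of_comm hc' n v hv
      have := h5.inv_right
      rwa [inv_inv] at this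
  exact (key.zpow_right j).eq.symm

theorem elem_of_quad {V : Subgroup G} {a : G} (h : ⁅⁅V, zpowers a⁆, zpowers a⁆ = ⊥) :
    ∀ v ∈ V, ⁅⁅v, a⁆, a⁆ = 1 := by
  intro v hv
  have h1 : ⁅⁅v, a⁆, a⁆ ∈ ⁅⁅V, zpowers a⁆, zpowers a⁆ :=
    commutator_mem_commutator (commutator_mem_commutator hv (mem_zpowers a)) (mem_zpowers a)
  rw [h] at h1; exact mem_bot.mp h1

end quad

variable {S : Type u} [Group S] {p : ℕ}

theorem le_thompson [Finite S] [Fact p.Prime] (hS : IsPGroup p S) :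
    Cfsg.stableNormalClosure p S ≤ Cfsg.thompsonSubgroup p S := by
  refine (Cfsg.Agent.S0622.result hS).2.2.1.trans ?_
  unfold Cfsg.omegaCenterThompson Cfsg.omegaOne
  rw [closure_le]
  intro x hx
  exact (mem_inf.mp hx.1).1

theorem map_normal [Finite S] [Fact p.Prime] (hS : IsPGroup p S) {H : Type u} [Group H] (τ : S →* H)
    (hτ : Cfsg.IsStableEmbedding p τ) : ((Cfsg.stableNormalClosure p S).map τ).Normal := by
  have hτ' := hτ
  obtain ⟨hinj, hfin, hP, hcent, hJ, hst⟩ := hτ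
  have hWJ := le_thompson (p := p) hS
  constructor
  intro n hn h
  obtain ⟨w, hw, rfl⟩ := hn
  have h1 : h * τ w * h⁻¹ ∈ (Cfsg.thompsonSubgroup p S).map τ :=
    hJ.conj_mem _ (mem_map_of_mem τ (hWJ hw)) h
  obtain ⟨b, hb, hbe⟩ := h1
  refine ⟨b, ?_, hbe⟩
  unfold Cfsg.stableNormalClosure
  rw [SetLike.mem_coe, mem_sInf]
  intro W' hW'
  have hwW' : w ∈ W' := (sInf_le hW' : Cfsg.stableNormalClosure p S ≤ W') hw
  have h2 : h * τ w * h⁻¹ ∈ W'.map τ := (hW'.2 H τ hτ').conj_mem _ (mem_map_of_mem τ hwW') h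
  obtain ⟨w', hw', hwe⟩ := h2
  have : w' = b := hinj (hwe.trans hbe.symm)
  rwa [← this]

/-- **KS 9.4.2**: quadratic action on `W(S)` is trivial. -/
theorem quad_centralizes [Finite S] [hp : Fact p.Prime] (hS : IsPGroup p S) :
    ∀ y : S, (∀ w ∈ Cfsg.stableNormalClosure p S, ⁅⁅w, y⁆, y⁆ = 1) →
      ∀ w ∈ Cfsg.stableNormalClosure p S, w * y = y * w := by
  classical
  set W := Cfsg.stableNormalClosure p S with hW
  let Y : Set S := {y | ∀ w ∈ W, ⁅⁅w, y⁆, y⁆ = 1}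
  let W0 : Subgroup S := W ⊓ centralizer Y
  have hmem : W0 ∈ {W' : Subgroup S | Cfsg.omegaOne p (center S) ≤ W' ∧
      ∀ (H : Type u) [Group H] (τ : S →* H), Cfsg.IsStableEmbedding p τ → (W'.map τ).Normal} := by
    refine ⟨?_, ?_⟩
    · apply le_inf (Cfsg.Agent.S0622.result hS).2.1
      have : Cfsg.omegaOne p (center S) ≤ center S := by
        unfold Cfsg.omegaOne; rw [closure_le]; intro x hx; exact hx.1
      exact this.trans (center_le_centralizer _)
    · intro H _ τ hτ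
      have hτ' := hτ
      obtain ⟨hinj, hfin, ⟨P, hP⟩, hcent, hJ, hst⟩ := hτ
      have := hfin
      set V := W.map τ with hV
      have hVn : V.Normal := map_normal hS τ hτ'
      have hVle : V ≤ (Cfsg.omegaCenterThompson p S).map τ :=
        map_mono (Cfsg.Agent.S0622.result hS).2.2.1
      have hstV : Cfsg.IsPStableOn p V := hst V hVle
      set C := centralizer (V : Set H) with hC
      have hCn : C.Normal := inferInstance
      have key : ∀ a : H, (∀ v ∈ V, ⁅⁅v, a⁆, a⁆ = 1) → ∃ y ∈ Y, ∃ c ∈ C, a = τ y * c := by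
        intro a ha
        have h1 := hstV a (quad_of_elem ha)
        have hsurj : Function.Surjective (QuotientGroup.mk' C) := QuotientGroup.mk'_surjective C
        have h2 : Cfsg.pCore p (H ⧸ C) ≤ (P.mapSurjective hsurj : Sylow p (H ⧸ C)) :=
          pCore_le_sylow _
        have h3 := h2 h1
        rw [Sylow.coe_mapSurjective] at h3
        obtain ⟨s, hs, hse⟩ := h3
        rw [hP] at hs
        obtain ⟨y, rfl⟩ := hs
        have h4 : (τ y)⁻¹ * a ∈ C := QuotientGroup.eq.mp hse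
        refine ⟨y, ?_, (τ y)⁻¹ * a, h4, by group⟩
        intro w hw
        have h5 : ∀ v ∈ V, ⁅v, τ y⁆ = ⁅v, a⁆ := comm_eq_of_mul_centralizer h4 (by group)
        have hv : τ w ∈ V := mem_map_of_mem τ hw
        have hu : ⁅τ w, a⁆ ∈ V := by
          have : ⁅τ w, a⁆ = τ w * (a * (τ w)⁻¹ * a⁻¹) := by
            simp only [commutatorElement_def]; group
          rw [this]
          exact V.mul_mem hv (hVn.conj_mem _ (V.inv_mem hv) a)
        have h6 : ⁅⁅τ w, τ y⁆, τ y⁆ = 1 := by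
          rw [h5 _ hv, h5 _ hu]; exact ha _ hv
        apply hinj
        rw [map_commutatorElement, map_commutatorElement, map_one]; exact h6
      constructor
      intro n hn h
      obtain ⟨w, hw, rfl⟩ := hn
      obtain ⟨hwW, hwY⟩ := mem_inf.mp hw
      have h1 : h * τ w * h⁻¹ ∈ V := hVn.conj_mem _ (mem_map_of_mem τ hwW) h
      obtain ⟨w', hw', hwe⟩ := h1
      refine ⟨w', mem_inf.mpr ⟨hw', ?_⟩, hwe⟩
      rw [mem_centralizer_iff]
      intro y hy
      apply hinj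
      rw [map_mul, map_mul, hwe]
      have hq : ∀ v ∈ V, ⁅⁅v, τ y⁆, τ y⁆ = 1 := by
        rintro v ⟨w1, hw1, rfl⟩
        rw [← map_commutatorElement, ← map_commutatorElement, hy w1 hw1, map_one]
      have hq' := quad_conj hq h⁻¹
      obtain ⟨y', hy', c, hc, hac⟩ := key _ hq'
      have e1 : τ y' * τ w = τ w * τ y' := by
        rw [← map_mul, ← map_mul]; congr 1
        exact mem_centralizer_iff.mp hwY y' hy'
      have e2 : c * τ w = τ w * c :=
        (mem_centralizer_iff.mp hc (τ w) (mem_map_of_mem τ hwW)).symm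
      have e3 : (h⁻¹ * τ y * h⁻¹⁻¹) * τ w = τ w * (h⁻¹ * τ y * h⁻¹⁻¹) := by
        rw [hac, mul_assoc, e2, ← mul_assoc, e1, mul_assoc]
      calc τ y * (h * τ w * h⁻¹) = h * ((h⁻¹ * τ y * h⁻¹⁻¹) * τ w) * h⁻¹ := by group
        _ = h * (τ w * (h⁻¹ * τ y * h⁻¹⁻¹)) * h⁻¹ := by rw [e3]
        _ = (h * τ w * h⁻¹) * τ y := by group
  have hle : W ≤ W0 := sInf_le hmem
  intro y hy w hw
  have := (mem_inf.mp (hle hw)).2
  rw [mem_centralizer_iff] at this
  exact (this y hy).symm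

end Cfsg.Agent.Lib.Lead.StableW
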