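import Mathlib
import Cfsg.Prelude.Def_PLocal
import Cfsg.Agent.Lib.Lead.StableW
import Cfsg.Agent.Lib.Lead.ThompsonRepl
import Cfsg.Agent.Lib.Lead.GlaubermanZJE
import Cfsg.Agent.Lib.Helper16.SylowNormal
import Cfsg.Agent.Lib.Helper17.ThompsonOf

/-!
# Normality of `W(S)` (Kurzweil–Stellmacher 9.4.4), abstract core

`Wof p S` is `W(S)` viewed inside the ambient group.  `Wof_normal_core`: if `W(S) ≤ O_p(G)`, `G` is
`p`-stable on its normal elementary abelian `p`-subgroups and `N_G(J(S))` normalizes `W(S)`, then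
`W(S)` is normal in `G`.
-/

set_option autoImplicit false

namespace Cfsg.Agent.Lib.Lead.StableWNormal

open Subgroup
open scoped commutatorElement
open Cfsg.Agent.Lib.Helper16 Cfsg.Agent.Lib.Helper17
open Cfsg.Agent.Lib.Lead.QuadStable Cfsg.Agent.Lib.Lead.StableW
open Cfsg.Agent.Lib.Lead.GlaubermanReplE Cfsg.Agent.Lib.Lead.GlaubermanZJE

universe u

variable {G : Type u} [Group G] {p : ℕ}

/-- `W(S)` inside `G` -/
def Wof (p : ℕ) (S : Subgroup G) : Subgroup G := (Cfsg.stableNormalClosure p ↥S).map S.subtype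

theorem Wof_le (S : Subgroup G) : Wof p S ≤ S := map_subtype_le _

section basic

variable [Finite G] [hp : Fact p.Prime]

theorem Wof_le_WE {S : Subgroup G} (hS : IsPGroup p S) : Wof p S ≤ WE p S := by
  rw [← omegaCenterThompson_map_eq]
  exact map_mono (Cfsg.Agent.S0622.result hS).2.2.1

theorem Wof_comm {S : Subgroup G} (hS : IsPGroup p S) :
    ∀ a ∈ Wof p S, ∀ b ∈ Wof p S, a * b = b * a :=
  fun a ha b hb => WE_comm S a (Wof_le_WE hS ha) b (Wof_le_WE hS hb)

theorem Wof_exp {S : Subgroup G} (hS : IsPGroup p S) : ∀ a ∈ Wof p S, a ^ p = 1 :=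
  fun a ha => (mem_WE.mp (Wof_le_WE hS ha)).2

theorem Wof_conj {S : Subgroup G} (hS : IsPGroup p S) {s : G} (hs : s ∈ S) {w : G}
    (hw : w ∈ Wof p S) : s * w * s⁻¹ ∈ Wof p S := by
  obtain ⟨w0, hw0, rfl⟩ := hw
  have hchar : (Cfsg.stableNormalClosure p ↥S).Characteristic := (Cfsg.Agent.S0622.result hS).1
  have hn : (Cfsg.stableNormalClosure p ↥S).Normal := inferInstance
  have := hn.conj_mem w0 hw0 ⟨s, hs⟩
  exact ⟨_, this, by simp⟩

theorem Wof_quad_centralizes {S : Subgroup G} (hS : IsPGroup p S) {x : G} (hx : x ∈ S)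
    (hq : ∀ w ∈ Wof p S, ⁅⁅w, x⁆, x⁆ = 1) : ∀ w ∈ Wof p S, w * x = x * w := by
  have h1 := quad_centralizes hS (⟨x, hx⟩ : ↥S) (by
    intro w hw
    apply Subtype.ext
    have := hq (w : G) ⟨w, hw, rfl⟩
    simpa [commutatorElement_def] using this)
  rintro w ⟨w0, hw0, rfl⟩
  have := congrArg Subtype.val (h1 w0 hw0)
  simpa using this

/-- the normal closure of `W(S)` is elementary abelian when `W(S) ≤ O_p(G)` -/
theorem normalClosure_elemAb (S : Sylow p G) (hWQ : Wof p (S : Subgroup G) ≤ Cfsg.pCore p G) :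
    (∀ a ∈ normalClosure (Wof p (S : Subgroup G) : Set G),
      ∀ b ∈ normalClosure (Wof p (S : Subgroup G) : Set G), a * b = b * a) ∧
    ∀ a ∈ normalClosure (Wof p (S : Subgroup G) : Set G), a ^ p = 1 := by
  classical
  set W := Wof p (S : Subgroup G) with hW
  set Q := Cfsg.pCore p G with hQ
  have hQn : Q.Normal := Cfsg.Agent.Lib.Helper16.pCore_normal p G
  have hQS : Q ≤ S := pCore_le_sylow S
  have hSp : IsPGroup p (S : Subgroup G) := S.isPGroup'
  have hWc := Wof_comm (p := p) hSp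
  -- step A
  have stepA : ∀ g : G, ∀ w ∈ W, ∀ w' ∈ W, (g * w * g⁻¹) * w' = w' * (g * w * g⁻¹) := by
    intro g w hw w' hw'
    have hxS : g * w * g⁻¹ ∈ (S : Subgroup G) := hQS (hQn.conj_mem w (hWQ hw) g)
    have hq : ∀ v ∈ W, ⁅⁅v, g * w * g⁻¹⁆, g * w * g⁻¹⁆ = 1 := by
      intro v hv
      have hs : g⁻¹ * v * g⁻¹⁻¹ ∈ (S : Subgroup G) := hQS (hQn.conj_mem v (hWQ hv) g⁻¹)
      have hw1 : (g⁻¹ * v * g⁻¹⁻¹) * w * (g⁻¹ * v * g⁻¹⁻¹)⁻¹ ∈ W := Wof_conj hSp hs hw
      set w1 := (g⁻¹ * v * g⁻¹⁻¹) * w * (g⁻¹ * v * g⁻¹⁻¹)⁻¹ with hw1def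
      have e1 : ⁅v, g * w * g⁻¹⁆ = g * (w1 * w⁻¹) * g⁻¹ := by
        rw [hw1def]; simp only [commutatorElement_def]; group
      rw [e1, commutatorElement_eq_one_iff_mul_comm]
      have e2 : (w1 * w⁻¹) * w = w * (w1 * w⁻¹) :=
        (hWc w hw _ (W.mul_mem hw1 (W.inv_mem hw))).symm
      calc g * (w1 * w⁻¹) * g⁻¹ * (g * w * g⁻¹) = g * ((w1 * w⁻¹) * w) * g⁻¹ := by group
        _ = g * (w * (w1 * w⁻¹)) * g⁻¹ := by rw [e2]
        _ = g * w * g⁻¹ * (g * (w1 * w⁻¹) * g⁻¹) := by group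
    exact (Wof_quad_centralizes hSp hxS hq w' hw').symm
  -- generators
  set X : Set G := Group.conjugatesOfSet (W : Set G) with hX
  have hgen : ∀ y ∈ X, ∃ g : G, ∃ w ∈ W, y = g * w * g⁻¹ := by
    intro y hy
    rw [hX, Group.mem_conjugatesOfSet_iff] at hy
    obtain ⟨w, hw, hc⟩ := hy
    obtain ⟨g, hg⟩ := isConj_iff.mp hc
    exact ⟨g, w, hw, hg.symm⟩
  have hpair : ∀ y ∈ X, ∀ z ∈ X, y * z = z * y := by
    intro y hy z hz
    obtain ⟨g₁, w₁, hw₁, rfl⟩ := hgen y hy
    obtain ⟨g₂, w₂, hw₂, rfl⟩ := hgen z hz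
    have := stepA (g₂⁻¹ * g₁) w₁ hw₁ w₂ hw₂
    calc g₁ * w₁ * g₁⁻¹ * (g₂ * w₂ * g₂⁻¹)
        = g₂ * ((g₂⁻¹ * g₁) * w₁ * (g₂⁻¹ * g₁)⁻¹ * w₂) * g₂⁻¹ := by group
      _ = g₂ * (w₂ * ((g₂⁻¹ * g₁) * w₁ * (g₂⁻¹ * g₁)⁻¹)) * g₂⁻¹ := by rw [this]
      _ = g₂ * w₂ * g₂⁻¹ * (g₁ * w₁ * g₁⁻¹) := by group
  have hNdef : normalClosure (W : Set G) = closure X := rfl
  rw [hNdef]
  have h1 : closure X ≤ centralizer X := (closure_le _).mpr
    (fun y hy => mem_centralizer_iff.mpr (fun z hz => hpair z hz y hy))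
  have hcomm : ∀ a ∈ closure X, ∀ b ∈ closure X, a * b = b * a := by
    have h2 : closure X ≤ centralizer (closure X : Set G) := (closure_le _).mpr
      (fun y hy => mem_centralizer_iff.mpr
        (fun n hn => ((mem_centralizer_iff.mp (h1 hn)) y hy).symm))
    intro a ha b hb
    exact (mem_centralizer_iff.mp (h2 hb) a ha)
  refine ⟨hcomm, ?_⟩
  let T : Subgroup G :=
    { carrier := {u | u ∈ closure X ∧ u ^ p = 1}
      one_mem' := ⟨one_mem _, one_pow _⟩
      mul_mem' := by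
        rintro a b ⟨ha, ha1⟩ ⟨hb, hb1⟩
        refine ⟨mul_mem ha hb, ?_⟩
        have hc : Commute a b := hcomm a ha b hb
        rw [hc.mul_pow, ha1, hb1, one_mul]
      inv_mem' := by
        rintro a ⟨ha, ha1⟩
        exact ⟨inv_mem ha, by rw [inv_pow, ha1, inv_one]⟩ }
  have hXT : closure X ≤ T := (closure_le _).mpr (by
    intro y hy
    obtain ⟨g, w, hw, rfl⟩ := hgen y hy
    refine ⟨subset_closure hy, ?_⟩
    rw [conj_pow, Wof_exp hSp w hw]; group)
  intro a ha
  exact (hXT ha).2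

/-- **KS 9.4.4, abstract core.** -/
theorem Wof_normal_core (S : Sylow p G)
    (hWQ : Wof p (S : Subgroup G) ≤ Cfsg.pCore p G)
    (hst : ∀ (V : Subgroup G) [V.Normal], Cfsg.IsElementaryAbelian p V → Cfsg.IsPStableOn p V)
    (hL : normalizer (Cfsg.thompsonSubgroupOf p (S : Subgroup G) : Set G) ≤
      normalizer (Wof p (S : Subgroup G) : Set G)) :
    (Wof p (S : Subgroup G)).Normal := by
  classical
  set W := Wof p (S : Subgroup G) with hW
  set Q := Cfsg.pCore p G with hQ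
  have hQn : Q.Normal := Cfsg.Agent.Lib.Helper16.pCore_normal p G
  have hQS : Q ≤ S := pCore_le_sylow S
  have hSp : IsPGroup p (S : Subgroup G) := S.isPGroup'
  set N := normalClosure (W : Set G) with hN
  have hNn : N.Normal := normalClosure_normal
  have hNea := normalClosure_elemAb S hWQ
  rw [← hW, ← hN] at hNea
  have hWN : W ≤ N := le_normalClosure
  have hNQ : N ≤ Q := normalClosure_le_normal hWQ
  have hNS : N ≤ S := hNQ.trans hQS
  have hstN : Cfsg.IsPStableOn p N := hst N ((isElementaryAbelian_iff N).mpr hNea)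
  set C := centralizer (N : Set G) with hC
  have hCn : C.Normal := inferInstance
  -- F7
  have hsc : ∀ x : G, (∀ n ∈ N, ⁅⁅n, x⁆, x⁆ = 1) →
      ∃ s ∈ (S : Subgroup G), ∃ c ∈ C, x = s * c ∧ ∀ w ∈ W, w * s = s * w := by
    intro x hx
    have h1 := hstN x (quad_of_elem hx)
    have hsurj : Function.Surjective (QuotientGroup.mk' C) := QuotientGroup.mk'_surjective C
    have h2 : Cfsg.pCore p (G ⧸ C) ≤ (S.mapSurjective hsurj : Sylow p (G ⧸ C)) :=
      pCore_le_sylow _
    have h3 := h2 h1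
    rw [Sylow.coe_mapSurjective] at h3
    obtain ⟨s, hs, hse⟩ := h3
    have h4 : s⁻¹ * x ∈ C := QuotientGroup.eq.mp hse
    refine ⟨s, hs, s⁻¹ * x, h4, by group, ?_⟩
    have h5 : ∀ v ∈ N, ⁅v, s⁆ = ⁅v, x⁆ := comm_eq_of_mul_centralizer h4 (by group)
    apply Wof_quad_centralizes hSp hs
    intro w hw
    have hv : w ∈ N := hWN hw
    have hu : ⁅w, x⁆ ∈ N := by
      have : ⁅w, x⁆ = w * (x * w⁻¹ * x⁻¹) := by
        simp only [commutatorElement_def]; group
      rw [this]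
      exact N.mul_mem hv (hNn.conj_mem _ (N.inv_mem hv) x)
    rw [h5 _ hv, h5 _ hu]; exact hx _ hv
  have hquadC : ∀ x : G, (∀ n ∈ N, ⁅⁅n, x⁆, x⁆ = 1) → x ∈ C := by
    intro x hx
    have hle : N ≤ centralizer ({x} : Set G) := by
      rw [hN]
      change closure (Group.conjugatesOfSet (W : Set G)) ≤ _
      rw [closure_le]
      intro y hy
      rw [Group.mem_conjugatesOfSet_iff] at hy
      obtain ⟨w, hw, hc⟩ := hy
      obtain ⟨g, hg⟩ := isConj_iff.mp hc
      rw [SetLike.mem_coe, mem_centralizer_iff]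
      intro z hz
      rw [Set.mem_singleton_iff] at hz
      subst hz
      have hq' := quad_conj hx g⁻¹
      obtain ⟨s, hs, c, hc', hxe, hsw⟩ := hsc _ hq'
      have e1 : w * s = s * w := hsw w hw
      have e2 : c * w = w * c := (mem_centralizer_iff.mp hc' w (hWN hw)).symm
      have e3 : (g⁻¹ * z * g⁻¹⁻¹) * w = w * (g⁻¹ * z * g⁻¹⁻¹) := by
        rw [hxe, mul_assoc, e2, ← mul_assoc, ← e1, mul_assoc]
      rw [← hg]
      calc z * (g * w * g⁻¹) = g * ((g⁻¹ * z * g⁻¹⁻¹) * w) * g⁻¹ := by group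
        _ = g * (w * (g⁻¹ * z * g⁻¹⁻¹)) * g⁻¹ := by rw [e3]
        _ = g * w * g⁻¹ * z := by group
    rw [hC, mem_centralizer_iff]
    intro n hn
    exact (mem_centralizer_iff.mp (hle hn) x rfl).symm
  -- F8
  have hAC : ∀ A ∈ maxEIn p (S : Subgroup G), A ≤ C := by
    intro A hA
    by_contra hcon
    have hA' : A ∈ maxEAIn p (S : Subgroup G) := by rw [maxEAIn_eq]; exact hA
    have hA'' := subgroupOf_mem_maxEA_of_mem_maxEAIn (S : Subgroup G) hA'
    have hV'n : (N.subgroupOf (S : Subgroup G)).Normal := hNn.subgroupOf _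
    have hV'ea : Cfsg.IsElementaryAbelian p (N.subgroupOf (S : Subgroup G)) :=
      ea_subgroupOf _ ((isElementaryAbelian_iff N).mpr hNea)
    obtain ⟨-, hquad, hne⟩ := Cfsg.Agent.Lib.Lead.ThompsonRepl.thompson_replacement
      (N.subgroupOf (S : Subgroup G)) hV'ea (A.subgroupOf (S : Subgroup G)) hA''
    set V' := N.subgroupOf (S : Subgroup G) with hV'
    set A' := A.subgroupOf (S : Subgroup G) with hA'def
    set Astar := ⁅V', A'⁆ ⊔ (A' ⊓ centralizer ((⁅V', A'⁆ : Subgroup ↥(S : Subgroup G)) : Set _))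
      with hAstar
    have hne1 : ⁅V', A'⁆ ≠ ⊥ := by
      intro h0
      apply hcon
      rw [commutator_eq_bot_iff_le_centralizer] at h0
      intro a ha
      rw [hC, mem_centralizer_iff]
      intro n hn
      have hv : (⟨n, hNS hn⟩ : ↥(S : Subgroup G)) ∈ V' := by
        rw [hV', mem_subgroupOf]; exact hn
      have ha' : (⟨a, hA.1 ha⟩ : ↥(S : Subgroup G)) ∈ A' := by
        rw [hA'def, mem_subgroupOf]; exact ha
      have := mem_centralizer_iff.mp (h0 hv) _ ha'
      have := congrArg Subtype.val this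
      simpa using this.symm
    apply hne hne1
    rw [commutator_eq_bot_iff_le_centralizer]
    intro v hv
    rw [mem_centralizer_iff]
    intro a ha
    have haq : ∀ n ∈ N, ⁅⁅n, (a : G)⁆, (a : G)⁆ = 1 := by
      intro n hn
      have hv' : (⟨n, hNS hn⟩ : ↥(S : Subgroup G)) ∈ V' := by
        rw [hV', mem_subgroupOf]; exact hn
      have h1 : ⁅⁅(⟨n, hNS hn⟩ : ↥(S : Subgroup G)), a⁆, a⁆ ∈ ⁅⁅V', Astar⁆, Astar⁆ :=
        commutator_mem_commutator (commutator_mem_commutator hv' ha) ha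
      rw [hquad, mem_bot] at h1
      have := congrArg Subtype.val h1
      simpa [commutatorElement_def] using this
    have haC := hquadC _ haq
    rw [hC, mem_centralizer_iff] at haC
    have hvN : (v : G) ∈ N := by rw [hV', mem_subgroupOf] at hv; exact hv
    apply Subtype.ext
    have := haC _ hvN
    simpa using this.symm
  have hJC : Cfsg.thompsonSubgroupOf p (S : Subgroup G) ≤ C := by
    rw [thompsonSubgroupOf_eq_JE]
    exact sSup_le hAC
  -- Frattini
  obtain ⟨R, hR⟩ := exists_sylow_subgroupOf_normal S C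
  have hfr := Sylow.normalizer_sup_eq_top R
  have hRmap : (R : Subgroup ↥C).map C.subtype = (S : Subgroup G) ⊓ C := by
    rw [hR]; exact subgroupOf_map_subtype _ _
  rw [hRmap] at hfr
  have hJeq : Cfsg.thompsonSubgroupOf p ((S : Subgroup G) ⊓ C) =
      Cfsg.thompsonSubgroupOf p (S : Subgroup G) :=
    thompsonSubgroupOf_eq_of_le inf_le_left (le_inf (thompsonSubgroupOf_le_self _) hJC)
  have hn1 : normalizer (((S : Subgroup G) ⊓ C : Subgroup G) : Set G) ≤ normalizer (W : Set G) := by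
    refine le_trans ?_ hL
    rw [← hJeq]
    exact normalizer_le_normalizer_thompsonSubgroupOf _
  have hn2 : C ≤ normalizer (W : Set G) := by
    intro c hc
    rw [mem_normalizer_iff]
    intro w
    have key : ∀ w ∈ W, c * w * c⁻¹ = w := by
      intro w hw
      have := mem_centralizer_iff.mp hc w (hWN hw)
      rw [← this]; group
    constructor
    · intro hw; rw [key w hw]; exact hw
    · intro hw
      have h1 := key _ hw
      have : w = c⁻¹ * (c * w * c⁻¹) * c := by group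
      rw [this]
      have h2 : c⁻¹ * (c * w * c⁻¹) * c = c * w * c⁻¹ := by
        have := mem_centralizer_iff.mp hc _ (hWN hw)
        calc c⁻¹ * (c * w * c⁻¹) * c = c⁻¹ * ((c * w * c⁻¹) * c) := by group
          _ = c⁻¹ * (c * (c * w * c⁻¹)) := by rw [this]
          _ = c * w * c⁻¹ := by group
      rw [h2]; exact hw
  have htop : normalizer (W : Set G) = ⊤ := by
    rw [eq_top_iff, ← hfr]
    exact sup_le hn1 hn2
  exact normalizer_eq_top_iff.mp htop

end basic

end Cfsg.Agent.Lib.Lead.StableWNormal
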