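import Mathlib
import Cfsg.Agent.Lib.Lead.MaxClass

/-! Suzuki: a `p`-group with a self-centralizing subgroup of order `p ^ 2` is of maximal class. -/

set_option autoImplicit false

namespace Cfsg.Agent.Lib.Lead.SuzukiMaxClass

open Subgroup
open Cfsg.Agent.Lib.Lead.NormalChain
open Cfsg.Agent.Lib.Lead.MaxClass

universe u

/-- centralizers do not grow in the central quotient -/
theorem card_centralizer_quotient_center_le {X : Type u} [Group X] [Finite X] (a : X) :
    Nat.card (centralizer {(QuotientGroup.mk' (center X)) a}) ≤ Nat.card (centralizer {a}) := by
  set π := QuotientGroup.mk' (center X) with hπ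
  set M := (centralizer {π a}).comap π with hM
  have hMmem : ∀ x : X, x ∈ M → x * a * x⁻¹ * a⁻¹ ∈ center X := by
    intro x hx
    rw [hM, mem_comap, mem_centralizer_singleton_iff] at hx
    rw [← QuotientGroup.eq_one_iff, ← QuotientGroup.mk'_apply, ← hπ]
    rw [map_mul, map_mul, map_mul, map_inv, map_inv, hx]
    group
  let φ : M →* center X := MonoidHom.mk' (fun x => ⟨x.1 * a * x.1⁻¹ * a⁻¹, hMmem x.1 x.2⟩) (by
    intro x y
    apply Subtype.ext
    have hc := hMmem y.1 y.2
    rw [mem_center_iff] at hc
    show (x.1 * y.1) * a * (x.1 * y.1)⁻¹ * a⁻¹ = (x.1 * a * x.1⁻¹ * a⁻¹) * (y.1 * a * y.1⁻¹ * a⁻¹)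
    have h1 : (x.1 * y.1) * a * (x.1 * y.1)⁻¹ * a⁻¹
        = x.1 * (y.1 * a * y.1⁻¹ * a⁻¹) * a * x.1⁻¹ * a⁻¹ := by group
    rw [h1, hc x.1]
    have h2 := hc (x.1 * a * x.1⁻¹ * a⁻¹)
    rw [h2]
    group)
  have hker : Nat.card φ.ker ≤ Nat.card (centralizer {a}) := by
    apply Nat.card_le_card_of_injective
      (fun x : φ.ker => (⟨x.1.1, by
        have hx := x.2
        rw [MonoidHom.mem_ker] at hx
        have hx' : x.1.1 * a * x.1.1⁻¹ * a⁻¹ = 1 := congrArg Subtype.val hx
        rw [mem_centralizer_singleton_iff]
        have : x.1.1 * a = a * x.1.1 := by
          have h3 : x.1.1 * a = (x.1.1 * a * x.1.1⁻¹ * a⁻¹) * a * x.1.1 := by group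
          rw [h3, hx', one_mul]
        exact this⟩ : centralizer {a}))
    intro x y hxy
    apply Subtype.ext
    apply Subtype.ext
    have := congrArg Subtype.val hxy
    exact this
  have hrange : φ.ker.index ≤ Nat.card (center X) := by
    rw [Subgroup.index_ker]
    exact Subgroup.card_le_card_group _
  have h1 := Subgroup.card_mul_index φ.ker
  have h2 : Nat.card M = Nat.card (center X) * Nat.card (centralizer {π a}) := by
    rw [hM]
    exact card_comap_mk' (center X) _
  have h3 : Nat.card (center X) * Nat.card (centralizer {π a})
      ≤ Nat.card (center X) * Nat.card (centralizer {a}) := by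
    rw [← h2, ← h1, mul_comm]
    exact Nat.mul_le_mul hrange hker
  exact Nat.le_of_mul_le_mul_left h3 Nat.card_pos

/-- Suzuki: a `p`-group with a self-centralizing subgroup of order `p ^ 2` has maximal class -/
theorem maxClass_of_self_centralizing (n : ℕ) : ∀ (X : Type u) [Group X] [Finite X] {p : ℕ}
    [Fact p.Prime], Nat.card X = p ^ n → ∀ A : Subgroup X, Nat.card A = p ^ 2 →
    centralizer (A : Set X) = A → Group.nilpotencyClass X = n - 1 := by
  induction n with
  | zero =>
    intro X _ _ p hp hX A hA hC
    exfalso
    have h1 : Nat.card A ∣ Nat.card X := Subgroup.card_subgroup_dvd_card A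
    rw [hA, hX, pow_zero, Nat.dvd_one] at h1
    have : 1 < p ^ 2 := Nat.one_lt_pow (by norm_num) hp.out.one_lt
    omega
  | succ n ih =>
    intro X _ _ p hp hX A hA hC
    have hp1 : 1 < p := hp.out.one_lt
    have hP : IsPGroup p X := IsPGroup.of_card hX
    haveI hnil : Group.IsNilpotent X := hP.isNilpotent
    haveI : Nontrivial X := by
      apply (Finite.one_lt_card_iff_nontrivial).mp
      rw [hX]
      exact Nat.one_lt_pow (by omega) hp1
    have hAab : ∀ x ∈ A, ∀ y ∈ A, x * y = y * x := by
      intro x hx y hy
      have hx' : x ∈ centralizer (A : Set X) := by rw [hC]; exact hx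
      exact (mem_centralizer_iff.mp hx' y hy).symm
    by_cases hAtop : A = ⊤
    · -- `X = A` is abelian of order `p ^ 2`
      have hn : n = 1 := by
        have h1 : Nat.card A = Nat.card X := by rw [hAtop, Subgroup.card_top]
        rw [hA, hX] at h1
        have := Nat.pow_right_injective hp1 h1
        omega
      subst hn
      have h1 : Group.nilpotencyClass X ≤ 1 := by
        rw [Group.IsNilpotent.nilpotencyClass_le_one_iff]
        refine ⟨⟨fun x y => hAab x (by rw [hAtop]; exact mem_top x) y (by rw [hAtop]; exact mem_top y)⟩⟩
      have h2 : Group.nilpotencyClass X ≠ 0 := by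
        intro h0
        rw [Group.nilpotencyClass_zero_iff_subsingleton] at h0
        exact not_subsingleton X h0
      omega
    · -- main case
      have hn2 : 2 ≤ n := by
        by_contra hlt
        apply hAtop
        apply Subgroup.eq_top_of_card_eq
        rw [hA, hX]
        have h1 : Nat.card A ∣ Nat.card X := Subgroup.card_subgroup_dvd_card A
        rw [hA, hX] at h1
        have h2 := (Nat.pow_dvd_pow_iff_le_right hp1).mp h1
        have : n + 1 = 2 := by omega
        rw [this]
      have hZA : center X ≤ A := by
        rw [← hC]
        exact center_le_centralizer _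
      have hZne : center X ≠ A := by
        intro h
        apply hAtop
        rw [← hC, centralizer_eq_top_iff_subset, ← h]
      obtain ⟨k, hk⟩ := (IsPGroup.iff_card.mp (hP.to_subgroup (center X)))
      have hZcard : Nat.card (center X) = p := by
        have hk1 : k ≠ 0 := by
          intro h0
          rw [h0, pow_zero] at hk
          have := hP.center_nontrivial
          have hsub : Subsingleton (center X) := (Nat.card_eq_one_iff_unique.mp hk).1
          exact not_subsingleton _ hsub
        have hk2 : k ≠ 2 := by
          intro h2
          apply hZne
          apply Subgroup.eq_of_le_of_card_ge hZA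
          rw [hA, hk, h2]
        have hk3 : k ≤ 2 := by
          have h1 : Nat.card (center X) ∣ Nat.card A := Subgroup.card_dvd_of_le hZA
          rw [hk, hA] at h1
          exact (Nat.pow_dvd_pow_iff_le_right hp1).mp h1
        have : k = 1 := by omega
        rw [hk, this, pow_one]
      obtain ⟨a, haA, haZ⟩ := SetLike.exists_of_lt (lt_of_le_of_ne hZA hZne)
      -- the centralizer of `a` is `A`
      have hCa : centralizer {a} = A := by
        apply le_antisymm
        · intro x hx
          rw [mem_centralizer_singleton_iff] at hx
          set K := A ⊓ centralizer {x} with hK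
          have hZK : center X ≤ K := le_inf hZA (center_le_centralizer _)
          have haK : a ∈ K := by
            refine ⟨haA, ?_⟩
            show a ∈ centralizer {x}
            rw [mem_centralizer_singleton_iff]
            exact hx.symm
          have hKA : K ≤ A := inf_le_left
          have hKcard : Nat.card K = p ^ 2 := by
            have h1 : Nat.card K ∣ p ^ 2 := by
              rw [← hA]
              exact Subgroup.card_dvd_of_le hKA
            obtain ⟨j, hj, hjc⟩ := (Nat.dvd_prime_pow hp.out).mp h1
            have h2 : p ∣ Nat.card K := by
              rw [← hZcard]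
              exact Subgroup.card_dvd_of_le hZK
            have hj0 : j ≠ 0 := by
              intro h0
              rw [hjc, h0, pow_zero, Nat.dvd_one] at h2
              omega
            have hj1 : j ≠ 1 := by
              intro h1'
              apply haZ
              have : center X = K := by
                apply Subgroup.eq_of_le_of_card_ge hZK
                rw [hjc, h1', pow_one, hZcard]
              rw [this]
              exact haK
            have : j = 2 := by omega
            rw [hjc, this]
          have hKeq : K = A := by
            apply Subgroup.eq_of_le_of_card_ge hKA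
            rw [hKcard, hA]
          rw [← hC, mem_centralizer_iff]
          intro y hy
          have hyK : y ∈ K := by rw [hKeq]; exact hy
          have h5 : y ∈ centralizer {x} := hyK.2
          rw [mem_centralizer_singleton_iff] at h5
          exact h5
        · intro x hx
          rw [mem_centralizer_singleton_iff]
          exact (hAab a haA x hx).symm
      -- pass to the central quotient
      set π := QuotientGroup.mk' (center X) with hπ
      set B := centralizer {π a} with hB
      have hBle : Nat.card B ≤ p ^ 2 := by
        have := card_centralizer_quotient_center_le a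
        rw [hCa, hA] at this
        exact this
      have hq : Nat.card (X ⧸ center X) = p ^ n := by
        have hmul := Subgroup.card_eq_card_quotient_mul_card_subgroup (center X)
        rw [hX, hZcard, pow_succ] at hmul
        exact (Nat.eq_of_mul_eq_mul_right hp.out.pos hmul).symm
      have hPq : IsPGroup p (X ⧸ center X) := IsPGroup.of_card hq
      haveI : Nontrivial (X ⧸ center X) := by
        apply (Finite.one_lt_card_iff_nontrivial).mp
        rw [hq]
        exact Nat.one_lt_pow (by omega) hp1
      have hπa : π a ∈ B := by
        rw [hB, mem_centralizer_singleton_iff]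
      obtain ⟨j, hj⟩ := (IsPGroup.iff_card.mp (hPq.to_subgroup B))
      have hj2 : j = 2 := by
        have hjle : j ≤ 2 := by
          rw [hj] at hBle
          exact (Nat.pow_le_pow_iff_right hp1).mp hBle
        by_contra hjne
        have hj1 : j ≤ 1 := by omega
        obtain ⟨i, hi⟩ := (IsPGroup.iff_card.mp (hPq.to_subgroup (center (X ⧸ center X))))
        have hZB : center (X ⧸ center X) ≤ B := center_le_centralizer _
        have hi1 : i ≠ 0 := by
          intro h0
          rw [h0, pow_zero] at hi
          have := hPq.center_nontrivial
          have hsub : Subsingleton (center (X ⧸ center X)) := (Nat.card_eq_one_iff_unique.mp hi).1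
          exact not_subsingleton _ hsub
        have hij : i ≤ j := by
          have h1 := Subgroup.card_dvd_of_le hZB
          rw [hi, hj] at h1
          exact (Nat.pow_dvd_pow_iff_le_right hp1).mp h1
        have hZeq : center (X ⧸ center X) = B := by
          apply Subgroup.eq_of_le_of_card_ge hZB
          rw [hi, hj]
          exact Nat.pow_le_pow_right hp.out.pos (by omega)
        have hBtop : B = ⊤ := by
          rw [hB, centralizer_eq_top_iff_subset, Set.singleton_subset_iff, SetLike.mem_coe, hZeq]
          exact hπa
        have h1 : Nat.card B = Nat.card (X ⧸ center X) := by rw [hBtop, Subgroup.card_top]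
        rw [hj, hq] at h1
        have := Nat.pow_right_injective hp1 h1
        omega
      have hBcard : Nat.card B = p ^ 2 := by rw [hj, hj2]
      have hBC : centralizer (B : Set (X ⧸ center X)) = B := by
        apply le_antisymm
        · have : centralizer (B : Set (X ⧸ center X)) ≤ centralizer {π a} :=
            centralizer_le (Set.singleton_subset_iff.mpr hπa)
          exact this
        · intro x hx
          rw [mem_centralizer_iff]
          intro y hy
          have := IsPGroup.commutative_of_card_eq_prime_sq (p := p) hBcard
            (⟨y, hy⟩ : B) ⟨x, hx⟩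
          exact congrArg Subtype.val this
      have h1 := ih (X ⧸ center X) hq B hBcard hBC
      have h2 := Group.nilpotencyClass_eq_quotient_center_plus_one (G := X)
      omega

end Cfsg.Agent.Lib.Lead.SuzukiMaxClass
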