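import Mathlib
import Cfsg.Agent.Lib.Lead.SuzukiMaxClass
import Cfsg.Agent.Lib.Lead.UniqueSubgroup

/-! More criteria for maximal class. -/

set_option autoImplicit false

namespace Cfsg.Agent.Lib.Lead.MaxClassMore

open Subgroup
open Cfsg.Agent.Lib.Lead.NormalChain
open Cfsg.Agent.Lib.Lead.MaxClass
open Cfsg.Agent.Lib.Lead.SuzukiMaxClass

universe u

/-- the commutator map `x ↦ x a x⁻¹ a⁻¹` as a homomorphism into the centre, on a subgroup where
it takes central values -/
noncomputable def commHom {X : Type u} [Group X] (M : Subgroup X) (a : X)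
    (h : ∀ x ∈ M, x * a * x⁻¹ * a⁻¹ ∈ center X) : M →* center X :=
  MonoidHom.mk' (fun x => ⟨x.1 * a * x.1⁻¹ * a⁻¹, h x.1 x.2⟩) (by
    intro x y
    apply Subtype.ext
    have hc := h y.1 y.2
    rw [mem_center_iff] at hc
    show (x.1 * y.1) * a * (x.1 * y.1)⁻¹ * a⁻¹ = (x.1 * a * x.1⁻¹ * a⁻¹) * (y.1 * a * y.1⁻¹ * a⁻¹)
    have h1 : (x.1 * y.1) * a * (x.1 * y.1)⁻¹ * a⁻¹
        = x.1 * (y.1 * a * y.1⁻¹ * a⁻¹) * a * x.1⁻¹ * a⁻¹ := by group
    rw [h1, hc x.1]
    have h2 := hc (x.1 * a * x.1⁻¹ * a⁻¹)
    rw [h2]
    group)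

theorem commHom_apply {X : Type u} [Group X] (M : Subgroup X) (a : X)
    (h : ∀ x ∈ M, x * a * x⁻¹ * a⁻¹ ∈ center X) (x : M) :
    ((commHom M a h x : center X) : X) = x.1 * a * x.1⁻¹ * a⁻¹ := rfl

theorem commHom_eq_one_iff {X : Type u} [Group X] (M : Subgroup X) (a : X)
    (h : ∀ x ∈ M, x * a * x⁻¹ * a⁻¹ ∈ center X) (x : M) :
    commHom M a h x = 1 ↔ a * x.1 = x.1 * a := by
  constructor
  · intro hx
    have hx' : x.1 * a * x.1⁻¹ * a⁻¹ = 1 := congrArg Subtype.val hx
    have h3 : x.1 * a = (x.1 * a * x.1⁻¹ * a⁻¹) * a * x.1 := by group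
    rw [h3, hx', one_mul]
  · intro hx
    apply Subtype.ext
    rw [commHom_apply, ← hx]
    simp

/-- centralizers of pairs in the central quotient -/
theorem card_centralizer_pair_quotient_center_le {X : Type u} [Group X] [Finite X] (a b : X) :
    Nat.card (centralizer {(QuotientGroup.mk' (center X)) a, (QuotientGroup.mk' (center X)) b})
      ≤ Nat.card (centralizer {a, b}) * Nat.card (center X) := by
  set π := QuotientGroup.mk' (center X) with hπ
  set M := (centralizer {π a, π b}).comap π with hM
  have hMmem : ∀ c ∈ ({a, b} : Set X), ∀ x : X, x ∈ M → x * c * x⁻¹ * c⁻¹ ∈ center X := by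
    intro c hc x hx
    rw [hM, mem_comap, mem_centralizer_iff] at hx
    have hx' : π c * π x = π x * π c := by
      apply hx
      rcases hc with rfl | hc
      · exact Set.mem_insert _ _
      · rw [Set.mem_singleton_iff] at hc
        rw [hc]
        exact Set.mem_insert_of_mem _ rfl
    rw [← QuotientGroup.eq_one_iff, ← QuotientGroup.mk'_apply, ← hπ]
    rw [map_mul, map_mul, map_mul, map_inv, map_inv, ← hx']
    group
  have ha := hMmem a (Set.mem_insert _ _)
  have hb := hMmem b (Set.mem_insert_of_mem _ rfl)
  let φ : M →* center X × center X := (commHom M a ha).prod (commHom M b hb)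
  have hker : Nat.card φ.ker ≤ Nat.card (centralizer {a, b}) := by
    apply Nat.card_le_card_of_injective
      (fun x : φ.ker => (⟨x.1.1, by
        have hx := x.2
        rw [MonoidHom.mem_ker, MonoidHom.prod_apply, Prod.mk_eq_one] at hx
        rw [mem_centralizer_iff]
        intro c hc
        rcases hc with rfl | hc
        · exact (commHom_eq_one_iff M c ha x.1).mp hx.1
        · rw [Set.mem_singleton_iff] at hc
          rw [hc]
          exact (commHom_eq_one_iff M b hb x.1).mp hx.2⟩ : centralizer {a, b}))
    intro x y hxy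
    apply Subtype.ext
    apply Subtype.ext
    have := congrArg Subtype.val hxy
    exact this
  have hrange : φ.ker.index ≤ Nat.card (center X) * Nat.card (center X) := by
    rw [Subgroup.index_ker]
    calc Nat.card φ.range ≤ Nat.card (center X × center X) := Subgroup.card_le_card_group _
      _ = Nat.card (center X) * Nat.card (center X) := Nat.card_prod _ _
  have h1 := Subgroup.card_mul_index φ.ker
  have h2 : Nat.card M = Nat.card (center X) * Nat.card (centralizer {π a, π b}) := by
    rw [hM]
    exact card_comap_mk' (center X) _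
  have h3 : Nat.card (center X) * Nat.card (centralizer {π a, π b})
      ≤ Nat.card (center X) * (Nat.card (centralizer {a, b}) * Nat.card (center X)) := by
    rw [← h2, ← h1]
    calc Nat.card φ.ker * φ.ker.index
        ≤ Nat.card (centralizer {a, b}) * (Nat.card (center X) * Nat.card (center X)) :=
          Nat.mul_le_mul hker hrange
      _ = Nat.card (center X) * (Nat.card (centralizer {a, b}) * Nat.card (center X)) := by ring
  exact Nat.le_of_mul_le_mul_left h3 Nat.card_pos

/-- a subgroup of a `p`-group containing two noncommuting elements has order at least `p ^ 3` -/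
theorem cube_le_card_of_not_comm {X : Type u} [Group X] [Finite X] {p : ℕ} [hp : Fact p.Prime]
    (hP : IsPGroup p X) (K : Subgroup X) {x y : X} (hx : x ∈ K) (hy : y ∈ K) (hxy : x * y ≠ y * x) :
    ∃ j, 3 ≤ j ∧ Nat.card K = p ^ j := by
  obtain ⟨j, hj⟩ := IsPGroup.iff_card.mp (hP.to_subgroup K)
  refine ⟨j, ?_, hj⟩
  by_contra hlt
  have := Cfsg.Agent.Lib.Lead.UniqueSubgroup.comm_of_card_le_sq (K := K) (p := p) (n := j)
    (by omega) hj ⟨x, hx⟩ ⟨y, hy⟩
  exact hxy (congrArg Subtype.val this)

/-- a `p`-group with a nonabelian subgroup of order `p ^ 3` containing its centralizer has maximal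
class -/
theorem maxClass_of_nonabelian_cube {X : Type u} [Group X] [Finite X] {p : ℕ} [hp : Fact p.Prime]
    (n : ℕ) (hX : Nat.card X = p ^ n) (B : Subgroup X) (hB : Nat.card B = p ^ 3)
    (hBna : ∃ x ∈ B, ∃ y ∈ B, x * y ≠ y * x) (hC : centralizer (B : Set X) ≤ B) :
    Group.nilpotencyClass X = n - 1 := by
  have hp1 : 1 < p := hp.out.one_lt
  have hP : IsPGroup p X := IsPGroup.of_card hX
  haveI hnil : Group.IsNilpotent X := hP.isNilpotent
  obtain ⟨b₁, hb₁, b₂, hb₂, hne⟩ := hBna
  haveI : Nontrivial X := ⟨⟨b₁ * b₂, b₂ * b₁, hne⟩⟩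
  have hn3 : 3 ≤ n := by
    have h1 : Nat.card B ∣ Nat.card X := Subgroup.card_subgroup_dvd_card B
    rw [hB, hX] at h1
    exact (Nat.pow_dvd_pow_iff_le_right hp1).mp h1
  -- `B` is generated by `b₁, b₂`
  have hcl : closure ({b₁, b₂} : Set X) = B := by
    have hle : closure ({b₁, b₂} : Set X) ≤ B := by
      rw [closure_le]
      rintro x (rfl | hx)
      · exact hb₁
      · rw [Set.mem_singleton_iff] at hx
        rw [hx]
        exact hb₂
    apply Subgroup.eq_of_le_of_card_ge hle
    obtain ⟨j, hj3, hj⟩ := cube_le_card_of_not_comm hP (closure ({b₁, b₂} : Set X))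
      (subset_closure (Set.mem_insert _ _)) (subset_closure (Set.mem_insert_of_mem _ rfl)) hne
    rw [hB, hj]
    exact Nat.pow_le_pow_right hp.out.pos hj3
  have hcent : centralizer ({b₁, b₂} : Set X) = centralizer (B : Set X) := by
    rw [← hcl, Subgroup.centralizer_closure]
  -- the centralizer of `B` has order `p`
  set C := centralizer (B : Set X) with hCdef
  have hZC : center X ≤ C := center_le_centralizer _
  have hCcard : Nat.card C = p := by
    obtain ⟨j, hj⟩ := IsPGroup.iff_card.mp (hP.to_subgroup C)
    -- `C` is abelian and `C < B`... use: `C ⊔ ⟨b₁⟩` is abelian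
    have hj0 : j ≠ 0 := by
      intro h0
      rw [h0, pow_zero] at hj
      have h1 : Nat.card (center X) ∣ Nat.card C := Subgroup.card_dvd_of_le hZC
      rw [hj, Nat.dvd_one] at h1
      have := hP.center_nontrivial
      have hsub : Subsingleton (center X) := (Nat.card_eq_one_iff_unique.mp h1).1
      exact not_subsingleton _ hsub
    have hj2 : j < 2 := by
      by_contra hge
      -- `C ⊔ zpowers b₁` is an abelian subgroup of `B` of order `≥ p ^ 3` unless `b₁ ∈ C`
      have hb₁C : b₁ ∉ C := by
        intro h
        rw [hCdef, mem_centralizer_iff] at h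
        exact hne (h b₂ hb₂).symm
      set K := C ⊔ zpowers b₁ with hK
      have hKB : K ≤ B := sup_le hC (by rw [zpowers_le]; exact hb₁)
      have hCK : C ≤ K := le_sup_left
      have hCne : C ≠ K := by
        intro h
        apply hb₁C
        rw [h]
        exact le_sup_right (α := Subgroup X) (mem_zpowers b₁)
      obtain ⟨i, hi⟩ := IsPGroup.iff_card.mp (hP.to_subgroup K)
      have hij : j < i := by
        have h1 : Nat.card C ∣ Nat.card K := Subgroup.card_dvd_of_le hCK
        rw [hi, hj] at h1
        have h2 := (Nat.pow_dvd_pow_iff_le_right hp1).mp h1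
        rcases Nat.lt_or_ge j i with h | h
        · exact h
        · exfalso
          apply hCne
          apply Subgroup.eq_of_le_of_card_ge hCK
          rw [hi, hj]
          exact Nat.pow_le_pow_right hp.out.pos h
      have hi3 : i ≤ 3 := by
        have h1 : Nat.card K ∣ Nat.card B := Subgroup.card_dvd_of_le hKB
        rw [hi, hB] at h1
        exact (Nat.pow_dvd_pow_iff_le_right hp1).mp h1
      have hKeq : K = B := by
        apply Subgroup.eq_of_le_of_card_ge hKB
        rw [hi, hB]
        exact Nat.pow_le_pow_right hp.out.pos (by omega)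
      -- but `K` is abelian
      have hKcomm : ∀ x ∈ K, ∀ y ∈ K, x * y = y * x := by
        have hgen : K = closure ((C : Set X) ∪ {b₁}) := by
          rw [hK, Subgroup.closure_union, Subgroup.closure_eq, zpowers_eq_closure]
        rw [hgen]
        apply Cfsg.Agent.Lib.Lead.UniqueOrderP.closure_comm_of_comm
        intro x hx y hy
        have hcomm : ∀ c ∈ C, ∀ b ∈ B, c * b = b * c := by
          intro c hc b hb
          rw [hCdef, mem_centralizer_iff] at hc
          exact (hc b hb).symm
        rcases hx with hx | hx <;> rcases hy with hy | hy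
        · exact hcomm x hx y (hC hy)
        · rw [Set.mem_singleton_iff] at hy
          rw [hy]
          exact hcomm x hx b₁ hb₁
        · rw [Set.mem_singleton_iff] at hx
          rw [hx]
          exact (hcomm y hy b₁ hb₁).symm
        · rw [Set.mem_singleton_iff] at hx hy
          rw [hx, hy]
      exact hne (hKcomm b₁ (by rw [hKeq]; exact hb₁) b₂ (by rw [hKeq]; exact hb₂))
    have : j = 1 := by omega
    rw [hj, this, pow_one]
  have hZcard : Nat.card (center X) = p := by
    have h1 : Nat.card (center X) ∣ p := by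
      rw [← hCcard]
      exact Subgroup.card_dvd_of_le hZC
    rcases (Nat.dvd_prime hp.out).mp h1 with h | h
    · exfalso
      have := hP.center_nontrivial
      have hsub : Subsingleton (center X) := (Nat.card_eq_one_iff_unique.mp h).1
      exact not_subsingleton _ hsub
    · exact h
  -- pass to the central quotient
  set π := QuotientGroup.mk' (center X) with hπ
  have hq : Nat.card (X ⧸ center X) = p ^ (n - 1) := by
    have hmul := Subgroup.card_eq_card_quotient_mul_card_subgroup (center X)
    obtain ⟨m, rfl⟩ : ∃ m, n = m + 1 := ⟨n - 1, by omega⟩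
    rw [hX, hZcard, pow_succ] at hmul
    rw [Nat.add_sub_cancel]
    exact (Nat.eq_of_mul_eq_mul_right hp.out.pos hmul).symm
  have hZB : center X ≤ B := hZC.trans hC
  set Bbar := B.map π with hBbar
  have hBbarcard : Nat.card Bbar = p ^ 2 := by
    have h1 : (Bbar.comap π) = B := by
      rw [hBbar, comap_map_eq_self]
      rw [hπ, QuotientGroup.ker_mk']
      exact hZB
    have h2 := card_comap_mk' (center X) Bbar
    rw [← hπ, h1, hB, hZcard] at h2
    have h3 : p ^ 3 = p * p ^ 2 := by ring
    rw [h3] at h2
    exact (Nat.eq_of_mul_eq_mul_left hp.out.pos h2).symm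
  have hBbarcomm : ∀ x ∈ Bbar, ∀ y ∈ Bbar, x * y = y * x := by
    intro x hx y hy
    have := IsPGroup.commutative_of_card_eq_prime_sq (p := p) hBbarcard
      (⟨x, hx⟩ : Bbar) ⟨y, hy⟩
    exact congrArg Subtype.val this
  have hBC : centralizer (Bbar : Set (X ⧸ center X)) = Bbar := by
    symm
    apply Subgroup.eq_of_le_of_card_ge
    · intro x hx
      rw [mem_centralizer_iff]
      intro y hy
      exact hBbarcomm y hy x hx
    · have h1 : centralizer (Bbar : Set (X ⧸ center X)) ≤ centralizer {π b₁, π b₂} := by
        apply centralizer_le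
        rintro x (rfl | hx)
        · exact mem_map_of_mem π hb₁
        · rw [Set.mem_singleton_iff] at hx
          rw [hx]
          exact mem_map_of_mem π hb₂
      have h2 := card_centralizer_pair_quotient_center_le b₁ b₂
      rw [hcent, hCcard, hZcard] at h2
      calc Nat.card (centralizer (Bbar : Set (X ⧸ center X)))
          ≤ Nat.card (centralizer {π b₁, π b₂}) := Subgroup.card_le_of_le h1
        _ ≤ p * p := h2
        _ = Nat.card Bbar := by rw [hBbarcard]; ring
  have h1 := maxClass_of_self_centralizing (n - 1) (X ⧸ center X) hq Bbar hBbarcard hBC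
  have h2 := Group.nilpotencyClass_eq_quotient_center_plus_one (G := X)
  omega

end Cfsg.Agent.Lib.Lead.MaxClassMore
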