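import Mathlib
import Cfsg.Agent.Lib.Lead.UniqueSubgroup
import Cfsg.Agent.Lib.Lead.MaxClassMore

/-! Centralizers in `2`-groups of maximal class; non-cyclic subgroups are self-centralizing. -/

set_option autoImplicit false

namespace Cfsg.Agent.Lib.Lead.MaxClassCentralizers

open Subgroup
open Cfsg.Agent.Lib.Lead.UniqueOrderP
open Cfsg.Agent.Lib.Lead.CyclicMax
open Cfsg.Agent.Lib.Lead.UniqueSubgroup
open Cfsg.Agent.Lib.Lead.MaxClass
open Cfsg.Agent.Lib.Lead.Taussky

universe u

variable {G : Type u} [Group G]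

/-- a nonabelian `2`-group with a unique subgroup of order `2` has quaternion generators -/
theorem quaternion_gens_of_unique [Finite G] (hG : IsPGroup 2 G)
    (huniq : UniqueOrderP 2 G) (hcomm : ∃ x y : G, x * y ≠ y * x) :
    ∃ (n : ℕ) (a b : G), Nat.card G = 2 ^ n ∧ 3 ≤ n ∧ orderOf a = 2 ^ (n - 1) ∧
      (zpowers a).index = 2 ∧ b ∉ zpowers a ∧ b ^ 2 = a ^ (2 ^ (n - 2)) ∧ b * a * b⁻¹ = a⁻¹ := by
  haveI hp : Fact (Nat.Prime 2) := ⟨Nat.prime_two⟩
  -- maximal normal abelian subgroup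
  obtain ⟨A, -, hAmax⟩ := Finite.exists_le_maximal
    (p := fun B : Subgroup G => B.Normal ∧ ∀ x ∈ B, ∀ y ∈ B, x * y = y * x) (a := ⊥)
    ⟨inferInstance, by
      intro x hx y hy
      rw [mem_bot] at hx hy
      rw [hx, hy]⟩
  obtain ⟨⟨hAn, hAab⟩, hAm⟩ := hAmax
  haveI := hAn
  have hcent : centralizer (A : Set G) = A :=
    centralizer_eq_of_maximal_normal_abelian hG A hAab (by
      intro B hBn hBab hAB
      exact le_antisymm (hAm ⟨hBn, hBab⟩ hAB) hAB)
  have hAc : IsCyclic A := abelian_cyclic (hG.to_subgroup A) (by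
      intro x y; exact Subtype.ext (hAab x x.2 y y.2)) (huniq.subgroup A)
  have hAtop : A ≠ ⊤ := by
    rintro rfl
    obtain ⟨x, y, hxy⟩ := hcomm
    exact hxy (hAab x (mem_top x) y (mem_top y))
  -- existence of g ∉ A with g^p ∈ A
  have hex : ∃ g, g ∉ A ∧ g ^ 2 ∈ A := by
    obtain ⟨g₀, hg₀⟩ : ∃ g₀, g₀ ∉ A := by
      by_contra h; push_neg at h
      exact hAtop (eq_top_iff.mpr fun x _ => h x)
    have hex' : ∃ k, g₀ ^ (2 ^ k) ∈ A := by
      obtain ⟨k, hk⟩ := hG g₀
      exact ⟨k, by rw [hk]; exact one_mem _⟩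
    classical
    obtain ⟨k, hk, hmin⟩ : ∃ k, g₀ ^ (2 ^ k) ∈ A ∧ ∀ j < k, g₀ ^ (2 ^ j) ∉ A :=
      ⟨Nat.find hex', Nat.find_spec hex', fun j hj => Nat.find_min hex' hj⟩
    have hk1 : k ≠ 0 := by
      rintro rfl
      simp at hk
      exact hg₀ hk
    refine ⟨g₀ ^ (2 ^ (k - 1)), hmin (k - 1) (by omega), ?_⟩
    rw [← pow_mul, ← pow_succ]
    have : k - 1 + 1 = k := by omega
    rw [this]
    exact hk
  obtain ⟨g₁, hg₁A, hg₁p⟩ := hex
  obtain ⟨-, hinv₁, h4⟩ := key hG huniq A hAc hcent g₁ hg₁A hg₁p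
  -- every element outside A has square in A
  obtain ⟨a₀, ha₀⟩ := (Subgroup.isCyclic_iff_exists_zpowers_eq_top A).mp hAc
  have horda₀ : orderOf a₀ = Nat.card A := by rw [← ha₀, Nat.card_zpowers]
  have ha₀A : a₀ ∈ A := by rw [← ha₀]; exact mem_zpowers a₀
  have hsq : ∀ g, g ∉ A → g ^ 2 ∈ A := by
    intro g hg
    by_contra hg2
    have hex' : ∃ k, g ^ (2 ^ k) ∈ A := by
      obtain ⟨k, hk⟩ := hG g
      exact ⟨k, by rw [hk]; exact one_mem _⟩
    classical
    obtain ⟨k, hk, hmin⟩ : ∃ k, g ^ (2 ^ k) ∈ A ∧ ∀ j < k, g ^ (2 ^ j) ∉ A :=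
      ⟨Nat.find hex', Nat.find_spec hex', fun j hj => Nat.find_min hex' hj⟩
    have hk2 : 2 ≤ k := by
      by_contra hlt
      push_neg at hlt
      interval_cases k
      · simp at hk; exact hg hk
      · simp at hk; exact hg2 hk
    set h := g ^ (2 ^ (k - 2)) with hh
    have hh2 : h ^ 2 = g ^ (2 ^ (k - 1)) := by
      rw [hh, ← pow_mul, ← pow_succ]
      congr 2
      omega
    have hh2A : h ^ 2 ∉ A := by
      rw [hh2]; exact hmin (k - 1) (by omega)
    have hh4A : (h ^ 2) ^ 2 ∈ A := by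
      rw [hh2, ← pow_mul, ← pow_succ]
      have : k - 1 + 1 = k := by omega
      rw [this]; exact hk
    obtain ⟨-, hinvh, -⟩ := key hG huniq A hAc hcent (h ^ 2) hh2A hh4A
    have hconjA : h * a₀ * h⁻¹ ∈ zpowers a₀ := by
      rw [ha₀]; exact hAn.conj_mem a₀ ha₀A h
    obtain ⟨r, hr⟩ := mem_zpowers_iff.mp hconjA
    have h1 := pow_conj_of_conj hr.symm 2
    rw [hinvh a₀ ha₀A] at h1
    have h2 : a₀ ^ (r ^ 2) = a₀ ^ (-1 : ℤ) := by rw [← h1]; simp
    have h3 := dvd_sub_of_zpow_eq horda₀ h2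
    have h4r : (4 : ℤ) ∣ r ^ 2 + 1 := by
      have : ((4 : ℕ) : ℤ) ∣ ((Nat.card A : ℕ) : ℤ) := Int.natCast_dvd_natCast.mpr h4
      have := dvd_trans this h3
      simpa using this
    have hno : ∀ t : ZMod 4, t ^ 2 + 1 ≠ 0 := by decide
    apply hno (r : ZMod 4)
    have := (ZMod.intCast_zmod_eq_zero_iff_dvd (r ^ 2 + 1) 4).mpr h4r
    push_cast at this
    exact this
  have hinv : ∀ g, g ∉ A → ∀ x ∈ A, g * x * g⁻¹ = x⁻¹ := by
    intro g hg
    exact (key hG huniq A hAc hcent g hg (hsq g hg)).2.1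
  have hidx : A.index = 2 := by
    rw [index_eq_two_iff]
    refine ⟨g₁, fun b => ?_⟩
    by_cases hb : b ∈ A
    · refine Or.inr ⟨hb, ?_⟩
      intro h
      exact hg₁A ((mul_mem_cancel_left hb).mp h)
    · refine Or.inl ⟨?_, hb⟩
      rw [← hcent, mem_centralizer_iff]
      intro x hx
      have h1 := hinv g₁ hg₁A x hx
      have h2 := hinv b hb x⁻¹ (inv_mem hx)
      have h3 : b * g₁ * x * (b * g₁)⁻¹ = x := by
        calc b * g₁ * x * (b * g₁)⁻¹ = b * (g₁ * x * g₁⁻¹) * b⁻¹ := by group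
          _ = b * x⁻¹ * b⁻¹ := by rw [h1]
          _ = x := by rw [h2, inv_inv]
      calc x * (b * g₁) = (b * g₁ * x * (b * g₁)⁻¹) * (b * g₁) := by rw [h3]
        _ = b * g₁ * x := by group
  obtain ⟨n, hn⟩ := hG.exists_card_eq
  obtain ⟨hn3, a, b, horda, hAa, hb, hb2, hinvab⟩ :=
    quaternion_of_cyclic_index_two n hn A hAc hidx huniq hcomm
  refine ⟨n, a, b, hn, hn3, horda, ?_, hb, hb2, hinvab⟩
  rw [← hAa]
  exact hidx

/-- in a cyclic group `⟨a⟩` of order `2 ^ (m + 1)`, the involution `a ^ (2 ^ m)` is a power of every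
nontrivial element -/
theorem involution_mem_zpowers [Finite G] {a x : G} {m : ℕ} (hoa : orderOf a = 2 ^ (m + 1))
    (hx : x ∈ zpowers a) (hx1 : x ≠ 1) : a ^ (2 ^ m) ∈ zpowers x := by
  rw [← mem_powers_iff_mem_zpowers] at hx
  obtain ⟨k, rfl⟩ := hx
  have hk0 : k ≠ 0 := by
    rintro rfl
    exact hx1 (pow_zero a)
  obtain ⟨i, j, hj, rfl⟩ := Nat.exists_eq_two_pow_mul_odd hk0
  have hz2 : (a ^ (2 ^ m)) ^ 2 = 1 := by
    rw [← pow_mul, ← pow_succ, ← hoa]
    exact pow_orderOf_eq_one a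
  have him : i ≤ m := by
    by_contra hlt
    apply hx1
    have : (2 : ℕ) ^ (m + 1) ∣ 2 ^ i * j := Dvd.dvd.mul_right (pow_dvd_pow 2 (by omega)) j
    rw [← hoa] at this
    exact orderOf_dvd_iff_pow_eq_one.mp this
  obtain ⟨l, rfl⟩ := hj
  have : a ^ (2 ^ m) = (a ^ (2 ^ i * (2 * l + 1))) ^ (2 ^ (m - i)) := by
    rw [← pow_mul]
    have h1 : 2 ^ i * (2 * l + 1) * 2 ^ (m - i) = 2 ^ m * (2 * l + 1) := by
      have : (2 : ℕ) ^ m = 2 ^ i * 2 ^ (m - i) := by
        rw [← pow_add]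
        congr 1
        omega
      rw [this]
      ring
    rw [h1, pow_mul, pow_succ, pow_mul, hz2, one_pow, one_mul]
  rw [this]
  exact pow_mem (mem_zpowers _) _

/-- centralizers of elements outside the cyclic maximal subgroup -/
theorem mem_of_mem_centralizer [Finite G] {a b : G} {n : ℕ} (hn : 3 ≤ n)
    (hoa : orderOf a = 2 ^ (n - 1)) (hidx : (zpowers a).index = 2)
    (hrel : ∀ k : ℕ, b * a ^ k * b⁻¹ = a ^ k → 2 ^ (n - 2) ∣ k) (hb : b ∉ zpowers a)
    {g x : G} (hg : g ∉ zpowers a) (hx : x ∈ centralizer {g}) :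
    x = 1 ∨ x = a ^ (2 ^ (n - 2)) ∨ x = g ∨ x = g * a ^ (2 ^ (n - 2)) := by
  set z := a ^ (2 ^ (n - 2)) with hz
  have hz2 : z ^ 2 = 1 := by
    rw [hz, ← pow_mul, ← pow_succ]
    have : n - 2 + 1 = n - 1 := by omega
    rw [this, ← hoa]
    exact pow_orderOf_eq_one a
  have key : ∀ y ∈ zpowers a, g * y = y * g → y = 1 ∨ y = z := by
    intro y hy hgy
    rw [← mem_powers_iff_mem_zpowers] at hy
    obtain ⟨k, rfl⟩ := hy
    -- `g = b * c` with `c ∈ ⟨a⟩`
    have hc : b⁻¹ * g ∈ zpowers a := by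
      rw [mul_mem_iff_of_index_two hidx]
      constructor
      · intro h
        exact absurd (inv_mem_iff.mp h) hb
      · intro h
        exact absurd h hg
    obtain ⟨i, hi⟩ := mem_zpowers_iff.mp hc
    have hcomm : (b⁻¹ * g) * a ^ k = a ^ k * (b⁻¹ * g) := by
      rw [← hi]
      exact ((Commute.refl a).zpow_left i).pow_right k
    have h1 : b * a ^ k * b⁻¹ = a ^ k := by
      have h2 : g * a ^ k * g⁻¹ = a ^ k := by rw [hgy]; group
      calc b * a ^ k * b⁻¹ = b * ((b⁻¹ * g) * a ^ k * (b⁻¹ * g)⁻¹) * b⁻¹ := by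
            rw [hcomm]; group
        _ = g * a ^ k * g⁻¹ := by group
        _ = a ^ k := h2
    obtain ⟨j, rfl⟩ := hrel k h1
    show a ^ (2 ^ (n - 2) * j) = 1 ∨ a ^ (2 ^ (n - 2) * j) = z
    rw [pow_mul, ← hz]
    rcases Nat.even_or_odd' j with ⟨l, rfl | rfl⟩
    · left
      rw [pow_mul, hz2, one_pow]
    · right
      rw [pow_succ, pow_mul, hz2, one_pow, one_mul]
  rw [mem_centralizer_singleton_iff] at hx
  by_cases hxa : x ∈ zpowers a
  · rcases key x hxa hx.symm with h | h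
    · exact Or.inl h
    · exact Or.inr (Or.inl h)
  · have hy : g⁻¹ * x ∈ zpowers a := by
      rw [mul_mem_iff_of_index_two hidx]
      constructor
      · intro h
        exact absurd (inv_mem_iff.mp h) hg
      · intro h
        exact absurd h hxa
    have hgy : g * (g⁻¹ * x) = (g⁻¹ * x) * g := by
      calc g * (g⁻¹ * x) = g⁻¹ * (g * x) := by group
        _ = g⁻¹ * (x * g) := by rw [hx]
        _ = g⁻¹ * x * g := by group
    rcases key _ hy hgy with h | h
    · right; right; left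
      have : x = g * (g⁻¹ * x) := by group
      rw [this, h, mul_one]
    · right; right; right
      have : x = g * (g⁻¹ * x) := by group
      rw [this, h]

/-- the inverting relation gives the centralizer condition -/
theorem hrel_of_inv {a b : G} {n : ℕ} (hn : 3 ≤ n) (hoa : orderOf a = 2 ^ (n - 1))
    (hinv : b * a * b⁻¹ = a⁻¹) : ∀ k : ℕ, b * a ^ k * b⁻¹ = a ^ k → 2 ^ (n - 2) ∣ k := by
  intro k hk
  rw [← conj_pow, hinv, inv_pow, inv_eq_iff_mul_eq_one, ← pow_add, ← two_mul] at hk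
  have h1 := orderOf_dvd_of_pow_eq_one hk
  rw [hoa] at h1
  have h3 : (2 : ℕ) ^ (n - 1) = 2 * 2 ^ (n - 2) := by
    rw [← pow_succ']
    congr 1
    omega
  rw [h3] at h1
  exact Nat.dvd_of_mul_dvd_mul_left (by norm_num) h1

/-- the semidihedral relation gives the centralizer condition -/
theorem hrel_of_semidihedral {a b : G} {n : ℕ} (hn : 4 ≤ n) (hoa : orderOf a = 2 ^ (n - 1))
    (hsd : b * a * b⁻¹ = a ^ (2 ^ (n - 2) - 1)) :
    ∀ k : ℕ, b * a ^ k * b⁻¹ = a ^ k → 2 ^ (n - 2) ∣ k := by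
  intro k hk
  rw [← conj_pow, hsd, ← pow_mul] at hk
  obtain ⟨m, rfl⟩ : ∃ m, n = m + 4 := ⟨n - 4, by omega⟩
  have e1 : m + 4 - 2 = m + 2 := by omega
  have e2 : m + 4 - 1 = m + 3 := by omega
  rw [e1] at hk ⊢
  rw [e2] at hoa
  -- `a ^ ((2^(m+2) - 2) * k) = 1`
  have h1 : a ^ ((2 ^ (m + 2) - 2) * k) = 1 := by
    have h2 : (2 ^ (m + 2) - 1) * k = (2 ^ (m + 2) - 2) * k + k := by
      have : 2 ^ (m + 2) - 1 = (2 ^ (m + 2) - 2) + 1 := by
        have : 4 ≤ 2 ^ (m + 2) := by
          calc 4 = 2 ^ 2 := by norm_num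
            _ ≤ 2 ^ (m + 2) := Nat.pow_le_pow_right (by norm_num) (by omega)
        omega
      rw [this]
      ring
    rw [h2, pow_add] at hk
    exact mul_eq_right.mp hk
  have h3 := orderOf_dvd_of_pow_eq_one h1
  rw [hoa] at h3
  have h4 : 2 ^ (m + 2) - 2 = 2 * (2 ^ (m + 1) - 1) := by
    rw [pow_succ]
    have : 1 ≤ 2 ^ (m + 1) := Nat.one_le_two_pow
    omega
  have h5 : (2 : ℕ) ^ (m + 3) = 2 * 2 ^ (m + 2) := by rw [← pow_succ']
  rw [h4, h5, mul_assoc] at h3
  have h6 : 2 ^ (m + 2) ∣ (2 ^ (m + 1) - 1) * k := Nat.dvd_of_mul_dvd_mul_left (by norm_num) h3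
  have hcop : Nat.Coprime (2 ^ (m + 2)) (2 ^ (m + 1) - 1) := by
    apply Nat.Coprime.pow_left
    rw [Nat.coprime_two_left]
    have : 2 ^ (m + 1) = 2 * 2 ^ m := by rw [pow_succ']
    have h1 : 1 ≤ 2 ^ m := Nat.one_le_two_pow
    exact ⟨2 ^ m - 1, by omega⟩
  exact hcop.dvd_of_dvd_mul_left h6

/-- the four-group generated by two commuting involutions -/
def kleinSub (s t : G) (hs : s * s = 1) (ht : t * t = 1) (hst : s * t = t * s) : Subgroup G where
  carrier := {1, s, t, s * t}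
  one_mem' := Set.mem_insert _ _
  mul_mem' := by
    have e1 : ∀ x : G, s * (s * x) = x := fun x => by rw [← mul_assoc, hs, one_mul]
    have e2 : ∀ x : G, t * (t * x) = x := fun x => by rw [← mul_assoc, ht, one_mul]
    have e3 : ∀ x : G, t * (s * x) = s * (t * x) := fun x => by
      rw [← mul_assoc, ← hst, mul_assoc]
    have e4 : t * s = s * t := hst.symm
    rintro a b (rfl | rfl | rfl | rfl) (rfl | rfl | rfl | rfl) <;>
      simp [mul_assoc, hs, ht, e1, e2, e3, e4]
  inv_mem' := by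
    have i1 : s⁻¹ = s := inv_eq_of_mul_eq_one_left hs
    have i2 : t⁻¹ = t := inv_eq_of_mul_eq_one_left ht
    rintro a (rfl | rfl | rfl | rfl)
    · simp
    · simp [i1]
    · simp [i2]
    · rw [mul_inv_rev, i1, i2, ← hst]
      simp

theorem mem_kleinSub {s t : G} (hs : s * s = 1) (ht : t * t = 1) (hst : s * t = t * s) (x : G) :
    x ∈ kleinSub s t hs ht hst ↔ x = 1 ∨ x = s ∨ x = t ∨ x = s * t := Iff.rfl

theorem card_kleinSub_le {s t : G} (hs : s * s = 1) (ht : t * t = 1) (hst : s * t = t * s) :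
    Nat.card (kleinSub s t hs ht hst) ≤ 4 := by
  have h0 : Nat.card (kleinSub s t hs ht hst) = Set.ncard ({1, s, t, s * t} : Set G) := rfl
  rw [h0]
  calc Set.ncard ({1, s, t, s * t} : Set G) ≤ Set.ncard ({s, t, s * t} : Set G) + 1 :=
        Set.ncard_insert_le _ _
    _ ≤ (Set.ncard ({t, s * t} : Set G) + 1) + 1 := by
        have := Set.ncard_insert_le s ({t, s * t} : Set G)
        omega
    _ ≤ ((Set.ncard ({s * t} : Set G) + 1) + 1) + 1 := by
        have := Set.ncard_insert_le t ({s * t} : Set G)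
        omega
    _ = 4 := by rw [Set.ncard_singleton]

theorem kleinSub_not_cyclic {s t : G} (hs : s * s = 1) (ht : t * t = 1) (hst : s * t = t * s)
    (hs1 : s ≠ 1) (ht1 : t ≠ 1) (hne : s ≠ t) : ¬ IsCyclic (kleinSub s t hs ht hst) := by
  intro hcyc
  obtain ⟨g, hg⟩ := hcyc.exists_generator
  have hsq : ∀ x : kleinSub s t hs ht hst, x * x = 1 := by
    rintro ⟨x, hx⟩
    apply Subtype.ext
    have e3 : s * t * (s * t) = 1 := by
      calc s * t * (s * t) = s * (t * s) * t := by group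
        _ = s * (s * t) * t := by rw [hst]
        _ = (s * s) * (t * t) := by group
        _ = 1 := by rw [hs, ht, one_mul]
    rcases hx with rfl | rfl | rfl | rfl
    · simp
    · exact hs
    · exact ht
    · exact e3
  have hpow : ∀ x : kleinSub s t hs ht hst, x = 1 ∨ x = g := by
    intro x
    obtain ⟨k, rfl⟩ := mem_zpowers_iff.mp (hg x)
    have hg2 : g ^ (2 : ℤ) = 1 := by
      rw [zpow_two]
      exact hsq g
    rcases Int.even_or_odd' k with ⟨l, rfl | rfl⟩
    · left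
      rw [zpow_mul, hg2, one_zpow]
    · right
      rw [zpow_add, zpow_mul, hg2, one_zpow, one_mul, zpow_one]
  have h1 := hpow ⟨s, Or.inr (Or.inl rfl)⟩
  have h2 := hpow ⟨t, Or.inr (Or.inr (Or.inl rfl))⟩
  rcases h1 with h1 | h1
  · exact hs1 (congrArg Subtype.val h1)
  · rcases h2 with h2 | h2
    · exact ht1 (congrArg Subtype.val h2)
    · exact hne (congrArg Subtype.val (h1.trans h2.symm))

/-- a nonabelian `2`-group all of whose non-cyclic subgroups contain their centralizers has a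
self-centralizing subgroup of order `4` -/
theorem exists_self_centralizing_four [Finite G] (hG : IsPGroup 2 G)
    (hna : ∃ x y : G, x * y ≠ y * x)
    (h : ∀ H : Subgroup G, ¬ IsCyclic H → centralizer (H : Set G) ≤ H) :
    ∃ A : Subgroup G, Nat.card A = 2 ^ 2 ∧ centralizer (A : Set G) = A := by
  haveI hp : Fact (Nat.Prime 2) := ⟨Nat.prime_two⟩
  haveI : Nontrivial G := by
    obtain ⟨x, y, hxy⟩ := hna
    exact ⟨⟨x * y, y * x, hxy⟩⟩
  by_cases huniq : UniqueOrderP 2 G
  · obtain ⟨n, a, b, hn, hn3, hoa, hidx, hb, hb2, hinv⟩ := quaternion_gens_of_unique hG huniq hna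
    have hrel := hrel_of_inv hn3 hoa hinv
    set z := a ^ (2 ^ (n - 2)) with hz
    have hz2 : z ^ 2 = 1 := by
      rw [hz, ← pow_mul, ← pow_succ]
      have : n - 2 + 1 = n - 1 := by omega
      rw [this, ← hoa]
      exact pow_orderOf_eq_one a
    have hz1 : z ≠ 1 := by
      apply pow_ne_one_of_lt_orderOf (by positivity)
      rw [hoa]
      apply Nat.pow_lt_pow_right (by norm_num)
      omega
    have hob : orderOf b = 2 ^ 2 := by
      apply orderOf_eq_prime_pow
      · rw [pow_one, hb2]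
        exact hz1
      · rw [pow_succ, pow_mul, pow_one, hb2]
        exact hz2
    refine ⟨zpowers b, by rw [Nat.card_zpowers, hob], ?_⟩
    apply le_antisymm
    · intro x hx
      have hx' : x ∈ centralizer {b} := by
        rw [mem_centralizer_iff] at hx ⊢
        intro y hy
        rw [Set.mem_singleton_iff] at hy
        rw [hy]
        exact hx b (mem_zpowers b)
      rcases mem_of_mem_centralizer hn3 hoa hidx hrel hb hb hx' with h1 | h1 | h1 | h1
      · rw [h1]
        exact one_mem _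
      · rw [h1, ← hz, ← hb2]
        exact pow_mem (mem_zpowers b) 2
      · rw [h1]
        exact mem_zpowers b
      · rw [h1, ← hz, ← hb2]
        exact mul_mem (mem_zpowers b) (pow_mem (mem_zpowers b) 2)
    · intro x hx
      rw [mem_centralizer_iff]
      intro y hy
      obtain ⟨i, rfl⟩ := mem_zpowers_iff.mp hx
      obtain ⟨j, rfl⟩ := mem_zpowers_iff.mp hy
      rw [← zpow_add, ← zpow_add, add_comm]
  · -- two different subgroups of order two
    unfold UniqueOrderP at huniq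
    push_neg at huniq
    obtain ⟨H, K, hH, hK, hHK⟩ := huniq
    -- a central involution
    have hcen : ∃ z₀ ∈ center G, orderOf z₀ = 2 := by
      have := hG.center_nontrivial
      have h2 : 2 ∣ Nat.card (center G) := by
        obtain ⟨k, hk⟩ := IsPGroup.iff_card.mp (hG.to_subgroup (center G))
        have hk0 : k ≠ 0 := by
          rintro rfl
          rw [pow_zero] at hk
          have hsub : Subsingleton (center G) := (Nat.card_eq_one_iff_unique.mp hk).1
          exact not_subsingleton _ hsub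
        rw [hk]
        exact dvd_pow_self 2 hk0
      obtain ⟨z₀, hz₀⟩ := exists_prime_orderOf_dvd_card' (G := center G) 2 h2
      refine ⟨z₀.1, z₀.2, ?_⟩
      rw [← hz₀]
      exact (Subgroup.orderOf_coe z₀)
    obtain ⟨z₀, hz₀c, hz₀o⟩ := hcen
    -- an involution different from `z₀`
    have hinv2 : ∀ L : Subgroup G, Nat.card L = 2 → ∃ u ∈ L, orderOf u = 2 ∧ L = zpowers u := by
      intro L hL
      obtain ⟨u, hu⟩ := exists_prime_orderOf_dvd_card' (G := L) 2 (by rw [hL])
      have hu' : orderOf (u : G) = 2 := by rw [Subgroup.orderOf_coe]; exact hu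
      refine ⟨u.1, u.2, hu', ?_⟩
      symm
      apply Subgroup.eq_of_le_of_card_ge
      · rw [zpowers_le]
        exact u.2
      · rw [Nat.card_zpowers, hu', hL]
    obtain ⟨u₁, hu₁H, hu₁o, hHu⟩ := hinv2 H hH
    obtain ⟨u₂, hu₂K, hu₂o, hKu⟩ := hinv2 K hK
    have hex : ∃ u, orderOf u = 2 ∧ u ≠ z₀ := by
      by_cases h1 : u₁ = z₀
      · refine ⟨u₂, hu₂o, ?_⟩
        intro h2
        apply hHK
        rw [hHu, hKu, h1, h2]
      · exact ⟨u₁, hu₁o, h1⟩
    obtain ⟨u, huo, hune⟩ := hex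
    have hzz : z₀ * z₀ = 1 := by rw [← pow_two, ← hz₀o]; exact pow_orderOf_eq_one z₀
    have huu : u * u = 1 := by rw [← pow_two, ← huo]; exact pow_orderOf_eq_one u
    have hzu : z₀ * u = u * z₀ := (mem_center_iff.mp hz₀c u).symm
    have hz1 : z₀ ≠ 1 := by
      intro h
      rw [h, orderOf_one] at hz₀o
      norm_num at hz₀o
    have hu1 : u ≠ 1 := by
      intro h
      rw [h, orderOf_one] at huo
      norm_num at huo
    set V := kleinSub z₀ u hzz huu hzu with hV
    have hVnc : ¬ IsCyclic V := kleinSub_not_cyclic hzz huu hzu hz1 hu1 (Ne.symm hune)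
    have hVcard : Nat.card V = 2 ^ 2 := by
      obtain ⟨j, hj⟩ := IsPGroup.iff_card.mp (hG.to_subgroup V)
      have hle := card_kleinSub_le hzz huu hzu
      rw [← hV, hj] at hle
      have hj2 : j ≤ 2 := by
        by_contra hlt
        have : 2 ^ 3 ≤ 2 ^ j := Nat.pow_le_pow_right (by norm_num) (by omega)
        omega
      have hj1 : 2 ≤ j := by
        by_contra hlt
        apply hVnc
        have hj' : j = 0 ∨ j = 1 := by omega
        rcases hj' with rfl | rfl
        · rw [pow_zero] at hj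
          haveI : Subsingleton V := (Nat.card_eq_one_iff_unique.mp hj).1
          infer_instance
        · rw [pow_one] at hj
          exact isCyclic_of_prime_card hj
      have : j = 2 := by omega
      rw [hj, this]
    refine ⟨V, hVcard, ?_⟩
    apply le_antisymm (h V hVnc)
    intro x hx
    rw [mem_centralizer_iff]
    intro y hy
    have := IsPGroup.commutative_of_card_eq_prime_sq (p := 2) hVcard (⟨y, hy⟩ : V) ⟨x, hx⟩
    exact congrArg Subtype.val this

/-- in a `2`-group with commutator quotient of order `4`, non-cyclic subgroups contain their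
centralizers -/
theorem centralizer_le_of_index_four [Finite G] (n : ℕ) (hn : 3 ≤ n) (hG : Nat.card G = 2 ^ n)
    (hidx : (commutator G).index = 4) (H : Subgroup G) (hH : ¬ IsCyclic H) :
    centralizer (H : Set G) ≤ H := by
  obtain ⟨a, b, hoa, hb, hai, hrel3⟩ := structure_of_index_four n hn hG hidx
  have hrel : ∀ k : ℕ, b * a ^ k * b⁻¹ = a ^ k → 2 ^ (n - 2) ∣ k := by
    rcases hrel3 with ⟨-, h⟩ | ⟨-, h⟩ | ⟨h4, -, h⟩
    · exact hrel_of_inv hn hoa h
    · exact hrel_of_inv hn hoa h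
    · exact hrel_of_semidihedral h4 hoa h
  -- an element of `H` outside `⟨a⟩`
  obtain ⟨g, hgH, hga⟩ : ∃ g ∈ H, g ∉ zpowers a := by
    by_contra hcon
    push_neg at hcon
    exact hH (Subgroup.isCyclic_of_le (H' := zpowers a) hcon)
  -- an element of `H` outside `⟨g⟩`
  obtain ⟨h, hhH, hhg⟩ : ∃ h ∈ H, h ∉ zpowers g := by
    by_contra hcon
    push_neg at hcon
    exact hH (Subgroup.isCyclic_of_le (H' := zpowers g) hcon)
  -- a nontrivial element of `H ∩ ⟨a⟩`
  obtain ⟨w, hwH, hwa, hw1⟩ : ∃ w ∈ H, w ∈ zpowers a ∧ w ≠ 1 := by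
    by_cases hha : h ∈ zpowers a
    · refine ⟨h, hhH, hha, ?_⟩
      rintro rfl
      exact hhg (one_mem _)
    · refine ⟨g⁻¹ * h, mul_mem (inv_mem hgH) hhH, ?_, ?_⟩
      · rw [mul_mem_iff_of_index_two hai]
        constructor
        · intro h'
          exact absurd (inv_mem_iff.mp h') hga
        · intro h'
          exact absurd h' hha
      · intro h'
        apply hhg
        have : h = g := by
          calc h = g * (g⁻¹ * h) := by group
            _ = g := by rw [h', mul_one]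
        rw [this]
        exact mem_zpowers g
  have hzH : a ^ (2 ^ (n - 2)) ∈ H := by
    obtain ⟨m, rfl⟩ : ∃ m, n = m + 2 := ⟨n - 2, by omega⟩
    have e1 : m + 2 - 1 = m + 1 := by omega
    have e2 : m + 2 - 2 = m := by omega
    rw [e1] at hoa
    rw [e2]
    have := involution_mem_zpowers hoa hwa hw1
    exact (zpowers_le.mpr hwH) this
  intro x hx
  have hx' : x ∈ centralizer {g} := by
    rw [mem_centralizer_iff] at hx ⊢
    intro y hy
    rw [Set.mem_singleton_iff] at hy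
    rw [hy]
    exact hx g hgH
  rcases mem_of_mem_centralizer hn hoa hai hrel hb hga hx' with h1 | h1 | h1 | h1
  · rw [h1]
    exact one_mem _
  · rw [h1]
    exact hzH
  · rw [h1]
    exact hgH
  · rw [h1]
    exact mul_mem hgH hzH

end Cfsg.Agent.Lib.Lead.MaxClassCentralizers
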