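import Mathlib
import Cfsg.Agent.Lib.Lead.MaxClassCentralizers
import Cfsg.Agent.Lib.Lead.NormalRankTwo
import Cfsg.Agent.Lib.Helper24.DihIso

/-! `p`-groups in which every normal abelian subgroup is cyclic (Gorenstein 5.4.10 (ii)). -/

set_option autoImplicit false

namespace Cfsg.Agent.Lib.Lead.NormalAbelianCyclic

open Subgroup
open Cfsg.Agent.Lib.Lead.UniqueOrderP
open Cfsg.Agent.Lib.Lead.CyclicMax
open Cfsg.Agent.Lib.Lead.MaxClassCentralizers

universe u

variable {P : Type u} [Group P]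

theorem kleinSub_comm {s t : P} (hs : s * s = 1) (ht : t * t = 1) (hst : s * t = t * s) :
    ∀ x ∈ kleinSub s t hs ht hst, ∀ y ∈ kleinSub s t hs ht hst, x * y = y * x := by
  have e1 : ∀ x : P, s * (s * x) = x := fun x => by rw [← mul_assoc, hs, one_mul]
  have e2 : ∀ x : P, t * (t * x) = x := fun x => by rw [← mul_assoc, ht, one_mul]
  have e3 : ∀ x : P, t * (s * x) = s * (t * x) := fun x => by
    rw [← mul_assoc, ← hst, mul_assoc]
  have e4 : t * s = s * t := hst.symm
  rintro x (rfl | rfl | rfl | rfl) y (rfl | rfl | rfl | rfl) <;>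
    simp [mul_assoc, hs, ht, e1, e2, e3, e4]

/-- number theory: `2^(k+3) ∣ 2 * i * (1 + 2^(k+1)) → 2^(k+2) ∣ i` -/
theorem nt_a {k : ℕ} {i : ℤ} (h : (2 : ℤ) ^ (k + 3) ∣ 2 * (i * (1 + 2 ^ (k + 1)))) :
    (2 : ℤ) ^ (k + 2) ∣ i := by
  have h1 : (2 : ℤ) ^ (k + 3) = 2 * 2 ^ (k + 2) := by ring
  rw [h1] at h
  have h2 : (2 : ℤ) ^ (k + 2) ∣ i * (1 + 2 ^ (k + 1)) :=
    (mul_dvd_mul_iff_left (by norm_num : (2 : ℤ) ≠ 0)).mp h
  have hcop : IsCoprime ((2 : ℤ) ^ (k + 2)) (1 + 2 ^ (k + 1)) := by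
    apply IsCoprime.pow_left
    exact ⟨-2 ^ k, 1, by ring⟩
  exact hcop.dvd_of_dvd_mul_right h2

/-- number theory: `2^m ∣ r^2 - 1`, `4 ∣ r - 1` give `2^(m-1) ∣ r - 1` -/
theorem nt_b {m : ℕ} (hm : 1 ≤ m) {r : ℤ} (h1 : (2 : ℤ) ^ m ∣ r ^ 2 - 1) (h4 : (4 : ℤ) ∣ r - 1) :
    (2 : ℤ) ^ (m - 1) ∣ r - 1 := by
  obtain ⟨w, hw⟩ := h4
  obtain ⟨k, rfl⟩ : ∃ k, m = k + 1 := ⟨m - 1, by omega⟩
  rw [Nat.add_sub_cancel]
  have h2 : r ^ 2 - 1 = 2 * ((r - 1) * (2 * w + 1)) := by
    have : r = 4 * w + 1 := by linarith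
    rw [this]; ring
  rw [h2, pow_succ, mul_comm ((2 : ℤ) ^ k) 2] at h1
  have h3 : (2 : ℤ) ^ k ∣ (r - 1) * (2 * w + 1) :=
    (mul_dvd_mul_iff_left (by norm_num : (2 : ℤ) ≠ 0)).mp h1
  have hcop : IsCoprime ((2 : ℤ) ^ k) (2 * w + 1) := by
    apply IsCoprime.pow_left
    exact ⟨-w, 1, by ring⟩
  exact hcop.dvd_of_dvd_mul_right h3

/-- an involution of `⟨a⟩`, `a` of order `2 ^ (m + 1)`, is `a ^ (2 ^ m)` -/
theorem involution_eq [Finite P] {a y : P} {m : ℕ} (hoa : orderOf a = 2 ^ (m + 1))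
    (hy : y ∈ zpowers a) (hy1 : y ≠ 1) (hy2 : y * y = 1) : y = a ^ (2 ^ m) := by
  have h := involution_mem_zpowers hoa hy hy1
  obtain ⟨k, hk⟩ := mem_zpowers_iff.mp h
  have hz1 : a ^ (2 ^ m) ≠ 1 := by
    apply pow_ne_one_of_lt_orderOf (by positivity)
    rw [hoa]
    exact Nat.pow_lt_pow_right (by norm_num) (by omega)
  have hy2' : y ^ (2 : ℤ) = 1 := by rw [zpow_two]; exact hy2
  rcases Int.even_or_odd' k with ⟨l, rfl | rfl⟩
  · exfalso
    apply hz1
    rw [← hk, zpow_mul, hy2', one_zpow]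
  · rw [← hk, zpow_add, zpow_mul, hy2', one_zpow, one_mul, zpow_one]

/-- Lemma N: an element acting on a self-centralizing normal cyclic subgroup `⟨a⟩` of order
`2 ^ (k + 3)` by `a ↦ a ^ (1 + 2 ^ (k + 2))` produces a normal four-group. -/
theorem exists_normal_four_of_modular [Finite P] {a g : P} {k : ℕ}
    (hoa : orderOf a = 2 ^ (k + 3)) (hAn : (zpowers a).Normal)
    (hcent : ∀ x : P, x * a = a * x → x ∈ zpowers a)
    (hg : g ∉ zpowers a) (hg2 : g ^ 2 ∈ zpowers a)
    (hconj : g * a * g⁻¹ = a ^ (1 + 2 ^ (k + 2) : ℤ)) :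
    ∃ E : Subgroup P, E.Normal ∧ (∀ x ∈ E, ∀ y ∈ E, x * y = y * x) ∧ ¬ IsCyclic E := by
  set ρ : ℤ := 1 + 2 ^ (k + 2) with hρ
  have hoa' : orderOf a = 2 ^ ((k + 2) + 1) := hoa
  set z := a ^ (2 ^ (k + 2)) with hz
  have hzz : z * z = 1 := by
    rw [hz, ← pow_add, ← two_mul, ← pow_succ', ← hoa]
    exact pow_orderOf_eq_one a
  have hz1 : z ≠ 1 := by
    apply pow_ne_one_of_lt_orderOf (by positivity)
    rw [hoa]
    exact Nat.pow_lt_pow_right (by norm_num) (by omega)
  have hzA : z ∈ zpowers a := pow_mem (mem_zpowers a) _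
  -- `z` is central
  have hzc : ∀ x : P, x * z = z * x := by
    intro x
    have h1 : x * z * x⁻¹ ∈ zpowers a := hAn.conj_mem z hzA x
    have h2 : x * z * x⁻¹ ≠ 1 := by
      intro h
      apply hz1
      have : z = x⁻¹ * (x * z * x⁻¹) * x := by group
      rw [this, h]; group
    have h3 : (x * z * x⁻¹) * (x * z * x⁻¹) = 1 := by
      calc (x * z * x⁻¹) * (x * z * x⁻¹) = x * (z * z) * x⁻¹ := by group
        _ = 1 := by rw [hzz]; group
    have h4 := involution_eq hoa' h1 h2 h3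
    calc x * z = (x * z * x⁻¹) * x := by group
      _ = z * x := by rw [h4]
  -- `g ^ 2 = a ^ (2 s')`
  obtain ⟨s, hs⟩ := mem_zpowers_iff.mp hg2
  have hs2 : (2 : ℤ) ∣ s := by
    have h1 : g * a ^ s * g⁻¹ = a ^ (s * ρ) := conj_zpow_of_conj hconj s
    have h2 : g * a ^ s * g⁻¹ = a ^ s := by
      rw [hs]; group
    rw [h2] at h1
    have h3 := dvd_sub_of_zpow_eq hoa h1
    have h4 : s - s * ρ = -(s * 2 ^ (k + 2)) := by rw [hρ]; ring
    rw [h4, dvd_neg] at h3
    push_cast at h3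
    have h5 : (2 : ℤ) ^ (k + 3) = 2 ^ (k + 2) * 2 := by ring
    rw [h5, mul_comm s] at h3
    exact (mul_dvd_mul_iff_left (by positivity : (2 : ℤ) ^ (k + 2) ≠ 0)).mp h3
  obtain ⟨s', rfl⟩ := hs2
  -- the involution `t`
  set μ : ℤ := 1 + 2 ^ (k + 1) with hμ
  set j : ℤ := -(s' * μ) with hj
  set t := a ^ j * g with ht
  have htt : t * t = 1 := by
    have h1 := mul_pow_of_conj hconj j 2
    rw [Finset.sum_range_succ, Finset.sum_range_one, pow_zero, pow_one, ← hs, ← zpow_add] at h1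
    rw [← pow_two, ht, h1]
    have h2 : ((2 ^ (k + 3) : ℕ) : ℤ) ∣ (j * (1 + ρ) + 2 * s') - 0 := by
      push_cast
      refine ⟨-(s' * (1 + 2 ^ k)), ?_⟩
      rw [hj, hρ, hμ]
      ring
    have h3 := zpow_eq_of_dvd_sub hoa h2
    rw [h3, zpow_zero]
  have htA : t ∉ zpowers a := by
    intro h
    apply hg
    have : g = (a ^ j)⁻¹ * t := by rw [ht]; group
    rw [this]
    exact mul_mem (inv_mem (zpow_mem (mem_zpowers a) j)) h
  have htconj : t * a * t⁻¹ = a ^ ρ := by
    rw [ht]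
    calc a ^ j * g * a * (a ^ j * g)⁻¹ = a ^ j * (g * a * g⁻¹) * (a ^ j)⁻¹ := by group
      _ = a ^ j * a ^ ρ * (a ^ j)⁻¹ := by rw [hconj]
      _ = a ^ ρ := by
        rw [← zpow_add, ← zpow_neg, ← zpow_add]
        congr 1
        ring
  have htinv : t⁻¹ = t := inv_eq_of_mul_eq_one_left htt
  have hzt : z * t = t * z := (hzc t).symm
  have ht1 : t ≠ 1 := by
    intro h
    apply htA
    rw [h]
    exact one_mem _
  have hzt_ne : z ≠ t := by
    intro h
    apply htA
    rw [← h]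
    exact hzA
  refine ⟨kleinSub z t hzz htt hzt, ?_, kleinSub_comm hzz htt hzt,
    kleinSub_not_cyclic hzz htt hzt hz1 ht1 hzt_ne⟩
  -- conjugates of `t`
  have hconjt : ∀ h : P, h * t * h⁻¹ = t ∨ h * t * h⁻¹ = z * t := by
    intro h
    set t' := h * t * h⁻¹ with ht'
    -- `t'` acts on `a` like `t`
    have h1 : t' * a * t'⁻¹ = a ^ ρ := by
      have ha₁ : h⁻¹ * a * h⁻¹⁻¹ ∈ zpowers a := hAn.conj_mem a (mem_zpowers a) h⁻¹
      obtain ⟨l, hl⟩ := mem_zpowers_iff.mp ha₁
      rw [inv_inv] at hl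
      have h2 : t * a ^ l * t⁻¹ = (a ^ l) ^ ρ := by
        rw [conj_zpow_of_conj htconj l, ← zpow_mul]
      calc t' * a * t'⁻¹ = h * (t * (h⁻¹ * a * h) * t⁻¹) * h⁻¹ := by rw [ht']; group
        _ = h * ((h⁻¹ * a * h) ^ ρ) * h⁻¹ := by rw [← hl, h2]
        _ = (h * (h⁻¹ * a * h) * h⁻¹) ^ ρ := by
          have := map_zpow (MulAut.conj h) (h⁻¹ * a * h) ρ
          simp only [MulAut.conj_apply] at this
          exact this
        _ = a ^ ρ := by congr 1; group
    -- `c = t⁻¹ t'` centralizes `a`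
    have h2 : (t⁻¹ * t') * a = a * (t⁻¹ * t') := by
      have h3 : t * a ^ ρ * t⁻¹ = a := by
        rw [conj_zpow_of_conj htconj ρ]
        have h4 : ((2 ^ (k + 3) : ℕ) : ℤ) ∣ ρ * ρ - 1 := by
          push_cast
          refine ⟨1 + 2 ^ (k + 1), ?_⟩
          rw [hρ]; ring
        have := zpow_eq_of_dvd_sub hoa h4
        rw [this, zpow_one]
      have h5 : t⁻¹ * a ^ ρ * t = a := by
        have : t⁻¹ * a ^ ρ * t = t * a ^ ρ * t⁻¹ := by rw [htinv]
        rw [this, h3]
      calc (t⁻¹ * t') * a = t⁻¹ * (t' * a * t'⁻¹) * t' := by group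
        _ = t⁻¹ * a ^ ρ * t * (t⁻¹ * t') := by rw [h1]; group
        _ = a * (t⁻¹ * t') := by rw [h5]
    have hcA := hcent _ h2
    obtain ⟨i, hi⟩ := mem_zpowers_iff.mp hcA
    have ht'eq : t' = a ^ (i * ρ) * t := by
      have h3 : t' = t * a ^ i := by rw [hi]; group
      have h4 := conj_zpow_of_conj htconj i
      rw [h3, ← h4]; group
    -- `t'` is an involution
    have ht't' : t' * t' = 1 := by
      rw [ht']
      calc h * t * h⁻¹ * (h * t * h⁻¹) = h * (t * t) * h⁻¹ := by group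
        _ = 1 := by rw [htt]; group
    have h6 := mul_pow_of_conj htconj (i * ρ) 2
    rw [Finset.sum_range_succ, Finset.sum_range_one, pow_zero, pow_one, ← ht'eq, pow_two, ht't',
      pow_two, htt, mul_one] at h6
    have h7 := dvd_sub_of_zpow_eq hoa (h6.symm.trans (zpow_zero a).symm)
    rw [sub_zero] at h7
    push_cast at h7
    have h8 : (2 : ℤ) ^ (k + 3) ∣ 2 * ((i * ρ * (1 + 2 ^ k)) * (1 + 2 ^ (k + 1))) := by
      have : i * ρ * (1 + ρ) = 2 * (i * ρ * (1 + 2 ^ (k + 1))) := by rw [hρ]; ring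
      rw [this] at h7
      obtain ⟨w, hw⟩ := h7
      refine ⟨w * (1 + 2 ^ k), ?_⟩
      calc 2 * (i * ρ * (1 + 2 ^ k) * (1 + 2 ^ (k + 1)))
          = 2 * (i * ρ * (1 + 2 ^ (k + 1))) * (1 + 2 ^ k) := by ring
        _ = 2 ^ (k + 3) * w * (1 + 2 ^ k) := by rw [hw]
        _ = 2 ^ (k + 3) * (w * (1 + 2 ^ k)) := by ring
    have h9 := nt_a h8
    -- so `a ^ (i ρ)` is `1` or `z`
    have h10 : (2 : ℤ) ^ (k + 2) ∣ i * ρ := by
      -- `ρ (1 + 2^k) ≡ ...`; use directly: `i ρ (1+2^k)` divisible, and `(1 + 2^k)`... go back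
      have hcop : IsCoprime ((2 : ℤ) ^ (k + 2)) (1 + 2 ^ (k + 1)) := by
        apply IsCoprime.pow_left
        exact ⟨-2 ^ k, 1, by ring⟩
      have h11 : (2 : ℤ) ^ (k + 3) ∣ 2 * ((i * ρ) * (1 + 2 ^ (k + 1))) := by
        have : i * ρ * (1 + ρ) = 2 * ((i * ρ) * (1 + 2 ^ (k + 1))) := by rw [hρ]; ring
        rw [← this]
        exact h7
      exact nt_a h11
    obtain ⟨w, hw⟩ := h10
    have h12 : a ^ (i * ρ) = z ^ w := by
      rw [hw, zpow_mul, hz]
      norm_cast
    rcases Int.even_or_odd' w with ⟨l, rfl | rfl⟩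
    · left
      rw [ht'eq, h12, zpow_mul, zpow_two, hzz, one_zpow, one_mul]
    · right
      rw [ht'eq, h12, zpow_add, zpow_mul, zpow_two, hzz, one_zpow, one_mul, zpow_one]
  constructor
  intro n hn h
  rw [mem_kleinSub] at hn ⊢
  have hzconj : h * z * h⁻¹ = z := by
    rw [hzc h]; group
  rcases hn with rfl | rfl | rfl | rfl
  · left; group
  · right; left; exact hzconj
  · rcases hconjt h with h1 | h1
    · right; right; left; exact h1
    · right; right; right; exact h1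
  · have : h * (z * t) * h⁻¹ = (h * z * h⁻¹) * (h * t * h⁻¹) := by group
    rw [this, hzconj]
    rcases hconjt h with h1 | h1
    · right; right; right; rw [h1]
    · right; right; left
      rw [h1, ← mul_assoc, hzz, one_mul]

/-- every `p`-group all of whose normal abelian subgroups are cyclic is cyclic or a `2`-group of
maximal class other than `D₈` -/
theorem structure_of_normal_abelian_cyclic [Finite P] (p : ℕ) [hp : Fact p.Prime]
    (hP : IsPGroup p P)
    (hn : ∀ A : Subgroup P, A.Normal → (∀ x ∈ A, ∀ y ∈ A, x * y = y * x) → IsCyclic A)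
    (hnc : ¬ IsCyclic P) :
    p = 2 ∧ ∃ (n : ℕ) (a b : P), 3 ≤ n ∧ Nat.card P = 2 ^ n ∧ orderOf a = 2 ^ (n - 1) ∧
      b ∉ zpowers a ∧ (zpowers a).index = 2 ∧
      ((4 ≤ n ∧ b ^ 2 = 1 ∧ b * a * b⁻¹ = a⁻¹) ∨ (b ^ 2 = a ^ (2 ^ (n - 2)) ∧ b * a * b⁻¹ = a⁻¹) ∨
        (4 ≤ n ∧ b ^ 2 = 1 ∧ b * a * b⁻¹ = a ^ (2 ^ (n - 2) - 1))) := by
  -- Step 1: `p = 2`
  have hp2 : p = 2 := by
    by_contra hp2
    have hnc' : ¬ IsCyclic (⊤ : Subgroup P) := by
      intro h
      exact hnc (isCyclic_of_surjective (Subgroup.topEquiv : (⊤ : Subgroup P) ≃* P)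
        (MulEquiv.surjective _))
    obtain ⟨A', -, hA'n, hA'e, hA'c⟩ :=
      Cfsg.Agent.Lib.Lead.NormalRankTwo.exists_normal_elementaryAbelian_sq hp2 hP ⊤ hnc'
    have hA'comm : ∀ x ∈ A', ∀ y ∈ A', x * y = y * x := by
      intro x hx y hy
      have := hA'e.1.is_comm.comm (⟨x, hx⟩ : A') ⟨y, hy⟩
      exact congrArg Subtype.val this
    have hcyc := hn A' hA'n hA'comm
    obtain ⟨g, hg⟩ := hcyc.exists_generator
    have hog : orderOf g = p ^ 2 := by
      rw [orderOf_eq_card_of_forall_mem_zpowers hg, hA'c]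
    have hgp : g ^ p = 1 := by
      apply Subtype.ext
      rw [Subgroup.coe_pow]
      exact hA'e.2 g.1 g.2
    have := orderOf_dvd_of_pow_eq_one hgp
    rw [hog] at this
    have h1 : p ^ 2 ≤ p := Nat.le_of_dvd hp.out.pos this
    have h2 : p < p ^ 2 := by
      calc p = p ^ 1 := (pow_one p).symm
        _ < p ^ 2 := Nat.pow_lt_pow_right hp.out.one_lt (by norm_num)
    omega
  subst hp2
  refine ⟨rfl, ?_⟩
  -- Step 2: a maximal normal abelian subgroup
  obtain ⟨A, -, hAmax⟩ := Finite.exists_le_maximal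
    (p := fun B : Subgroup P => B.Normal ∧ ∀ x ∈ B, ∀ y ∈ B, x * y = y * x) (a := ⊥)
    ⟨inferInstance, by
      intro x hx y hy
      rw [mem_bot] at hx hy
      rw [hx, hy]⟩
  obtain ⟨⟨hAn, hAab⟩, hAm⟩ := hAmax
  haveI := hAn
  have hcentA : centralizer (A : Set P) = A :=
    centralizer_eq_of_maximal_normal_abelian hP A hAab (by
      intro B hBn hBab hAB
      exact le_antisymm (hAm ⟨hBn, hBab⟩ hAB) hAB)
  have hAc : IsCyclic A := hn A hAn hAab
  obtain ⟨a, ha⟩ := (Subgroup.isCyclic_iff_exists_zpowers_eq_top A).mp hAc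
  have haA : a ∈ A := by rw [← ha]; exact mem_zpowers a
  have hAn' : (zpowers a).Normal := by rw [ha]; exact hAn
  have hcent : ∀ x : P, x * a = a * x → x ∈ zpowers a := by
    intro x hx
    rw [ha, ← hcentA, mem_centralizer_iff]
    intro y hy
    rw [← ha] at hy
    obtain ⟨i, rfl⟩ := mem_zpowers_iff.mp hy
    have : Commute a x := hx.symm
    exact (this.zpow_left i).eq
  obtain ⟨m, hm⟩ : ∃ m, orderOf a = 2 ^ m := by
    obtain ⟨m, hm⟩ := IsPGroup.iff_card.mp (hP.to_subgroup (zpowers a))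
    exact ⟨m, by rw [← hm, Nat.card_zpowers]⟩
  -- Step 3: `A ≠ ⊤` and `2 ≤ m`
  have hAtop : zpowers a ≠ ⊤ := by
    intro h
    apply hnc
    refine ⟨⟨a, fun x => ?_⟩⟩
    have : x ∈ zpowers a := by rw [h]; exact mem_top x
    exact this
  obtain ⟨g₀, hg₀⟩ : ∃ g₀, g₀ ∉ zpowers a := by
    by_contra h; push_neg at h
    exact hAtop (eq_top_iff.mpr fun x _ => h x)
  have hm2 : 2 ≤ m := by
    by_contra hlt
    apply hg₀
    apply hcent
    have h1 : g₀ * a * g₀⁻¹ ∈ zpowers a := hAn'.conj_mem a (mem_zpowers a) g₀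
    have hm' : m = 0 ∨ m = 1 := by omega
    rcases hm' with rfl | rfl
    · rw [pow_zero, orderOf_eq_one_iff] at hm
      rw [hm]; simp
    · rw [pow_one] at hm
      have haa : a * a = 1 := by rw [← pow_two, ← hm]; exact pow_orderOf_eq_one a
      have ha1 : a ≠ 1 := by
        intro h
        rw [h, orderOf_one] at hm
        norm_num at hm
      have hoa' : orderOf a = 2 ^ (0 + 1) := by rw [hm]; norm_num
      have h2 : g₀ * a * g₀⁻¹ ≠ 1 := by
        intro h
        apply ha1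
        have : a = g₀⁻¹ * (g₀ * a * g₀⁻¹) * g₀ := by group
        rw [this, h]; group
      have h3 : (g₀ * a * g₀⁻¹) * (g₀ * a * g₀⁻¹) = 1 := by
        calc (g₀ * a * g₀⁻¹) * (g₀ * a * g₀⁻¹) = g₀ * (a * a) * g₀⁻¹ := by group
          _ = 1 := by rw [haa]; group
      have h4 := involution_eq hoa' h1 h2 h3
      rw [pow_zero, pow_one] at h4
      calc g₀ * a = (g₀ * a * g₀⁻¹) * g₀ := by group
        _ = a * g₀ := by rw [h4]
  -- Step 4: the centralizer of `u = a ^ (2 ^ (m - 2))` is `⟨a⟩`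
  set u := a ^ (2 ^ (m - 2)) with hu
  have hD : ∀ x : P, x * u = u * x → x ∈ zpowers a := by
    intro x hxu
    by_contra hxA
    -- a power `g` of `x` with `g ∉ A`, `g ^ 2 ∈ A`
    have hex' : ∃ k, x ^ (2 ^ k) ∈ zpowers a := by
      obtain ⟨k, hk⟩ := hP x
      exact ⟨k, by rw [hk]; exact one_mem _⟩
    classical
    obtain ⟨k, hk, hmin⟩ : ∃ k, x ^ (2 ^ k) ∈ zpowers a ∧ ∀ j < k, x ^ (2 ^ j) ∉ zpowers a :=
      ⟨Nat.find hex', Nat.find_spec hex', fun j hj => Nat.find_min hex' hj⟩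
    have hk1 : k ≠ 0 := by
      rintro rfl
      simp at hk
      exact hxA hk
    set g := x ^ (2 ^ (k - 1)) with hg
    have hgA : g ∉ zpowers a := hmin (k - 1) (by omega)
    have hg2 : g ^ 2 ∈ zpowers a := by
      rw [hg, ← pow_mul, ← pow_succ]
      have : k - 1 + 1 = k := by omega
      rw [this]
      exact hk
    have hgu : g * u = u * g := by
      have : Commute x u := hxu
      exact (this.pow_left _).eq
    obtain ⟨r, hr⟩ := mem_zpowers_iff.mp (hAn'.conj_mem a (mem_zpowers a) g)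
    -- `4 ∣ r - 1`
    have h4 : (4 : ℤ) ∣ r - 1 := by
      have h1 : g * a ^ ((2 ^ (m - 2) : ℕ) : ℤ) * g⁻¹ = a ^ (((2 ^ (m - 2) : ℕ) : ℤ) * r) :=
        conj_zpow_of_conj hr.symm _
      rw [zpow_natCast, ← hu] at h1
      have h2 : g * u * g⁻¹ = u := by rw [hgu]; group
      rw [h2, hu, ← zpow_natCast] at h1
      have h3 := dvd_sub_of_zpow_eq hm h1
      obtain ⟨m', rfl⟩ : ∃ m', m = m' + 2 := ⟨m - 2, by omega⟩
      rw [Nat.add_sub_cancel] at h3
      push_cast at h3
      have h5 : (2 : ℤ) ^ m' - 2 ^ m' * r = -(2 ^ m' * (r - 1)) := by ring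
      rw [h5, dvd_neg, pow_add] at h3
      have h6 := (mul_dvd_mul_iff_left (by positivity : (2 : ℤ) ^ m' ≠ 0)).mp h3
      norm_num at h6
      exact h6
    -- `2 ^ m ∣ r ^ 2 - 1`
    have hr2 : ((2 ^ m : ℕ) : ℤ) ∣ r ^ 2 - 1 := by
      have h1 := pow_conj_of_conj hr.symm 2
      obtain ⟨i, hi⟩ := mem_zpowers_iff.mp hg2
      have h2 : g ^ 2 * a * (g ^ 2)⁻¹ = a := by
        rw [← hi]
        have : Commute (a ^ i) a := (Commute.refl a).zpow_left i
        rw [this.eq]; group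
      rw [h2] at h1
      have h3 := dvd_sub_of_zpow_eq hm ((zpow_one a).trans h1)
      have : r ^ 2 - 1 = -(1 - r ^ 2) := by ring
      rw [this, dvd_neg]
      exact h3
    push_cast at hr2
    have hr3 := nt_b (by omega) hr2 h4
    obtain ⟨e, he⟩ := hr3
    rcases Int.even_or_odd' e with ⟨l, rfl | rfl⟩
    · -- `r ≡ 1`: `g` centralizes `a`
      apply hgA
      apply hcent
      have h1 : a ^ r = a ^ (1 : ℤ) := by
        apply zpow_eq_of_dvd_sub hm
        push_cast
        refine ⟨l, ?_⟩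
        rw [he]
        have : (2 : ℤ) ^ m = 2 ^ (m - 1) * 2 := by
          rw [← pow_succ]
          congr 1
          omega
        rw [this]; ring
      rw [zpow_one] at h1
      calc g * a = (g * a * g⁻¹) * g := by group
        _ = a * g := by rw [← hr, h1]
    · -- `r ≡ 1 + 2 ^ (m - 1)`
      have hm3 : 3 ≤ m := by
        by_contra hlt
        have hm' : m = 2 := by omega
        subst hm'
        -- then `4 ∣ r - 1` gives `r ≡ 1 mod 4`
        apply hgA
        apply hcent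
        have h1 : a ^ r = a ^ (1 : ℤ) := by
          apply zpow_eq_of_dvd_sub hm
          push_cast
          exact h4
        rw [zpow_one] at h1
        calc g * a = (g * a * g⁻¹) * g := by group
          _ = a * g := by rw [← hr, h1]
      obtain ⟨k', rfl⟩ : ∃ k', m = k' + 3 := ⟨m - 3, by omega⟩
      have h1 : a ^ r = a ^ (1 + 2 ^ (k' + 2) : ℤ) := by
        apply zpow_eq_of_dvd_sub hm
        push_cast
        refine ⟨l, ?_⟩
        have e1 : k' + 3 - 1 = k' + 2 := by omega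
        rw [e1] at he
        have : r = 1 + 2 ^ (k' + 2) * (2 * l + 1) := by linarith
        rw [this]; ring
      have hconj : g * a * g⁻¹ = a ^ (1 + 2 ^ (k' + 2) : ℤ) := by rw [← hr, h1]
      obtain ⟨E, hEn, hEab, hEnc⟩ := exists_normal_four_of_modular hm hAn' hcent hgA hg2 hconj
      exact hEnc (hn E hEn hEab)
  -- Step 5: `⟨a⟩` has index two
  have hou : orderOf u = 4 := by
    rw [hu, orderOf_pow_of_dvd (by positivity) (by rw [hm]; exact pow_dvd_pow 2 (by omega)), hm,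
      Nat.pow_div (by omega) (by norm_num)]
    have : m - (m - 2) = 2 := by omega
    rw [this]
  have hu4 : u ^ (4 : ℤ) = 1 := by
    have := pow_orderOf_eq_one u
    rw [hou] at this
    exact_mod_cast this
  have hu1 : u ≠ 1 := by
    intro h
    rw [h, orderOf_one] at hou
    norm_num at hou
  have hu2 : u ^ (2 : ℤ) ≠ 1 := by
    intro h
    have h1 : u ^ 2 = 1 := by exact_mod_cast h
    have := orderOf_dvd_of_pow_eq_one h1
    rw [hou] at this
    norm_num at this
  have hinvu : ∀ x : P, x ∉ zpowers a → x * u * x⁻¹ = u⁻¹ := by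
    intro x hx
    obtain ⟨r, hr⟩ := mem_zpowers_iff.mp (hAn'.conj_mem a (mem_zpowers a) x)
    have h1 : x * u * x⁻¹ = u ^ r := by
      have h2 := conj_zpow_of_conj hr.symm ((2 ^ (m - 2) : ℕ) : ℤ)
      rw [zpow_natCast, ← hu] at h2
      rw [h2, hu, ← zpow_natCast, ← zpow_mul]
    have h3 : u ^ r = u ^ (r % 4) := by
      have := zpow_mod_orderOf u r
      rw [hou] at this
      exact_mod_cast this.symm
    have h4 : r % 4 = 0 ∨ r % 4 = 1 ∨ r % 4 = 2 ∨ r % 4 = 3 := by omega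
    rcases h4 with h4 | h4 | h4 | h4
    · exfalso
      rw [h3, h4, zpow_zero] at h1
      apply hu1
      have : u = x⁻¹ * (x * u * x⁻¹) * x := by group
      rw [this, h1]; group
    · exfalso
      rw [h3, h4, zpow_one] at h1
      apply hx
      apply hD
      calc x * u = (x * u * x⁻¹) * x := by group
        _ = u * x := by rw [h1]
    · exfalso
      rw [h3, h4] at h1
      apply hu2
      have h5 : (x * u * x⁻¹) ^ (2 : ℤ) = 1 := by
        rw [h1, ← zpow_mul]
        exact hu4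
      have h6 : (x * u * x⁻¹) ^ (2 : ℤ) = x * u ^ (2 : ℤ) * x⁻¹ := by
        have := map_zpow (MulAut.conj x) u 2
        simp only [MulAut.conj_apply] at this
        exact this.symm
      rw [h6] at h5
      have : u ^ (2 : ℤ) = x⁻¹ * (x * u ^ (2 : ℤ) * x⁻¹) * x := by group
      rw [this, h5]; group
    · rw [h1, h3, h4]
      have : u ^ (3 : ℤ) * u = 1 := by
        have : u ^ (3 : ℤ) * u = u ^ (4 : ℤ) := by
          rw [← zpow_add_one]; norm_num
        rw [this, hu4]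
      exact eq_inv_of_mul_eq_one_left this
  have hidx : (zpowers a).index = 2 := by
    rw [index_eq_two_iff]
    refine ⟨g₀, fun b => ?_⟩
    by_cases hb : b ∈ zpowers a
    · refine Or.inr ⟨hb, ?_⟩
      intro h
      exact hg₀ ((mul_mem_cancel_left hb).mp h)
    · refine Or.inl ⟨?_, hb⟩
      apply hD
      have h1 := hinvu g₀ hg₀
      have h2 := hinvu b hb
      have h3 : b * g₀ * u * (b * g₀)⁻¹ = u := by
        calc b * g₀ * u * (b * g₀)⁻¹ = b * (g₀ * u * g₀⁻¹) * b⁻¹ := by group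
          _ = b * u⁻¹ * b⁻¹ := by rw [h1]
          _ = (b * u * b⁻¹)⁻¹ := by group
          _ = u := by rw [h2, inv_inv]
      calc b * g₀ * u = (b * g₀ * u * (b * g₀)⁻¹) * (b * g₀) := by group
        _ = u * (b * g₀) := by rw [h3]
  -- Step 6: classification
  have hcard : Nat.card P = 2 ^ (m + 1) := by
    have := Subgroup.card_mul_index (zpowers a)
    rw [hidx, Nat.card_zpowers, hm] at this
    rw [← this, pow_succ]
  have hna : ∃ x y : P, x * y ≠ y * x := ⟨g₀, a, fun h => hg₀ (hcent g₀ h)⟩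
  obtain ⟨a', b', hoa', hCa', hb', hrel⟩ :=
    exists_gens_two (m + 1) (by omega) hcard (zpowers a) inferInstance hidx hna
  have hidx' : (zpowers a').index = 2 := by rw [← hCa']; exact hidx
  have e1 : m + 1 - 1 = m := by omega
  have e2 : m + 1 - 2 = m - 1 := by omega
  refine ⟨m + 1, a', b', by omega, hcard, hoa', hb', hidx', ?_⟩
  rw [e1] at hoa'
  rw [e2] at hrel ⊢
  have hcent' : ∀ x : P, x * a' = a' * x → x ∈ zpowers a' := by
    intro x hx
    rw [← hCa']
    apply hcent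
    have haa' : a ∈ zpowers a' := by rw [← hCa']; exact mem_zpowers a
    obtain ⟨i, rfl⟩ := mem_zpowers_iff.mp haa'
    have : Commute x a' := hx
    exact (this.zpow_right i).eq
  have hAn'' : (zpowers a').Normal := by rw [← hCa']; exact hAn'
  have hb'1 : b' ≠ 1 := by
    intro h
    apply hb'
    rw [h]
    exact one_mem _
  rcases hrel with ⟨hb2, hinv⟩ | ⟨hb2, hinv⟩ | ⟨h4, hb2, hmod⟩ | ⟨h4, hb2, hsd⟩
  · -- dihedral: exclude order `8`
    left
    refine ⟨?_, hb2, hinv⟩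
    by_contra hlt
    have hm' : m = 2 := by omega
    subst hm'
    have ha4 : a' ^ 4 = 1 := by
      have := pow_orderOf_eq_one a'
      rw [hoa'] at this
      exact this
    set s := a' ^ 2 with hs
    have hss : s * s = 1 := by rw [hs, ← pow_add]; exact ha4
    have hbb : b' * b' = 1 := by rw [← pow_two]; exact hb2
    have hs1 : s ≠ 1 := by
      rw [hs]
      apply pow_ne_one_of_lt_orderOf (by norm_num)
      rw [hoa']; norm_num
    have hsb : s * b' = b' * s := by
      have h1 : b' * s * b'⁻¹ = s := by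
        rw [hs, ← conj_pow, hinv, inv_pow]
        apply inv_eq_of_mul_eq_one_left
        rw [← pow_add]
        exact ha4
      calc s * b' = (b' * s * b'⁻¹) * b' := by rw [h1]
        _ = b' * s := by group
    have hsne : s ≠ b' := by
      intro h
      apply hb'
      rw [← h, hs]
      exact pow_mem (mem_zpowers a') 2
    set E := kleinSub s b' hss hbb hsb with hE
    have hEnc := kleinSub_not_cyclic hss hbb hsb hs1 hb'1 hsne
    have hEcard : Nat.card E = 4 := by
      obtain ⟨j, hj⟩ := IsPGroup.iff_card.mp (hP.to_subgroup E)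
      have hle := card_kleinSub_le hss hbb hsb
      rw [← hE, hj] at hle
      have hj2 : j ≤ 2 := by
        by_contra hlt'
        have : 2 ^ 3 ≤ 2 ^ j := Nat.pow_le_pow_right (by norm_num) (by omega)
        omega
      have hj1 : 2 ≤ j := by
        by_contra hlt'
        apply hEnc
        have hj' : j = 0 ∨ j = 1 := by omega
        rcases hj' with rfl | rfl
        · rw [pow_zero] at hj
          haveI : Subsingleton E := (Nat.card_eq_one_iff_unique.mp hj).1
          infer_instance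
        · rw [pow_one] at hj
          exact isCyclic_of_prime_card hj
      have : j = 2 := by omega
      rw [hj, this]
      norm_num
    have hEidx : E.index = 2 := by
      have := Subgroup.card_mul_index E
      rw [hEcard, hcard] at this
      omega
    have hEn : E.Normal := Subgroup.normal_of_index_eq_two hEidx
    exact hEnc (hn E hEn (kleinSub_comm hss hbb hsb))
  · right; left
    exact ⟨hb2, hinv⟩
  · -- modular: excluded by Lemma N
    exfalso
    obtain ⟨k, rfl⟩ : ∃ k, m = k + 3 := ⟨m - 3, by omega⟩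
    have e3 : k + 3 - 1 = k + 2 := by omega
    rw [e3] at hmod
    have hconj : b' * a' * b'⁻¹ = a' ^ (1 + 2 ^ (k + 2) : ℤ) := by
      rw [hmod]
      exact_mod_cast (zpow_natCast a' (1 + 2 ^ (k + 2))).symm
    have hg2 : b' ^ 2 ∈ zpowers a' := by rw [hb2]; exact one_mem _
    obtain ⟨E, hEn, hEab, hEnc⟩ := exists_normal_four_of_modular hoa' hAn'' hcent' hb' hg2 hconj
    exact hEnc (hn E hEn hEab)
  · right; right
    exact ⟨h4, hb2, hsd⟩

end Cfsg.Agent.Lib.Lead.NormalAbelianCyclic
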