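import Mathlib

set_option autoImplicit false

/-! Verified coset-table certificates for groups generated by involutions with arbitrary word relators.
Tables are packed in naturals (16 bits per entry). Every entry of the table is justified either as a
definition (tree edge) or by a relator / subgroup word traced around a cycle all of whose other edges have
strictly smaller rank. -/

namespace Cfsg.Agent.Lib.Lead.WTC

def get16 (N x : ℕ) : ℕ := N / 65536 ^ x % 65536

def expand (p : List ℕ × ℕ) : List ℕ := (List.replicate p.2 p.1).flatten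

structure Cert where
  n : ℕ
  k : ℕ
  tab : ℕ → ℕ
  rk : ℕ → ℕ
  js : ℕ → ℕ
  par : ℕ
  sg : ℕ
  rels : List (List ℕ)
  subs : List (List ℕ)

namespace Cert
variable (c : Cert)

def T (x s : ℕ) : ℕ := get16 (c.tab s) x
def R (x s : ℕ) : ℕ := get16 (c.rk s) x
def K (x s : ℕ) : ℕ := get16 (c.js s) x
def P (j : ℕ) : ℕ := get16 c.par j
def S (j : ℕ) : ℕ := get16 c.sg j

def scan (bound : ℕ) : List ℕ → ℕ → Option ℕ
  | [], x => some x
  | u :: l, x => if u < c.k ∧ c.R x u < bound then scan bound l (c.T x u) else none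

def gapOK (bound : ℕ) (w : List ℕ) (p x s y : ℕ) (base : Bool) : Bool :=
  decide (w[p]? = some s) &&
  match c.scan bound (w.take p).reverse x with
  | some x0 => (!base || decide (x0 = 0)) && decide (c.scan bound (w.drop (p+1)) y = some x0)
  | none => false

def entryOK (x s : ℕ) : Bool :=
  decide (c.T x s < c.n) &&
  (if c.K x s = 0 then
      decide (c.T x s ≠ 0) && decide (c.P (c.T x s) = x) && decide (c.S (c.T x s) = s)
   else
     if (c.K x s - 1) / 128 < c.rels.length then
       c.gapOK (c.R x s) (c.rels.getD ((c.K x s - 1) / 128) []) ((c.K x s - 1) % 128) x s (c.T x s) false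
     else
       c.gapOK (c.R x s) (c.subs.getD ((c.K x s - 1) / 128 - c.rels.length) [])
         ((c.K x s - 1) % 128) x s (c.T x s) true)

def treeOK : Bool :=
  (List.range c.n).all fun j =>
    decide (j = 0) ||
      (decide (c.P j < j) && decide (c.S j < c.k) && decide (c.T (c.P j) (c.S j) = j))

def ok : Bool :=
  c.treeOK && (List.range c.n).all fun x => (List.range c.k).all fun s => c.entryOK x s

theorem ok_tree (h : c.ok = true) :
    ∀ j, j < c.n → j ≠ 0 → c.P j < j ∧ c.S j < c.k ∧ c.T (c.P j) (c.S j) = j := by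
  intro j hj hj0
  unfold ok at h
  rw [Bool.and_eq_true] at h
  have h1 := h.1
  unfold treeOK at h1
  rw [List.all_eq_true] at h1
  have h2 := h1 j (List.mem_range.mpr hj)
  simp only [Bool.or_eq_true, Bool.and_eq_true, decide_eq_true_eq] at h2
  rcases h2 with h2 | h2
  · exact absurd h2 hj0
  · exact ⟨h2.1.1, h2.1.2, h2.2⟩

theorem ok_entry (h : c.ok = true) :
    ∀ x, x < c.n → ∀ s, s < c.k → c.entryOK x s = true := by
  intro x hx s hs
  unfold ok at h
  rw [Bool.and_eq_true] at h
  have h1 := h.2
  rw [List.all_eq_true] at h1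
  have h2 := h1 x (List.mem_range.mpr hx)
  rw [List.all_eq_true] at h2
  exact h2 s (List.mem_range.mpr hs)

theorem ok_T_lt (h : c.ok = true) :
    ∀ x, x < c.n → ∀ s, s < c.k → c.T x s < c.n := by
  intro x hx s hs
  have := c.ok_entry h x hx s hs
  unfold entryOK at this
  rw [Bool.and_eq_true] at this
  exact of_decide_eq_true this.1

section sound
variable {G : Type*} [Group G] (g : ℕ → G)

def wd (l : List ℕ) : G := (l.map g).prod

theorem wd_nil : wd g [] = 1 := by simp [wd]

theorem wd_cons (u : ℕ) (l : List ℕ) : wd g (u :: l) = g u * wd g l := by simp [wd]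

theorem wd_append (l l' : List ℕ) : wd g (l ++ l') = wd g l * wd g l' := by simp [wd]

theorem wd_reverse {l : List ℕ} (h : ∀ u ∈ l, g u * g u = 1) : wd g l.reverse = (wd g l)⁻¹ := by
  induction l with
  | nil => simp [wd]
  | cons u l ih =>
    have hu : (g u)⁻¹ = g u := inv_eq_of_mul_eq_one_right (h u (List.mem_cons_self))
    rw [List.reverse_cons, wd_append, wd_cons, wd_cons, wd_nil, mul_one, mul_inv_rev,
      ih (fun v hv => h v (List.mem_cons_of_mem _ hv)), hu]

theorem wd_expand (p : List ℕ × ℕ) : wd g (expand p) = (wd g p.1) ^ p.2 := by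
  obtain ⟨w, m⟩ := p
  unfold expand
  induction m with
  | zero => simp [wd]
  | succ m ih =>
    simp only [List.replicate_succ, List.flatten_cons] at ih ⊢
    rw [wd_append, ih, pow_succ']

theorem wd_split {w : List ℕ} {p s : ℕ} (h : w[p]? = some s) :
    wd g w = wd g (w.take p) * (g s * wd g (w.drop (p + 1))) := by
  obtain ⟨hp, hs⟩ := List.getElem?_eq_some_iff.mp h
  have h1 : w = w.take p ++ w.drop p := (List.take_append_drop p w).symm
  have h2 : w.drop p = s :: w.drop (p + 1) := by
    rw [List.drop_eq_getElem_cons hp, hs]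
  conv_lhs => rw [h1, h2]
  rw [wd_append, wd_cons]

noncomputable def rep : ℕ → G
  | 0 => 1
  | j+1 => if h : c.P (j+1) < j+1 then rep (c.P (j+1)) * g (c.S (j+1)) else 1
termination_by j => j
decreasing_by exact h

theorem rep_zero : c.rep g 0 = 1 := by
  rw [rep]

theorem rep_pos {j : ℕ} (hj : j ≠ 0) (h : c.P j < j) :
    c.rep g j = c.rep g (c.P j) * g (c.S j) := by
  cases j with
  | zero => exact absurd rfl hj
  | succ j =>
    rw [rep]
    rw [dif_pos h]

variable {g}

theorem scan_sound (H : Subgroup G) (bound : ℕ)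
    (hT : ∀ x, x < c.n → ∀ s, s < c.k → c.T x s < c.n)
    (hE : ∀ x, x < c.n → ∀ s, s < c.k → c.R x s < bound →
      c.rep g x * g s * (c.rep g (c.T x s))⁻¹ ∈ H) :
    ∀ (l : List ℕ) (x e : ℕ), x < c.n → c.scan bound l x = some e →
      e < c.n ∧ (∀ u ∈ l, u < c.k) ∧ c.rep g x * wd g l * (c.rep g e)⁻¹ ∈ H := by
  intro l
  induction l with
  | nil =>
    intro x e hx h
    simp only [scan, Option.some.injEq] at h
    subst h
    refine ⟨hx, by simp, ?_⟩
    simp [wd_nil]
  | cons u l ih =>
    intro x e hx h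
    simp only [scan] at h
    split_ifs at h with hr
    obtain ⟨hu, hr⟩ := hr
    have h1 := hE x hx u hu hr
    obtain ⟨he, hl, h2⟩ := ih (c.T x u) e (hT x hx u hu) h
    refine ⟨he, ?_, ?_⟩
    · intro v hv
      rcases List.mem_cons.mp hv with rfl | hv
      · exact hu
      · exact hl v hv
    · have : c.rep g x * wd g (u :: l) * (c.rep g e)⁻¹ =
          (c.rep g x * g u * (c.rep g (c.T x u))⁻¹) *
            (c.rep g (c.T x u) * wd g l * (c.rep g e)⁻¹) := by
        rw [wd_cons]; group
      rw [this]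
      exact Subgroup.mul_mem _ h1 h2

theorem mem_of_getD {L : List (List ℕ)} {i p s : ℕ} (h : (L.getD i [])[p]? = some s) :
    L.getD i [] ∈ L := by
  by_cases hi : i < L.length
  · rw [List.getD_eq_getElem _ _ hi]
    exact List.getElem_mem hi
  · rw [List.getD_eq_default _ _ (by omega)] at h
    simp at h

theorem gap_sound (H : Subgroup G) (hsq : ∀ s, s < c.k → g s * g s = 1)
    (hT : ∀ x, x < c.n → ∀ s, s < c.k → c.T x s < c.n)
    {bound : ℕ} (hE : ∀ x, x < c.n → ∀ s, s < c.k → c.R x s < bound →
      c.rep g x * g s * (c.rep g (c.T x s))⁻¹ ∈ H)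
    {w : List ℕ} {p x s y : ℕ} {base : Bool} (hx : x < c.n) (hy : y < c.n)
    (hw : if base then wd g w ∈ H else wd g w = 1)
    (h : c.gapOK bound w p x s y base = true) :
    c.rep g x * g s * (c.rep g y)⁻¹ ∈ H := by
  unfold gapOK at h
  rw [Bool.and_eq_true] at h
  obtain ⟨h1, h2⟩ := h
  have hws := of_decide_eq_true h1
  split at h2
  · rename_i x0 hx0
    rw [Bool.and_eq_true] at h2
    obtain ⟨hb, h3⟩ := h2
    have h3 := of_decide_eq_true h3
    obtain ⟨hx0n, hl1, m1⟩ := c.scan_sound H bound hT hE _ x x0 hx hx0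
    obtain ⟨_, _, m2⟩ := c.scan_sound H bound hT hE _ y x0 hy h3
    have hinv : wd g (w.take p).reverse = (wd g (w.take p))⁻¹ := by
      apply wd_reverse
      intro u hu
      exact hsq u (hl1 u (List.mem_reverse.mpr hu))
    rw [hinv] at m1
    have hsplit := wd_split g hws
    set A := wd g (w.take p) with hA
    set B := wd g (w.drop (p + 1)) with hB
    cases base with
    | false =>
      simp only [Bool.false_eq_true, if_false] at hw
      rw [hsplit] at hw
      have hs : g s = A⁻¹ * B⁻¹ := by
        have : g s * B = A⁻¹ := eq_inv_of_mul_eq_one_right hw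
        rw [← this]; group
      have : c.rep g x * g s * (c.rep g y)⁻¹ =
          (c.rep g x * A⁻¹ * (c.rep g x0)⁻¹) * (c.rep g y * B * (c.rep g x0)⁻¹)⁻¹ := by
        rw [hs]; group
      rw [this]
      exact Subgroup.mul_mem _ m1 (Subgroup.inv_mem _ m2)
    | true =>
      simp only [if_true] at hw
      simp only [Bool.not_true, Bool.false_or, decide_eq_true_eq] at hb
      subst hb
      rw [c.rep_zero g, inv_one, mul_one] at m1 m2
      rw [hsplit] at hw
      have : c.rep g x * g s * (c.rep g y)⁻¹ =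
          (c.rep g x * A⁻¹) * (A * (g s * B)) * (c.rep g y * B)⁻¹ := by
        group
      rw [this]
      exact Subgroup.mul_mem _ (Subgroup.mul_mem _ m1 hw) (Subgroup.inv_mem _ m2)
  · exact absurd h2 (by simp)

theorem sound_aux (H : Subgroup G) (hok : c.ok = true)
    (hsq : ∀ s, s < c.k → g s * g s = 1)
    (hrel : ∀ w ∈ c.rels, wd g w = 1)
    (hsub : ∀ w ∈ c.subs, wd g w ∈ H) :
    ∀ N x, x < c.n → ∀ s, s < c.k → c.R x s < N →
      c.rep g x * g s * (c.rep g (c.T x s))⁻¹ ∈ H := by
  intro N
  induction N with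
  | zero => intro x _ s _ h; exact absurd h (Nat.not_lt_zero _)
  | succ N ih =>
    intro x hx s hs hr
    by_cases hlt : c.R x s < N
    · exact ih x hx s hs hlt
    have hrN : c.R x s = N := by omega
    have hT := c.ok_T_lt hok
    have he := c.ok_entry hok x hx s hs
    unfold entryOK at he
    rw [Bool.and_eq_true] at he
    have hy : c.T x s < c.n := of_decide_eq_true he.1
    have he2 := he.2
    have hE : ∀ x', x' < c.n → ∀ s', s' < c.k → c.R x' s' < c.R x s →
        c.rep g x' * g s' * (c.rep g (c.T x' s'))⁻¹ ∈ H := by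
      intro x' hx' s' hs' hr'
      exact ih x' hx' s' hs' (by omega)
    split_ifs at he2 with k0 k1
    · -- definition edge
      simp only [Bool.and_eq_true, decide_eq_true_eq] at he2
      obtain ⟨⟨hy0, hP⟩, hS⟩ := he2
      have htree := c.ok_tree hok (c.T x s) hy hy0
      rw [c.rep_pos g hy0 htree.1, hP, hS]
      have : c.rep g x * g s * (c.rep g x * g s)⁻¹ = 1 := by group
      rw [this]; exact Subgroup.one_mem _
    · -- relator with one gap
      have hmem : c.rels.getD ((c.K x s - 1) / 128) [] ∈ c.rels := by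
        unfold gapOK at he2
        rw [Bool.and_eq_true] at he2
        exact mem_of_getD (of_decide_eq_true he2.1)
      exact c.gap_sound H hsq hT hE hx hy (base := false)
        (by simp only [Bool.false_eq_true, if_false]; exact hrel _ hmem) he2
    · -- subgroup word with one gap
      have hmem : c.subs.getD ((c.K x s - 1) / 128 - c.rels.length) [] ∈ c.subs := by
        unfold gapOK at he2
        rw [Bool.and_eq_true] at he2
        exact mem_of_getD (of_decide_eq_true he2.1)
      exact c.gap_sound H hsq hT hE hx hy (base := true)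
        (by simp only [if_true]; exact hsub _ hmem) he2

theorem sound (H : Subgroup G) (hok : c.ok = true)
    (hsq : ∀ s, s < c.k → g s * g s = 1)
    (hrel : ∀ w ∈ c.rels, wd g w = 1)
    (hsub : ∀ w ∈ c.subs, wd g w ∈ H) :
    ∀ x, x < c.n → ∀ s, s < c.k →
      c.rep g x * g s * (c.rep g (c.T x s))⁻¹ ∈ H :=
  fun x hx s hs => c.sound_aux H hok hsq hrel hsub (c.R x s + 1) x hx s hs (Nat.lt_succ_self _)

theorem cover (H : Subgroup G) (hok : c.ok = true) (hn : 0 < c.n)
    (hsq : ∀ s, s < c.k → g s * g s = 1)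
    (hrel : ∀ w ∈ c.rels, wd g w = 1)
    (hsub : ∀ w ∈ c.subs, wd g w ∈ H)
    (hgen : Subgroup.closure {y | ∃ s, s < c.k ∧ y = g s} = ⊤) :
    ∀ a : G, ∃ i, i < c.n ∧ ∃ h' ∈ H, a = h' * c.rep g i := by
  intro a
  have ha : a ∈ Subgroup.closure {y | ∃ s, s < c.k ∧ y = g s} := by rw [hgen]; trivial
  have hT := c.ok_T_lt hok
  have hS := c.sound H hok hsq hrel hsub
  have step : ∀ (x : G), (∃ i, i < c.n ∧ ∃ h' ∈ H, x = h' * c.rep g i) →
      ∀ s, s < c.k → ∃ i, i < c.n ∧ ∃ h' ∈ H, x * g s = h' * c.rep g i := by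
    rintro x ⟨i, hi, h', hh', rfl⟩ s hs
    refine ⟨c.T i s, hT i hi s hs, h' * (c.rep g i * g s * (c.rep g (c.T i s))⁻¹),
      Subgroup.mul_mem _ hh' (hS i hi s hs), ?_⟩
    group
  induction ha using Subgroup.closure_induction_right with
  | one => exact ⟨0, hn, 1, Subgroup.one_mem _, by rw [c.rep_zero g, one_mul]⟩
  | mul_right x hx y hy ih =>
    obtain ⟨s, hs, rfl⟩ := hy
    exact step x ih s hs
  | mul_inv_cancel x hx y hy ih =>
    obtain ⟨s, hs, rfl⟩ := hy
    have hinv : (g s)⁻¹ = g s := inv_eq_of_mul_eq_one_right (hsq s hs)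
    rw [hinv]
    exact step x ih s hs

end sound

end Cert

end Cfsg.Agent.Lib.Lead.WTC
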