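import Mathlib
import Cfsg.Prelude.Def_PLocal
import Cfsg.Agent.Lib.Helper15.QuadPStable
import Cfsg.Agent.Lib.Lead.SL2PSolv

/-!
# Quadratic action in `p`-solvable groups, `p ≥ 5` (lead)

A copy of helper15's chain (`QuadCore`, `QuadInternal`, `QuadPStable`) with the hypothesis
"Sylow 2-subgroups abelian, `p` odd" replaced by "`p`-solvable, `p ≥ 5`".
-/

set_option autoImplicit false

namespace Cfsg.Agent.Lib.Lead.QuadSolv

open Module Polynomial Cfsg.Agent.Lib.Helper15.QuadChain Cfsg.Agent.Lib.Helper15.QuadSL2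
open Cfsg.Agent.Lib.Helper15.QuadCore Cfsg.Agent.Lib.Helper15.QuadInternal
open Cfsg.Agent.Lib.Helper15.QuadPStable Cfsg.Agent.Lib.Helper11
open Cfsg.Agent.Lib.Lead.SL2PSolv

section Core

theorem core_two_gen (p : ℕ) [Fact p.Prime] (hp5 : 5 ≤ p) {K : Type*} [Field K] [CharP K p]
    {G : Type*} [Group G] [Finite G] (a b : G) (hgen : Subgroup.closure {a, b} = ⊤)
    {V : Type*} [AddCommGroup V] [Module K V] [FiniteDimensional K V] (ρ : Representation K G V)
    (ha : (ρ a - 1) * (ρ a - 1) = 0) (hb : (ρ b - 1) * (ρ b - 1) = 0) (hnp : ¬ PQuot p ρ.ker)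
    : ¬ Cfsg.IsPSolvable p G := by
  classical
  let F := AlgebraicClosure K
  let n := finrank K V
  let β : Basis (Fin n) K V := finBasis K V
  let Φ : (V →ₗ[K] V) ≃ₐ[K] Matrix (Fin n) (Fin n) K := LinearMap.toMatrixAlgEquiv β
  let ι : Matrix (Fin n) (Fin n) K →+* Matrix (Fin n) (Fin n) F := (algebraMap K F).mapMatrix
  let Ψ : Matrix (Fin n) (Fin n) F ≃ₐ[F] Module.End F (Fin n → F) := Matrix.toLinAlgEquiv'
  let R : (V →ₗ[K] V) →+* Module.End F (Fin n → F) :=
    (Ψ : Matrix (Fin n) (Fin n) F →+* Module.End F (Fin n → F)).comp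
      (ι.comp (Φ : (V →ₗ[K] V) →+* Matrix (Fin n) (Fin n) K))
  have hRinj : Function.Injective R := by
    intro x y hxy
    have h1 : ι (Φ x) = ι (Φ y) := Ψ.injective hxy
    have h2 : Φ x = Φ y := by
      have hinj : Function.Injective ι := by
        intro A B hAB
        exact Matrix.map_injective (algebraMap K F).injective hAB
      exact hinj h1
    exact Φ.injective h2
  let ρF : Representation F G (Fin n → F) := (R : (V →ₗ[K] V) →* Module.End F (Fin n → F)).comp ρ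
  have hρF : ∀ g, ρF g = R (ρ g) := fun g => rfl
  have hker : ρF.ker = ρ.ker := by
    ext g
    rw [MonoidHom.mem_ker, MonoidHom.mem_ker, hρF]
    constructor
    · intro h
      exact hRinj (h.trans (map_one R).symm)
    · intro h
      rw [h, map_one]
  have hquad : ∀ g, (ρ g - 1) * (ρ g - 1) = 0 → (ρF g - 1) * (ρF g - 1) = 0 := by
    intro g hg
    rw [hρF, ← map_one R, ← map_sub, ← map_mul, hg, map_zero]
  have hn : 0 < orderOf (a * b) := orderOf_pos _
  have hsplit : (X ^ orderOf (a * b) - 1 : F[X]).Splits := IsAlgClosed.splits _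
  have hnp' : ¬ PQuot p ρF.ker := by rwa [hker]
  obtain ⟨φ, hφ1, hφ2⟩ := chain p a b hgen _ hn (pow_orderOf_eq_one _) hsplit _ (Fin n → F) ρF rfl
    (hquad a ha) (hquad b hb) hnp'
  have hpow : ∀ g, (ρ g - 1) * (ρ g - 1) = 0 → φ g ^ p = 1 := by
    intro g hg
    have h1 : ρ g ^ p = 1 := pow_eq_one_of_sq_zero (F := K) p (ρ g) hg
    have h2 : g ^ p ∈ ρF.ker := by
      rw [hker, MonoidHom.mem_ker, map_pow, h1]
    have h3 := hφ1 h2
    rwa [MonoidHom.mem_ker, map_pow] at h3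
  exact not_isPSolvable_of_hom p hp5 a b hgen φ (hpow a ha) (hpow b hb) hφ2

/-- two quadratic elements of a group with abelian Sylow 2-subgroups generate a `p`-group
modulo the kernel. -/
theorem pquot_closure_pair (p : ℕ) [hp : Fact p.Prime] (hp5 : 5 ≤ p) {K : Type*} [Field K] [CharP K p]
    {G : Type*} [Group G] [Finite G]
    {V : Type*} [AddCommGroup V] [Module K V] [FiniteDimensional K V] (ρ : Representation K G V)
    (hab2 : Cfsg.IsPSolvable p G) (x y : G)
    (hx : (ρ x - 1) * (ρ x - 1) = 0) (hy : (ρ y - 1) * (ρ y - 1) = 0) :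
    ∀ g ∈ Subgroup.closure {x, y}, ∃ k : ℕ, g ^ p ^ k ∈ ρ.ker := by
  set L := Subgroup.closure {x, y} with hL
  have hxL : x ∈ L := Subgroup.subset_closure (by simp)
  have hyL : y ∈ L := Subgroup.subset_closure (by simp)
  let ρL : Representation K L V := ρ.comp L.subtype
  have hgen : Subgroup.closure {(⟨x, hxL⟩ : L), ⟨y, hyL⟩} = ⊤ := by
    apply Subgroup.map_injective L.subtype_injective
    rw [MonoidHom.map_closure, ← MonoidHom.range_eq_map, Subgroup.range_subtype]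
    have h1 : (L.subtype '' {(⟨x, hxL⟩ : L), ⟨y, hyL⟩} : Set G) = {x, y} := by
      ext z; simp [Set.image_pair]
    rw [h1]
  by_contra hcon
  push_neg at hcon
  obtain ⟨g, hgL, hg⟩ := hcon
  have hnp : ¬ PQuot p ρL.ker := by
    intro h
    obtain ⟨k, hk⟩ := h ⟨g, hgL⟩
    exact hg k hk
  exact core_two_gen p hp5 (⟨x, hxL⟩ : L) ⟨y, hyL⟩ hgen ρL hx hy hnp
    (isPSolvable_subgroup hp.out hab2 L)

/-- **Core theorem (element form).** -/
theorem core_element (p : ℕ) [hp : Fact p.Prime] (hp5 : 5 ≤ p) {K : Type*} [Field K] [CharP K p]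
    {G : Type*} [Group G] [Finite G]
    {V : Type*} [AddCommGroup V] [Module K V] [FiniteDimensional K V] (ρ : Representation K G V)
    (hab2 : Cfsg.IsPSolvable p G) (a : G)
    (ha : (ρ a - 1) * (ρ a - 1) = 0) :
    ∃ D : Subgroup G, D.Normal ∧ ρ.ker ≤ D ∧ a ∈ D ∧ ∀ d ∈ D, ∃ k : ℕ, d ^ p ^ k ∈ ρ.ker := by
  let π := QuotientGroup.mk' ρ.ker
  let S : Set (G ⧸ ρ.ker) := {z | ∃ g : G, z = π (g * a * g⁻¹)}
  have hS : ∀ g x, x ∈ S → g * x * g⁻¹ ∈ S := by
    rintro g _ ⟨h, rfl⟩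
    obtain ⟨g', rfl⟩ := QuotientGroup.mk'_surjective ρ.ker g
    refine ⟨g' * h, ?_⟩
    rw [← map_inv, ← map_mul, ← map_mul]
    congr 1
    group
  have hpair : ∀ x ∈ S, ∀ y ∈ S, IsPGroup p (Subgroup.closure ({x, y} : Set (G ⧸ ρ.ker))) := by
    rintro _ ⟨g, rfl⟩ _ ⟨h, rfl⟩
    have h1 := pquot_closure_pair p hp5 ρ hab2 _ _ (quad_conj ρ a g ha) (quad_conj ρ a h ha)
    have h2 : Subgroup.closure ({π (g * a * g⁻¹), π (h * a * h⁻¹)} : Set (G ⧸ ρ.ker)) =
        (Subgroup.closure {g * a * g⁻¹, h * a * h⁻¹}).map π := by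
      rw [MonoidHom.map_closure, Set.image_pair]
    rw [h2]
    rintro ⟨_, z, hz, rfl⟩
    obtain ⟨k, hk⟩ := h1 z hz
    refine ⟨k, Subtype.ext ?_⟩
    rw [Subgroup.coe_pow, Subgroup.coe_one]
    change π z ^ p ^ k = 1
    rw [← map_pow]
    exact (QuotientGroup.eq_one_iff _).2 hk
  obtain ⟨hn, hpg⟩ := Cfsg.Agent.Lib.Lead.baer_suzuki_closure S hS hpair
  refine ⟨(Subgroup.closure S).comap π, ?_, ?_, ?_, ?_⟩
  · exact hn.comap π
  · intro g hg
    rw [Subgroup.mem_comap]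
    have : π g = 1 := (QuotientGroup.eq_one_iff _).2 hg
    rw [this]
    exact Subgroup.one_mem _
  · rw [Subgroup.mem_comap]
    apply Subgroup.subset_closure
    exact ⟨1, by simp⟩
  · intro d hd
    rw [Subgroup.mem_comap] at hd
    obtain ⟨k, hk⟩ := hpg ⟨π d, hd⟩
    refine ⟨k, ?_⟩
    have h1 := congrArg Subtype.val hk
    rw [Subgroup.coe_pow, Subgroup.coe_one] at h1
    change π d ^ p ^ k = 1 at h1
    rw [← map_pow] at h1
    exact (QuotientGroup.eq_one_iff _).1 h1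


end Core

section MulAutForm

variable (p : ℕ) [hp : Fact p.Prime] {A : Type*} [CommGroup A] [Finite A]
  {G : Type*} [Group G] [Finite G]

theorem core_mulAut (hp5 : 5 ≤ p) (hexp : ∀ a : A, a ^ p = 1) (θ : G →* MulAut A)
    (hab2 : Cfsg.IsPSolvable p G) (a : G)
    (ha : ∀ v : A, θ a (θ a v / v) = θ a v / v) :
    ∃ D : Subgroup G, D.Normal ∧ θ.ker ≤ D ∧ a ∈ D ∧ ∀ d ∈ D, ∃ k : ℕ, d ^ p ^ k ∈ θ.ker := by
  let _ : Module (ZMod p) (Additive A) := AddCommGroup.zmodModule (by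
    intro x
    exact congrArg Additive.ofMul (hexp x.toMul))
  have hfin : Finite (Additive A) := inferInstanceAs (Finite A)
  have hfd : FiniteDimensional (ZMod p) (Additive A) := Module.Finite.of_finite
  have := @core_element p _ hp5 (ZMod p) _ _ G _ _ (Additive A) _ _ hfd (linRep p θ) hab2 a
    (linRep_quad p θ a ha)
  rwa [linRep_ker] at this


end MulAutForm

section Internal

open Subgroup
open scoped commutatorElement

variable {G : Type*} [Group G] [Finite G] (p : ℕ) [hp : Fact p.Prime]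

/-- **Core theorem, homomorphism form.** -/
theorem core_hom (hp5 : 5 ≤ p) {H' : Type*} [Group H'] [Finite H'] (ι : H' →* G)
    (V : Subgroup G) (hVc : ∀ x ∈ V, ∀ y ∈ V, x * y = y * x)
    (hVe : ∀ x ∈ V, x ^ p = 1) (hιV : ∀ h, ι h ∈ normalizer (V : Set G))
    (hab2 : Cfsg.IsPSolvable p H') (a : H')
    (hq : ⁅⁅V, zpowers (ι a)⁆, zpowers (ι a)⁆ = ⊥) :
    ∃ D : Subgroup H', D.Normal ∧ (centralizer (V : Set G)).comap ι ≤ D ∧ a ∈ D ∧
      ∀ d ∈ D, ∃ k : ℕ, (ι d) ^ p ^ k ∈ centralizer (V : Set G) := by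
  letI : CommGroup V :=
    { (inferInstance : Group V) with
      mul_comm := fun x y => Subtype.ext (hVc x x.2 y y.2) }
  have hexp : ∀ v : V, v ^ p = 1 := fun v => Subtype.ext (by simpa using hVe v v.2)
  let θ : H' →* MulAut V := V.normalizerMonoidHom.comp (ι.codRestrict (normalizer (V : Set G)) hιV)
  have hθ : ∀ (h : H') (v : V), ((θ h v : V) : G) = ι h * v * (ι h)⁻¹ := fun h v => rfl
  have hker : θ.ker = (centralizer (V : Set G)).comap ι := by
    ext g
    rw [MonoidHom.mem_ker, mem_comap, mem_centralizer_iff]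
    constructor
    · intro h v hv
      have := congrArg (fun f : MulAut V => ((f ⟨v, hv⟩ : V) : G)) h
      simp only [hθ] at this
      have h2 : ι g * v * (ι g)⁻¹ = v := this
      have h3 : ι g * v = v * ι g := by
        have := congrArg (· * ι g) h2
        simpa using this
      exact h3.symm
    · intro h
      ext v
      rw [hθ]
      have := h v v.2
      change ι g * v * (ι g)⁻¹ = v
      rw [← this, mul_inv_cancel_right]
  have ha : ∀ v : V, θ a (θ a v / v) = θ a v / v := by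
    intro v
    apply Subtype.ext
    rw [hθ]
    have h1 : ((θ a v / v : V) : G) = ι a * v * (ι a)⁻¹ * (v : G)⁻¹ := by
      rw [div_eq_mul_inv, Subgroup.coe_mul, hθ, Subgroup.coe_inv]
    rw [h1]
    exact quad_elem V (ι a) hq v v.2
  obtain ⟨D, hDn, hD1, hD2, hD3⟩ := core_mulAut p hp5 hexp θ hab2 a ha
  refine ⟨D, hDn, hker ▸ hD1, hD2, ?_⟩
  intro d hd
  obtain ⟨k, hk⟩ := hD3 d hd
  refine ⟨k, ?_⟩
  rw [hker, mem_comap, map_pow] at hk
  exact hk

/-- normal subgroup form: `V ⊴ G` elementary abelian, Sylow 2-subgroups of `G` abelian, `a`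
quadratic on `V`: the image of `a` in `G / C_G(V)` lies in a normal `p`-subgroup. -/
theorem core_normal (hp5 : 5 ≤ p) (V : Subgroup G) [hVn : V.Normal]
    (hVc : ∀ x ∈ V, ∀ y ∈ V, x * y = y * x) (hVe : ∀ x ∈ V, x ^ p = 1)
    (hab2 : Cfsg.IsPSolvable p G) (a : G)
    (hq : ⁅⁅V, zpowers a⁆, zpowers a⁆ = ⊥) :
    ∃ N : Subgroup (G ⧸ centralizer (V : Set G)), N.Normal ∧ IsPGroup p N ∧
      (QuotientGroup.mk a : G ⧸ centralizer (V : Set G)) ∈ N := by
  obtain ⟨D, hDn, hD1, hD2, hD3⟩ := core_hom p hp5 (MonoidHom.id G) V hVc hVe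
    (fun h => by rw [normalizer_eq_top]; exact mem_top _) hab2 a hq
  refine ⟨D.map (QuotientGroup.mk' _), ?_, ?_, ⟨a, hD2, rfl⟩⟩
  · exact hDn.map _ (QuotientGroup.mk'_surjective _)
  · rintro ⟨_, d, hd, rfl⟩
    obtain ⟨k, hk⟩ := hD3 d hd
    refine ⟨k, Subtype.ext ?_⟩
    rw [Subgroup.coe_pow, Subgroup.coe_one]
    change (QuotientGroup.mk' _ d) ^ p ^ k = 1
    rw [← map_pow]
    exact (QuotientGroup.eq_one_iff _).2 hk

open Cfsg.Agent.Lib.Helper3 in
/-- **Core theorem, section form.** `N ≤ K` normal in `G` with `K / N` elementary abelian. -/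
theorem core_section (hp5 : 5 ≤ p) (K N : Subgroup G) [hKn : K.Normal] [hNn : N.Normal]
    (hcomm : ⁅K, K⁆ ≤ N) (hexp : ∀ x ∈ K, x ^ p ∈ N)
    (hab2 : Cfsg.IsPSolvable p G) (a : G)
    (hq : ⁅⁅K, zpowers a⁆, zpowers a⁆ ≤ N) :
    ∃ D : Subgroup G, D.Normal ∧ (quotAct N K).ker ≤ D ∧ a ∈ D ∧
      ∀ d ∈ D, ∃ k : ℕ, d ^ p ^ k ∈ (quotAct N K).ker := by
  letI : CommGroup (K ⧸ N.subgroupOf K) :=
    { (inferInstance : Group (K ⧸ N.subgroupOf K)) with
      mul_comm := by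
        intro x y
        induction x using QuotientGroup.induction_on with
        | H x =>
        induction y using QuotientGroup.induction_on with
        | H y =>
        rw [← QuotientGroup.mk_mul, ← QuotientGroup.mk_mul, QuotientGroup.eq, mem_subgroupOf]
        have h1 : ⁅((y : G))⁻¹, ((x : G))⁻¹⁆ ∈ ⁅K, K⁆ :=
          Subgroup.commutator_mem_commutator (K.inv_mem y.2) (K.inv_mem x.2)
        have h2 : (((x * y)⁻¹ * (y * x) : K) : G) = ⁅((y : G))⁻¹, ((x : G))⁻¹⁆ := by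
          rw [commutatorElement_def]
          simp [mul_assoc]
        rw [h2]
        exact hcomm h1 }
  have hexp' : ∀ v : K ⧸ N.subgroupOf K, v ^ p = 1 := by
    intro v
    induction v using QuotientGroup.induction_on with
    | H x =>
    rw [← QuotientGroup.mk_pow, QuotientGroup.eq_one_iff, mem_subgroupOf]
    simpa using hexp x x.2
  have ha : ∀ v : K ⧸ N.subgroupOf K,
      quotAct N K a (quotAct N K a v / v) = quotAct N K a v / v := by
    intro v
    induction v using QuotientGroup.induction_on with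
    | H x =>
    obtain ⟨x, hx⟩ := x
    have hw : a * x * a⁻¹ * x⁻¹ ∈ K :=
      K.mul_mem (hKn.conj_mem x hx a) (K.inv_mem hx)
    have h1 : quotAct N K a (QuotientGroup.mk ⟨x, hx⟩) / (QuotientGroup.mk ⟨x, hx⟩)
        = (QuotientGroup.mk (⟨a * x * a⁻¹ * x⁻¹, hw⟩ : K) : K ⧸ N.subgroupOf K) := by
      rw [quotAct_mk', div_eq_mul_inv, ← QuotientGroup.mk_inv, ← QuotientGroup.mk_mul]
      rfl
    rw [h1, quotAct_mk', QuotientGroup.eq, mem_subgroupOf]
    have hw1 : a * x * a⁻¹ * x⁻¹ ∈ ⁅K, zpowers a⁆ := by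
      rw [Subgroup.commutator_comm]
      exact Subgroup.commutator_mem_commutator (mem_zpowers a) hx
    have h2 : ⁅a, (a * x * a⁻¹ * x⁻¹)⁻¹⁆ ∈ ⁅⁅K, zpowers a⁆, zpowers a⁆ := by
      rw [Subgroup.commutator_comm]
      exact Subgroup.commutator_mem_commutator (mem_zpowers a) (Subgroup.inv_mem _ hw1)
    have h3 : (((⟨a * (a * x * a⁻¹ * x⁻¹) * a⁻¹, hKn.conj_mem _ hw a⟩ : K)⁻¹ *
        ⟨a * x * a⁻¹ * x⁻¹, hw⟩ : K) : G) = ⁅a, (a * x * a⁻¹ * x⁻¹)⁻¹⁆ := by
      rw [commutatorElement_def]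
      simp [mul_assoc]
    rw [h3]
    exact hq h2
  exact core_mulAut p hp5 hexp' (quotAct N K) hab2 a ha

/-- `IsPStableOn` from abelian Sylow 2-subgroups. -/
theorem isPStableOn_of (hp5 : 5 ≤ p) (hab2 : Cfsg.IsPSolvable p G)
    (V : Subgroup G) [V.Normal] (hVc : ∀ x ∈ V, ∀ y ∈ V, x * y = y * x)
    (hVe : ∀ x ∈ V, x ^ p = 1) : Cfsg.IsPStableOn p V := by
  intro a hq
  obtain ⟨N, hNn, hNp, haN⟩ := core_normal p hp5 V hVc hVe hab2 a hq
  exact (le_sSup ⟨hNn, hNp⟩ : N ≤ Cfsg.pCore p _) haN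

open Cfsg.Agent.Lib.Helper3 in
/-- `IsPStableOnSection` from abelian Sylow 2-subgroups, for an elementary abelian section. -/
theorem isPStableOnSection_of (hp5 : 5 ≤ p) (hab2 : Cfsg.IsPSolvable p G)
    (K N : Subgroup G) [hKn : K.Normal] [hNn : N.Normal]
    (hcomm : ⁅K, K⁆ ≤ N) (hexp : ∀ x ∈ K, x ^ p ∈ N) : Cfsg.IsPStableOnSection p K N := by
  intro a hq
  obtain ⟨D, hDn, hD1, hD2, hD3⟩ := core_section p hp5 K N hcomm hexp hab2 a hq
  rw [sectionKernel_eq]
  refine ⟨D, hDn, hD1, ?_, hD2⟩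
  set C := (quotAct N K).ker with hC
  have hpg : IsPGroup p (D ⧸ C.subgroupOf D) := by
    intro x
    induction x using QuotientGroup.induction_on with
    | H d =>
    obtain ⟨k, hk⟩ := hD3 d d.2
    refine ⟨k, ?_⟩
    rw [← QuotientGroup.mk_pow, QuotientGroup.eq_one_iff, mem_subgroupOf]
    simpa using hk
  obtain ⟨k, hk⟩ := (IsPGroup.iff_card).1 hpg
  refine ⟨k, ?_⟩
  rw [← hk, relIndex, index_eq_card]


end Internal

end Cfsg.Agent.Lib.Lead.QuadSolv
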