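import Mathlib
import Cfsg.Agent.Lib.Helper9.SL2Upper
import Cfsg.Agent.Lib.Helper15.TwoByTwo

/-!
Basic lemmas on `SL₂(F)` used by the Dickson development (lead).  The statements and proofs of
`lower`, `eq_upper_lower_upper`, `mem_of_upper_lower`, `closure_upper_lower` are copied from helper9's
`SL2Gen`, and `sq_zero_of_fix`, `pow_eq_one_of_fix`, `fix_of_eigen` from helper15's `QuadSL2`, to keep
the import closure of this development small.
-/

set_option autoImplicit false

namespace Cfsg.Agent.Lib.Lead.DicksonBase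

open Matrix Subgroup Cfsg.Agent.Lib.Helper9.SL2Upper Cfsg.Agent.Lib.Helper15.TwoByTwo

section Field

variable {F : Type*} [Field F]

local notation "SL2" => Matrix.SpecialLinearGroup (Fin 2) F
local notation "M2" => Matrix (Fin 2) (Fin 2) F

theorem pow_eq_one_of_sq_zero' (p : ℕ) [CharP F p] (hp0 : p ≠ 0) (g : M2)
    (h : (g - 1) * (g - 1) = 0) : g ^ p = 1 := by
  obtain ⟨n, rfl⟩ : ∃ n, p = n + 1 := ⟨p - 1, by omega⟩
  have h1 := pow_succ_of_sq_zero (1 : F) (g - 1) h n
  have h2 : (1 : F) • (1 : M2) + (g - 1) = g := by rw [one_smul]; abel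
  rw [h2] at h1
  rw [h1, one_pow, one_pow, mul_one, CharP.cast_eq_zero, zero_smul, add_zero, one_smul]

theorem sq_zero_of_fix (g : M2) (hdet : g.det = 1) (e : Fin 2 → F) (he : e ≠ 0)
    (hge : g.mulVec e = e) : (g - 1) * (g - 1) = 0 := by
  have hc := cayley g
  rw [hdet, one_smul] at hc
  have h1 : (g * g).mulVec e = e := by rw [← Matrix.mulVec_mulVec, hge, hge]
  rw [hc, Matrix.sub_mulVec, Matrix.smul_mulVec, hge, Matrix.one_mulVec] at h1
  have h2 : (g.trace - 2) • e = 0 := by
    rw [sub_smul, two_smul]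
    rw [sub_eq_iff_eq_add] at h1
    rw [h1]; abel
  have h3 : g.trace = 2 := by
    rcases smul_eq_zero.1 h2 with h | h
    · exact sub_eq_zero.1 h
    · exact absurd h he
  have : (g - 1) * (g - 1) = g * g - (2 : F) • g + 1 := by
    rw [two_smul]; noncomm_ring
  rw [this, hc, h3]
  abel

theorem pow_eq_one_of_fix (p : ℕ) [CharP F p] (hp0 : p ≠ 0) (g : SL2) (e : Fin 2 → F) (he : e ≠ 0)
    (hge : (g : M2).mulVec e = e) : g ^ p = 1 := by
  apply Subtype.ext
  rw [Matrix.SpecialLinearGroup.coe_pow, Matrix.SpecialLinearGroup.coe_one]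
  exact pow_eq_one_of_sq_zero' p hp0 _ (sq_zero_of_fix _ g.2 e he hge)

theorem fix_of_eigen (p : ℕ) [Fact p.Prime] [CharP F p] (x : SL2) (hx : x ^ p = 1)
    (e : Fin 2 → F) (he : e ≠ 0) (hxe : (x : M2).mulVec e ∈ Submodule.span F {e}) :
    (x : M2).mulVec e = e := by
  obtain ⟨c, hc⟩ := Submodule.mem_span_singleton.1 hxe
  have hpow : ∀ k : ℕ, ((x : M2) ^ k).mulVec e = c ^ k • e := by
    intro k
    induction k with
    | zero => simp
    | succ k ih =>
      rw [pow_succ, ← Matrix.mulVec_mulVec, ← hc, Matrix.mulVec_smul, ih, smul_smul, pow_succ,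
        mul_comm]
  have h1 : ((x : M2) ^ p) = 1 := by
    rw [← Matrix.SpecialLinearGroup.coe_pow, hx, Matrix.SpecialLinearGroup.coe_one]
  have h2 := hpow p
  rw [h1, Matrix.one_mulVec] at h2
  have h3 : (c ^ p - 1) • e = 0 := by rw [sub_smul, ← h2, one_smul, sub_self]
  have h4 : c ^ p = 1 := by
    rcases smul_eq_zero.1 h3 with h | h
    · exact sub_eq_zero.1 h
    · exact absurd h he
  have h5 : (c - 1) ^ p = 0 := by rw [sub_pow_char, h4, one_pow, sub_self]
  have h6 : c = 1 := sub_eq_zero.1 (pow_eq_zero_iff (Fact.out : p.Prime).ne_zero |>.1 h5)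
  rw [← hc, h6, one_smul]


/-- the lower unitriangular matrix -/
def lower (s : F) : SL2 := ⟨!![1, 0; s, 1], by simp [Matrix.det_fin_two]⟩

@[simp] theorem lower_coe (s : F) : ((lower s : SL2) : M2) = !![1, 0; s, 1] := rfl

theorem lower_mul (s t : F) : lower s * lower t = lower (s + t) := by
  apply sl_ext <;>
    simp [Matrix.SpecialLinearGroup.coe_mul, Matrix.mul_apply, Fin.sum_univ_two, add_comm]

theorem lower_zero : lower (0 : F) = 1 := by
  apply sl_ext <;> simp

theorem lower_pow (s : F) (n : ℕ) : lower s ^ n = lower (n * s) := by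
  induction n with
  | zero => simp [lower_zero]
  | succ n ih => rw [pow_succ, ih, lower_mul]; congr 1; push_cast; ring

theorem lower_eq_one_iff (s : F) : lower s = 1 ↔ s = 0 := by
  constructor
  · intro h
    have := congrArg (fun x : SL2 => (x : M2) 1 0) h
    simpa using this
  · rintro rfl; exact lower_zero

/-- a matrix of `SL₂(F)` fixing the second basis vector is lower unitriangular -/
theorem eq_lower_of_fix (x : SL2) (h : (x : M2).mulVec ![0, 1] = ![0, 1]) :
    x = lower ((x : M2) 1 0) := by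
  have h0 := congrFun h 0
  have h1 := congrFun h 1
  simp only [Matrix.mulVec, dotProduct, Fin.sum_univ_two, Matrix.cons_val_zero,
    Matrix.cons_val_one, Matrix.cons_val_fin_one, mul_one, mul_zero, zero_add] at h0 h1
  have hd := det_eq x
  rw [h0, h1, zero_mul, sub_zero, mul_one] at hd
  apply sl_ext
  · simpa using hd
  · simpa using h0
  · simp
  · simpa using h1

/-- Bruhat-type factorization -/
theorem eq_upper_lower_upper (x : SL2) (hc : (x : M2) 1 0 ≠ 0) :
    x = upper (((x : M2) 0 0 - 1) / (x : M2) 1 0) * lower ((x : M2) 1 0) *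
      upper (((x : M2) 1 1 - 1) / (x : M2) 1 0) := by
  have hd := det_eq x
  apply sl_ext <;>
    simp only [Matrix.SpecialLinearGroup.coe_mul, Matrix.mul_apply, Fin.sum_univ_two, upper_coe,
      lower_coe, Matrix.of_apply, Matrix.cons_val', Matrix.cons_val_zero, Matrix.cons_val_one,
      Matrix.cons_val_fin_one]
  · field_simp; ring
  · field_simp
    linear_combination (-1 : F) * hd
  · ring
  · field_simp; ring

/-- `SL₂(F)` is generated by the elementary matrices -/
theorem mem_of_upper_lower (C : Subgroup SL2) (hu : ∀ t, upper t ∈ C) (hl : ∀ t, lower t ∈ C)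
    (x : SL2) : x ∈ C := by
  have key : ∀ y : SL2, (y : M2) 1 0 ≠ 0 → y ∈ C := by
    intro y hy
    rw [eq_upper_lower_upper y hy]
    exact C.mul_mem (C.mul_mem (hu _) (hl _)) (hu _)
  by_cases hc : (x : M2) 1 0 = 0
  · have hd := det_eq x
    rw [hc, mul_zero, sub_zero] at hd
    have ha : (x : M2) 0 0 ≠ 0 := left_ne_zero_of_mul_eq_one hd
    have h1 : lower 1 * x ∈ C := by
      apply key
      simp only [Matrix.SpecialLinearGroup.coe_mul, Matrix.mul_apply, Fin.sum_univ_two, lower_coe,
        Matrix.of_apply, Matrix.cons_val', Matrix.cons_val_zero, Matrix.cons_val_one,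
        Matrix.cons_val_fin_one, hc]
      simpa using ha
    have h2 : x = (lower 1)⁻¹ * (lower 1 * x) := by group
    rw [h2]
    exact C.mul_mem (C.inv_mem (hl 1)) h1
  · exact key x hc

end Field

section Prime

variable {p : ℕ} [hpf : Fact p.Prime]

local notation "SLp" => Matrix.SpecialLinearGroup (Fin 2) (ZMod p)

local notation "Mp" => Matrix (Fin 2) (Fin 2) (ZMod p)

/-- `upper s` and `lower μ` with `s, μ ≠ 0` generate `SL₂(𝔽_p)` -/
theorem closure_upper_lower (s μ : ZMod p) (hs : s ≠ 0) (hμ : μ ≠ 0) :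
    Subgroup.closure {(upper s : SLp), lower μ} = ⊤ := by
  rw [eq_top_iff]
  intro x _
  apply mem_of_upper_lower
  · intro t
    have h1 : upper t = (upper s : SLp) ^ (t * s⁻¹).val := by
      rw [upper_pow, ZMod.natCast_zmod_val, mul_assoc, inv_mul_cancel₀ hs, mul_one]
    rw [h1]
    exact pow_mem (Subgroup.subset_closure (by simp)) _
  · intro t
    have h1 : lower t = (lower μ : SLp) ^ (t * μ⁻¹).val := by
      rw [lower_pow, ZMod.natCast_zmod_val, mul_assoc, inv_mul_cancel₀ hμ, mul_one]
    rw [h1]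
    exact pow_mem (Subgroup.subset_closure (by simp)) _

end Prime

end Cfsg.Agent.Lib.Lead.DicksonBase
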