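import Mathlib
import Cfsg.Prelude.Def_ChevStructure

set_option autoImplicit false

namespace Cfsg.Agent.Lib.Lead.CoxGen

section general
variable {B : Type*} (M : CoxeterMatrix B)

theorem sq (i : B) : M.simple i * M.simple i = 1 := by
  have := M.toCoxeterSystem.simple_mul_simple_self i
  rwa [CoxeterMatrix.toCoxeterSystem_simple] at this

theorem inv_s (i : B) : (M.simple i)⁻¹ = M.simple i := by
  have := M.toCoxeterSystem.inv_simple i
  rwa [CoxeterMatrix.toCoxeterSystem_simple] at this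

theorem pow_rel (i j : B) : (M.simple i * M.simple j) ^ M i j = 1 := by
  have := M.toCoxeterSystem.simple_mul_simple_pow i j
  rwa [CoxeterMatrix.toCoxeterSystem_simple] at this

theorem comm {i j : B} (h : M i j = 2) : Commute (M.simple i) (M.simple j) := by
  have h1 := pow_rel M i j
  rw [h, pow_two] at h1
  have h2 : M.simple i * M.simple j = (M.simple i * M.simple j)⁻¹ :=
    eq_inv_of_mul_eq_one_left h1
  rw [mul_inv_rev, inv_s, inv_s] at h2
  exact h2

theorem braid {i j : B} (h : M i j = 3) :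
    M.simple i * M.simple j * M.simple i = M.simple j * M.simple i * M.simple j := by
  have h1 := pow_rel M i j
  rw [h, pow_succ, pow_two] at h1
  have h2 : M.simple i * M.simple j * M.simple i * (M.simple j * M.simple i * M.simple j) = 1 := by
    simpa [mul_assoc] using h1
  have h3 := eq_inv_of_mul_eq_one_left h2
  rw [h3]
  simp [mul_inv_rev, inv_s, mul_assoc]

theorem braid_semiconj {i j : B} (h : M i j = 3) :
    SemiconjBy (M.simple i * M.simple j) (M.simple i) (M.simple j) := by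
  unfold SemiconjBy
  rw [braid M h, mul_assoc]

end general

section grp
variable {G : Type*} [Group G]

theorem semiconj_chain {P x Q a b : G} (hQ : Commute Q a) (hx : SemiconjBy x a b)
    (hP : Commute P b) : SemiconjBy (P * (x * Q)) a b :=
  SemiconjBy.mul_left hP (SemiconjBy.mul_left hx hQ)

theorem mem_of_semiconj {H : Subgroup G} {c a b : G} (h : SemiconjBy c a b)
    (hc : c ∈ H) (ha : a ∈ H) : b ∈ H := by
  have : b = c * a * c⁻¹ := by
    rw [h.eq]; group
  rw [this]
  exact H.mul_mem (H.mul_mem hc ha) (H.inv_mem hc)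

/-- The `D₄`-like part: from `a3 ∈ H` and `a0 * a1 * a2 ∈ H` deduce `a0, a1, a2 ∈ H`. -/
theorem d4_part {H : Subgroup G} {a0 a1 a2 a3 : G}
    (h0 : a0 * a0 = 1) (h1 : a1 * a1 = 1) (h2 : a2 * a2 = 1) (h3 : a3 * a3 = 1)
    (c10 : Commute a1 a0) (c12 : Commute a1 a2) (c03 : Commute a0 a3)
    (b02 : a0 * a2 * a0 = a2 * a0 * a2) (b23 : a2 * a3 * a2 = a3 * a2 * a3)
    (m3 : a3 ∈ H) (mu : a0 * a1 * a2 ∈ H) : a0 ∈ H ∧ a1 ∈ H ∧ a2 ∈ H := by
  -- u = a1 * (a0 * a2)
  have hu : a0 * a1 * a2 = a1 * (a0 * a2) := by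
    rw [← c10.eq, mul_assoc]
  have hc : Commute a1 (a0 * a2) := c10.mul_right c12
  have h02 : (a0 * a2) ^ 3 = 1 := by
    rw [pow_succ, pow_two]
    calc a0 * a2 * (a0 * a2) * (a0 * a2) = (a0 * a2 * a0) * (a2 * a0 * a2) := by
          simp only [mul_assoc]
      _ = (a2 * a0 * a2) * (a2 * a0 * a2) := by rw [b02]
      _ = a2 * a0 * (a2 * a2) * a0 * a2 := by simp only [mul_assoc]
      _ = a2 * (a0 * a0) * a2 := by rw [h2, mul_one]; simp only [mul_assoc]
      _ = 1 := by rw [h0, mul_one, h2]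
  have hu3 : (a0 * a1 * a2) ^ 3 = a1 := by
    rw [hu, hc.mul_pow, h02, mul_one, pow_succ, pow_two, h1, one_mul]
  have m1 : a1 ∈ H := by
    rw [← hu3]; exact H.pow_mem mu 3
  have mv : a0 * a2 ∈ H := by
    have : a0 * a2 = a1 * (a0 * a1 * a2) := by
      rw [hu, ← mul_assoc, h1, one_mul]
    rw [this]; exact H.mul_mem m1 mu
  have hvinv : (a0 * a2)⁻¹ = a2 * a0 := by
    apply inv_eq_of_mul_eq_one_right
    calc a0 * a2 * (a2 * a0) = a0 * (a2 * a2) * a0 := by simp only [mul_assoc]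
      _ = 1 := by rw [h2, mul_one, h0]
  have hconj : (a0 * a2)⁻¹ * a3 * (a0 * a2) = a2 * a3 * a2 := by
    rw [hvinv]
    calc a2 * a0 * a3 * (a0 * a2) = a2 * (a0 * a3) * a0 * a2 := by simp only [mul_assoc]
      _ = a2 * (a3 * a0) * a0 * a2 := by rw [c03.eq]
      _ = a2 * a3 * (a0 * a0) * a2 := by simp only [mul_assoc]
      _ = a2 * a3 * a2 := by rw [h0, mul_one]
  have m232 : a2 * a3 * a2 ∈ H := by
    rw [← hconj]; exact H.mul_mem (H.mul_mem (H.inv_mem mv) m3) mv
  have m2 : a2 ∈ H := by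
    have : a2 = a3 * (a2 * a3 * a2) * a3 := by
      rw [b23]
      calc a2 = (a3 * a3) * a2 * (a3 * a3) := by rw [h3, one_mul, mul_one]
        _ = a3 * (a3 * a2 * a3) * a3 := by simp only [mul_assoc]
    rw [this]; exact H.mul_mem (H.mul_mem m3 m232) m3
  have m0 : a0 ∈ H := by
    have : a0 = a0 * a2 * a2 := by rw [mul_assoc, h2, mul_one]
    rw [this]; exact H.mul_mem mv m2
  exact ⟨m0, m1, m2⟩

end grp

end Cfsg.Agent.Lib.Lead.CoxGen
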