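import Mathlib
import Cfsg.Prelude.Def_ChevStructure
import Cfsg.Agent.Lib.Lead.CoxGenA

set_option autoImplicit false

namespace Cfsg.Agent.Lib.Lead.CoxGen

theorem cancel_r {B : Type*} (M : CoxeterMatrix B) (w : M.Group) (i : B) :
    w * M.simple i * M.simple i = w := by
  rw [mul_assoc, sq, mul_one]

theorem top_of_mem {B : Type*} (M : CoxeterMatrix B) (S : Set M.Group)
    (h : ∀ i, M.simple i ∈ Subgroup.closure S) : Subgroup.closure S = ⊤ := by
  rw [eq_top_iff, ← M.toCoxeterSystem.subgroup_closure_range_simple, Subgroup.closure_le]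
  rintro _ ⟨i, rfl⟩
  rw [CoxeterMatrix.toCoxeterSystem_simple]
  exact h i

section E₈
local notation "s" => CoxeterMatrix.E₈.simple

theorem E₈_mem (H : Subgroup CoxeterMatrix.E₈.Group)
    (mc : ((List.finRange 8).map CoxeterMatrix.E₈.simple).prod ∈ H) (m3 : s 3 ∈ H) :
    ∀ i : Fin 8, s i ∈ H := by
  have C : ∀ i j : Fin 8, CoxeterMatrix.E₈ i j = 2 → Commute (s i) (s j) := fun i j h => comm _ h
  have hcl : ((List.finRange 8).map CoxeterMatrix.E₈.simple).prod = s 0 * s 1 * s 2 * s 3 * s 4 * s 5 * s 6 * s 7 := by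
    simp [List.finRange_succ, mul_assoc]
  rw [hcl] at mc
  have m4 : s 4 ∈ H := by
    have e : s 0 * s 1 * s 2 * s 3 * s 4 * s 5 * s 6 * s 7 = (s 0 * s 1 * s 2) * ((s 3 * s 4) * (s 5 * s 6 * s 7)) := by
      simp only [mul_assoc]
    rw [e] at mc
    exact mem_of_semiconj (semiconj_chain (((C 5 3 (by decide)).mul_left (C 6 3 (by decide))).mul_left (C 7 3 (by decide)))
      (braid_semiconj _ (by decide)) (((C 0 4 (by decide)).mul_left (C 1 4 (by decide))).mul_left (C 2 4 (by decide)))) mc m3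
  have m5 : s 5 ∈ H := by
    have e : s 0 * s 1 * s 2 * s 3 * s 4 * s 5 * s 6 * s 7 = (s 0 * s 1 * s 2 * s 3) * ((s 4 * s 5) * (s 6 * s 7)) := by
      simp only [mul_assoc]
    rw [e] at mc
    exact mem_of_semiconj (semiconj_chain ((C 6 4 (by decide)).mul_left (C 7 4 (by decide)))
      (braid_semiconj _ (by decide)) ((((C 0 5 (by decide)).mul_left (C 1 5 (by decide))).mul_left (C 2 5 (by decide))).mul_left (C 3 5 (by decide)))) mc m4
  have m6 : s 6 ∈ H := by
    have e : s 0 * s 1 * s 2 * s 3 * s 4 * s 5 * s 6 * s 7 = (s 0 * s 1 * s 2 * s 3 * s 4) * ((s 5 * s 6) * (s 7)) := by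
      simp only [mul_assoc]
    rw [e] at mc
    exact mem_of_semiconj (semiconj_chain (C 7 5 (by decide))
      (braid_semiconj _ (by decide)) (((((C 0 6 (by decide)).mul_left (C 1 6 (by decide))).mul_left (C 2 6 (by decide))).mul_left (C 3 6 (by decide))).mul_left (C 4 6 (by decide)))) mc m5
  have m7 : s 7 ∈ H := by
    have e : s 0 * s 1 * s 2 * s 3 * s 4 * s 5 * s 6 * s 7 = (s 0 * s 1 * s 2 * s 3 * s 4 * s 5) * (s 6 * s 7) := by
      simp only [mul_assoc]
    rw [e] at mc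
    exact mem_of_semiconj (SemiconjBy.mul_left ((((((C 0 7 (by decide)).mul_left (C 1 7 (by decide))).mul_left (C 2 7 (by decide))).mul_left (C 3 7 (by decide))).mul_left (C 4 7 (by decide))).mul_left (C 5 7 (by decide)))
      (braid_semiconj _ (by decide))) mc m6
  have mu : s 0 * s 1 * s 2 ∈ H := by
    have e : s 0 * s 1 * s 2 = s 0 * s 1 * s 2 * s 3 * s 4 * s 5 * s 6 * s 7 * s 7 * s 6 * s 5 * s 4 * s 3 := by
      simp only [← mul_assoc, cancel_r]
    rw [e]
    exact (H.mul_mem (H.mul_mem (H.mul_mem (H.mul_mem (H.mul_mem mc m7) m6) m5) m4) m3)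
  obtain ⟨m0, m1, m2⟩ := d4_part (sq _ 0) (sq _ 1) (sq _ 2) (sq _ 3) (C 1 0 (by decide)) (C 1 2 (by decide))
    (C 0 3 (by decide)) (braid _ (by decide)) (braid _ (by decide)) m3 mu
  intro i
  fin_cases i
  exacts [m0, m1, m2, m3, m4, m5, m6, m7]

theorem E₈_top : ∃ T : Finset CoxeterMatrix.E₈.Group, T.card = 1 ∧
    (∀ t ∈ T, ∃ (g : CoxeterMatrix.E₈.Group) (i : Fin 8), t = g * CoxeterMatrix.E₈.simple i * g⁻¹) ∧
    Subgroup.closure (({((List.finRange 8).map CoxeterMatrix.E₈.simple).prod} : Set CoxeterMatrix.E₈.Group) ∪ ↑T) = ⊤ := by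
  refine ⟨{s 3}, Finset.card_singleton _, ?_, ?_⟩
  · intro t ht
    rw [Finset.mem_singleton] at ht
    exact ⟨1, 3, by rw [ht]; simp⟩
  · apply top_of_mem
    apply E₈_mem
    · exact Subgroup.subset_closure (Or.inl rfl)
    · exact Subgroup.subset_closure (Or.inr (by simp))

end E₈
section E₇
local notation "s" => CoxeterMatrix.E₇.simple

theorem E₇_mem (H : Subgroup CoxeterMatrix.E₇.Group)
    (mc : ((List.finRange 7).map CoxeterMatrix.E₇.simple).prod ∈ H) (m3 : s 3 ∈ H) :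
    ∀ i : Fin 7, s i ∈ H := by
  have C : ∀ i j : Fin 7, CoxeterMatrix.E₇ i j = 2 → Commute (s i) (s j) := fun i j h => comm _ h
  have hcl : ((List.finRange 7).map CoxeterMatrix.E₇.simple).prod = s 0 * s 1 * s 2 * s 3 * s 4 * s 5 * s 6 := by
    simp [List.finRange_succ, mul_assoc]
  rw [hcl] at mc
  have m4 : s 4 ∈ H := by
    have e : s 0 * s 1 * s 2 * s 3 * s 4 * s 5 * s 6 = (s 0 * s 1 * s 2) * ((s 3 * s 4) * (s 5 * s 6)) := by
      simp only [mul_assoc]
    rw [e] at mc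
    exact mem_of_semiconj (semiconj_chain ((C 5 3 (by decide)).mul_left (C 6 3 (by decide)))
      (braid_semiconj _ (by decide)) (((C 0 4 (by decide)).mul_left (C 1 4 (by decide))).mul_left (C 2 4 (by decide)))) mc m3
  have m5 : s 5 ∈ H := by
    have e : s 0 * s 1 * s 2 * s 3 * s 4 * s 5 * s 6 = (s 0 * s 1 * s 2 * s 3) * ((s 4 * s 5) * (s 6)) := by
      simp only [mul_assoc]
    rw [e] at mc
    exact mem_of_semiconj (semiconj_chain (C 6 4 (by decide))
      (braid_semiconj _ (by decide)) ((((C 0 5 (by decide)).mul_left (C 1 5 (by decide))).mul_left (C 2 5 (by decide))).mul_left (C 3 5 (by decide)))) mc m4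
  have m6 : s 6 ∈ H := by
    have e : s 0 * s 1 * s 2 * s 3 * s 4 * s 5 * s 6 = (s 0 * s 1 * s 2 * s 3 * s 4) * (s 5 * s 6) := by
      simp only [mul_assoc]
    rw [e] at mc
    exact mem_of_semiconj (SemiconjBy.mul_left (((((C 0 6 (by decide)).mul_left (C 1 6 (by decide))).mul_left (C 2 6 (by decide))).mul_left (C 3 6 (by decide))).mul_left (C 4 6 (by decide)))
      (braid_semiconj _ (by decide))) mc m5
  have mu : s 0 * s 1 * s 2 ∈ H := by
    have e : s 0 * s 1 * s 2 = s 0 * s 1 * s 2 * s 3 * s 4 * s 5 * s 6 * s 6 * s 5 * s 4 * s 3 := by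
      simp only [← mul_assoc, cancel_r]
    rw [e]
    exact (H.mul_mem (H.mul_mem (H.mul_mem (H.mul_mem mc m6) m5) m4) m3)
  obtain ⟨m0, m1, m2⟩ := d4_part (sq _ 0) (sq _ 1) (sq _ 2) (sq _ 3) (C 1 0 (by decide)) (C 1 2 (by decide))
    (C 0 3 (by decide)) (braid _ (by decide)) (braid _ (by decide)) m3 mu
  intro i
  fin_cases i
  exacts [m0, m1, m2, m3, m4, m5, m6]

theorem E₇_top : ∃ T : Finset CoxeterMatrix.E₇.Group, T.card = 1 ∧
    (∀ t ∈ T, ∃ (g : CoxeterMatrix.E₇.Group) (i : Fin 7), t = g * CoxeterMatrix.E₇.simple i * g⁻¹) ∧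
    Subgroup.closure (({((List.finRange 7).map CoxeterMatrix.E₇.simple).prod} : Set CoxeterMatrix.E₇.Group) ∪ ↑T) = ⊤ := by
  refine ⟨{s 3}, Finset.card_singleton _, ?_, ?_⟩
  · intro t ht
    rw [Finset.mem_singleton] at ht
    exact ⟨1, 3, by rw [ht]; simp⟩
  · apply top_of_mem
    apply E₇_mem
    · exact Subgroup.subset_closure (Or.inl rfl)
    · exact Subgroup.subset_closure (Or.inr (by simp))

end E₇
section E₆
local notation "s" => CoxeterMatrix.E₆.simple

theorem E₆_mem (H : Subgroup CoxeterMatrix.E₆.Group)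
    (mc : ((List.finRange 6).map CoxeterMatrix.E₆.simple).prod ∈ H) (m3 : s 3 ∈ H) :
    ∀ i : Fin 6, s i ∈ H := by
  have C : ∀ i j : Fin 6, CoxeterMatrix.E₆ i j = 2 → Commute (s i) (s j) := fun i j h => comm _ h
  have hcl : ((List.finRange 6).map CoxeterMatrix.E₆.simple).prod = s 0 * s 1 * s 2 * s 3 * s 4 * s 5 := by
    simp [List.finRange_succ, mul_assoc]
  rw [hcl] at mc
  have m4 : s 4 ∈ H := by
    have e : s 0 * s 1 * s 2 * s 3 * s 4 * s 5 = (s 0 * s 1 * s 2) * ((s 3 * s 4) * (s 5)) := by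
      simp only [mul_assoc]
    rw [e] at mc
    exact mem_of_semiconj (semiconj_chain (C 5 3 (by decide))
      (braid_semiconj _ (by decide)) (((C 0 4 (by decide)).mul_left (C 1 4 (by decide))).mul_left (C 2 4 (by decide)))) mc m3
  have m5 : s 5 ∈ H := by
    have e : s 0 * s 1 * s 2 * s 3 * s 4 * s 5 = (s 0 * s 1 * s 2 * s 3) * (s 4 * s 5) := by
      simp only [mul_assoc]
    rw [e] at mc
    exact mem_of_semiconj (SemiconjBy.mul_left ((((C 0 5 (by decide)).mul_left (C 1 5 (by decide))).mul_left (C 2 5 (by decide))).mul_left (C 3 5 (by decide)))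
      (braid_semiconj _ (by decide))) mc m4
  have mu : s 0 * s 1 * s 2 ∈ H := by
    have e : s 0 * s 1 * s 2 = s 0 * s 1 * s 2 * s 3 * s 4 * s 5 * s 5 * s 4 * s 3 := by
      simp only [← mul_assoc, cancel_r]
    rw [e]
    exact (H.mul_mem (H.mul_mem (H.mul_mem mc m5) m4) m3)
  obtain ⟨m0, m1, m2⟩ := d4_part (sq _ 0) (sq _ 1) (sq _ 2) (sq _ 3) (C 1 0 (by decide)) (C 1 2 (by decide))
    (C 0 3 (by decide)) (braid _ (by decide)) (braid _ (by decide)) m3 mu
  intro i
  fin_cases i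
  exacts [m0, m1, m2, m3, m4, m5]

theorem E₆_top : ∃ T : Finset CoxeterMatrix.E₆.Group, T.card = 1 ∧
    (∀ t ∈ T, ∃ (g : CoxeterMatrix.E₆.Group) (i : Fin 6), t = g * CoxeterMatrix.E₆.simple i * g⁻¹) ∧
    Subgroup.closure (({((List.finRange 6).map CoxeterMatrix.E₆.simple).prod} : Set CoxeterMatrix.E₆.Group) ∪ ↑T) = ⊤ := by
  refine ⟨{s 3}, Finset.card_singleton _, ?_, ?_⟩
  · intro t ht
    rw [Finset.mem_singleton] at ht
    exact ⟨1, 3, by rw [ht]; simp⟩
  · apply top_of_mem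
    apply E₆_mem
    · exact Subgroup.subset_closure (Or.inl rfl)
    · exact Subgroup.subset_closure (Or.inr (by simp))

end E₆
end Cfsg.Agent.Lib.Lead.CoxGen
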