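import Mathlib
import Cfsg.Prelude.Def_ChevStructure
import Cfsg.Agent.Lib.Lead.CoxGenB

set_option autoImplicit false

namespace Cfsg.Agent.Lib.Lead.CoxGen

theorem rank2_mem (M : CoxeterMatrix (Fin 2)) (H : Subgroup M.Group)
    (mc : ((List.finRange 2).map M.simple).prod ∈ H) (m0 : M.simple 0 ∈ H) :
    ∀ i : Fin 2, M.simple i ∈ H := by
  have hcl : ((List.finRange 2).map M.simple).prod = M.simple 0 * M.simple 1 := by
    simp [List.finRange_succ]
  rw [hcl] at mc
  have m1 : M.simple 1 ∈ H := by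
    have e : M.simple 1 = M.simple 0 * (M.simple 0 * M.simple 1) := by
      rw [← mul_assoc, sq, one_mul]
    rw [e]; exact H.mul_mem m0 mc
  intro i
  fin_cases i
  exacts [m0, m1]

/-- Rank two: the Coxeter element and the first simple reflection generate. -/
theorem rank2_top (M : CoxeterMatrix (Fin 2)) : ∃ T : Finset M.Group, T.card = 1 ∧
    (∀ t ∈ T, ∃ (g : M.Group) (i : Fin 2), t = g * M.simple i * g⁻¹) ∧
    Subgroup.closure (({((List.finRange 2).map M.simple).prod} : Set M.Group) ∪ ↑T) = ⊤ := by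
  refine ⟨{M.simple 0}, Finset.card_singleton _, ?_, ?_⟩
  · intro t ht
    rw [Finset.mem_singleton] at ht
    exact ⟨1, 0, by rw [ht]; simp⟩
  · apply top_of_mem
    apply rank2_mem
    · exact Subgroup.subset_closure (Or.inl rfl)
    · exact Subgroup.subset_closure (Or.inr (by simp))

section F4
local notation "s" => CoxeterMatrix.F₄.simple

theorem F₄_mem (H : Subgroup CoxeterMatrix.F₄.Group)
    (mc : ((List.finRange 4).map CoxeterMatrix.F₄.simple).prod ∈ H) (m0 : s 0 ∈ H) (m2 : s 2 ∈ H) :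
    ∀ i : Fin 4, s i ∈ H := by
  have C : ∀ i j : Fin 4, CoxeterMatrix.F₄ i j = 2 → Commute (s i) (s j) := fun i j h => comm _ h
  have hcl : ((List.finRange 4).map CoxeterMatrix.F₄.simple).prod = s 0 * s 1 * s 2 * s 3 := by
    simp [List.finRange_succ, mul_assoc]
  rw [hcl] at mc
  have m3 : s 3 ∈ H := by
    have e : s 0 * s 1 * s 2 * s 3 = (s 0 * s 1) * (s 2 * s 3) := by
      simp only [mul_assoc]
    rw [e] at mc
    exact mem_of_semiconj (SemiconjBy.mul_left ((C 0 3 (by decide)).mul_left (C 1 3 (by decide)))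
      (braid_semiconj _ (by decide))) mc m2
  have m1 : s 1 ∈ H := by
    have e : s 1 = s 0 * (s 0 * s 1 * s 2 * s 3 * s 3 * s 2) := by
      simp only [cancel_r]
      rw [← mul_assoc, sq, one_mul]
    rw [e]
    exact H.mul_mem m0 (H.mul_mem (H.mul_mem mc m3) m2)
  intro i
  fin_cases i
  exacts [m0, m1, m2, m3]

theorem F₄_ne : s 0 ≠ s 2 := by
  intro h
  have hl : CoxeterMatrix.F₄.IsLiftable (fun i : Fin 4 => if i.val < 2 then (1 : ℤˣ) else -1) := by
    intro i j
    fin_cases i <;> fin_cases j <;> decide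
  have h1 := CoxeterMatrix.F₄.toCoxeterSystem.lift_apply_simple hl 0
  have h2 := CoxeterMatrix.F₄.toCoxeterSystem.lift_apply_simple hl 2
  rw [CoxeterMatrix.toCoxeterSystem_simple] at h1 h2
  rw [h, h2] at h1
  revert h1
  decide

theorem F₄_top : ∃ T : Finset CoxeterMatrix.F₄.Group, T.card = 2 ∧
    (∀ t ∈ T, ∃ (g : CoxeterMatrix.F₄.Group) (i : Fin 4), t = g * CoxeterMatrix.F₄.simple i * g⁻¹) ∧
    Subgroup.closure (({((List.finRange 4).map CoxeterMatrix.F₄.simple).prod} :
      Set CoxeterMatrix.F₄.Group) ∪ ↑T) = ⊤ := by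
  classical
  refine ⟨{s 0, s 2}, Finset.card_pair F₄_ne, ?_, ?_⟩
  · intro t ht
    rw [Finset.mem_insert, Finset.mem_singleton] at ht
    rcases ht with ht | ht
    · exact ⟨1, 0, by rw [ht]; simp⟩
    · exact ⟨1, 2, by rw [ht]; simp⟩
  · apply top_of_mem
    apply F₄_mem
    · exact Subgroup.subset_closure (Or.inl rfl)
    · exact Subgroup.subset_closure (Or.inr (by simp))
    · exact Subgroup.subset_closure (Or.inr (by simp))

end F4

section D4
local notation "s" => Cfsg.Lie.coxeterD4.simple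

theorem D4_mem (H : Subgroup Cfsg.Lie.coxeterD4.Group)
    (mc : ((List.finRange 4).map Cfsg.Lie.coxeterD4.simple).prod ∈ H) (m1 : s 1 ∈ H) (m3 : s 3 ∈ H) :
    ∀ i : Fin 4, s i ∈ H := by
  have C : ∀ i j : Fin 4, Cfsg.Lie.coxeterD4 i j = 2 → Commute (s i) (s j) := fun i j h => comm _ h
  have hcl : ((List.finRange 4).map Cfsg.Lie.coxeterD4.simple).prod = s 0 * s 1 * s 2 * s 3 := by
    simp [List.finRange_succ, mul_assoc]
  rw [hcl] at mc
  have mw : s 0 * (s 1 * s 2) ∈ H := by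
    have e : s 0 * (s 1 * s 2) = s 0 * s 1 * s 2 * s 3 * s 3 := by
      rw [cancel_r, mul_assoc]
    rw [e]
    exact H.mul_mem mc m3
  have m2 : s 2 ∈ H :=
    mem_of_semiconj (SemiconjBy.mul_left (C 0 2 (by decide)) (braid_semiconj _ (by decide))) mw m1
  have m0 : s 0 ∈ H := by
    have e : s 0 = s 0 * (s 1 * s 2) * s 2 * s 1 := by
      simp only [← mul_assoc, cancel_r]
    rw [e]
    exact H.mul_mem (H.mul_mem mw m2) m1
  intro i
  fin_cases i
  exacts [m0, m1, m2, m3]

theorem D4_ne : s 1 ≠ s 3 := by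
  intro h
  have hl : Cfsg.Lie.coxeterD4.IsLiftable
      (fun i : Fin 4 => if i.val = 1 then (Equiv.swap (1 : Fin 3) 2) else Equiv.swap (0 : Fin 3) 1) := by
    intro i j
    fin_cases i <;> fin_cases j <;> decide
  have h1 := Cfsg.Lie.coxeterD4.toCoxeterSystem.lift_apply_simple hl 1
  have h2 := Cfsg.Lie.coxeterD4.toCoxeterSystem.lift_apply_simple hl 3
  rw [CoxeterMatrix.toCoxeterSystem_simple] at h1 h2
  rw [h, h2] at h1
  revert h1
  decide

theorem D4_top : ∃ T : Finset Cfsg.Lie.coxeterD4.Group, T.card = 2 ∧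
    (∀ t ∈ T, ∃ (g : Cfsg.Lie.coxeterD4.Group) (i : Fin 4), t = g * Cfsg.Lie.coxeterD4.simple i * g⁻¹) ∧
    Subgroup.closure (({((List.finRange 4).map Cfsg.Lie.coxeterD4.simple).prod} :
      Set Cfsg.Lie.coxeterD4.Group) ∪ ↑T) = ⊤ := by
  classical
  refine ⟨{s 1, s 3}, Finset.card_pair D4_ne, ?_, ?_⟩
  · intro t ht
    rw [Finset.mem_insert, Finset.mem_singleton] at ht
    rcases ht with ht | ht
    · exact ⟨1, 1, by rw [ht]; simp⟩
    · exact ⟨1, 3, by rw [ht]; simp⟩
  · apply top_of_mem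
    apply D4_mem
    · exact Subgroup.subset_closure (Or.inl rfl)
    · exact Subgroup.subset_closure (Or.inr (by simp))
    · exact Subgroup.subset_closure (Or.inr (by simp))

end D4

end Cfsg.Agent.Lib.Lead.CoxGen
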