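import Mathlib

set_option autoImplicit false

/-! Verified coset-table certificates for groups with Coxeter-type relations.
A certificate is a complete coset table (packed in naturals, one byte per entry) in which every entry
is justified by: a definition (tree edge), symmetry, a subgroup generator at the base coset, or a scan
of a rank-two relator all of whose other edges have strictly smaller rank. -/

namespace Cfsg.Agent.Lib.Lead.CoxTC

def get8 (N x : ℕ) : ℕ := N / 256 ^ x % 256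

structure Cert where
  n : ℕ
  J : List ℕ
  J' : List ℕ
  tab : ℕ → ℕ
  rk : ℕ → ℕ
  js : ℕ → ℕ
  par : ℕ
  sg : ℕ

namespace Cert
variable (c : Cert)

def T (x s : ℕ) : ℕ := get8 (c.tab s) x
def R (x s : ℕ) : ℕ := get8 (c.rk s) x
def K (x s : ℕ) : ℕ := get8 (c.js s) x
def P (j : ℕ) : ℕ := get8 c.par j
def S (j : ℕ) : ℕ := get8 c.sg j

def scan (bound : ℕ) : ℕ → ℕ → ℕ → ℕ → Option ℕ
  | 0, x, _, _ => some x
  | k+1, x, u, v => if c.R x u < bound then scan bound k (c.T x u) v u else none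

def entryOK (m : ℕ → ℕ → ℕ) (x s : ℕ) : Bool :=
  decide (c.T x s < c.n) &&
  (if c.K x s = 0 then
      decide (c.T x s ≠ 0) && decide (c.P (c.T x s) = x) && decide (c.S (c.T x s) = s)
   else if c.K x s = 1 then
      decide (c.T (c.T x s) s = x) && decide (c.R (c.T x s) s < c.R x s)
   else if c.K x s = 2 then
      decide (x = 0) && decide (c.T x s = 0) && decide (s ∈ c.J')
   else
      decide (c.K x s - 3 ∈ c.J) && decide (0 < m s (c.K x s - 3)) &&
        decide (c.scan (c.R x s) (2 * m s (c.K x s - 3) - 1) (c.T x s) (c.K x s - 3) s = some x))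

def treeOK : Bool :=
  (List.range c.n).all fun j =>
    decide (j = 0) ||
      (decide (c.P j < j) && decide (c.S j ∈ c.J) && decide (c.T (c.P j) (c.S j) = j))

def ok (m : ℕ → ℕ → ℕ) : Bool :=
  c.treeOK && (List.range c.n).all fun x => c.J.all fun s => c.entryOK m x s

theorem ok_tree {m : ℕ → ℕ → ℕ} (h : c.ok m = true) :
    ∀ j, j < c.n → j ≠ 0 → c.P j < j ∧ c.S j ∈ c.J ∧ c.T (c.P j) (c.S j) = j := by
  intro j hj hj0
  unfold ok at h
  rw [Bool.and_eq_true] at h
  have h1 := h.1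
  unfold treeOK at h1
  rw [List.all_eq_true] at h1
  have h2 := h1 j (List.mem_range.mpr hj)
  simp only [Bool.or_eq_true, Bool.and_eq_true, decide_eq_true_eq] at h2
  rcases h2 with h2 | h2
  · exact absurd h2 hj0
  · exact ⟨h2.1.1, h2.1.2, h2.2⟩

theorem ok_entry {m : ℕ → ℕ → ℕ} (h : c.ok m = true) :
    ∀ x, x < c.n → ∀ s ∈ c.J, c.entryOK m x s = true := by
  intro x hx s hs
  unfold ok at h
  rw [Bool.and_eq_true] at h
  have h1 := h.2
  rw [List.all_eq_true] at h1
  have h2 := h1 x (List.mem_range.mpr hx)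
  rw [List.all_eq_true] at h2
  exact h2 s hs

theorem ok_T_lt {m : ℕ → ℕ → ℕ} (h : c.ok m = true) :
    ∀ x, x < c.n → ∀ s ∈ c.J, c.T x s < c.n := by
  intro x hx s hs
  have := c.ok_entry h x hx s hs
  unfold entryOK at this
  rw [Bool.and_eq_true] at this
  exact of_decide_eq_true this.1

section sound
variable {G : Type*} [Group G] (g : ℕ → G)

def Hsub (L : List ℕ) : Subgroup G := Subgroup.closure {y | ∃ s ∈ L, y = g s}

theorem g_mem_Hsub {L : List ℕ} {s : ℕ} (hs : s ∈ L) : g s ∈ Hsub g L :=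
  Subgroup.subset_closure ⟨s, hs, rfl⟩

theorem Hsub_mono {L L' : List ℕ} (h : ∀ s ∈ L', s ∈ L) : Hsub g L' ≤ Hsub g L := by
  apply Subgroup.closure_mono
  rintro y ⟨s, hs, rfl⟩
  exact ⟨s, h s hs, rfl⟩

noncomputable def rep : ℕ → G
  | 0 => 1
  | j+1 => if h : c.P (j+1) < j+1 then rep (c.P (j+1)) * g (c.S (j+1)) else 1
termination_by j => j
decreasing_by exact h

theorem rep_zero : c.rep g 0 = 1 := by
  rw [rep]

theorem rep_pos {j : ℕ} (hj : j ≠ 0) (h : c.P j < j) :
    c.rep g j = c.rep g (c.P j) * g (c.S j) := by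
  cases j with
  | zero => exact absurd rfl hj
  | succ j =>
    rw [rep]
    rw [dif_pos h]

def alt : ℕ → G → G → G
  | 0, _, _ => 1
  | k+1, p, q => p * alt k q p

theorem alt_two_mul (m : ℕ) (p q : G) : alt (2 * m) p q = (p * q) ^ m := by
  induction m with
  | zero => simp [alt]
  | succ m ih =>
    have : 2 * (m + 1) = (2 * m + 1) + 1 := by ring
    rw [this, alt, alt, ih, pow_succ', mul_assoc]

theorem alt_odd (m : ℕ) (hm : 0 < m) (p q : G) (hp : p * p = 1) (h : (p * q) ^ m = 1) :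
    alt (2 * m - 1) q p = p := by
  have h1 : alt (2 * m) p q = 1 := by rw [alt_two_mul, h]
  have h2 : 2 * m = (2 * m - 1) + 1 := by omega
  rw [h2, alt] at h1
  -- p * alt (2m-1) q p = 1
  have h3 : alt (2 * m - 1) q p = p⁻¹ := eq_inv_of_mul_eq_one_right h1
  rw [h3]
  exact inv_eq_of_mul_eq_one_right hp

variable {g}

theorem scan_sound (bound : ℕ)
    (hT : ∀ x, x < c.n → ∀ s ∈ c.J, c.T x s < c.n)
    (hE : ∀ x, x < c.n → ∀ s ∈ c.J, c.R x s < bound →
      c.rep g x * g s * (c.rep g (c.T x s))⁻¹ ∈ Hsub g c.J') :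
    ∀ (k x u v e : ℕ), x < c.n → u ∈ c.J → v ∈ c.J → c.scan bound k x u v = some e →
      c.rep g x * alt k (g u) (g v) * (c.rep g e)⁻¹ ∈ Hsub g c.J' := by
  intro k
  induction k with
  | zero =>
    intro x u v e _ _ _ h
    simp only [scan, Option.some.injEq] at h
    subst h
    simp [alt]
  | succ k ih =>
    intro x u v e hx hu hv h
    simp only [scan] at h
    split_ifs at h with hr
    have h1 := hE x hx u hu hr
    have h2 := ih (c.T x u) v u e (hT x hx u hu) hv hu h
    have : c.rep g x * alt (k + 1) (g u) (g v) * (c.rep g e)⁻¹ =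
        (c.rep g x * g u * (c.rep g (c.T x u))⁻¹) *
          (c.rep g (c.T x u) * alt k (g v) (g u) * (c.rep g e)⁻¹) := by
      simp only [alt]; group
    rw [this]
    exact Subgroup.mul_mem _ h1 h2

theorem sound_aux {m : ℕ → ℕ → ℕ} (hok : c.ok m = true)
    (hsq : ∀ s ∈ c.J, g s * g s = 1)
    (hrel : ∀ s ∈ c.J, ∀ t ∈ c.J, (g s * g t) ^ (m s t) = 1) :
    ∀ N x, x < c.n → ∀ s ∈ c.J, c.R x s < N →
      c.rep g x * g s * (c.rep g (c.T x s))⁻¹ ∈ Hsub g c.J' := by
  intro N
  induction N with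
  | zero => intro x _ s _ h; exact absurd h (Nat.not_lt_zero _)
  | succ N ih =>
    intro x hx s hs hr
    by_cases hlt : c.R x s < N
    · exact ih x hx s hs hlt
    have hrN : c.R x s = N := by omega
    have hT := c.ok_T_lt hok
    have he := c.ok_entry hok x hx s hs
    unfold entryOK at he
    rw [Bool.and_eq_true] at he
    have hy : c.T x s < c.n := of_decide_eq_true he.1
    have he2 := he.2
    split_ifs at he2 with k0 k1 k2
    · -- definition edge
      simp only [Bool.and_eq_true, decide_eq_true_eq] at he2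
      obtain ⟨⟨hy0, hP⟩, hS⟩ := he2
      have htree := c.ok_tree hok (c.T x s) hy hy0
      rw [c.rep_pos g hy0 htree.1, hP, hS]
      have : c.rep g x * g s * (c.rep g x * g s)⁻¹ = 1 := by group
      rw [this]; exact Subgroup.one_mem _
    · -- symmetry
      simp only [Bool.and_eq_true, decide_eq_true_eq] at he2
      obtain ⟨hTy, hRy⟩ := he2
      have h1 := ih (c.T x s) hy s hs (by omega)
      rw [hTy] at h1
      have hinv : (g s)⁻¹ = g s := inv_eq_of_mul_eq_one_right (hsq s hs)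
      have : c.rep g x * g s * (c.rep g (c.T x s))⁻¹ =
          (c.rep g (c.T x s) * g s * (c.rep g x)⁻¹)⁻¹ := by
        rw [mul_inv_rev, mul_inv_rev, inv_inv, hinv, mul_assoc]
      rw [this]; exact Subgroup.inv_mem _ h1
    · -- subgroup generator at the base coset
      simp only [Bool.and_eq_true, decide_eq_true_eq] at he2
      obtain ⟨⟨hx0, hy0⟩, hsJ'⟩ := he2
      rw [hy0, hx0, c.rep_zero g]
      simp only [one_mul, inv_one, mul_one]
      exact g_mem_Hsub g hsJ'
    · -- relator scan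
      simp only [Bool.and_eq_true, decide_eq_true_eq] at he2
      obtain ⟨⟨ht, hm⟩, hscan⟩ := he2
      set t := c.K x s - 3 with ht_def
      have hE : ∀ x', x' < c.n → ∀ s' ∈ c.J, c.R x' s' < c.R x s →
          c.rep g x' * g s' * (c.rep g (c.T x' s'))⁻¹ ∈ Hsub g c.J' := by
        intro x' hx' s' hs' hr'
        exact ih x' hx' s' hs' (by omega)
      have h1 := c.scan_sound (c.R x s) hT hE (2 * m s t - 1) (c.T x s) t s x hy ht hs hscan
      rw [alt_odd (m s t) hm (g s) (g t) (hsq s hs) (hrel s hs t ht)] at h1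
      have : c.rep g x * g s * (c.rep g (c.T x s))⁻¹ =
          (c.rep g (c.T x s) * g s * (c.rep g x)⁻¹)⁻¹ := by
        have hinv : (g s)⁻¹ = g s := inv_eq_of_mul_eq_one_right (hsq s hs)
        rw [mul_inv_rev, mul_inv_rev, inv_inv, hinv, mul_assoc]
      rw [this]; exact Subgroup.inv_mem _ h1

theorem sound {m : ℕ → ℕ → ℕ} (hok : c.ok m = true)
    (hsq : ∀ s ∈ c.J, g s * g s = 1)
    (hrel : ∀ s ∈ c.J, ∀ t ∈ c.J, (g s * g t) ^ (m s t) = 1) :
    ∀ x, x < c.n → ∀ s ∈ c.J,
      c.rep g x * g s * (c.rep g (c.T x s))⁻¹ ∈ Hsub g c.J' :=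
  fun x hx s hs => c.sound_aux hok hsq hrel (c.R x s + 1) x hx s hs (Nat.lt_succ_self _)

theorem cover {m : ℕ → ℕ → ℕ} (hok : c.ok m = true) (hn : 0 < c.n)
    (hsq : ∀ s ∈ c.J, g s * g s = 1)
    (hrel : ∀ s ∈ c.J, ∀ t ∈ c.J, (g s * g t) ^ (m s t) = 1) :
    ∀ h ∈ Hsub g c.J, ∃ i, i < c.n ∧ ∃ h' ∈ Hsub g c.J', h = h' * c.rep g i := by
  intro h hh
  have hT := c.ok_T_lt hok
  have hS := c.sound hok hsq hrel
  have step : ∀ (x : G), (∃ i, i < c.n ∧ ∃ h' ∈ Hsub g c.J', x = h' * c.rep g i) →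
      ∀ s ∈ c.J, ∃ i, i < c.n ∧ ∃ h' ∈ Hsub g c.J', x * g s = h' * c.rep g i := by
    rintro x ⟨i, hi, h', hh', rfl⟩ s hs
    refine ⟨c.T i s, hT i hi s hs, h' * (c.rep g i * g s * (c.rep g (c.T i s))⁻¹),
      Subgroup.mul_mem _ hh' (hS i hi s hs), ?_⟩
    group
  unfold Hsub at hh
  induction hh using Subgroup.closure_induction_right with
  | one => exact ⟨0, hn, 1, Subgroup.one_mem _, by rw [c.rep_zero g, one_mul]⟩
  | mul_right x hx y hy ih =>
    obtain ⟨s, hs, rfl⟩ := hy
    exact step x ih s hs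
  | mul_inv_cancel x hx y hy ih =>
    obtain ⟨s, hs, rfl⟩ := hy
    have hinv : (g s)⁻¹ = g s := inv_eq_of_mul_eq_one_right (hsq s hs)
    rw [hinv]
    exact step x ih s hs

theorem card_le {m : ℕ → ℕ → ℕ} (hok : c.ok m = true) (hn : 0 < c.n)
    (hsq : ∀ s ∈ c.J, g s * g s = 1)
    (hrel : ∀ s ∈ c.J, ∀ t ∈ c.J, (g s * g t) ^ (m s t) = 1)
    [Finite (Hsub g c.J')] :
    Finite (Hsub g c.J) ∧ Nat.card (Hsub g c.J) ≤ c.n * Nat.card (Hsub g c.J') := by
  classical
  let f : (Hsub g c.J') × Fin c.n → G := fun p => (p.1 : G) * c.rep g p.2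
  let D := {p : (Hsub g c.J') × Fin c.n // f p ∈ Hsub g c.J}
  let F : D → Hsub g c.J := fun p => ⟨f p.1, p.2⟩
  have hF : Function.Surjective F := by
    rintro ⟨h, hh⟩
    obtain ⟨i, hi, h', hh', rfl⟩ := c.cover hok hn hsq hrel h hh
    exact ⟨⟨(⟨h', hh'⟩, ⟨i, hi⟩), hh⟩, rfl⟩
  have hfin : Finite (Hsub g c.J) := Finite.of_surjective F hF
  refine ⟨hfin, ?_⟩
  calc Nat.card (Hsub g c.J) ≤ Nat.card D := Nat.card_le_card_of_surjective F hF
    _ ≤ Nat.card ((Hsub g c.J') × Fin c.n) :=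
        Nat.card_le_card_of_injective Subtype.val Subtype.val_injective
    _ = c.n * Nat.card (Hsub g c.J') := by
        rw [Nat.card_prod, Nat.card_fin, mul_comm]

end sound

end Cert

end Cfsg.Agent.Lib.Lead.CoxTC
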