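import Mathlib
import Cfsg.Agent.Lib.Lead.CoxTC1

set_option autoImplicit false

namespace Cfsg.Agent.Lib.Lead.CoxTC

namespace Cert
variable (c : Cert)

def walk : ℕ → ℕ → ℕ → ℕ → ℕ
  | 0, x, _, _ => x
  | k+1, x, u, v => walk k (c.T x u) v u

def actOK (m : ℕ → ℕ → ℕ) : Bool :=
  (List.range c.n).all fun x => c.J.all fun s =>
    decide (c.T x s < c.n) && decide (c.T (c.T x s) s = x) &&
      c.J.all fun t => decide (c.walk (2 * m s t) x t s = x)

theorem actOK_spec {m : ℕ → ℕ → ℕ} (h : c.actOK m = true) :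
    ∀ x, x < c.n → ∀ s ∈ c.J, c.T x s < c.n ∧ c.T (c.T x s) s = x ∧
      ∀ t ∈ c.J, c.walk (2 * m s t) x t s = x := by
  intro x hx s hs
  unfold actOK at h
  rw [List.all_eq_true] at h
  have h1 := h x (List.mem_range.mpr hx)
  rw [List.all_eq_true] at h1
  have h2 := h1 s hs
  simp only [Bool.and_eq_true, decide_eq_true_eq, List.all_eq_true] at h2
  exact ⟨h2.1.1, h2.1.2, h2.2⟩

def permFun (s : ℕ) (x : Fin c.n) : Fin c.n :=
  if h : c.T x s < c.n then ⟨c.T x s, h⟩ else x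

theorem permFun_val {m : ℕ → ℕ → ℕ} (hact : c.actOK m = true) {s : ℕ} (hs : s ∈ c.J)
    (x : Fin c.n) : (c.permFun s x).val = c.T x s := by
  unfold permFun
  rw [dif_pos (c.actOK_spec hact x x.2 s hs).1]

theorem permFun_invol {m : ℕ → ℕ → ℕ} (hact : c.actOK m = true) {s : ℕ} (hs : s ∈ c.J) :
    Function.Involutive (c.permFun s) := by
  intro x
  apply Fin.ext
  rw [c.permFun_val hact hs, c.permFun_val hact hs]
  exact (c.actOK_spec hact x x.2 s hs).2.1

noncomputable def σ {m : ℕ → ℕ → ℕ} (hact : c.actOK m = true) (s : ℕ) : Equiv.Perm (Fin c.n) :=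
  if hs : s ∈ c.J then (c.permFun_invol hact hs).toPerm (c.permFun s) else 1

theorem σ_val {m : ℕ → ℕ → ℕ} (hact : c.actOK m = true) {s : ℕ} (hs : s ∈ c.J) (x : Fin c.n) :
    (c.σ hact s x).val = c.T x s := by
  unfold σ
  rw [dif_pos hs, Function.Involutive.coe_toPerm]
  exact c.permFun_val hact hs x

theorem pow_walk {m : ℕ → ℕ → ℕ} (hact : c.actOK m = true) {s t : ℕ} (hs : s ∈ c.J) (ht : t ∈ c.J) :
    ∀ (k : ℕ) (x : Fin c.n), (((c.σ hact s * c.σ hact t) ^ k) x).val = c.walk (2 * k) x t s := by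
  intro k
  induction k with
  | zero => intro x; simp [walk]
  | succ k ih =>
    intro x
    have h2 : 2 * (k + 1) = (2 * k + 1) + 1 := by ring
    rw [pow_succ, Equiv.Perm.mul_apply, ih, h2, walk, walk]
    rw [Equiv.Perm.mul_apply, c.σ_val hact hs, c.σ_val hact ht]

theorem σ_rel {m : ℕ → ℕ → ℕ} (hact : c.actOK m = true) {s t : ℕ} (hs : s ∈ c.J) (ht : t ∈ c.J) :
    (c.σ hact s * c.σ hact t) ^ (m s t) = 1 := by
  ext x
  rw [c.pow_walk hact hs ht, Equiv.Perm.one_apply]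
  exact (c.actOK_spec hact x x.2 s hs).2.2 t ht

end Cert

structure OrbCert where
  pts : List ℕ
  pa : List ℕ
  sl : List ℕ

namespace OrbCert
variable (o : OrbCert)

def ok (c : Cert) (L : List ℕ) : Bool :=
  decide o.pts.Nodup && (List.range o.pts.length).all fun i =>
    decide (o.pts.getD i 0 < c.n) &&
    (decide (i = 0) || (decide (o.pa.getD i 0 < i) && decide (o.sl.getD i 0 ∈ L) &&
       decide (c.T (o.pts.getD (o.pa.getD i 0) 0) (o.sl.getD i 0) = o.pts.getD i 0)))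

theorem ok_spec {c : Cert} {L : List ℕ} (h : o.ok c L = true) :
    o.pts.Nodup ∧ ∀ i, i < o.pts.length → o.pts.getD i 0 < c.n ∧
      (i ≠ 0 → o.pa.getD i 0 < i ∧ o.sl.getD i 0 ∈ L ∧
        c.T (o.pts.getD (o.pa.getD i 0) 0) (o.sl.getD i 0) = o.pts.getD i 0) := by
  unfold ok at h
  rw [Bool.and_eq_true, List.all_eq_true] at h
  refine ⟨of_decide_eq_true h.1, ?_⟩
  intro i hi
  have h2 := h.2 i (List.mem_range.mpr hi)
  simp only [Bool.and_eq_true, Bool.or_eq_true, decide_eq_true_eq] at h2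
  refine ⟨h2.1, ?_⟩
  intro hi0
  rcases h2.2 with h3 | h3
  · exact absurd h3 hi0
  · exact ⟨h3.1.1, h3.1.2, h3.2⟩

end OrbCert

section lower
open Cert
variable {A : Type*} [Group A] (c : Cert) (gA : ℕ → A) (ρ : A →* Equiv.Perm (Fin c.n))

theorem reach (hρ : ∀ s ∈ c.J, ∀ x : Fin c.n, (ρ (gA s) x).val = c.T x s)
    {L : List ℕ} (hL : ∀ s ∈ L, s ∈ c.J) (o : OrbCert) (ho : o.ok c L = true)
    (p0 : Fin c.n) (hp0 : p0.val = o.pts.getD 0 0) :
    ∀ i, i < o.pts.length → ∃ h ∈ Hsub gA L, (ρ h p0).val = o.pts.getD i 0 := by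
  obtain ⟨_, hspec⟩ := o.ok_spec ho
  intro i
  induction i using Nat.strong_induction_on with
  | _ i ih =>
    intro hi
    by_cases hi0 : i = 0
    · subst hi0
      exact ⟨1, Subgroup.one_mem _, by rw [map_one, Equiv.Perm.one_apply, hp0]⟩
    · obtain ⟨hpa, hsl, hT⟩ := (hspec i hi).2 hi0
      obtain ⟨h, hh, hh2⟩ := ih (o.pa.getD i 0) hpa (lt_trans hpa hi)
      refine ⟨gA (o.sl.getD i 0) * h, Subgroup.mul_mem _ (g_mem_Hsub gA hsl) hh, ?_⟩
      rw [map_mul, Equiv.Perm.mul_apply, hρ _ (hL _ hsl), hh2, hT]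

theorem lower_step [Finite A]
    (hρ : ∀ s ∈ c.J, ∀ x : Fin c.n, (ρ (gA s) x).val = c.T x s)
    (L L' : List ℕ) (hL : ∀ s ∈ L, s ∈ c.J) (hLL' : ∀ s ∈ L', s ∈ L)
    (o : OrbCert) (ho : o.ok c L = true) (hlen : 0 < o.pts.length)
    (hfix : ∀ s ∈ L', c.T (o.pts.getD 0 0) s = o.pts.getD 0 0) :
    o.pts.length * Nat.card (Hsub gA L') ≤ Nat.card (Hsub gA L) := by
  classical
  obtain ⟨hnd, hspec⟩ := o.ok_spec ho
  let p0 : Fin c.n := ⟨o.pts.getD 0 0, (hspec 0 hlen).1⟩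
  let St : Subgroup A := (MulAction.stabilizer (Equiv.Perm (Fin c.n)) p0).comap ρ
  have hSt : ∀ a, a ∈ St ↔ ρ a p0 = p0 := by
    intro a
    simp only [St, Subgroup.mem_comap, MulAction.mem_stabilizer_iff, Equiv.Perm.smul_def]
  let K := Hsub gA L
  let B := K ⊓ St
  have hBK : B ≤ K := inf_le_left
  have h1 : Hsub gA L' ≤ B := by
    apply le_inf (Hsub_mono gA hLL')
    unfold Hsub
    rw [Subgroup.closure_le]
    rintro y ⟨s, hs, rfl⟩
    show gA s ∈ St
    rw [hSt]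
    apply Fin.ext
    rw [hρ s (hL s (hLL' s hs))]
    exact hfix s hs
  have h2 : Nat.card B * (B.subgroupOf K).index = Nat.card K := by
    rw [← Subgroup.card_mul_index (B.subgroupOf K)]
    congr 1
    exact (Nat.card_congr (Subgroup.subgroupOfEquivOfLe hBK).toEquiv).symm
  have hreach := reach c gA ρ hρ hL o ho p0 rfl
  have h3 : o.pts.length ≤ (B.subgroupOf K).index := by
    rw [Subgroup.index_eq_card]
    choose! w hw using hreach
    let φ : Fin o.pts.length → K ⧸ B.subgroupOf K := fun i => QuotientGroup.mk ⟨w i, (hw i i.2).1⟩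
    have hφ : Function.Injective φ := by
      intro i j hij
      have h4 := QuotientGroup.eq.mp hij
      rw [Subgroup.mem_subgroupOf] at h4
      have h5 : (w i)⁻¹ * w j ∈ St := h4.2
      rw [hSt, map_mul, Equiv.Perm.mul_apply, map_inv, Equiv.Perm.inv_eq_iff_eq] at h5
      have h6 : o.pts.getD i 0 = o.pts.getD j 0 := by
        rw [← (hw i i.2).2, ← (hw j j.2).2, h5]
      rw [List.getD_eq_getElem _ _ i.2, List.getD_eq_getElem _ _ j.2] at h6
      exact Fin.ext ((hnd.getElem_inj_iff).mp h6)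
    have := Nat.card_le_card_of_injective φ hφ
    rwa [Nat.card_fin] at this
  calc o.pts.length * Nat.card (Hsub gA L') ≤ (B.subgroupOf K).index * Nat.card B :=
        Nat.mul_le_mul h3 (Subgroup.card_le_of_le h1)
    _ = Nat.card K := by rw [mul_comm, h2]

end lower

end Cfsg.Agent.Lib.Lead.CoxTC
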