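import Mathlib
import Cfsg.Agent.Lib.Lead.CoxTC2
import Cfsg.Agent.Lib.Lead.CoxGenA

set_option autoImplicit false

namespace Cfsg.Agent.Lib.Lead.CoxTC

open Cert

def chainOK (m : ℕ → ℕ → ℕ) : List ℕ → List Cert → Bool
  | J, [] => decide (J = [])
  | J, c :: cs => decide (c.J = J) && c.ok m && decide (0 < c.n) &&
      (c.J'.all fun s => decide (s ∈ c.J)) && chainOK m c.J' cs

theorem upper {G : Type*} [Group G] (g : ℕ → G) (m : ℕ → ℕ → ℕ) :
    ∀ (cs : List Cert) (J : List ℕ), chainOK m J cs = true →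
      (∀ s ∈ J, g s * g s = 1) → (∀ s ∈ J, ∀ t ∈ J, (g s * g t) ^ (m s t) = 1) →
      Finite (Hsub g J) ∧ Nat.card (Hsub g J) ≤ (cs.map Cert.n).prod := by
  intro cs
  induction cs with
  | nil =>
    intro J h _ _
    simp only [chainOK, decide_eq_true_eq] at h
    subst h
    have : Hsub g [] = ⊥ := by
      unfold Hsub
      rw [Subgroup.closure_eq_bot_iff]
      rintro y ⟨s, hs, _⟩
      exact absurd hs (List.not_mem_nil)
    rw [this]
    refine ⟨inferInstance, ?_⟩
    simp
  | cons c cs ih =>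
    intro J h hsq hrel
    simp only [chainOK, Bool.and_eq_true, decide_eq_true_eq, List.all_eq_true] at h
    obtain ⟨⟨⟨⟨hJ, hok⟩, hn⟩, hsub⟩, hrest⟩ := h
    subst hJ
    obtain ⟨hfin, hcard⟩ := ih c.J' hrest (fun s hs => hsq s (hsub s hs))
      (fun s hs t ht => hrel s (hsub s hs) t (hsub t ht))
    haveI := hfin
    obtain ⟨hfin2, hcard2⟩ := c.card_le hok hn hsq hrel
    refine ⟨hfin2, ?_⟩
    rw [List.map_cons, List.prod_cons]
    exact le_trans hcard2 (Nat.mul_le_mul_left _ hcard)

def lowOK (c0 : Cert) : List ℕ → List (List ℕ × OrbCert) → Bool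
  | _, [] => true
  | L, p :: rest => (p.1.all fun s => decide (s ∈ L)) && p.2.ok c0 L &&
      decide (0 < p.2.pts.length) &&
      (p.1.all fun s => decide (c0.T (p.2.pts.getD 0 0) s = p.2.pts.getD 0 0)) &&
      lowOK c0 p.1 rest

theorem lower {A : Type*} [Group A] [Finite A] (c0 : Cert) (gA : ℕ → A)
    (ρ : A →* Equiv.Perm (Fin c0.n))
    (hρ : ∀ s ∈ c0.J, ∀ x : Fin c0.n, (ρ (gA s) x).val = c0.T x s) :
    ∀ (ch : List (List ℕ × OrbCert)) (L : List ℕ), lowOK c0 L ch = true →
      (∀ s ∈ L, s ∈ c0.J) →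
      (ch.map fun p => p.2.pts.length).prod ≤ Nat.card (Hsub gA L) := by
  intro ch
  induction ch with
  | nil =>
    intro L _ _
    simp only [List.map_nil, List.prod_nil]
    exact Nat.card_pos
  | cons p rest ih =>
    intro L h hL
    simp only [lowOK, Bool.and_eq_true, decide_eq_true_eq, List.all_eq_true] at h
    obtain ⟨⟨⟨⟨hsub, hok⟩, hlen⟩, hfix⟩, hrest⟩ := h
    have h1 := ih p.1 hrest (fun s hs => hL s (hsub s hs))
    have h2 := lower_step c0 gA ρ hρ L p.1 hL hsub p.2 hok hlen hfix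
    rw [List.map_cons, List.prod_cons]
    exact le_trans (Nat.mul_le_mul_left _ h1) h2

open Cfsg.Agent.Lib.Lead.CoxGen in
theorem coxeter_main {l : ℕ} (M : CoxeterMatrix (Fin l)) (m : ℕ → ℕ → ℕ)
    (hm : ∀ i j : Fin l, m i j = M i j)
    (c0 : Cert) (cs : List Cert) (hchain : chainOK m (List.range l) (c0 :: cs) = true)
    (hact : c0.actOK m = true)
    (low : List (List ℕ × OrbCert)) (hlow : lowOK c0 (List.range l) low = true)
    (N : ℕ) (hN1 : ((c0 :: cs).map Cert.n).prod = N)
    (hN2 : (low.map fun p => p.2.pts.length).prod = N) :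
    Nat.card M.Group = N ∧ ∃ ρ : M.Group →* Equiv.Perm (Fin c0.n), Function.Injective ρ ∧
      ∀ (i : Fin l) (x : Fin c0.n), (ρ (M.simple i) x).val = c0.T x i := by
  classical
  let g : ℕ → M.Group := fun s => if h : s < l then M.simple ⟨s, h⟩ else 1
  have hg : ∀ i : Fin l, g i.val = M.simple i := by
    intro i
    simp only [g, dif_pos i.2]
  have hsq : ∀ s ∈ List.range l, g s * g s = 1 := by
    intro s hs
    have hs' := List.mem_range.mp hs
    have := hg ⟨s, hs'⟩
    simp only at this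
    rw [this]
    exact sq M _
  have hrel : ∀ s ∈ List.range l, ∀ t ∈ List.range l, (g s * g t) ^ (m s t) = 1 := by
    intro s hs t ht
    have hs' := List.mem_range.mp hs
    have ht' := List.mem_range.mp ht
    have h1 := hg ⟨s, hs'⟩
    have h2 := hg ⟨t, ht'⟩
    simp only at h1 h2
    rw [h1, h2]
    have h3 := hm ⟨s, hs'⟩ ⟨t, ht'⟩
    simp only at h3
    rw [h3]
    exact pow_rel M _ _
  have htop : Hsub g (List.range l) = ⊤ := by
    rw [eq_top_iff, ← M.toCoxeterSystem.subgroup_closure_range_simple]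
    unfold Hsub
    apply Subgroup.closure_mono
    rintro _ ⟨i, rfl⟩
    rw [CoxeterMatrix.toCoxeterSystem_simple]
    exact ⟨i.val, List.mem_range.mpr i.2, (hg i).symm⟩
  obtain ⟨hfin, hcard⟩ := upper g m (c0 :: cs) (List.range l) hchain hsq hrel
  rw [htop] at hfin hcard
  haveI : Finite M.Group := by
    haveI := hfin
    exact Finite.of_equiv _ (Subgroup.topEquiv (G := M.Group)).toEquiv
  rw [Subgroup.card_top, hN1] at hcard
  -- the action
  have hJ0 : c0.J = List.range l := by
    simp only [chainOK, Bool.and_eq_true, decide_eq_true_eq] at hchain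
    exact hchain.1.1.1.1
  have hmemJ : ∀ i : Fin l, i.val ∈ c0.J := by
    intro i; rw [hJ0]; exact List.mem_range.mpr i.2
  have hlift : M.IsLiftable (fun i : Fin l => c0.σ hact i.val) := by
    intro i i'
    have := c0.σ_rel hact (hmemJ i) (hmemJ i')
    rwa [hm i i'] at this
  let ρ : M.Group →* Equiv.Perm (Fin c0.n) := M.toCoxeterSystem.lift ⟨_, hlift⟩
  have hρs : ∀ i : Fin l, ρ (M.simple i) = c0.σ hact i.val := by
    intro i
    have := M.toCoxeterSystem.lift_apply_simple hlift i
    rwa [CoxeterMatrix.toCoxeterSystem_simple] at this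
  have hρval : ∀ (i : Fin l) (x : Fin c0.n), (ρ (M.simple i) x).val = c0.T x i := by
    intro i x
    rw [hρs]
    exact c0.σ_val hact (hmemJ i) x
  -- lower bound on the image
  let gA : ℕ → ρ.range := fun s => ⟨ρ (g s), ⟨g s, rfl⟩⟩
  have hρ' : ∀ s ∈ c0.J, ∀ x : Fin c0.n, ((ρ.range.subtype (gA s)) x).val = c0.T x s := by
    intro s hs x
    rw [hJ0] at hs
    have hs' := List.mem_range.mp hs
    have h1 := hg ⟨s, hs'⟩
    simp only at h1
    show (ρ (g s) x).val = c0.T x s
    rw [h1]
    exact hρval ⟨s, hs'⟩ x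
  have hlo := lower c0 gA ρ.range.subtype hρ' low (List.range l) hlow
    (fun s hs => by rw [hJ0]; exact hs)
  rw [hN2] at hlo
  have h1 : Nat.card (Hsub gA (List.range l)) ≤ Nat.card ρ.range := Subgroup.card_le_card_group _
  have h2 : Nat.card ρ.range ≤ Nat.card M.Group :=
    Nat.card_le_card_of_surjective ρ.rangeRestrict ρ.rangeRestrict_surjective
  have hcardW : Nat.card M.Group = N := le_antisymm hcard (le_trans hlo (le_trans h1 h2))
  refine ⟨hcardW, ρ, ?_, hρval⟩
  have hcardA : Nat.card M.Group = Nat.card ρ.range := by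
    apply le_antisymm _ h2
    rw [hcardW]; exact le_trans hlo h1
  have hbij : Function.Bijective ρ.rangeRestrict :=
    (Nat.bijective_iff_surjective_and_card _).mpr ⟨ρ.rangeRestrict_surjective, hcardA⟩
  intro a b hab
  apply hbij.1
  exact Subtype.ext hab

end Cfsg.Agent.Lib.Lead.CoxTC
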