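import Mathlib
import Cfsg.Agent.Lib.Lead.CoxTC3

set_option autoImplicit false

namespace Cfsg.Agent.Lib.Lead.CoxTC

open Cert

def cstepL (c0 : Cert) (L : List ℕ) (x : ℕ) : ℕ := L.foldr (fun s y => c0.T y s) x

section model
variable {l : ℕ} (M : CoxeterMatrix (Fin l)) (c0 : Cert)
  (ρ : M.Group →* Equiv.Perm (Fin c0.n))
  (hval : ∀ (i : Fin l) (x : Fin c0.n), (ρ (M.simple i) x).val = c0.T x i)

include hval

theorem rho_prod_val (Lf : List (Fin l)) (x : Fin c0.n) :
    (ρ ((Lf.map M.simple).prod) x).val = cstepL c0 (Lf.map Fin.val) x.val := by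
  induction Lf with
  | nil => simp [cstepL]
  | cons i Lf ih =>
    rw [List.map_cons, List.prod_cons, map_mul, Equiv.Perm.mul_apply, hval, ih]
    simp [cstepL]

theorem rho_cox_pow_val {L : List ℕ} (hL : (List.finRange l).map Fin.val = L) (k : ℕ) :
    ∀ x : Fin c0.n, ((ρ (((List.finRange l).map M.simple).prod) ^ k) x).val =
      (cstepL c0 L)^[k] x.val := by
  induction k with
  | zero => intro x; simp
  | succ k ih =>
    intro x
    rw [pow_succ, Equiv.Perm.mul_apply, ih, Function.iterate_succ_apply,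
      rho_prod_val M c0 ρ hval, hL]

theorem order_cox (hinj : Function.Injective ρ) {L : List ℕ}
    (hL : (List.finRange l).map Fin.val = L) (h : ℕ) (hpos : 0 < h) (hn : 0 < c0.n)
    (hall : ∀ x, x < c0.n → (cstepL c0 L)^[h] x = x)
    (hmin : ∀ k, k < h → 0 < k → (cstepL c0 L)^[k] 0 ≠ 0) :
    orderOf (((List.finRange l).map M.simple).prod) = h := by
  rw [← orderOf_injective ρ hinj]
  rw [orderOf_eq_iff hpos]
  constructor
  · ext x
    rw [rho_cox_pow_val M c0 ρ hval hL, Equiv.Perm.one_apply]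
    exact hall x x.2
  · intro k hk hk0 hone
    apply hmin k hk hk0
    have := rho_cox_pow_val M c0 ρ hval hL k ⟨0, hn⟩
    rw [hone, Equiv.Perm.one_apply] at this
    exact this.symm

theorem transitive {m : ℕ → ℕ → ℕ} (hok : c0.ok m = true) (hJ : c0.J = List.range l) (hn : 0 < c0.n) :
    ∀ j, j < c0.n → ∃ w : M.Group, (ρ w ⟨0, hn⟩).val = j := by
  intro j
  induction j using Nat.strong_induction_on with
  | _ j ih =>
    intro hj
    by_cases hj0 : j = 0
    · subst hj0; exact ⟨1, by simp⟩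
    · obtain ⟨hP, hS, hT⟩ := c0.ok_tree hok j hj hj0
      obtain ⟨w, hw⟩ := ih (c0.P j) hP (lt_trans hP hj)
      rw [hJ] at hS
      have hS' := List.mem_range.mp hS
      refine ⟨M.simple ⟨c0.S j, hS'⟩ * w, ?_⟩
      rw [map_mul, Equiv.Perm.mul_apply, hval, hw]
      exact hT

theorem central_fix_eq_one {m : ℕ → ℕ → ℕ} (hok : c0.ok m = true) (hJ : c0.J = List.range l)
    (hn : 0 < c0.n) (hinj : Function.Injective ρ) {z : M.Group} (hz : z ∈ Subgroup.center M.Group)
    (hfix : ρ z ⟨0, hn⟩ = ⟨0, hn⟩) : z = 1 := by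
  apply hinj
  rw [map_one]
  ext x
  obtain ⟨w, hw⟩ := transitive M c0 ρ hval hok hJ hn x.val x.2
  have hw' : ρ w ⟨0, hn⟩ = x := Fin.ext hw
  rw [Equiv.Perm.one_apply, ← hw', ← Equiv.Perm.mul_apply, ← map_mul,
    ← (Subgroup.mem_center_iff.mp hz w), map_mul, Equiv.Perm.mul_apply, hfix]

theorem central_image_fixed (hn : 0 < c0.n) {z : M.Group} (hz : z ∈ Subgroup.center M.Group) :
    ∀ s, (hs : s < l) → c0.T 0 s = 0 → c0.T (ρ z ⟨0, hn⟩).val s = (ρ z ⟨0, hn⟩).val := by
  intro s hs h0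
  have h1 : ρ (M.simple ⟨s, hs⟩) ⟨0, hn⟩ = ⟨0, hn⟩ := by
    apply Fin.ext
    rw [hval]
    exact h0
  have h2 : ρ (M.simple ⟨s, hs⟩) (ρ z ⟨0, hn⟩) = ρ z ⟨0, hn⟩ := by
    rw [← Equiv.Perm.mul_apply, ← map_mul, Subgroup.mem_center_iff.mp hz, map_mul,
      Equiv.Perm.mul_apply, h1]
  have := hval ⟨s, hs⟩ (ρ z ⟨0, hn⟩)
  rw [h2] at this
  exact this.symm

theorem center_trivial {m : ℕ → ℕ → ℕ} (hok : c0.ok m = true) (hJ : c0.J = List.range l)
    (hn : 0 < c0.n) (hinj : Function.Injective ρ)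
    (hF : ∀ x, x < c0.n → (∀ s, s < l → c0.T 0 s = 0 → c0.T x s = x) → x = 0) :
    Subgroup.center M.Group = ⊥ := by
  rw [Subgroup.eq_bot_iff_forall]
  intro z hz
  apply central_fix_eq_one M c0 ρ hval hok hJ hn hinj hz
  apply Fin.ext
  exact hF _ (ρ z ⟨0, hn⟩).2 (fun s hs h0 => central_image_fixed M c0 ρ hval hn hz s hs h0)

theorem center_two {m : ℕ → ℕ → ℕ} (hok : c0.ok m = true) (hJ : c0.J = List.range l)
    (hn : 0 < c0.n) (hinj : Function.Injective ρ) {L : List ℕ}
    (hL : (List.finRange l).map Fin.val = L) (f1 k : ℕ) (hf1 : f1 ≠ 0)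
    (hF : ∀ x, x < c0.n → (∀ s, s < l → c0.T 0 s = 0 → c0.T x s = x) → x = 0 ∨ x = f1)
    (hk : (cstepL c0 L)^[k] 0 = f1)
    (hcomm : ∀ x, x < c0.n → ∀ s, s < l →
      (cstepL c0 L)^[k] (c0.T x s) = c0.T ((cstepL c0 L)^[k] x) s) :
    Nat.card (Subgroup.center M.Group) = 2 ∧
      Subgroup.center M.Group ≤ Subgroup.zpowers (((List.finRange l).map M.simple).prod) := by
  set cx := ((List.finRange l).map M.simple).prod with hcx
  set z0 := cx ^ k with hz0
  have hz0val : ∀ x : Fin c0.n, (ρ z0 x).val = (cstepL c0 L)^[k] x.val := by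
    intro x
    rw [hz0, map_pow]
    exact rho_cox_pow_val M c0 ρ hval hL k x
  -- z0 commutes with the simple reflections
  have hcs : ∀ i : Fin l, M.simple i * z0 = z0 * M.simple i := by
    intro i
    apply hinj
    ext x
    rw [map_mul, map_mul, Equiv.Perm.mul_apply, Equiv.Perm.mul_apply, hval, hz0val, hz0val, hval]
    exact (hcomm x.val x.2 i.val i.2).symm
  have hz0c : z0 ∈ Subgroup.center M.Group := by
    rw [Subgroup.mem_center_iff]
    intro w
    have := M.toCoxeterSystem.simple_induction (p := fun w => w * z0 = z0 * w) w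
      (fun i => by rw [CoxeterMatrix.toCoxeterSystem_simple]; exact hcs i)
      (by simp)
      (fun a b ha hb => by rw [mul_assoc, hb, ← mul_assoc, ha, mul_assoc])
    exact this
  have hz0p : (ρ z0 ⟨0, hn⟩).val = f1 := by rw [hz0val]; exact hk
  have hz0ne : z0 ≠ 1 := by
    intro h1
    rw [h1, map_one, Equiv.Perm.one_apply] at hz0p
    exact hf1 hz0p.symm
  have hcases : ∀ z ∈ Subgroup.center M.Group, z = 1 ∨ z = z0 := by
    intro z hz
    rcases hF _ (ρ z ⟨0, hn⟩).2
      (fun s hs h0 => central_image_fixed M c0 ρ hval hn hz s hs h0) with h0 | h1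
    · left
      exact central_fix_eq_one M c0 ρ hval hok hJ hn hinj hz (Fin.ext h0)
    · right
      have hmem : z0⁻¹ * z ∈ Subgroup.center M.Group :=
        Subgroup.mul_mem _ (Subgroup.inv_mem _ hz0c) hz
      have hfix : ρ (z0⁻¹ * z) ⟨0, hn⟩ = ⟨0, hn⟩ := by
        rw [map_mul, Equiv.Perm.mul_apply, map_inv, Equiv.Perm.inv_eq_iff_eq]
        apply Fin.ext
        rw [h1, hz0p]
      have := central_fix_eq_one M c0 ρ hval hok hJ hn hinj hmem hfix
      exact (inv_mul_eq_one.mp this).symm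
  constructor
  · rw [Nat.card_eq_two_iff]
    refine ⟨⟨1, Subgroup.one_mem _⟩, ⟨z0, hz0c⟩, ?_, ?_⟩
    · intro h
      exact hz0ne (Subtype.ext_iff.mp h).symm
    · ext ⟨z, hz⟩
      simp only [Set.mem_insert_iff, Set.mem_singleton_iff, Set.mem_univ, iff_true, Subtype.mk.injEq]
      exact hcases z hz
  · intro z hz
    rcases hcases z hz with rfl | rfl
    · exact Subgroup.one_mem _
    · exact Subgroup.pow_mem _ (Subgroup.mem_zpowers _) k

end model

end Cfsg.Agent.Lib.Lead.CoxTC
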