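import Cfsg.Agent.Lib.Lead.CoxTC3
import Cfsg.Prelude.Def_ChevStructure

set_option autoImplicit false

namespace Cfsg.Agent.Lib.Lead.CoxTC

def mB2 (s t : ℕ) : ℕ := ([[1, 4], [4, 1]].getD s []).getD t 0

def cB2_0 : Cert where
  n := 4
  J := [0, 1]
  J' := [0]
  tab := fun s => match s with
    | 0 => 0x3010200
    | 1 => 0x2030001
    | _ => 0
  rk := fun s => match s with
    | 0 => 0x2010000
    | 1 => 0x1000100
    | _ => 0
  js := fun s => match s with
    | 0 => 0x4010002
    | 1 => 0x1000100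
    | _ => 0
  par := 0x2010000
  sg := 0x1000100

def cB2_1 : Cert where
  n := 2
  J := [0]
  J' := []
  tab := fun s => match s with
    | 0 => 0x1
    | _ => 0
  rk := fun s => match s with
    | 0 => 0x100
    | _ => 0
  js := fun s => match s with
    | 0 => 0x100
    | _ => 0
  par := 0x0
  sg := 0x0

def lowB2 : List (List ℕ × OrbCert) := [
  ([0], ⟨[0, 1, 2, 3], [0, 0, 1, 2], [0, 1, 0, 1]⟩),
  ([], ⟨[1, 2], [0, 0], [0, 0]⟩)]

set_option maxRecDepth 100000 in
theorem mainB2 : Nat.card (CoxeterMatrix.B 2).Group = 8 ∧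
    ∃ ρ : (CoxeterMatrix.B 2).Group →* Equiv.Perm (Fin cB2_0.n), Function.Injective ρ ∧
      ∀ (i : Fin 2) (x : Fin cB2_0.n), (ρ ((CoxeterMatrix.B 2).simple i) x).val = cB2_0.T x i :=
  coxeter_main (CoxeterMatrix.B 2) mB2 (by intro i j; fin_cases i <;> fin_cases j <;> first | rfl | decide) cB2_0 [cB2_1] (by decide) (by decide)
    lowB2 (by decide) 8 (by decide) (by decide)

end Cfsg.Agent.Lib.Lead.CoxTC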