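import Cfsg.Agent.Lib.Lead.CoxTC3
import Cfsg.Prelude.Def_ChevStructure

set_option autoImplicit false

namespace Cfsg.Agent.Lib.Lead.CoxTC

def mD4 (s t : ℕ) : ℕ := ([[1, 3, 2, 2], [3, 1, 3, 3], [2, 3, 1, 2], [2, 3, 2, 1]].getD s []).getD t 0

def cD4_0 : Cert where
  n := 24
  J := [0, 1, 2, 3]
  J' := [0, 2, 3]
  tab := fun s => match s with
    | 0 => 0x1714121610150d130b0e110c0f0a07080904030605010200
    | 1 => 0x16171514130e0f0c1112091007060d050b0a080403020001
    | 2 => 0x17131110160d15140f0a120c0b0e06080409020701050300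
    | 3 => 0x171516121114130d0f0e10080b0a050c0302090107060400
    | _ => 0
  rk := fun s => match s with
    | 0 => 0x60202030103010001050005000405040402020303010000
    | 1 => 0x10006050604070106030100010100010000000202020100
    | 2 => 0x70101010001000005010004040002030203010301000000
    | 3 => 0x70605040403030204040301030301000101000100000000
    | _ => 0
  js := fun s => match s with
    | 0 => 0x40505010101010001050006000401040506050101010002
    | 1 => 0x10003050301010103050100010100010000000605030100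
    | 2 => 0x40101010001000003010006040006040601010101000002
    | 3 => 0x40103010105030403050101040401000101000100000002
    | _ => 0
  par := 0x16131110100d0d0c0b0a0908070605050302020101010000
  sg := 0x10202020002000100020103010103010303020302000100

def cD4_1 : Cert where
  n := 2
  J := [0, 2, 3]
  J' := [2, 3]
  tab := fun s => match s with
    | 0 => 0x1
    | 2 => 0x100
    | 3 => 0x100
    | _ => 0
  rk := fun s => match s with
    | 0 => 0x100
    | 2 => 0x200
    | 3 => 0x200
    | _ => 0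
  js := fun s => match s with
    | 0 => 0x100
    | 2 => 0x302
    | 3 => 0x302
    | _ => 0
  par := 0x0
  sg := 0x0

def cD4_2 : Cert where
  n := 2
  J := [2, 3]
  J' := [3]
  tab := fun s => match s with
    | 2 => 0x1
    | 3 => 0x100
    | _ => 0
  rk := fun s => match s with
    | 2 => 0x100
    | 3 => 0x200
    | _ => 0
  js := fun s => match s with
    | 2 => 0x100
    | 3 => 0x502
    | _ => 0
  par := 0x0
  sg := 0x200

def cD4_3 : Cert where
  n := 2
  J := [3]
  J' := []
  tab := fun s => match s with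
    | 3 => 0x1
    | _ => 0
  rk := fun s => match s with
    | 3 => 0x100
    | _ => 0
  js := fun s => match s with
    | 3 => 0x100
    | _ => 0
  par := 0x0
  sg := 0x300

def lowD4 : List (List ℕ × OrbCert) := [
  ([0, 2, 3], ⟨[0, 1, 2, 3, 4, 5, 6, 7, 8, 9, 10, 11, 12, 13, 14, 15, 16, 17, 18, 19, 20, 21, 22, 23], [0, 0, 1, 1, 1, 2, 2, 3, 5, 5, 6, 7, 8, 9, 10, 11, 12, 13, 13, 16, 16, 17, 19, 22], [0, 1, 0, 2, 3, 2, 3, 3, 1, 3, 1, 1, 3, 1, 2, 0, 1, 0, 2, 0, 2, 2, 2, 1]⟩),
  ([2, 3], ⟨[11, 15], [0, 0], [0, 0]⟩),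
  ([3], ⟨[10, 14], [0, 0], [0, 2]⟩),
  ([], ⟨[1, 4], [0, 0], [0, 3]⟩)]

set_option maxRecDepth 100000 in
theorem mainD4 : Nat.card Cfsg.Lie.coxeterD4.Group = 192 ∧
    ∃ ρ : Cfsg.Lie.coxeterD4.Group →* Equiv.Perm (Fin cD4_0.n), Function.Injective ρ ∧
      ∀ (i : Fin 4) (x : Fin cD4_0.n), (ρ (Cfsg.Lie.coxeterD4.simple i) x).val = cD4_0.T x i :=
  coxeter_main Cfsg.Lie.coxeterD4 mD4 (by intro i j; fin_cases i <;> fin_cases j <;> first | rfl | decide) cD4_0 [cD4_1, cD4_2, cD4_3] (by decide) (by decide)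
    lowD4 (by decide) 192 (by decide) (by decide)

end Cfsg.Agent.Lib.Lead.CoxTC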