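import Cfsg.Agent.Lib.Lead.CoxTC3
import Cfsg.Prelude.Def_ChevStructure

set_option autoImplicit false

namespace Cfsg.Agent.Lib.Lead.CoxTC

def mF4 (s t : ℕ) : ℕ := ([[1, 3, 2, 2], [3, 1, 4, 2], [2, 4, 1, 3], [2, 2, 3, 1]].getD s []).getD t 0

def cF4_0 : Cert where
  n := 24
  J := [0, 1, 2, 3]
  J' := [0, 1, 2]
  tab := fun s => match s with
    | 0 => 0x1716151314100f12110e0d0c0b0a07080905060304020100
    | 1 => 0x171614151312110e0d100f0c090a0b060708050402030100
    | 2 => 0x17151612101411130f0c0b0e0d08090a0704030605010200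
    | 3 => 0x161715141311120f100d0e0a080c060b0509070403020001
    | _ => 0
  rk := fun s => match s with
    | 0 => 0xa0908020301010000070606050504040302030100030200
    | 1 => 0xa0901000708070101000006020503010400030401000200
    | 2 => 0xa0100010100070006010100000105000401010000010000
    | 3 => 0x10009080706050403020301010001000100000403020100
    | _ => 0
  js := fun s => match s with
    | 0 => 0x60504050101010000050506040501040605010100050602
    | 1 => 0x60501000503030101000006060501010600050301000602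
    | 2 => 0x60100010100030004010100000103000601010000010002
    | 3 => 0x10004030501030104050101010001000100000304050100
    | _ => 0
  par := 0x1615141210100f0e0d0c0b0a080806060504030302010000
  sg := 0x30201020200000101020203030203010302020001020300

def cF4_1 : Cert where
  n := 6
  J := [0, 1, 2]
  J' := [1, 2]
  tab := fun s => match s with
    | 0 => 0x40503020001
    | 1 => 0x50304010200
    | 2 => 0x50402030100
    | _ => 0
  rk := fun s => match s with
    | 0 => 0x10003020100
    | 1 => 0x40100010000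
    | 2 => 0x40301000200
    | _ => 0
  js := fun s => match s with
    | 0 => 0x10005040100
    | 1 => 0x30100010002
    | 2 => 0x30401000302
    | _ => 0
  par := 0x40302010000
  sg := 0x102010000

def cF4_2 : Cert where
  n := 4
  J := [1, 2]
  J' := [2]
  tab := fun s => match s with
    | 1 => 0x2030001
    | 2 => 0x3010200
    | _ => 0
  rk := fun s => match s with
    | 1 => 0x1000100
    | 2 => 0x2010000
    | _ => 0
  js := fun s => match s with
    | 1 => 0x1000100
    | 2 => 0x4010002
    | _ => 0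
  par := 0x2010000
  sg := 0x1020100

def cF4_3 : Cert where
  n := 2
  J := [2]
  J' := []
  tab := fun s => match s with
    | 2 => 0x1
    | _ => 0
  rk := fun s => match s with
    | 2 => 0x100
    | _ => 0
  js := fun s => match s with
    | 2 => 0x100
    | _ => 0
  par := 0x0
  sg := 0x200

def lowF4 : List (List ℕ × OrbCert) := [
  ([0, 1, 2], ⟨[0, 1, 2, 3, 4, 5, 6, 7, 8, 9, 10, 11, 12, 13, 14, 15, 16, 17, 18, 19, 20, 21, 22, 23], [0, 0, 1, 2, 3, 3, 4, 5, 6, 6, 8, 8, 10, 11, 12, 13, 14, 15, 16, 16, 18, 20, 21, 22], [0, 3, 2, 1, 0, 2, 2, 3, 1, 3, 2, 3, 3, 2, 2, 1, 1, 0, 0, 2, 2, 1, 2, 3]⟩),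
  ([1, 2], ⟨[7, 9, 11, 13, 15, 17], [0, 0, 1, 2, 3, 4], [0, 0, 1, 2, 1, 0]⟩),
  ([2], ⟨[9, 11, 13, 15], [0, 0, 1, 2], [0, 1, 2, 1]⟩),
  ([], ⟨[1, 2], [0, 0], [0, 2]⟩)]

set_option maxRecDepth 100000 in
theorem mainF4 : Nat.card CoxeterMatrix.F₄.Group = 1152 ∧
    ∃ ρ : CoxeterMatrix.F₄.Group →* Equiv.Perm (Fin cF4_0.n), Function.Injective ρ ∧
      ∀ (i : Fin 4) (x : Fin cF4_0.n), (ρ (CoxeterMatrix.F₄.simple i) x).val = cF4_0.T x i :=
  coxeter_main CoxeterMatrix.F₄ mF4 (by intro i j; fin_cases i <;> fin_cases j <;> first | rfl | decide) cF4_0 [cF4_1, cF4_2, cF4_3] (by decide) (by decide)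
    lowF4 (by decide) 1152 (by decide) (by decide)

end Cfsg.Agent.Lib.Lead.CoxTC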