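import Cfsg.Agent.Lib.Lead.CoxTC3
import Cfsg.Prelude.Def_ChevStructure

set_option autoImplicit false

namespace Cfsg.Agent.Lib.Lead.CoxTC

def mG2 (s t : ℕ) : ℕ := ([[1, 6], [6, 1]].getD s []).getD t 0

def cG2_0 : Cert where
  n := 6
  J := [0, 1]
  J' := [0]
  tab := fun s => match s with
    | 0 => 0x50304010200
    | 1 => 0x40502030001
    | _ => 0
  rk := fun s => match s with
    | 0 => 0x20100010000
    | 1 => 0x10001000100
    | _ => 0
  js := fun s => match s with
    | 0 => 0x40100010002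
    | 1 => 0x10001000100
    | _ => 0
  par := 0x40302010000
  sg := 0x10001000100

def cG2_1 : Cert where
  n := 2
  J := [0]
  J' := []
  tab := fun s => match s with
    | 0 => 0x1
    | _ => 0
  rk := fun s => match s with
    | 0 => 0x100
    | _ => 0
  js := fun s => match s with
    | 0 => 0x100
    | _ => 0
  par := 0x0
  sg := 0x0

def lowG2 : List (List ℕ × OrbCert) := [
  ([0], ⟨[0, 1, 2, 3, 4, 5], [0, 0, 1, 2, 3, 4], [0, 1, 0, 1, 0, 1]⟩),
  ([], ⟨[1, 2], [0, 0], [0, 0]⟩)]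

set_option maxRecDepth 100000 in
theorem mainG2 : Nat.card CoxeterMatrix.G₂.Group = 12 ∧
    ∃ ρ : CoxeterMatrix.G₂.Group →* Equiv.Perm (Fin cG2_0.n), Function.Injective ρ ∧
      ∀ (i : Fin 2) (x : Fin cG2_0.n), (ρ (CoxeterMatrix.G₂.simple i) x).val = cG2_0.T x i :=
  coxeter_main CoxeterMatrix.G₂ mG2 (by intro i j; fin_cases i <;> fin_cases j <;> first | rfl | decide) cG2_0 [cG2_1] (by decide) (by decide)
    lowG2 (by decide) 12 (by decide) (by decide)

end Cfsg.Agent.Lib.Lead.CoxTC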