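import Cfsg.Agent.Lib.Lead.CoxTC4
import Cfsg.Agent.Lib.Lead.CoxTCE8
import Cfsg.Agent.Lib.Lead.CoxTCE7
import Cfsg.Agent.Lib.Lead.CoxTCE6
import Cfsg.Agent.Lib.Lead.CoxTCF4
import Cfsg.Agent.Lib.Lead.CoxTCD4
import Cfsg.Agent.Lib.Lead.CoxTCB2
import Cfsg.Agent.Lib.Lead.CoxTCG2

set_option autoImplicit false

namespace Cfsg.Agent.Lib.Lead.CoxTC

set_option maxRecDepth 100000 in
theorem cE8_0_ok : cE8_0.ok mE8 = true := by decide

set_option maxRecDepth 100000 in
theorem orderE8 : orderOf (((List.finRange 8).map CoxeterMatrix.E₈.simple).prod) = 30 := by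
  obtain ⟨_, ρ, hinj, hval⟩ := mainE8
  exact order_cox CoxeterMatrix.E₈ cE8_0 ρ hval hinj (L := [0, 1, 2, 3, 4, 5, 6, 7]) (by decide) 30 (by decide) (by decide)
    (by decide) (by decide)

set_option maxRecDepth 100000 in
theorem centerE8 : Nat.card (Subgroup.center CoxeterMatrix.E₈.Group) = 2 ∧
    Subgroup.center CoxeterMatrix.E₈.Group ≤ Subgroup.zpowers (((List.finRange 8).map CoxeterMatrix.E₈.simple).prod) := by
  obtain ⟨_, ρ, hinj, hval⟩ := mainE8
  exact center_two CoxeterMatrix.E₈ cE8_0 ρ hval (m := mE8) cE8_0_ok (by decide) (by decide) hinj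
    (L := [0, 1, 2, 3, 4, 5, 6, 7]) (by decide) 239 15 (by decide) (by decide) (by decide) (by decide)

set_option maxRecDepth 100000 in
theorem cE7_0_ok : cE7_0.ok mE7 = true := by decide

set_option maxRecDepth 100000 in
theorem orderE7 : orderOf (((List.finRange 7).map CoxeterMatrix.E₇.simple).prod) = 18 := by
  obtain ⟨_, ρ, hinj, hval⟩ := mainE7
  exact order_cox CoxeterMatrix.E₇ cE7_0 ρ hval hinj (L := [0, 1, 2, 3, 4, 5, 6]) (by decide) 18 (by decide) (by decide)
    (by decide) (by decide)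

set_option maxRecDepth 100000 in
theorem centerE7 : Nat.card (Subgroup.center CoxeterMatrix.E₇.Group) = 2 ∧
    Subgroup.center CoxeterMatrix.E₇.Group ≤ Subgroup.zpowers (((List.finRange 7).map CoxeterMatrix.E₇.simple).prod) := by
  obtain ⟨_, ρ, hinj, hval⟩ := mainE7
  exact center_two CoxeterMatrix.E₇ cE7_0 ρ hval (m := mE7) cE7_0_ok (by decide) (by decide) hinj
    (L := [0, 1, 2, 3, 4, 5, 6]) (by decide) 55 9 (by decide) (by decide) (by decide) (by decide)

set_option maxRecDepth 100000 in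
theorem cE6_0_ok : cE6_0.ok mE6 = true := by decide

set_option maxRecDepth 100000 in
theorem orderE6 : orderOf (((List.finRange 6).map CoxeterMatrix.E₆.simple).prod) = 12 := by
  obtain ⟨_, ρ, hinj, hval⟩ := mainE6
  exact order_cox CoxeterMatrix.E₆ cE6_0 ρ hval hinj (L := [0, 1, 2, 3, 4, 5]) (by decide) 12 (by decide) (by decide)
    (by decide) (by decide)

set_option maxRecDepth 100000 in
theorem centerE6 : Nat.card (Subgroup.center CoxeterMatrix.E₆.Group) = 1 ∧
    Subgroup.center CoxeterMatrix.E₆.Group ≤ Subgroup.zpowers (((List.finRange 6).map CoxeterMatrix.E₆.simple).prod) := by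
  obtain ⟨_, ρ, hinj, hval⟩ := mainE6
  have hbot := center_trivial CoxeterMatrix.E₆ cE6_0 ρ hval (m := mE6) cE6_0_ok (by decide) (by decide) hinj
    (by decide)
  rw [hbot]
  exact ⟨by simp, bot_le⟩

set_option maxRecDepth 100000 in
theorem cF4_0_ok : cF4_0.ok mF4 = true := by decide

set_option maxRecDepth 100000 in
theorem orderF4 : orderOf (((List.finRange 4).map CoxeterMatrix.F₄.simple).prod) = 12 := by
  obtain ⟨_, ρ, hinj, hval⟩ := mainF4
  exact order_cox CoxeterMatrix.F₄ cF4_0 ρ hval hinj (L := [0, 1, 2, 3]) (by decide) 12 (by decide) (by decide)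
    (by decide) (by decide)

set_option maxRecDepth 100000 in
theorem centerF4 : Nat.card (Subgroup.center CoxeterMatrix.F₄.Group) = 2 ∧
    Subgroup.center CoxeterMatrix.F₄.Group ≤ Subgroup.zpowers (((List.finRange 4).map CoxeterMatrix.F₄.simple).prod) := by
  obtain ⟨_, ρ, hinj, hval⟩ := mainF4
  exact center_two CoxeterMatrix.F₄ cF4_0 ρ hval (m := mF4) cF4_0_ok (by decide) (by decide) hinj
    (L := [0, 1, 2, 3]) (by decide) 23 6 (by decide) (by decide) (by decide) (by decide)

set_option maxRecDepth 100000 in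
theorem cD4_0_ok : cD4_0.ok mD4 = true := by decide

set_option maxRecDepth 100000 in
theorem orderD4 : orderOf (((List.finRange 4).map Cfsg.Lie.coxeterD4.simple).prod) = 6 := by
  obtain ⟨_, ρ, hinj, hval⟩ := mainD4
  exact order_cox Cfsg.Lie.coxeterD4 cD4_0 ρ hval hinj (L := [0, 1, 2, 3]) (by decide) 6 (by decide) (by decide)
    (by decide) (by decide)

set_option maxRecDepth 100000 in
theorem centerD4 : Nat.card (Subgroup.center Cfsg.Lie.coxeterD4.Group) = 2 ∧
    Subgroup.center Cfsg.Lie.coxeterD4.Group ≤ Subgroup.zpowers (((List.finRange 4).map Cfsg.Lie.coxeterD4.simple).prod) := by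
  obtain ⟨_, ρ, hinj, hval⟩ := mainD4
  exact center_two Cfsg.Lie.coxeterD4 cD4_0 ρ hval (m := mD4) cD4_0_ok (by decide) (by decide) hinj
    (L := [0, 1, 2, 3]) (by decide) 23 3 (by decide) (by decide) (by decide) (by decide)

set_option maxRecDepth 100000 in
theorem cB2_0_ok : cB2_0.ok mB2 = true := by decide

set_option maxRecDepth 100000 in
theorem orderB2 : orderOf (((List.finRange 2).map (CoxeterMatrix.B 2).simple).prod) = 4 := by
  obtain ⟨_, ρ, hinj, hval⟩ := mainB2
  exact order_cox (CoxeterMatrix.B 2) cB2_0 ρ hval hinj (L := [0, 1]) (by decide) 4 (by decide) (by decide)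
    (by decide) (by decide)

set_option maxRecDepth 100000 in
theorem centerB2 : Nat.card (Subgroup.center (CoxeterMatrix.B 2).Group) = 2 ∧
    Subgroup.center (CoxeterMatrix.B 2).Group ≤ Subgroup.zpowers (((List.finRange 2).map (CoxeterMatrix.B 2).simple).prod) := by
  obtain ⟨_, ρ, hinj, hval⟩ := mainB2
  exact center_two (CoxeterMatrix.B 2) cB2_0 ρ hval (m := mB2) cB2_0_ok (by decide) (by decide) hinj
    (L := [0, 1]) (by decide) 3 2 (by decide) (by decide) (by decide) (by decide)

set_option maxRecDepth 100000 in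
theorem cG2_0_ok : cG2_0.ok mG2 = true := by decide

set_option maxRecDepth 100000 in
theorem orderG2 : orderOf (((List.finRange 2).map CoxeterMatrix.G₂.simple).prod) = 6 := by
  obtain ⟨_, ρ, hinj, hval⟩ := mainG2
  exact order_cox CoxeterMatrix.G₂ cG2_0 ρ hval hinj (L := [0, 1]) (by decide) 6 (by decide) (by decide)
    (by decide) (by decide)

set_option maxRecDepth 100000 in
theorem centerG2 : Nat.card (Subgroup.center CoxeterMatrix.G₂.Group) = 2 ∧
    Subgroup.center CoxeterMatrix.G₂.Group ≤ Subgroup.zpowers (((List.finRange 2).map CoxeterMatrix.G₂.simple).prod) := by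
  obtain ⟨_, ρ, hinj, hval⟩ := mainG2
  exact center_two CoxeterMatrix.G₂ cG2_0 ρ hval (m := mG2) cG2_0_ok (by decide) (by decide) hinj
    (L := [0, 1]) (by decide) 5 3 (by decide) (by decide) (by decide) (by decide)

end Cfsg.Agent.Lib.Lead.CoxTC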