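import Mathlib

/-!
Arithmetic lemmas for the class-equation proof of Dickson's theorem (lead).
-/

set_option autoImplicit false

namespace Cfsg.Agent.Lib.Lead.DicksonNum

/-- case `kb = 1`: a block inside `𝒯` forces `Q = 3`, `t = 2`, `ε = 2`. -/
theorem lemA1 (zz n Q b ε s : ℕ) (hzz : 0 < zz) (hn : 2 ≤ n) (hQ : 3 ≤ Q)
    (hε : ε = 1 ∨ ε = 2) (hb : b * ε * (s + 2) = zz * (n * Q) * (s + 1))
    (hle : b + zz ≤ zz * n) : Q = 3 ∧ s = 0 ∧ ε = 2 := by
  -- b ε t ≤ (zz n - zz) ε t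
  have h1 : zz * (n * Q) * (s + 1) + zz * ε * (s + 2) ≤ zz * n * ε * (s + 2) := by
    calc zz * (n * Q) * (s + 1) + zz * ε * (s + 2) = (b + zz) * (ε * (s + 2)) := by rw [← hb]; ring
      _ ≤ (zz * n) * (ε * (s + 2)) := Nat.mul_le_mul_right _ hle
      _ = zz * n * ε * (s + 2) := by ring
  have h2 : n * Q * (s + 1) + ε * (s + 2) ≤ n * ε * (s + 2) := by
    have : zz * (n * Q * (s + 1) + ε * (s + 2)) ≤ zz * (n * ε * (s + 2)) := by
      calc zz * (n * Q * (s + 1) + ε * (s + 2)) = zz * (n * Q) * (s + 1) + zz * ε * (s + 2) := by ring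
        _ ≤ zz * n * ε * (s + 2) := h1
        _ = zz * (n * ε * (s + 2)) := by ring
    exact Nat.le_of_mul_le_mul_left this hzz
  have hε2 : ε ≤ 2 := by rcases hε with h | h <;> omega
  have hε1 : 1 ≤ ε := by rcases hε with h | h <;> omega
  -- n Q (s+1) < n * 2 * (s+2)
  have h3 : n * Q * (s + 1) < n * (2 * (s + 2)) := by
    have : n * ε * (s + 2) ≤ n * (2 * (s + 2)) := by
      calc n * ε * (s + 2) = n * (ε * (s + 2)) := by ring
        _ ≤ n * (2 * (s + 2)) := Nat.mul_le_mul_left _ (Nat.mul_le_mul_right _ hε2)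
    have : 0 < ε * (s + 2) := by positivity
    omega
  have h4 : Q * (s + 1) < 2 * (s + 2) := by
    have : n * (Q * (s + 1)) < n * (2 * (s + 2)) := by
      calc n * (Q * (s + 1)) = n * Q * (s + 1) := by ring
        _ < n * (2 * (s + 2)) := h3
    exact Nat.lt_of_mul_lt_mul_left this
  have hs : s = 0 := by
    by_contra hs
    have : 3 * (s + 1) ≤ Q * (s + 1) := Nat.mul_le_mul_right _ hQ
    omega
  subst hs
  have hQ3 : Q = 3 := by omega
  subst hQ3
  refine ⟨rfl, rfl, ?_⟩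
  rcases hε with h | h
  · subst h
    omega
  · exact h

/-- case `kb = 1`, two disjoint blocks are impossible -/
theorem lemA2 (zz n b b' : ℕ) (hzz : 0 < zz) (hb : b * 4 = zz * (n * 3))
    (hb' : b' * 4 = zz * (n * 3)) (hle : b + b' + zz ≤ zz * n) : False := by
  have : 4 * (b + b' + zz) ≤ 4 * (zz * n) := Nat.mul_le_mul_left _ hle
  nlinarith

/-- case `kb = 1`, one block filling everything gives `n = 4` -/
theorem lemA3 (zz n b : ℕ) (hzz : 0 < zz) (hb : b * 4 = zz * (n * 3))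
    (hle : b + zz = zz * n) : n = 4 := by
  have h1 : 4 * (b + zz) = 4 * (zz * n) := by rw [hle]
  have h2 : zz * (n * 3) + 4 * zz = zz * (4 * n) := by nlinarith
  have h3 : zz * (n * 3 + 4) = zz * (4 * n) := by rw [← h2]; ring
  have := Nat.eq_of_mul_eq_mul_left hzz h3
  omega

/-- case `kb ≥ 2`, `ε_K = 1`: any further block is too big -/
theorem lemB (zz n Q kb b ε s : ℕ) (hzz : 0 < zz) (hn : 2 ≤ n) (hQ : 3 ≤ Q) (hk : 2 ≤ kb)
    (hε : ε = 1 ∨ ε = 2) (hb : b * ε * (s + 2) = zz * (n * Q * kb) * (s + 1))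
    (hle : b + zz ≤ zz * n) : False := by
  have hε2 : ε ≤ 2 := by rcases hε with h | h <;> omega
  have h1 : zz * (n * Q * kb) * (s + 1) + zz * ε * (s + 2) ≤ zz * n * ε * (s + 2) := by
    calc zz * (n * Q * kb) * (s + 1) + zz * ε * (s + 2) = (b + zz) * (ε * (s + 2)) := by
          rw [← hb]; ring
      _ ≤ (zz * n) * (ε * (s + 2)) := Nat.mul_le_mul_right _ hle
      _ = zz * n * ε * (s + 2) := by ring
  have h2 : n * Q * kb * (s + 1) ≤ n * ε * (s + 2) := by
    have : zz * (n * Q * kb * (s + 1)) ≤ zz * (n * ε * (s + 2)) := by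
      calc zz * (n * Q * kb * (s + 1)) ≤ zz * (n * Q * kb) * (s + 1) + zz * ε * (s + 2) := by
            rw [mul_assoc zz]; exact Nat.le_add_right _ _
        _ ≤ zz * n * ε * (s + 2) := h1
        _ = zz * (n * ε * (s + 2)) := by ring
    exact Nat.le_of_mul_le_mul_left this hzz
  have h3 : n * (Q * kb * (s + 1)) ≤ n * (2 * (s + 2)) := by
    calc n * (Q * kb * (s + 1)) = n * Q * kb * (s + 1) := by ring
      _ ≤ n * ε * (s + 2) := h2
      _ = n * (ε * (s + 2)) := by ring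
      _ ≤ n * (2 * (s + 2)) := Nat.mul_le_mul_left _ (Nat.mul_le_mul_right _ hε2)
  have h4 : Q * kb * (s + 1) ≤ 2 * (s + 2) := Nat.le_of_mul_le_mul_left h3 (by omega)
  have h5 : 6 ≤ Q * kb := by nlinarith
  have : 6 * (s + 1) ≤ Q * kb * (s + 1) := Nat.mul_le_mul_right _ h5
  omega

/-- case `kb ≥ 2`, `ε_K = 2`: a further block has `ε = 2`. `R2 = 2 * remaining`. -/
theorem lemC1 (zz n Q kb b ε s : ℕ) (hzz : 0 < zz) (hn : 2 ≤ n) (hQ : 3 ≤ Q) (hk : 2 ≤ kb)
    (hε : ε = 1 ∨ ε = 2) (hb : b * ε * (s + 2) = zz * (n * Q * kb) * (s + 1))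
    (hle : 2 * b + zz * (n * Q) + 2 * zz ≤ zz * (n * Q * kb) + zz * (2 * n)) : ε = 2 := by
  rcases hε with h | h
  · exfalso
    subst h
    rw [mul_one] at hb
    -- 2 b t ≤ ...
    have h1 : (2 * b + zz * (n * Q) + 2 * zz) * (s + 2) ≤
        (zz * (n * Q * kb) + zz * (2 * n)) * (s + 2) := Nat.mul_le_mul_right _ hle
    have h2 : 2 * (zz * (n * Q * kb) * (s + 1)) + (zz * (n * Q) + 2 * zz) * (s + 2) ≤
        (zz * (n * Q * kb) + zz * (2 * n)) * (s + 2) := by
      calc 2 * (zz * (n * Q * kb) * (s + 1)) + (zz * (n * Q) + 2 * zz) * (s + 2)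
          = (2 * b + zz * (n * Q) + 2 * zz) * (s + 2) := by rw [← hb]; ring
        _ ≤ _ := h1
    have h3 : zz * (2 * (n * Q * kb * (s + 1)) + (n * Q + 2) * (s + 2)) ≤
        zz * ((n * Q * kb + 2 * n) * (s + 2)) := by
      calc zz * (2 * (n * Q * kb * (s + 1)) + (n * Q + 2) * (s + 2))
          = 2 * (zz * (n * Q * kb) * (s + 1)) + (zz * (n * Q) + 2 * zz) * (s + 2) := by ring
        _ ≤ (zz * (n * Q * kb) + zz * (2 * n)) * (s + 2) := h2
        _ = zz * ((n * Q * kb + 2 * n) * (s + 2)) := by ring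
    have h4 := Nat.le_of_mul_le_mul_left h3 hzz
    -- 2 G (s+1) + (nQ+2)(s+2) ≤ (G + 2n)(s+2), with 2(s+1) ≥ s+2
    have h5 : n * Q * kb * (s + 2) ≤ 2 * (n * Q * kb * (s + 1)) := by
      calc n * Q * kb * (s + 2) ≤ n * Q * kb * (2 * (s + 1)) := Nat.mul_le_mul_left _ (by omega)
        _ = 2 * (n * Q * kb * (s + 1)) := by ring
    have h6 : (n * Q + 2) * (s + 2) ≤ 2 * n * (s + 2) := by nlinarith
    have h7 : n * Q + 2 ≤ 2 * n := Nat.le_of_mul_le_mul_right h6 (by omega)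
    nlinarith
  · exact h

/-- a block with `ε = 2` has at least a quarter of the elements: `4 b ≥ zz G`. -/
theorem lemC2 (zz G b s : ℕ) (hb : b * 2 * (s + 2) = zz * G * (s + 1)) : zz * G ≤ 4 * b := by
  have h1 : zz * G * (s + 2) ≤ 4 * b * (s + 2) := by
    calc zz * G * (s + 2) ≤ zz * G * (2 * (s + 1)) := Nat.mul_le_mul_left _ (by omega)
      _ = 2 * (zz * G * (s + 1)) := by ring
      _ = 4 * b * (s + 2) := by rw [← hb]; ring
  exact Nat.le_of_mul_le_mul_right h1 (by omega)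

/-- two further blocks are impossible -/
theorem lemC3 (zz n Q kb b b' : ℕ) (hzz : 0 < zz) (hn : 2 ≤ n) (hQ : 3 ≤ Q)
    (h1 : zz * (n * Q * kb) ≤ 4 * b) (h2 : zz * (n * Q * kb) ≤ 4 * b')
    (hle : 2 * (b + b') + zz * (n * Q) + 2 * zz ≤ zz * (n * Q * kb) + zz * (2 * n)) : False := by
  have : zz * (n * Q) + 2 * zz ≤ zz * (2 * n) := by omega
  have h3 : zz * (n * Q + 2) ≤ zz * (2 * n) := by
    calc zz * (n * Q + 2) = zz * (n * Q) + 2 * zz := by ring
      _ ≤ _ := this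
  have := Nat.le_of_mul_le_mul_left h3 hzz
  nlinarith

/-- the equation from exactly one further block -/
theorem lemC4 (zz n Q kb b s : ℕ) (hzz : 0 < zz) (hQ : 3 ≤ Q)
    (hb : b * 2 * (s + 2) = zz * (n * Q * kb) * (s + 1))
    (heq : 2 * b + zz * (n * Q) + 2 * zz = zz * (n * Q * kb) + zz * (2 * n)) :
    n * Q * kb + (s + 2) * (2 * n) = (s + 2) * (n * Q + 2) := by
  have h1 : (2 * b + zz * (n * Q) + 2 * zz) * (s + 2) =
      (zz * (n * Q * kb) + zz * (2 * n)) * (s + 2) := by rw [heq]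
  have h2 : zz * (n * Q * kb) * (s + 1) + (zz * (n * Q) + 2 * zz) * (s + 2) =
      (zz * (n * Q * kb) + zz * (2 * n)) * (s + 2) := by
    rw [← h1, ← hb]; ring
  have h3 : zz * (n * Q * kb * (s + 1) + (n * Q + 2) * (s + 2)) =
      zz * ((n * Q * kb + 2 * n) * (s + 2)) := by
    calc zz * (n * Q * kb * (s + 1) + (n * Q + 2) * (s + 2))
        = zz * (n * Q * kb) * (s + 1) + (zz * (n * Q) + 2 * zz) * (s + 2) := by ring
      _ = (zz * (n * Q * kb) + zz * (2 * n)) * (s + 2) := h2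
      _ = zz * ((n * Q * kb + 2 * n) * (s + 2)) := by ring
  have h4 := Nat.eq_of_mul_eq_mul_left hzz h3
  nlinarith

end Cfsg.Agent.Lib.Lead.DicksonNum
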