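import Mathlib

/-!
Final arithmetic lemma for the class-equation proof of Dickson's theorem (lead).
-/

set_option autoImplicit false

namespace Cfsg.Agent.Lib.Lead.DicksonNum

theorem lemD (p m Q n kb t : ℕ) (hp : p.Prime) (hp2 : p ≠ 2) (hQpow : Q = p ^ m) (hQ3 : 3 ≤ Q)
    (hpt : ¬ p ∣ t) (hk2 : 2 ≤ kb) (hkQ : kb + 1 ≤ Q) (hn : 2 ≤ n) (ht : 2 ≤ t)
    (heq : n * Q * kb + t * (2 * n) = t * (n * Q + 2)) :
    n = Q + 1 ∨ (Q = 3 ∧ n = 10 ∧ kb = 2 ∧ t = 5) := by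
  -- n ∣ 2 t
  have hdvd : n ∣ 2 * t := by
    have hz : ((2 * t : ℕ) : ℤ) = (n : ℤ) * ((Q : ℤ) * kb + 2 * t - t * Q) := by
      have : ((n * Q * kb + t * (2 * n) : ℕ) : ℤ) = ((t * (n * Q + 2) : ℕ) : ℤ) := by rw [heq]
      push_cast at this ⊢
      linarith
    have : ((n : ℤ)) ∣ ((2 * t : ℕ) : ℤ) := ⟨_, hz⟩
    exact Int.natCast_dvd_natCast.mp this
  obtain ⟨j, hj⟩ := hdvd
  have hj1 : 1 ≤ j := by
    rcases Nat.eq_zero_or_pos j with h | h
    · subst h; omega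
    · exact h
  -- 2 Q kb + 2 n j = j (n Q + 2)
  have h2 : 2 * Q * kb + 2 * n * j = j * (n * Q + 2) := by
    have h3 : n * (2 * Q * kb + 2 * n * j) = n * (j * (n * Q + 2)) := by
      calc n * (2 * Q * kb + 2 * n * j) = 2 * (n * Q * kb) + (n * j) * (2 * n) := by ring
        _ = 2 * (n * Q * kb) + (2 * t) * (2 * n) := by rw [hj]
        _ = 2 * (n * Q * kb + t * (2 * n)) := by ring
        _ = 2 * (t * (n * Q + 2)) := by rw [heq]
        _ = (2 * t) * (n * Q + 2) := by ring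
        _ = (n * j) * (n * Q + 2) := by rw [hj]
        _ = n * (j * (n * Q + 2)) := by ring
    exact Nat.eq_of_mul_eq_mul_left (by omega) h3
  -- p ∤ 2 j
  have hpj : ¬ p ∣ 2 * j := by
    intro hd
    have hd2 : p ∣ 2 * (2 * t) := by
      rw [hj]
      have : 2 * (n * j) = n * (2 * j) := by ring
      rw [this]
      exact Dvd.dvd.mul_left hd n
    rcases (Nat.Prime.dvd_mul hp).mp hd2 with h | h
    · exact hp2 ((Nat.prime_dvd_prime_iff_eq hp Nat.prime_two).mp h)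
    · rcases (Nat.Prime.dvd_mul hp).mp h with h' | h'
      · exact hp2 ((Nat.prime_dvd_prime_iff_eq hp Nat.prime_two).mp h')
      · exact hpt h'
  have hcop : Nat.Coprime Q (2 * j) := by
    rw [hQpow]
    exact Nat.Coprime.pow_left m ((Nat.Prime.coprime_iff_not_dvd hp).mpr hpj)
  -- Q ∣ 2 j (n - 1)
  obtain ⟨n', rfl⟩ : ∃ n', n = n' + 1 := ⟨n - 1, by omega⟩
  have hQd : Q ∣ (2 * j) * n' := by
    have hz : (((2 * j) * n' : ℕ) : ℤ) = (Q : ℤ) * ((j : ℤ) * (n' + 1) - 2 * kb) := by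
      have : ((2 * Q * kb + 2 * (n' + 1) * j : ℕ) : ℤ) = ((j * ((n' + 1) * Q + 2) : ℕ) : ℤ) := by
        rw [h2]
      push_cast at this ⊢
      linarith
    have : ((Q : ℤ)) ∣ (((2 * j) * n' : ℕ) : ℤ) := ⟨_, hz⟩
    exact Int.natCast_dvd_natCast.mp this
  have hQn : Q ∣ n' := hcop.dvd_of_dvd_mul_left hQd
  obtain ⟨r, rfl⟩ := hQn
  have hr1 : 1 ≤ r := by
    rcases Nat.eq_zero_or_pos r with h | h
    · subst h; omega
    · exact h
  -- j ≤ 2
  have hjle : j ≤ 2 := by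
    by_contra hcon
    have hj3 : 3 ≤ j := by omega
    -- j (n Q + 2) = 2 Q kb + 2 n j ≤ 2 Q (Q - 1) + 2 n j
    have h4 : j * ((Q * r + 1) * Q + 2) + 2 * Q ≤ 2 * Q * Q + 2 * (Q * r + 1) * j := by
      rw [← h2]
      have : 2 * Q * (kb + 1) ≤ 2 * Q * Q := Nat.mul_le_mul_left _ hkQ
      nlinarith
    obtain ⟨Q', rfl⟩ : ∃ Q', Q = Q' + 3 := ⟨Q - 3, by omega⟩
    obtain ⟨j', rfl⟩ : ∃ j', j = j' + 3 := ⟨j - 3, by omega⟩
    obtain ⟨r', rfl⟩ : ∃ r', r = r' + 1 := ⟨r - 1, by omega⟩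
    nlinarith [Nat.zero_le (j' * Q'), Nat.zero_le (j' * r'), Nat.zero_le (Q' * r'),
      Nat.zero_le (j' * Q' * r'), Nat.zero_le (Q' * Q'), Nat.zero_le (j' * Q' * Q'),
      Nat.zero_le (Q' * Q' * r'), Nat.zero_le (j' * Q' * Q' * r')]
  interval_cases j
  · -- j = 1 : 2 Q kb + 2 n = n Q + 2
    obtain ⟨Q', rfl⟩ : ∃ Q', Q = Q' + 3 := ⟨Q - 3, by omega⟩
    have h5 : 2 * kb = 1 + r * (Q' + 1) := by
      have h6 : (Q' + 3) * (2 * kb) = (Q' + 3) * (1 + r * (Q' + 1)) := by nlinarith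
      exact Nat.eq_of_mul_eq_mul_left (by omega) h6
    rcases Nat.lt_or_ge r 2 with hr | hr
    · left
      have : r = 1 := by omega
      subst this
      ring
    · rcases Nat.lt_or_ge r 3 with hr3 | hr3
      · exfalso
        have : r = 2 := by omega
        subst this
        omega
      · -- r ≥ 3
        have h7 : 3 * (Q' + 1) ≤ r * (Q' + 1) := Nat.mul_le_mul_right _ hr3
        have hQ0 : Q' = 0 := by omega
        subst hQ0
        right
        have hr' : r = 3 := by omega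
        subst hr'
        refine ⟨rfl, by norm_num, by omega, by omega⟩
  · -- j = 2 : 2 Q kb + 4 n = 2 (n Q + 2)
    left
    obtain ⟨Q', rfl⟩ : ∃ Q', Q = Q' + 3 := ⟨Q - 3, by omega⟩
    have h5 : ((Q' + 3) * r + 1) * (Q' + 1) + 2 = (Q' + 3) * kb := by nlinarith
    have h6 : (Q' + 3) * kb ≤ (Q' + 3) * (Q' + 2) := Nat.mul_le_mul_left _ (by omega)
    rcases Nat.lt_or_ge r 2 with hr | hr
    · have : r = 1 := by omega
      subst this
      ring
    · exfalso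
      obtain ⟨r', rfl⟩ : ∃ r', r = r' + 2 := ⟨r - 2, by omega⟩
      have h7 : ((Q' + 3) * (r' + 2) + 1) * (Q' + 1) =
          (Q' + 3) * (Q' + 1) * r' + (2 * (Q' + 3) + 1) * (Q' + 1) := by ring
      nlinarith [Nat.zero_le ((Q' + 3) * (Q' + 1) * r')]

end Cfsg.Agent.Lib.Lead.DicksonNum
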