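import Cfsg.Agent.Lib.Lead.DicksonBlk
import Cfsg.Agent.Lib.Lead.DicksonNum
import Cfsg.Agent.Lib.Lead.DicksonNum2

/-!
Abstract class-equation theorem behind Dickson's theorem (lead): setup.
-/

set_option autoImplicit false

namespace Cfsg.Agent.Lib.Lead.DicksonAbs

open Subgroup Cfsg.Agent.Lib.Lead.DicksonCA
open scoped Pointwise

variable {H : Type*} [Group H] [Finite H] {Z : Subgroup H} {p : ℕ} [hp : Fact p.Prime]

/-- the hypotheses of the abstract theorem -/
structure Hyp (Z : Subgroup H) (p : ℕ) [Fact p.Prime] (P : Sylow p H) : Prop where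
  ca : IsCA Z
  hP1 : (P : Subgroup H) ≠ ⊥
  hzp : (Nat.card Z).Coprime p
  hPC : ∀ u ∈ (P : Subgroup H), u ≠ 1 → C u = Z ⊔ (P : Subgroup H)
  hT : ∀ g : H, g ∉ Z → ¬ p ∣ Nat.card (C g) →
    Nat.card (normalizer (C g : Set H)) = Nat.card (C g) ∨
      Nat.card (normalizer (C g : Set H)) = 2 * Nat.card (C g)
  hA : ∀ a ∈ normalizer ((P : Subgroup H) : Set H), ∀ b ∈ normalizer ((P : Subgroup H) : Set H),
    a * b * a⁻¹ * b⁻¹ ∈ (P : Subgroup H)
  hB : ∀ h ∈ normalizer ((P : Subgroup H) : Set H), h ∉ Z ⊔ (P : Subgroup H) →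
    C h ≤ normalizer ((P : Subgroup H) : Set H)
  hn : normalizer ((P : Subgroup H) : Set H) ≠ ⊤

variable {P : Sylow p H}

theorem Z_normal (hyp : Hyp Z p P) : Z.Normal := by
  refine ⟨fun z hz g => ?_⟩
  have := hyp.ca.central z hz g
  have h2 : g * z * g⁻¹ = z := by
    rw [← this]; group
  rw [h2]; exact hz

theorem card_P_coprime (hyp : Hyp Z p P) : (Nat.card Z).Coprime (Nat.card (P : Subgroup H)) := by
  obtain ⟨k, hk⟩ := IsPGroup.iff_card.mp P.isPGroup'
  rw [hk]
  exact Nat.Coprime.pow_right k hyp.hzp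

theorem Z_inf_P (hyp : Hyp Z p P) : Z ⊓ (P : Subgroup H) = ⊥ :=
  inf_eq_bot_of_coprime (card_P_coprime hyp)

theorem not_mem_Z (hyp : Hyp Z p P) {u : H} (hu : u ∈ (P : Subgroup H)) (hu1 : u ≠ 1) : u ∉ Z := by
  intro hz
  apply hu1
  have : u ∈ Z ⊓ (P : Subgroup H) := ⟨hz, hu⟩
  rw [Z_inf_P hyp] at this
  exact mem_bot.mp this

theorem card_ZP (hyp : Hyp Z p P) :
    Nat.card (Z ⊔ (P : Subgroup H) : Subgroup H) = Nat.card Z * Nat.card (P : Subgroup H) := by
  haveI := Z_normal hyp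
  have h : (P : Subgroup H) ⊓ Z = ⊥ := by rw [inf_comm]; exact Z_inf_P hyp
  have h1 : Z.relIndex ((P : Subgroup H) ⊔ Z) = Nat.card (P : Subgroup H) := by
    rw [Subgroup.relIndex_sup_right, ← Subgroup.inf_relIndex_right, inf_comm, h,
      Subgroup.relIndex_bot_left]
  have h2 := Subgroup.card_mul_index (Z.subgroupOf ((P : Subgroup H) ⊔ Z))
  have h3 : Nat.card (Z.subgroupOf ((P : Subgroup H) ⊔ Z)) = Nat.card Z :=
    Nat.card_congr (Subgroup.subgroupOfEquivOfLe le_sup_right).toEquiv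
  rw [h3] at h2
  rw [sup_comm, ← h2, ← h1, Subgroup.relIndex]

theorem Z_le_N (hyp : Hyp Z p P) : Z ≤ normalizer ((P : Subgroup H) : Set H) := by
  intro z hz
  rw [mem_normalizer_iff]
  intro u
  have : z * u * z⁻¹ = u := by
    rw [hyp.ca.central z hz u]; group
  rw [this]

theorem ZP_le_N (hyp : Hyp Z p P) : Z ⊔ (P : Subgroup H) ≤ normalizer ((P : Subgroup H) : Set H) :=
  sup_le (Z_le_N hyp) le_normalizer

theorem mem_ZP_iff (hyp : Hyp Z p P) {x : H} :
    x ∈ Z ⊔ (P : Subgroup H) ↔ ∃ z ∈ Z, ∃ u ∈ (P : Subgroup H), x = z * u := by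
  haveI := Z_normal hyp
  constructor
  · intro hx
    have : x ∈ (Z : Set H) * ((P : Subgroup H) : Set H) := by
      rw [← Subgroup.normal_mul]
      exact hx
    obtain ⟨z, hz, u, hu, rfl⟩ := this
    exact ⟨z, hz, u, hu, rfl⟩
  · rintro ⟨z, hz, u, hu, rfl⟩
    exact mul_mem (mem_sup_left hz) (mem_sup_right hu)

/-- `N(Z P) = N(P)` -/
theorem normalizer_ZP (hyp : Hyp Z p P) :
    normalizer ((Z ⊔ (P : Subgroup H) : Subgroup H) : Set H) =
      normalizer ((P : Subgroup H) : Set H) := by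
  haveI := Z_normal hyp
  apply le_antisymm
  · intro a ha
    -- a P a⁻¹ ≤ P
    have key : ∀ b ∈ normalizer ((Z ⊔ (P : Subgroup H) : Subgroup H) : Set H),
        ∀ u ∈ (P : Subgroup H), b * u * b⁻¹ ∈ (P : Subgroup H) := by
      intro b hb u hu
      have h1 : b * u * b⁻¹ ∈ Z ⊔ (P : Subgroup H) :=
        (mem_normalizer_iff.mp hb u).mp (mem_sup_right hu)
      obtain ⟨z, hz, u', hu', he⟩ := (mem_ZP_iff hyp).mp h1
      -- z = 1
      have hcomm : z * u' = u' * z := hyp.ca.central z hz u'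
      have hQ : (b * u * b⁻¹) ^ Nat.card (P : Subgroup H) = 1 := by
        have : (b * u * b⁻¹) ^ Nat.card (P : Subgroup H) = b * u ^ Nat.card (P : Subgroup H) * b⁻¹ := by
          rw [conj_pow]
        rw [this]
        have h2 : u ^ Nat.card (P : Subgroup H) = 1 := by
          have := pow_card_eq_one' (G := (P : Subgroup H)) (x := ⟨u, hu⟩)
          exact congrArg Subtype.val this
        rw [h2]; group
      rw [he, (Commute.mul_pow hcomm)] at hQ
      have h3 : u' ^ Nat.card (P : Subgroup H) = 1 := by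
        have := pow_card_eq_one' (G := (P : Subgroup H)) (x := ⟨u', hu'⟩)
        exact congrArg Subtype.val this
      rw [h3, mul_one] at hQ
      have h4 : z ^ Nat.card Z = 1 := by
        have := pow_card_eq_one' (G := Z) (x := ⟨z, hz⟩)
        exact congrArg Subtype.val this
      have h5 : orderOf z ∣ Nat.gcd (Nat.card Z) (Nat.card (P : Subgroup H)) :=
        Nat.dvd_gcd (orderOf_dvd_of_pow_eq_one h4) (orderOf_dvd_of_pow_eq_one hQ)
      rw [card_P_coprime hyp] at h5
      have h6 : z = 1 := orderOf_eq_one_iff.mp (Nat.dvd_one.mp h5)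
      rw [he, h6, one_mul]
      exact hu'
    rw [mem_normalizer_iff]
    intro u
    constructor
    · exact key a ha u
    · intro hu
      have := key a⁻¹ (inv_mem ha) _ hu
      have e : a⁻¹ * (a * u * a⁻¹) * a⁻¹⁻¹ = u := by group
      rwa [e] at this
  · intro a ha
    rw [mem_normalizer_iff]
    intro x
    constructor
    · intro hx
      obtain ⟨z, hz, u, hu, rfl⟩ := (mem_ZP_iff hyp).mp hx
      have : a * (z * u) * a⁻¹ = (a * z * a⁻¹) * (a * u * a⁻¹) := by group
      rw [this]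
      exact mul_mem (mem_sup_left (Normal.conj_mem inferInstance z hz a))
        (mem_sup_right ((mem_normalizer_iff.mp ha u).mp hu))
    · intro hx
      obtain ⟨z, hz, u, hu, he⟩ := (mem_ZP_iff hyp).mp hx
      have e : x = (a⁻¹ * z * a⁻¹⁻¹) * (a⁻¹ * u * a⁻¹⁻¹) := by
        have : a⁻¹ * (a * x * a⁻¹) * a⁻¹⁻¹ = x := by group
        rw [← this, he]; group
      rw [e]
      refine mul_mem (mem_sup_left (Normal.conj_mem inferInstance z hz a⁻¹)) (mem_sup_right ?_)
      exact (mem_normalizer_iff.mp (inv_mem ha) u).mp hu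

end Cfsg.Agent.Lib.Lead.DicksonAbs
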