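import Cfsg.Agent.Lib.Lead.DicksonAbs

/-!
Abstract class-equation theorem behind Dickson's theorem (lead): the partition into `p`-type and
`p'`-type elements, and the torus in the Sylow normalizer.
-/

set_option autoImplicit false

namespace Cfsg.Agent.Lib.Lead.DicksonAbs

open Subgroup Cfsg.Agent.Lib.Lead.DicksonCA
open scoped Pointwise

variable {H : Type*} [Group H] [Finite H] {Z : Subgroup H} {p : ℕ} [hp : Fact p.Prime]
  {P : Sylow p H}

/-- the `p'`-type elements -/
def TT (Z : Subgroup H) (p : ℕ) : Set H := {x | x ∉ Z ∧ ¬ p ∣ Nat.card (C x)}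

theorem exists_u (hyp : Hyp Z p P) : ∃ u ∈ (P : Subgroup H), u ≠ 1 := by
  by_contra hcon
  push Not at hcon
  apply hyp.hP1
  rw [eq_bot_iff]
  intro u hu
  exact mem_bot.mpr (hcon u hu)

theorem p_dvd_card_ZP (hyp : Hyp Z p P) : p ∣ Nat.card (Z ⊔ (P : Subgroup H) : Subgroup H) := by
  rw [card_ZP hyp]
  apply Dvd.dvd.mul_left
  obtain ⟨k, hk⟩ := IsPGroup.iff_card.mp P.isPGroup'
  rw [hk]
  have hk0 : k ≠ 0 := by
    intro h0
    rw [h0, pow_zero] at hk
    exact hyp.hP1 ((P : Subgroup H).card_eq_one.mp hk)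
  exact dvd_pow_self p hk0

/-- the `p`-type elements are the block of a nontrivial element of `P` -/
theorem p_type_iff (hyp : Hyp Z p P) {u : H} (hu : u ∈ (P : Subgroup H)) (hu1 : u ≠ 1) {x : H}
    (hx : x ∉ Z) : p ∣ Nat.card (C x) ↔ x ∈ block Z u := by
  have huZ := not_mem_Z hyp hu hu1
  constructor
  · intro hdvd
    obtain ⟨v, hv⟩ := exists_prime_orderOf_dvd_card' p hdvd
    have hv1 : (v : H) ≠ 1 := by
      intro h
      have : v = 1 := Subtype.ext h
      rw [this, orderOf_one] at hv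
      exact (Fact.out : p.Prime).one_lt.ne hv
    have hvo : orderOf (v : H) = p := by rw [← hv, Subgroup.orderOf_coe]
    -- v lies in a conjugate of P
    have hvp : IsPGroup p (zpowers (v : H)) := by
      rw [IsPGroup.iff_card, Nat.card_zpowers, hvo]
      exact ⟨1, (pow_one p).symm⟩
    obtain ⟨P', hP'⟩ := hvp.exists_le_sylow
    obtain ⟨h, hh⟩ := MulAction.exists_smul_eq H P' P
    have hconj : h * (v : H) * h⁻¹ ∈ (P : Subgroup H) := by
      rw [← hh]
      have e : h * (v : H) * h⁻¹ = (MulAut.conj h) • (v : H) := by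
        simp [MulAut.smul_def]
      rw [e]
      show (MulAut.conj h) • (v : H) ∈ ((MulAut.conj h) • (P' : Subgroup H))
      exact Subgroup.smul_mem_pointwise_smul _ _ _ (hP' (mem_zpowers _))
    have hconj1 : h * (v : H) * h⁻¹ ≠ 1 := by
      intro h1
      apply hv1
      have : (v : H) = h⁻¹ * (h * (v : H) * h⁻¹) * h := by group
      rw [this, h1]; group
    have hvZ : (v : H) ∉ Z := by
      intro hz
      have hd : orderOf (v : H) ∣ Nat.card Z := by
        have := orderOf_dvd_natCard (⟨(v : H), hz⟩ : Z)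
        rwa [orderOf_mk] at this
      rw [hvo] at hd
      have := Nat.Coprime.eq_one_of_dvd hyp.hzp.symm hd
      exact (Fact.out : p.Prime).one_lt.ne this.symm
    -- C v = C x
    have hCv : C (v : H) = C x := C_eq hyp.ca hx hvZ (mem_C.mp v.2)
    have hCu : C (h * (v : H) * h⁻¹) = C u := by
      rw [hyp.hPC _ hconj hconj1, hyp.hPC u hu hu1]
    refine ⟨hx, h, ?_⟩
    rw [← hCu, mem_C_conj]
    have : h⁻¹ * (h * x * h⁻¹) * h = x := by group
    rw [this, hCv]
    exact self_mem_C x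
  · intro hxb
    rw [card_C_of_mem_block hyp.ca huZ hxb, hyp.hPC u hu hu1]
    exact p_dvd_card_ZP hyp

theorem TT_eq (hyp : Hyp Z p P) {u : H} (hu : u ∈ (P : Subgroup H)) (hu1 : u ≠ 1) :
    TT Z p = {x | x ∉ Z ∧ x ∉ block Z u} := by
  ext x
  constructor
  · rintro ⟨hx, hnd⟩
    exact ⟨hx, fun hb => hnd ((p_type_iff hyp hu hu1 hx).mpr hb)⟩
  · rintro ⟨hx, hnb⟩
    exact ⟨hx, fun hd => hnb ((p_type_iff hyp hu hu1 hx).mp hd)⟩

/-- the partition of `H` -/
theorem card_partition (hyp : Hyp Z p P) {u : H} (hu : u ∈ (P : Subgroup H)) (hu1 : u ≠ 1) :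
    Nat.card H = Nat.card Z + Nat.card (block Z u) + Nat.card (TT Z p) := by
  classical
  rw [TT_eq hyp hu hu1]
  have hZc : Nat.card Z = (Z : Set H).ncard := Nat.card_coe_set_eq (Z : Set H)
  rw [← Set.ncard_univ, hZc, Nat.card_coe_set_eq, Nat.card_coe_set_eq]
  have h1 : (Set.univ : Set H) = ((Z : Set H) ∪ block Z u) ∪ {x | x ∉ Z ∧ x ∉ block Z u} := by
    ext x
    simp only [Set.mem_univ, Set.mem_union, SetLike.mem_coe, Set.mem_setOf_eq, true_iff]
    tauto
  have hd1 : Disjoint (Z : Set H) (block Z u) := by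
    rw [Set.disjoint_left]
    intro x hx hb
    exact hb.1 hx
  have hd2 : Disjoint ((Z : Set H) ∪ block Z u) {x | x ∉ Z ∧ x ∉ block Z u} := by
    rw [Set.disjoint_left]
    intro x hx hb
    rcases hx with hx | hx
    · exact hb.1 hx
    · exact hb.2 hx
  rw [h1, Set.ncard_union_eq hd2 (Set.toFinite _) (Set.toFinite _),
    Set.ncard_union_eq hd1 (Set.toFinite _) (Set.toFinite _)]

theorem block_subset_TT (hyp : Hyp Z p P) {x : H} (hx : x ∈ TT Z p) : block Z x ⊆ TT Z p := by
  intro y hy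
  refine ⟨hy.1, ?_⟩
  rw [card_C_of_mem_block hyp.ca hx.1 hy]
  exact hx.2

end Cfsg.Agent.Lib.Lead.DicksonAbs
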