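import Cfsg.Agent.Lib.Lead.DicksonAbs2

/-!
Abstract class-equation theorem behind Dickson's theorem (lead): counting data.
-/

set_option autoImplicit false

namespace Cfsg.Agent.Lib.Lead.DicksonAbs

open Subgroup Cfsg.Agent.Lib.Lead.DicksonCA
open scoped Pointwise

variable {H : Type*} [Group H] [Finite H] {Z : Subgroup H} {p : ℕ} [hp : Fact p.Prime]
  {P : Sylow p H}

theorem card_Z_pos : 0 < Nat.card Z := Nat.card_pos

/-- `|N(P)| = |Z| |P| kb` -/
theorem exists_kb (hyp : Hyp Z p P) :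
    ∃ kb : ℕ, 1 ≤ kb ∧ Nat.card (normalizer ((P : Subgroup H) : Set H)) =
      Nat.card Z * Nat.card (P : Subgroup H) * kb := by
  have h := card_dvd_of_le (ZP_le_N hyp)
  rw [card_ZP hyp] at h
  obtain ⟨kb, hkb⟩ := h
  refine ⟨kb, ?_, hkb⟩
  rcases Nat.eq_zero_or_pos kb with h0 | h0
  · rw [h0, mul_zero] at hkb
    have : 0 < Nat.card (normalizer ((P : Subgroup H) : Set H)) := Nat.card_pos
    omega
  · exact h0

theorem card_H_eq (P : Sylow p H) :
    Nat.card H = (normalizer ((P : Subgroup H) : Set H)).index *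
      Nat.card (normalizer ((P : Subgroup H) : Set H)) := by
  rw [mul_comm]
  exact (card_mul_index _).symm

/-- the size of the `p`-type block -/
theorem card_block_u (hyp : Hyp Z p P) {u : H} (hu : u ∈ (P : Subgroup H)) (hu1 : u ≠ 1)
    {zz Q kb n : ℕ} (hzz : Nat.card Z = zz) (hQ : Nat.card (P : Subgroup H) = Q)
    (hN : Nat.card (normalizer ((P : Subgroup H) : Set H)) = zz * Q * kb)
    (hn : (normalizer ((P : Subgroup H) : Set H)).index = n) (hkb : 1 ≤ kb) :
    Nat.card (block Z u) = n * (zz * Q - zz) := by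
  have h1 := card_block hyp.ca (not_mem_Z hyp hu hu1)
  rw [hyp.hPC u hu hu1, normalizer_ZP hyp, card_ZP hyp, card_H_eq P, hN, hn, hzz, hQ] at h1
  have hpos : 0 < zz * Q * kb := by
    rw [← hN]; exact Nat.card_pos
  have h2 : Nat.card (block Z u) * (zz * Q * kb) = (n * (zz * Q - zz)) * (zz * Q * kb) := by
    rw [h1]; ring
  exact Nat.eq_of_mul_eq_mul_right hpos h2

/-- data of a `p'`-type element -/
theorem tdata (hyp : Hyp Z p P) {x : H} (hx : x ∈ TT Z p)
    {zz Q kb n : ℕ} (hzz : Nat.card Z = zz)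
    (hN : Nat.card (normalizer ((P : Subgroup H) : Set H)) = zz * Q * kb)
    (hn : (normalizer ((P : Subgroup H) : Set H)).index = n) :
    ∃ s ε : ℕ, Nat.card (C x) = zz * (s + 2) ∧ (ε = 1 ∨ ε = 2) ∧
      Nat.card (block Z x) * ε * (s + 2) = zz * (n * Q * kb) * (s + 1) := by
  have hzpos : 0 < zz := by rw [← hzz]; exact Nat.card_pos
  have hle : Z ≤ C x := Z_le_C hyp.ca x
  obtain ⟨t, ht⟩ := card_dvd_of_le hle
  rw [hzz] at ht
  have ht2 : 2 ≤ t := by
    by_contra hcon
    have hcard : Nat.card (C x) ≤ Nat.card Z := by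
      rw [ht, hzz]
      have : t ≤ 1 := by omega
      calc zz * t ≤ zz * 1 := Nat.mul_le_mul_left _ this
        _ = zz := mul_one _
    have := eq_of_le_of_card_ge hle hcard
    apply hx.1
    rw [this]
    exact self_mem_C x
  obtain ⟨s, rfl⟩ : ∃ s, t = s + 2 := ⟨t - 2, by omega⟩
  have hT := hyp.hT x hx.1 hx.2
  have hcb := card_block hyp.ca hx.1
  rw [card_H_eq P, hN, hn, hzz, ht] at hcb
  have hsub : zz * (s + 2) - zz = zz * (s + 1) := by
    have : zz * (s + 2) = zz * (s + 1) + zz := by ring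
    omega
  rw [hsub] at hcb
  rcases hT with h1 | h2
  · refine ⟨s, 1, ht, Or.inl rfl, ?_⟩
    rw [h1, ht] at hcb
    have : zz * (Nat.card (block Z x) * 1 * (s + 2)) = zz * (zz * (n * Q * kb) * (s + 1)) := by
      calc zz * (Nat.card (block Z x) * 1 * (s + 2)) = Nat.card (block Z x) * (zz * (s + 2)) := by ring
        _ = n * (zz * Q * kb) * (zz * (s + 1)) := hcb
        _ = zz * (zz * (n * Q * kb) * (s + 1)) := by ring
    exact Nat.eq_of_mul_eq_mul_left hzpos this
  · refine ⟨s, 2, ht, Or.inr rfl, ?_⟩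
    rw [h2, ht] at hcb
    have : zz * (Nat.card (block Z x) * 2 * (s + 2)) = zz * (zz * (n * Q * kb) * (s + 1)) := by
      calc zz * (Nat.card (block Z x) * 2 * (s + 2)) = Nat.card (block Z x) * (2 * (zz * (s + 2))) := by ring
        _ = n * (zz * Q * kb) * (zz * (s + 1)) := hcb
        _ = zz * (zz * (n * Q * kb) * (s + 1)) := by ring
    exact Nat.eq_of_mul_eq_mul_left hzpos this

/-- the total count -/
theorem total (hyp : Hyp Z p P)
    {zz Q kb n : ℕ} (hzz : Nat.card Z = zz) (hQ : Nat.card (P : Subgroup H) = Q)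
    (hN : Nat.card (normalizer ((P : Subgroup H) : Set H)) = zz * Q * kb)
    (hn : (normalizer ((P : Subgroup H) : Set H)).index = n) (hkb : 1 ≤ kb) :
    n * (zz * Q * kb) = zz + n * (zz * Q - zz) + Nat.card (TT Z p) := by
  obtain ⟨u, hu, hu1⟩ := exists_u hyp
  have h := card_partition hyp hu hu1
  rw [card_block_u hyp hu hu1 hzz hQ hN hn hkb, card_H_eq P, hN, hn, hzz] at h
  exact h

end Cfsg.Agent.Lib.Lead.DicksonAbs
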