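import Cfsg.Agent.Lib.Lead.DicksonAbs3

/-!
Abstract class-equation theorem behind Dickson's theorem (lead): the torus in the Sylow normalizer.
-/

set_option autoImplicit false

namespace Cfsg.Agent.Lib.Lead.DicksonAbs

open Subgroup Cfsg.Agent.Lib.Lead.DicksonCA
open scoped Pointwise

variable {H : Type*} [Group H] [Finite H] {Z : Subgroup H} {p : ℕ} [hp : Fact p.Prime]
  {P : Sylow p H}

theorem exists_K (hyp : Hyp Z p P)
    {zz Q kb : ℕ} (hzz : Nat.card Z = zz) (hQ : Nat.card (P : Subgroup H) = Q)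
    (hN : Nat.card (normalizer ((P : Subgroup H) : Set H)) = zz * Q * kb) (hkb2 : 2 ≤ kb) :
    ∃ x ∈ TT Z p, Nat.card (C x) = zz * kb := by
  classical
  set N := normalizer ((P : Subgroup H) : Set H) with hNdef
  have hzpos : 0 < zz := by rw [← hzz]; exact Nat.card_pos
  have hQpos : 0 < Q := by rw [← hQ]; exact Nat.card_pos
  -- an element of N outside ZP
  have hex : ∃ h ∈ N, h ∉ Z ⊔ (P : Subgroup H) := by
    by_contra hcon
    push Not at hcon
    have hle : N ≤ Z ⊔ (P : Subgroup H) := hcon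
    have := Nat.le_of_dvd Nat.card_pos (card_dvd_of_le hle)
    rw [hN, card_ZP hyp, hzz, hQ] at this
    have h2 : zz * Q * 2 ≤ zz * Q * kb := Nat.mul_le_mul_left _ hkb2
    have h3 : 0 < zz * Q := Nat.mul_pos hzpos hQpos
    omega
  obtain ⟨h, hhN, hhZP⟩ := hex
  have hhZ : h ∉ Z := fun hz => hhZP (mem_sup_left hz)
  have hCN : C h ≤ N := hyp.hB h hhN hhZP
  -- C h ∩ P = 1
  have hCP : ∀ u ∈ C h, u ∈ (P : Subgroup H) → u = 1 := by
    intro u huC huP
    by_contra hu1
    apply hhZP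
    rw [← hyp.hPC u huP hu1, mem_C]
    exact (mem_C.mp huC).symm
  -- p ∤ |C h|
  have hnd : ¬ p ∣ Nat.card (C h) := by
    intro hd
    obtain ⟨v, hv⟩ := exists_prime_orderOf_dvd_card' p hd
    have hvo : orderOf (v : H) = p := by rw [← hv, Subgroup.orderOf_coe]
    have hvp : IsPGroup p (zpowers (v : H)) := by
      rw [IsPGroup.iff_card, Nat.card_zpowers, hvo]
      exact ⟨1, (pow_one p).symm⟩
    have hinf := hvp.inf_normalizer_sylow P
    have hvP : (v : H) ∈ (P : Subgroup H) := by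
      have h0 : (v : H) ∈ normalizer ((P : Subgroup H) : Set H) := hCN v.2
      have := hinf.le (show (v : H) ∈ _ from ⟨mem_zpowers _, h0⟩)
      exact this.2
    have := hCP (v : H) v.2 hvP
    rw [this, orderOf_one] at hvo
    exact (Fact.out : p.Prime).one_lt.ne hvo
  refine ⟨h, ⟨hhZ, hnd⟩, ?_⟩
  -- |N| = |P| |C h|
  have hbij : Nat.card N = Nat.card (P : Subgroup H) * Nat.card (C h) := by
    rw [← Nat.card_prod]
    symm
    apply Nat.card_congr
    refine Equiv.ofBijective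
      (fun q : ↥(P : Subgroup H) × ↥(C h) => (⟨(q.1 : H) * (q.2 : H),
        mul_mem (le_normalizer q.1.2) (hCN q.2.2)⟩ : N)) ⟨?_, ?_⟩
    · intro q q' hqq
      have he : (q.1 : H) * (q.2 : H) = (q'.1 : H) * (q'.2 : H) := congrArg Subtype.val hqq
      have h1 : (q'.1 : H)⁻¹ * (q.1 : H) = (q'.2 : H) * (q.2 : H)⁻¹ := by
        have : (q'.1 : H)⁻¹ * ((q.1 : H) * (q.2 : H)) * (q.2 : H)⁻¹ =
            (q'.1 : H)⁻¹ * ((q'.1 : H) * (q'.2 : H)) * (q.2 : H)⁻¹ := by rw [he]
        calc (q'.1 : H)⁻¹ * (q.1 : H) = (q'.1 : H)⁻¹ * ((q.1 : H) * (q.2 : H)) * (q.2 : H)⁻¹ := by group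
          _ = (q'.1 : H)⁻¹ * ((q'.1 : H) * (q'.2 : H)) * (q.2 : H)⁻¹ := this
          _ = (q'.2 : H) * (q.2 : H)⁻¹ := by group
      have h2 : (q'.1 : H)⁻¹ * (q.1 : H) = 1 := by
        apply hCP
        · rw [h1]; exact mul_mem q'.2.2 (inv_mem q.2.2)
        · exact mul_mem (inv_mem q'.1.2) q.1.2
      have h3 : (q.1 : H) = (q'.1 : H) := by
        have : (q.1 : H) = (q'.1 : H) * ((q'.1 : H)⁻¹ * (q.1 : H)) := by group
        rw [this, h2, mul_one]
      have h4 : (q.2 : H) = (q'.2 : H) := by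
        rw [h3] at he
        exact mul_left_cancel he
      exact Prod.ext (Subtype.ext h3) (Subtype.ext h4)
    · intro h'
      -- ψ : P → P
      have hψmem : ∀ v : ↥(P : Subgroup H), (v : H) * h * (v : H)⁻¹ * h⁻¹ ∈ (P : Subgroup H) := by
        intro v
        have : h * (v : H)⁻¹ * h⁻¹ ∈ (P : Subgroup H) :=
          (mem_normalizer_iff.mp hhN _).mp (inv_mem v.2)
        have e : (v : H) * h * (v : H)⁻¹ * h⁻¹ = (v : H) * (h * (v : H)⁻¹ * h⁻¹) := by group
        rw [e]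
        exact mul_mem v.2 this
      let ψ : ↥(P : Subgroup H) → ↥(P : Subgroup H) := fun v => ⟨_, hψmem v⟩
      have hinj : Function.Injective ψ := by
        intro v v' hvv
        have he : (v : H) * h * (v : H)⁻¹ * h⁻¹ = (v' : H) * h * (v' : H)⁻¹ * h⁻¹ :=
          congrArg Subtype.val hvv
        have he2 : (v : H) * h * (v : H)⁻¹ = (v' : H) * h * (v' : H)⁻¹ := mul_right_cancel he
        have h1 : (v' : H)⁻¹ * (v : H) ∈ C h := by
          rw [mem_C]
          calc (v' : H)⁻¹ * (v : H) * h = (v' : H)⁻¹ * ((v : H) * h * (v : H)⁻¹) * (v : H) := by group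
            _ = (v' : H)⁻¹ * ((v' : H) * h * (v' : H)⁻¹) * (v : H) := by rw [he2]
            _ = h * ((v' : H)⁻¹ * (v : H)) := by group
        have h2 := hCP _ h1 (mul_mem (inv_mem v'.2) v.2)
        apply Subtype.ext
        have : (v : H) = (v' : H) * ((v' : H)⁻¹ * (v : H)) := by group
        rw [this, h2, mul_one]
      have hsurj : Function.Surjective ψ := Finite.injective_iff_surjective.mp hinj
      have hw : (h' : H) * h * (h' : H)⁻¹ * h⁻¹ ∈ (P : Subgroup H) := hyp.hA _ h'.2 _ hhN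
      obtain ⟨v, hv⟩ := hsurj ⟨_, hw⟩
      have he : (v : H) * h * (v : H)⁻¹ * h⁻¹ = (h' : H) * h * (h' : H)⁻¹ * h⁻¹ :=
        congrArg Subtype.val hv
      have he2 : (v : H) * h * (v : H)⁻¹ = (h' : H) * h * (h' : H)⁻¹ := mul_right_cancel he
      have hc : (v : H)⁻¹ * (h' : H) ∈ C h := by
        rw [mem_C]
        calc (v : H)⁻¹ * (h' : H) * h = (v : H)⁻¹ * ((h' : H) * h * (h' : H)⁻¹) * (h' : H) := by group
          _ = (v : H)⁻¹ * ((v : H) * h * (v : H)⁻¹) * (h' : H) := by rw [he2]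
          _ = h * ((v : H)⁻¹ * (h' : H)) := by group
      refine ⟨(v, ⟨_, hc⟩), ?_⟩
      apply Subtype.ext
      show (v : H) * ((v : H)⁻¹ * (h' : H)) = h'
      group
  rw [hN, hQ] at hbij
  have : Q * (zz * kb) = Q * Nat.card (C h) := by rw [← hbij]; ring
  exact (Nat.eq_of_mul_eq_mul_left hQpos this).symm

end Cfsg.Agent.Lib.Lead.DicksonAbs
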