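import Cfsg.Agent.Lib.Lead.DicksonAbs4

/-!
Abstract class-equation theorem behind Dickson's theorem (lead): set-counting helpers and the
bound `kb < Q`.
-/

set_option autoImplicit false

namespace Cfsg.Agent.Lib.Lead.DicksonAbs

open Subgroup Cfsg.Agent.Lib.Lead.DicksonCA
open scoped Pointwise

variable {H : Type*} [Group H] [Finite H] {Z : Subgroup H} {p : ℕ} [hp : Fact p.Prime]
  {P : Sylow p H}

theorem card_le_of_subset {A T : Set H} (h : A ⊆ T) : Nat.card A ≤ Nat.card T := by
  rw [Nat.card_coe_set_eq, Nat.card_coe_set_eq]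
  exact Set.ncard_le_ncard h (Set.toFinite _)

theorem card_add_le {A B T : Set H} (hA : A ⊆ T) (hB : B ⊆ T) (hd : Disjoint A B) :
    Nat.card A + Nat.card B ≤ Nat.card T := by
  rw [Nat.card_coe_set_eq, Nat.card_coe_set_eq, Nat.card_coe_set_eq,
    ← Set.ncard_union_eq hd (Set.toFinite _) (Set.toFinite _)]
  exact Set.ncard_le_ncard (Set.union_subset hA hB) (Set.toFinite _)

theorem card_add_add_le {A B D T : Set H} (hA : A ⊆ T) (hB : B ⊆ T) (hD : D ⊆ T)
    (hAB : Disjoint A B) (hAD : Disjoint A D) (hBD : Disjoint B D) :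
    Nat.card A + Nat.card B + Nat.card D ≤ Nat.card T := by
  have h1 : Disjoint (A ∪ B) D := Set.disjoint_union_left.mpr ⟨hAD, hBD⟩
  have h2 := card_add_le (Set.union_subset hA hB) hD h1
  have h3 : Nat.card (A ∪ B : Set H) = Nat.card A + Nat.card B := by
    rw [Nat.card_coe_set_eq, Nat.card_coe_set_eq, Nat.card_coe_set_eq,
      Set.ncard_union_eq hAB (Set.toFinite _) (Set.toFinite _)]
  rw [h3] at h2
  exact h2

theorem card_eq_of_subset {A T : Set H} (h : A ⊆ T) (h' : T ⊆ A) : Nat.card T = Nat.card A := by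
  rw [Set.Subset.antisymm h h']

theorem card_eq_add {A B T : Set H} (hA : A ⊆ T) (hB : B ⊆ T) (hd : Disjoint A B)
    (hT : T ⊆ A ∪ B) : Nat.card T = Nat.card A + Nat.card B := by
  have : T = A ∪ B := Set.Subset.antisymm hT (Set.union_subset hA hB)
  rw [this, Nat.card_coe_set_eq, Nat.card_coe_set_eq, Nat.card_coe_set_eq,
    Set.ncard_union_eq hd (Set.toFinite _) (Set.toFinite _)]

/-- `kb < |P|` -/
theorem kb_lt (hyp : Hyp Z p P)
    {zz Q kb : ℕ} (hzz : Nat.card Z = zz) (hQ : Nat.card (P : Subgroup H) = Q)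
    (hN : Nat.card (normalizer ((P : Subgroup H) : Set H)) = zz * Q * kb) : kb + 1 ≤ Q := by
  classical
  obtain ⟨u, hu, hu1⟩ := exists_u hyp
  set N := normalizer ((P : Subgroup H) : Set H) with hNdef
  haveI : Fintype H := Fintype.ofFinite H
  have hzpos : 0 < zz := by rw [← hzz]; exact Nat.card_pos
  have hQpos : 0 < Q := by rw [← hQ]; exact Nat.card_pos
  let f : N → H := fun a => (a : H) * u * (a : H)⁻¹
  have hZPc : Nat.card (Z ⊔ (P : Subgroup H) : Subgroup H) = zz * Q := by
    rw [card_ZP hyp, hzz, hQ]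
  have hfib : ∀ w ∈ (Finset.univ : Finset N).image f,
      ((Finset.univ : Finset N).filter (fun a => f a = w)).card ≤ zz * Q := by
    intro w hw
    obtain ⟨a₀, -, ha₀⟩ := Finset.mem_image.mp hw
    have hc : ((Finset.univ : Finset H).filter (fun x => x ∈ Z ⊔ (P : Subgroup H))).card = zz * Q := by
      rw [← hZPc, Nat.card_eq_fintype_card, Fintype.card_subtype]
    rw [← hc]
    apply Finset.card_le_card_of_injOn (fun a : N => (a₀ : H)⁻¹ * (a : H))
    · intro a ha
      rw [Finset.coe_filter, Set.mem_setOf_eq] at ha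
      rw [Finset.coe_filter, Set.mem_setOf_eq]
      refine ⟨Finset.mem_univ _, ?_⟩
      rw [← hyp.hPC u hu hu1, mem_C]
      have h1 : (a : H) * u * (a : H)⁻¹ = (a₀ : H) * u * (a₀ : H)⁻¹ := ha.2.trans ha₀.symm
      calc (a₀ : H)⁻¹ * (a : H) * u = (a₀ : H)⁻¹ * ((a : H) * u * (a : H)⁻¹) * (a : H) := by group
        _ = (a₀ : H)⁻¹ * ((a₀ : H) * u * (a₀ : H)⁻¹) * (a : H) := by rw [h1]
        _ = u * ((a₀ : H)⁻¹ * (a : H)) := by group
    · intro a _ a' _ haa
      exact Subtype.ext (mul_left_cancel haa)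
  have h1 := Finset.card_le_mul_card_image (Finset.univ : Finset N) (zz * Q) hfib
  rw [Finset.card_univ, ← Nat.card_eq_fintype_card, hN] at h1
  -- the image lies in P \ {1}
  have himg : ((Finset.univ : Finset N).image f).card + 1 ≤ Q := by
    have hsub : (Finset.univ : Finset N).image f ⊆
        ((Finset.univ : Finset H).filter (fun x => x ∈ (P : Subgroup H))).erase 1 := by
      intro w hw
      obtain ⟨a, -, ha⟩ := Finset.mem_image.mp hw
      rw [Finset.mem_erase, Finset.mem_filter]
      refine ⟨?_, Finset.mem_univ _, ?_⟩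
      · intro hw1
        apply hu1
        have hw2 : (a : H) * u * (a : H)⁻¹ = 1 := ha.trans hw1
        have : u = (a : H)⁻¹ * ((a : H) * u * (a : H)⁻¹) * (a : H) := by group
        rw [this, hw2]; group
      · rw [← ha]
        exact (mem_normalizer_iff.mp a.2 u).mp hu
    have h2 := Finset.card_le_card hsub
    have h3 : (1 : H) ∈ (Finset.univ : Finset H).filter (fun x => x ∈ (P : Subgroup H)) := by
      rw [Finset.mem_filter]; exact ⟨Finset.mem_univ _, one_mem _⟩
    rw [Finset.card_erase_of_mem h3] at h2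
    have h4 : ((Finset.univ : Finset H).filter (fun x => x ∈ (P : Subgroup H))).card = Q := by
      rw [← hQ, Nat.card_eq_fintype_card, Fintype.card_subtype]
    rw [h4] at h2
    omega
  have h5 : zz * Q * kb ≤ zz * Q * (Q - 1) := by
    calc zz * Q * kb ≤ zz * Q * ((Finset.univ : Finset N).image f).card := h1
      _ ≤ zz * Q * (Q - 1) := Nat.mul_le_mul_left _ (by omega)
  have h6 := Nat.le_of_mul_le_mul_left h5 (Nat.mul_pos hzpos hQpos)
  omega

end Cfsg.Agent.Lib.Lead.DicksonAbs
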