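import Cfsg.Agent.Lib.Lead.DicksonAbs5

/-!
Abstract class-equation theorem behind Dickson's theorem (lead): the main theorem.
-/

set_option autoImplicit false
set_option maxHeartbeats 1000000

namespace Cfsg.Agent.Lib.Lead.DicksonAbs

open Subgroup Cfsg.Agent.Lib.Lead.DicksonCA Cfsg.Agent.Lib.Lead.DicksonNum
open scoped Pointwise

variable {H : Type*} [Group H] [Finite H] {Z : Subgroup H} {p : ℕ} [hp : Fact p.Prime]
  {P : Sylow p H}

theorem pow_card_C (x : H) : x ^ Nat.card (C x) = 1 := by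
  have := pow_card_eq_one' (G := C x) (x := ⟨x, self_mem_C x⟩)
  exact congrArg Subtype.val this

theorem pow_of_card_C_dvd {x : H} {k : ℕ} (h : Nat.card (C x) ∣ k) : x ^ k = 1 := by
  obtain ⟨c, rfl⟩ := h
  rw [pow_mul, pow_card_C, one_pow]

theorem exists_not_mem_of_lt {A T : Set H} (h : Nat.card A < Nat.card T) : ∃ x ∈ T, x ∉ A := by
  by_contra hcon
  push Not at hcon
  have := card_le_of_subset hcon
  omega

theorem main (hyp : Hyp Z p P) (hp2 : p ≠ 2) (hz2 : Nat.card Z ∣ 2) :
    (normalizer ((P : Subgroup H) : Set H)).index = Nat.card (P : Subgroup H) + 1 ∨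
    (Nat.card (P : Subgroup H) = 3 ∧ ∀ x : H, x ^ 6 = 1 ∨ x ^ 4 = 1 ∨ x ^ 10 = 1) := by
  classical
  obtain ⟨kb, hkb1, hN⟩ := exists_kb hyp
  obtain ⟨zz, hzz⟩ : ∃ zz, Nat.card Z = zz := ⟨_, rfl⟩
  obtain ⟨Q, hQ⟩ : ∃ Q, Nat.card (P : Subgroup H) = Q := ⟨_, rfl⟩
  obtain ⟨n, hn⟩ : ∃ n, (normalizer ((P : Subgroup H) : Set H)).index = n := ⟨_, rfl⟩
  rw [hzz, hQ] at hN
  rw [hn, hQ]
  have hzpos : 0 < zz := by rw [← hzz]; exact Nat.card_pos
  obtain ⟨m, hm⟩ := IsPGroup.iff_card.mp P.isPGroup'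
  rw [hQ] at hm
  have hp3 : 3 ≤ p := by
    have := (Fact.out : p.Prime).two_le
    have := hp2
    omega
  have hm1 : m ≠ 0 := by
    intro h0
    rw [h0, pow_zero] at hm
    rw [← hQ] at hm
    exact hyp.hP1 ((P : Subgroup H).card_eq_one.mp hm)
  have hQ3 : 3 ≤ Q := by
    rw [hm]
    calc 3 ≤ p := hp3
      _ = p ^ 1 := (pow_one p).symm
      _ ≤ p ^ m := Nat.pow_le_pow_right (by omega) (by omega)
  have hn2 : 2 ≤ n := by
    have h1 : n ≠ 1 := by
      rw [← hn]
      intro h
      exact hyp.hn (index_eq_one.mp h)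
    have h0 : n ≠ 0 := by
      rw [← hn]
      exact index_ne_zero_of_finite
    omega
  have hkQ : kb + 1 ≤ Q := kb_lt hyp hzz hQ hN
  have htot := total hyp hzz hQ hN hn hkb1
  obtain ⟨T, hT⟩ : ∃ T, Nat.card (TT Z p) = T := ⟨_, rfl⟩
  rw [hT] at htot
  have hsub : zz * Q - zz = zz * (Q - 1) := by
    rw [Nat.mul_sub, mul_one]
  rw [hsub] at htot
  obtain ⟨Q', rfl⟩ : ∃ Q', Q = Q' + 3 := ⟨Q - 3, by omega⟩
  have hQ1 : Q' + 3 - 1 = Q' + 2 := by omega
  rw [hQ1] at htot
  -- general facts about p'-type elements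
  have hble : ∀ x ∈ TT Z p, Nat.card (block Z x) ≤ T := fun x hx => by
    rw [← hT]; exact card_le_of_subset (block_subset_TT hyp hx)
  have hble2 : ∀ x ∈ TT Z p, ∀ x' ∈ TT Z p, x' ∉ block Z x →
      Nat.card (block Z x) + Nat.card (block Z x') ≤ T := fun x hx x' hx' hnb => by
    rw [← hT]
    exact card_add_le (block_subset_TT hyp hx) (block_subset_TT hyp hx')
      (block_disjoint hyp.ca hx.1 hx'.1 hnb)
  rcases Nat.lt_or_ge kb 2 with hk | hk
  · -- kb = 1
    have hkb : kb = 1 := by omega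
    subst hkb
    have hTz : T + zz = zz * n := by nlinarith
    have hTpos : 0 < T := by nlinarith
    obtain ⟨x, hx⟩ : ∃ x, x ∈ TT Z p := by
      have hpos : 0 < Nat.card (TT Z p) := by rw [hT]; exact hTpos
      obtain ⟨⟨x, hx⟩⟩ := (Nat.card_pos_iff.mp hpos).1
      exact ⟨x, hx⟩
    obtain ⟨s, ε, hCx, hε, hb⟩ := tdata hyp hx hzz hN hn
    have hA1 := lemA1 zz n (Q' + 3) (Nat.card (block Z x)) ε s hzpos hn2 hQ3 hε
      (by rw [hb]; ring) (by have := hble x hx; omega)
    obtain ⟨hQe, hs0, hε2⟩ := hA1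
    have hQ0 : Q' = 0 := by omega
    subst hQ0 hs0 hε2
    left
    have hb4 : Nat.card (block Z x) * 4 = zz * (n * 3) := by linarith [hb]
    by_cases hex : ∃ x' ∈ TT Z p, x' ∉ block Z x
    · exfalso
      obtain ⟨x', hx', hnb⟩ := hex
      obtain ⟨s', ε', hCx', hε', hb'⟩ := tdata hyp hx' hzz hN hn
      have hA1' := lemA1 zz n 3 (Nat.card (block Z x')) ε' s' hzpos hn2 (le_refl 3) hε'
        (by rw [hb']; ring) (by have := hble x' hx'; omega)
      obtain ⟨-, hs0', hε2'⟩ := hA1'
      subst hs0' hε2'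
      have hb4' : Nat.card (block Z x') * 4 = zz * (n * 3) := by linarith [hb']
      exact lemA2 zz n _ _ hzpos hb4 hb4' (by have := hble2 x hx x' hx' hnb; omega)
    · push Not at hex
      have hTe : T = Nat.card (block Z x) := by
        rw [← hT]
        exact card_eq_of_subset (block_subset_TT hyp hx) (fun y hy => hex y hy)
      have := lemA3 zz n _ hzpos hb4 (by omega)
      omega
  · -- kb ≥ 2
    obtain ⟨xK, hxK, hCK⟩ := exists_K hyp hzz hQ hN hk
    obtain ⟨sK, εK, hCxK, hεK, hbK⟩ := tdata hyp hxK hzz hN hn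
    have hkbs : kb = sK + 2 := by
      rw [hCK] at hCxK
      exact Nat.eq_of_mul_eq_mul_left hzpos hCxK
    subst hkbs
    obtain ⟨bK, hbKdef⟩ : ∃ bK, Nat.card (block Z xK) = bK := ⟨_, rfl⟩
    rw [hbKdef] at hbK
    have hbKT : bK ≤ T := by rw [← hbKdef]; exact hble xK hxK
    rcases hεK with hεK | hεK
    · -- εK = 1 : impossible
      exfalso
      subst hεK
      have hbKe : bK = zz * (n * (Q' + 3)) * (sK + 1) := by
        have : bK * (sK + 2) = (zz * (n * (Q' + 3)) * (sK + 1)) * (sK + 2) := by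
          rw [← mul_one bK, hbK]; ring
        exact Nat.eq_of_mul_eq_mul_right (by omega) this
      have hlt : bK < T := by nlinarith
      obtain ⟨x', hx', hnb⟩ := exists_not_mem_of_lt (A := block Z xK) (T := TT Z p)
        (by rw [hbKdef, hT]; exact hlt)
      obtain ⟨s', ε', hCx', hε', hb'⟩ := tdata hyp hx' hzz hN hn
      have h2 := hble2 xK hxK x' hx' hnb
      rw [hbKdef] at h2
      exact lemB zz n (Q' + 3) (sK + 2) _ ε' s' hzpos hn2 hQ3 hk hε' hb' (by nlinarith)
    · -- εK = 2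
      subst hεK
      have hbKe : 2 * bK = zz * (n * (Q' + 3)) * (sK + 1) := by
        have : (2 * bK) * (sK + 2) = (zz * (n * (Q' + 3)) * (sK + 1)) * (sK + 2) := by
          calc (2 * bK) * (sK + 2) = bK * 2 * (sK + 2) := by ring
            _ = zz * (n * (Q' + 3) * (sK + 2)) * (sK + 1) := hbK
            _ = _ := by ring
        exact Nat.eq_of_mul_eq_mul_right (by omega) this
      have hlt : bK < T := by nlinarith
      obtain ⟨x₁, hx₁, hnb₁⟩ := exists_not_mem_of_lt (A := block Z xK) (T := TT Z p)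
        (by rw [hbKdef, hT]; exact hlt)
      obtain ⟨s₁, ε₁, hCx₁, hε₁, hb₁⟩ := tdata hyp hx₁ hzz hN hn
      obtain ⟨b₁, hb₁def⟩ : ∃ b₁, Nat.card (block Z x₁) = b₁ := ⟨_, rfl⟩
      rw [hb₁def] at hb₁
      have h2 := hble2 xK hxK x₁ hx₁ hnb₁
      rw [hbKdef, hb₁def] at h2
      have hle₁ : 2 * b₁ + zz * (n * (Q' + 3)) + 2 * zz ≤
          zz * (n * (Q' + 3) * (sK + 2)) + zz * (2 * n) := by nlinarith
      have hε₁2 := lemC1 zz n (Q' + 3) (sK + 2) b₁ ε₁ s₁ hzpos hn2 hQ3 hk hε₁ hb₁ hle₁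
      subst hε₁2
      have hq₁ := lemC2 zz (n * (Q' + 3) * (sK + 2)) b₁ s₁ hb₁
      by_cases hex : ∃ x₂ ∈ TT Z p, x₂ ∉ block Z xK ∧ x₂ ∉ block Z x₁
      · exfalso
        obtain ⟨x₂, hx₂, hnbK, hnb12⟩ := hex
        obtain ⟨s₂, ε₂, hCx₂, hε₂, hb₂⟩ := tdata hyp hx₂ hzz hN hn
        obtain ⟨b₂, hb₂def⟩ : ∃ b₂, Nat.card (block Z x₂) = b₂ := ⟨_, rfl⟩
        rw [hb₂def] at hb₂
        have h3 : bK + b₁ + b₂ ≤ T := by
          rw [← hT, ← hbKdef, ← hb₁def, ← hb₂def]
          exact card_add_add_le (block_subset_TT hyp hxK) (block_subset_TT hyp hx₁)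
            (block_subset_TT hyp hx₂) (block_disjoint hyp.ca hxK.1 hx₁.1 hnb₁)
            (block_disjoint hyp.ca hxK.1 hx₂.1 hnbK) (block_disjoint hyp.ca hx₁.1 hx₂.1 hnb12)
        have hle₂ : 2 * b₂ + zz * (n * (Q' + 3)) + 2 * zz ≤
            zz * (n * (Q' + 3) * (sK + 2)) + zz * (2 * n) := by nlinarith
        have hε₂2 := lemC1 zz n (Q' + 3) (sK + 2) b₂ ε₂ s₂ hzpos hn2 hQ3 hk hε₂ hb₂ hle₂
        subst hε₂2
        have hq₂ := lemC2 zz (n * (Q' + 3) * (sK + 2)) b₂ s₂ hb₂
        exact lemC3 zz n (Q' + 3) (sK + 2) b₁ b₂ hzpos hn2 hQ3 hq₁ hq₂ (by nlinarith)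
      · push Not at hex
        have hTe : T = bK + b₁ := by
          rw [← hT, ← hbKdef, ← hb₁def]
          apply card_eq_add (block_subset_TT hyp hxK) (block_subset_TT hyp hx₁)
            (block_disjoint hyp.ca hxK.1 hx₁.1 hnb₁)
          intro y hy
          by_cases hyK : y ∈ block Z xK
          · exact Or.inl hyK
          · exact Or.inr (hex y hy hyK)
        have heq₁ : 2 * b₁ + zz * (n * (Q' + 3)) + 2 * zz =
            zz * (n * (Q' + 3) * (sK + 2)) + zz * (2 * n) := by nlinarith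
        have h4 := lemC4 zz n (Q' + 3) (sK + 2) b₁ s₁ hzpos hQ3 hb₁ heq₁
        have hpt : ¬ p ∣ s₁ + 2 := by
          intro hd
          apply hx₁.2
          rw [hCx₁]
          exact Dvd.dvd.mul_left hd zz
        have hD := lemD p m (Q' + 3) n (sK + 2) (s₁ + 2) (Fact.out : p.Prime) hp2 hm hQ3 hpt hk
          hkQ hn2 (by omega) (by rw [h4])
        rcases hD with hD | ⟨hQe, hne, hke, hte⟩
        · left; exact hD
        · right
          refine ⟨hQe, fun x => ?_⟩
          have hzz2 : zz ∣ 2 := by rw [← hzz]; exact hz2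
          by_cases hxZ : x ∈ Z
          · left
            have h1 : x ^ zz = 1 := by
              have := pow_card_eq_one' (G := Z) (x := ⟨x, hxZ⟩)
              rw [hzz] at this
              exact congrArg Subtype.val this
            have h6 : zz ∣ 6 := Dvd.dvd.trans hzz2 (by norm_num)
            obtain ⟨c, hc⟩ := h6
            rw [hc, pow_mul, h1, one_pow]
          · obtain ⟨u, hu, hu1⟩ := exists_u hyp
            by_cases hxp : p ∣ Nat.card (C x)
            · left
              have hxb := (p_type_iff hyp hu hu1 hxZ).mp hxp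
              have hc : Nat.card (C x) = zz * 3 := by
                rw [card_C_of_mem_block hyp.ca (not_mem_Z hyp hu hu1) hxb, hyp.hPC u hu hu1,
                  card_ZP hyp, hzz, hQ, hQe]
              apply pow_of_card_C_dvd
              rw [hc]
              exact Nat.mul_dvd_mul_right hzz2 3
            · have hxT : x ∈ TT Z p := ⟨hxZ, hxp⟩
              by_cases hxK' : x ∈ block Z xK
              · right; left
                have hc : Nat.card (C x) = zz * 2 := by
                  rw [card_C_of_mem_block hyp.ca hxK.1 hxK', hCxK]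
                  have : sK = 0 := by omega
                  rw [this]
                apply pow_of_card_C_dvd
                rw [hc]
                exact Nat.mul_dvd_mul_right hzz2 2
              · right; right
                have hx1' := hex x hxT hxK'
                have hc : Nat.card (C x) = zz * 5 := by
                  rw [card_C_of_mem_block hyp.ca hx₁.1 hx1', hCx₁, hte]
                apply pow_of_card_C_dvd
                rw [hc]
                exact Nat.mul_dvd_mul_right hzz2 5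

end Cfsg.Agent.Lib.Lead.DicksonAbs
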