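import Cfsg.Agent.Lib.Lead.DicksonCA

/-!
Further lemmas on blocks in CA groups (lead).
-/

set_option autoImplicit false

namespace Cfsg.Agent.Lib.Lead.DicksonCA

open Subgroup

variable {H : Type*} [Group H] [Finite H] {Z : Subgroup H}

theorem card_C_conj (g h : H) : Nat.card (C (h * g * h⁻¹)) = Nat.card (C g) := by
  apply Nat.card_congr
  refine ⟨fun a => ⟨h⁻¹ * (a : H) * h, mem_C_conj.mp a.2⟩,
    fun a => ⟨h * (a : H) * h⁻¹, ?_⟩, ?_, ?_⟩
  · rw [mem_C_conj]
    have : h⁻¹ * (h * (a : H) * h⁻¹) * h = (a : H) := by group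
    rw [this]
    exact a.2
  · intro a
    apply Subtype.ext
    show h * (h⁻¹ * (a : H) * h) * h⁻¹ = a
    group
  · intro a
    apply Subtype.ext
    show h⁻¹ * (h * (a : H) * h⁻¹) * h = a
    group

theorem C_conj_eq_of_mem (hZ : IsCA Z) {g x h : H} (hg : g ∉ Z) (hx : x ∉ Z)
    (hh : h * x * h⁻¹ ∈ C g) : C (h * x * h⁻¹) = C g :=
  C_eq hZ hg (conj_not_mem hZ hx h) (mem_C.mp hh)

theorem card_C_of_mem_block (hZ : IsCA Z) {g x : H} (hg : g ∉ Z) (hx : x ∈ block Z g) :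
    Nat.card (C x) = Nat.card (C g) := by
  obtain ⟨hxZ, h, hh⟩ := hx
  rw [← card_C_conj x h, C_conj_eq_of_mem hZ hg hxZ hh]

theorem block_eq_of_mem (hZ : IsCA Z) {g x : H} (hg : g ∉ Z) (hx : x ∈ block Z g) :
    block Z x = block Z g := by
  obtain ⟨hxZ, h, hh⟩ := hx
  have hC : C (h * x * h⁻¹) = C g := C_conj_eq_of_mem hZ hg hxZ hh
  ext y
  constructor
  · rintro ⟨hyZ, k, hk⟩
    refine ⟨hyZ, h * k, ?_⟩
    rw [← hC, mem_C_conj]
    have : h⁻¹ * (h * k * y * (h * k)⁻¹) * h = k * y * k⁻¹ := by group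
    rw [this]
    exact hk
  · rintro ⟨hyZ, k, hk⟩
    refine ⟨hyZ, h⁻¹ * k, ?_⟩
    rw [← hC, mem_C_conj] at hk
    have : h⁻¹ * k * y * (h⁻¹ * k)⁻¹ = h⁻¹ * (k * y * k⁻¹) * h := by group
    rw [this]
    exact hk

theorem block_disjoint (hZ : IsCA Z) {g g' : H} (hg : g ∉ Z) (hg' : g' ∉ Z)
    (hne : g' ∉ block Z g) : Disjoint (block Z g) (block Z g') := by
  rw [Set.disjoint_left]
  intro y hy hy'
  apply hne
  have h1 := block_eq_of_mem hZ hg hy
  have h2 := block_eq_of_mem hZ hg' hy'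
  rw [← h1, h2]
  exact self_mem_block hg'

/-- the normalizer of `C x` for a block member has the same cardinality -/
theorem card_normalizer_C_conj (g h : H) :
    Nat.card (normalizer (C (h * g * h⁻¹) : Set H)) = Nat.card (normalizer (C g : Set H)) := by
  have key : ∀ a : H, a ∈ normalizer (C (h * g * h⁻¹) : Set H) ↔
      h⁻¹ * a * h ∈ normalizer (C g : Set H) := by
    intro a
    rw [mem_normalizer_iff, mem_normalizer_iff]
    constructor
    · intro ha b
      have := ha (h * b * h⁻¹)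
      rw [mem_C_conj, mem_C_conj] at this
      have e1 : h⁻¹ * (h * b * h⁻¹) * h = b := by group
      have e2 : h⁻¹ * (a * (h * b * h⁻¹) * a⁻¹) * h = h⁻¹ * a * h * b * (h⁻¹ * a * h)⁻¹ := by group
      rw [e1, e2] at this
      exact this
    · intro ha b
      have := ha (h⁻¹ * b * h)
      rw [mem_C_conj, mem_C_conj]
      have e2 : h⁻¹ * (a * b * a⁻¹) * h = h⁻¹ * a * h * (h⁻¹ * b * h) * (h⁻¹ * a * h)⁻¹ := by group
      rw [e2]
      exact this
  apply Nat.card_congr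
  refine ⟨fun a => ⟨h⁻¹ * (a : H) * h, (key a).mp a.2⟩,
    fun a => ⟨h * (a : H) * h⁻¹, ?_⟩, ?_, ?_⟩
  · rw [key]
    have : h⁻¹ * (h * (a : H) * h⁻¹) * h = (a : H) := by group
    rw [this]
    exact a.2
  · intro a
    apply Subtype.ext
    show h * (h⁻¹ * (a : H) * h) * h⁻¹ = a
    group
  · intro a
    apply Subtype.ext
    show h⁻¹ * (h * (a : H) * h⁻¹) * h = a
    group

end Cfsg.Agent.Lib.Lead.DicksonCA
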