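import Mathlib

/-!
Groups in which centralizers of "non-central" elements are abelian (relative to a central subgroup
`Z`): blocks of conjugates of a maximal abelian subgroup and their cardinality (lead).
-/

set_option autoImplicit false

namespace Cfsg.Agent.Lib.Lead.DicksonCA

open Subgroup

variable {H : Type*} [Group H]

/-- `Z` is central and centralizers of elements outside `Z` are abelian. -/
structure IsCA (Z : Subgroup H) : Prop where
  central : ∀ z ∈ Z, ∀ g : H, z * g = g * z
  comm : ∀ g : H, g ∉ Z → ∀ a b : H, a * g = g * a → b * g = g * b → a * b = b * a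

/-- the centralizer of an element -/
def C (g : H) : Subgroup H := centralizer {g}

theorem mem_C {g a : H} : a ∈ C g ↔ a * g = g * a := by
  unfold C
  rw [mem_centralizer_iff]
  constructor
  · intro h
    exact (h g rfl).symm
  · intro h x hx
    rw [Set.mem_singleton_iff] at hx
    subst hx
    exact h.symm

theorem self_mem_C (g : H) : g ∈ C g := mem_C.mpr rfl

variable {Z : Subgroup H}

theorem Z_le_C (hZ : IsCA Z) (g : H) : Z ≤ C g := fun z hz => mem_C.mpr (hZ.central z hz g)

theorem C_eq (hZ : IsCA Z) {g m : H} (hg : g ∉ Z) (hm : m ∉ Z) (hmg : m * g = g * m) :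
    C m = C g := by
  ext a
  rw [mem_C, mem_C]
  constructor
  · intro ha
    exact hZ.comm m hm a g ha hmg.symm
  · intro ha
    exact hZ.comm g hg a m ha hmg

theorem conj_not_mem (hZ : IsCA Z) {g : H} (hg : g ∉ Z) (h : H) : h * g * h⁻¹ ∉ Z := by
  intro hc
  apply hg
  have := hZ.central _ hc h
  -- h g h⁻¹ h = h (h g h⁻¹)
  have h2 : h * g * h⁻¹ = g := by
    have h3 : h * g * h⁻¹ * h = h * (h * g * h⁻¹) := this
    have h4 : h * g = h * (h * g * h⁻¹) := by
      rw [← h3]; group
    exact (mul_left_cancel h4).symm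
  rwa [h2] at hc

theorem mem_C_conj {g a h : H} : a ∈ C (h * g * h⁻¹) ↔ h⁻¹ * a * h ∈ C g := by
  rw [mem_C, mem_C]
  constructor
  · intro hh
    have : h⁻¹ * (a * (h * g * h⁻¹)) * h = h⁻¹ * ((h * g * h⁻¹) * a) * h := by rw [hh]
    calc h⁻¹ * a * h * g = h⁻¹ * (a * (h * g * h⁻¹)) * h := by group
      _ = h⁻¹ * ((h * g * h⁻¹) * a) * h := this
      _ = g * (h⁻¹ * a * h) := by group
  · intro hh
    have : h * (h⁻¹ * a * h * g) * h⁻¹ = h * (g * (h⁻¹ * a * h)) * h⁻¹ := by rw [hh]
    calc a * (h * g * h⁻¹) = h * (h⁻¹ * a * h * g) * h⁻¹ := by group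
      _ = h * (g * (h⁻¹ * a * h)) * h⁻¹ := this
      _ = h * g * h⁻¹ * a := by group

/-- For `m ∈ C g \ Z`, `k m k⁻¹ ∈ C g` iff `k` normalizes `C g`. -/
theorem conj_mem_C_iff (hZ : IsCA Z) {g m : H} (hg : g ∉ Z) (hm : m ∉ Z) (hmg : m ∈ C g) (k : H) :
    k * m * k⁻¹ ∈ C g ↔ k ∈ normalizer (C g : Set H) := by
  have hCm : C m = C g := C_eq hZ hg hm (mem_C.mp hmg)
  constructor
  · intro hk
    have hkm : k * m * k⁻¹ ∉ Z := conj_not_mem hZ hm k
    have hC2 : C (k * m * k⁻¹) = C g := C_eq hZ hg hkm (mem_C.mp hk)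
    rw [mem_normalizer_iff]
    intro a
    -- a ∈ C g ↔ k a k⁻¹ ∈ C g
    constructor
    · intro ha
      rw [← hC2, mem_C_conj]
      have : k⁻¹ * (k * a * k⁻¹) * k = a := by group
      rw [this, hCm]
      exact ha
    · intro ha
      rw [← hC2, mem_C_conj] at ha
      have : k⁻¹ * (k * a * k⁻¹) * k = a := by group
      rw [this, hCm] at ha
      exact ha
  · intro hk
    rw [mem_normalizer_iff] at hk
    exact (hk m).mp hmg

section Finite

variable [Finite H]

/-- the block of `g`: the elements outside `Z` having a conjugate in `C g` -/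
def block (Z : Subgroup H) (g : H) : Set H := {x | x ∉ Z ∧ ∃ h : H, h * x * h⁻¹ ∈ C g}

theorem self_mem_block {g : H} (hg : g ∉ Z) : g ∈ block Z g :=
  ⟨hg, 1, by simpa using self_mem_C g⟩

theorem card_block (hZ : IsCA Z) {g : H} (hg : g ∉ Z) :
    Nat.card (block Z g) * Nat.card (normalizer (C g : Set H)) =
      Nat.card H * (Nat.card (C g) - Nat.card Z) := by
  classical
  letI : Fintype H := Fintype.ofFinite H
  -- the set of pairs
  let S : Finset (H × H) := Finset.univ.filter (fun q => q.2 ∉ Z ∧ q.1 * q.2 * q.1⁻¹ ∈ C g)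
  -- count by second coordinate
  have h1 : S.card = Nat.card (block Z g) * Nat.card (normalizer (C g : Set H)) := by
    have hmaps : ∀ q ∈ S, q.2 ∈ (Finset.univ.filter (fun x => x ∈ block Z g)) := by
      intro q hq
      rw [Finset.mem_filter] at hq ⊢
      exact ⟨Finset.mem_univ _, hq.2.1, q.1, hq.2.2⟩
    rw [Finset.card_eq_sum_card_fiberwise hmaps]
    have hfib : ∀ x ∈ (Finset.univ.filter (fun x => x ∈ block Z g)),
        (S.filter (fun q => q.2 = x)).card = Nat.card (normalizer (C g : Set H)) := by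
      intro x hx
      rw [Finset.mem_filter] at hx
      obtain ⟨-, hxZ, h₀, hh₀⟩ := hx
      have hm : h₀ * x * h₀⁻¹ ∉ Z := conj_not_mem hZ hxZ h₀
      rw [Nat.card_eq_fintype_card, ← Finset.card_univ]
      symm
      apply Finset.card_bij (fun (k : normalizer (C g : Set H)) _ => ((k : H) * h₀, x))
      · intro k _
        rw [Finset.mem_filter, Finset.mem_filter]
        refine ⟨⟨Finset.mem_univ _, hxZ, ?_⟩, rfl⟩
        have : (k : H) * h₀ * x * ((k : H) * h₀)⁻¹ = (k : H) * (h₀ * x * h₀⁻¹) * (k : H)⁻¹ := by group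
        show (k : H) * h₀ * x * ((k : H) * h₀)⁻¹ ∈ C g
        rw [this, conj_mem_C_iff hZ hg hm hh₀]
        exact k.2
      · intro k _ k' _ hkk
        have : (k : H) * h₀ = (k' : H) * h₀ := (Prod.ext_iff.mp hkk).1
        exact Subtype.ext (mul_right_cancel this)
      · intro q hq
        rw [Finset.mem_filter, Finset.mem_filter] at hq
        obtain ⟨⟨-, -, hq2⟩, hqx⟩ := hq
        have hk : q.1 * h₀⁻¹ ∈ normalizer (C g : Set H) := by
          rw [← conj_mem_C_iff hZ hg hm hh₀]
          have : q.1 * h₀⁻¹ * (h₀ * x * h₀⁻¹) * (q.1 * h₀⁻¹)⁻¹ = q.1 * x * q.1⁻¹ := by group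
          rw [this, ← hqx]
          exact hq2
        refine ⟨⟨q.1 * h₀⁻¹, hk⟩, Finset.mem_univ _, ?_⟩
        apply Prod.ext
        · show q.1 * h₀⁻¹ * h₀ = q.1
          group
        · exact hqx.symm
    rw [Finset.sum_congr rfl hfib, Finset.sum_const, smul_eq_mul]
    congr 1
    rw [Nat.card_eq_fintype_card, ← Finset.card_univ]
    symm
    apply Finset.card_bij (fun (x : block Z g) _ => (x : H))
    · intro x _
      rw [Finset.mem_filter]
      exact ⟨Finset.mem_univ _, x.2⟩
    · intro x _ y _ hxy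
      exact Subtype.ext hxy
    · intro x hx
      rw [Finset.mem_filter] at hx
      exact ⟨⟨x, hx.2⟩, Finset.mem_univ _, rfl⟩
  -- count by first coordinate
  have h2 : S.card = Nat.card H * (Nat.card (C g) - Nat.card Z) := by
    have hmaps : ∀ q ∈ S, q.1 ∈ (Finset.univ : Finset H) := fun q _ => Finset.mem_univ _
    rw [Finset.card_eq_sum_card_fiberwise hmaps]
    have hfib : ∀ h ∈ (Finset.univ : Finset H),
        (S.filter (fun q => q.1 = h)).card = Nat.card (C g) - Nat.card Z := by
      intro h _
      -- bijection with C g \ Z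
      have hcard : ((Finset.univ : Finset H).filter (fun x => x ∈ C g ∧ x ∉ Z)).card =
          Nat.card (C g) - Nat.card Z := by
        have hsub : (Finset.univ.filter (fun x : H => x ∈ Z)) ⊆
            (Finset.univ.filter (fun x : H => x ∈ C g)) := by
          intro x hx
          rw [Finset.mem_filter] at hx ⊢
          exact ⟨hx.1, Z_le_C hZ g hx.2⟩
        have e1 : (Finset.univ.filter (fun x : H => x ∈ C g ∧ x ∉ Z)) =
            (Finset.univ.filter (fun x : H => x ∈ C g)) \ (Finset.univ.filter (fun x : H => x ∈ Z)) := by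
          ext x
          simp [Finset.mem_sdiff, Finset.mem_filter]
        rw [e1, Finset.card_sdiff_of_subset hsub]
        congr 1
        · rw [Nat.card_eq_fintype_card, Fintype.card_subtype]
        · rw [Nat.card_eq_fintype_card, Fintype.card_subtype]
      rw [← hcard]
      apply Finset.card_bij (fun q _ => q.1 * q.2 * q.1⁻¹)
      · intro q hq
        rw [Finset.mem_filter, Finset.mem_filter] at hq
        rw [Finset.mem_filter]
        exact ⟨Finset.mem_univ _, hq.1.2.2, conj_not_mem hZ hq.1.2.1 q.1⟩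
      · intro q hq q' hq' hqq
        rw [Finset.mem_filter] at hq hq'
        have h11 : q.1 = q'.1 := hq.2.trans hq'.2.symm
        apply Prod.ext h11
        rw [h11] at hqq
        exact mul_left_cancel (mul_right_cancel hqq)
      · intro x hx
        rw [Finset.mem_filter] at hx
        refine ⟨(h, h⁻¹ * x * h), ?_, ?_⟩
        · rw [Finset.mem_filter, Finset.mem_filter]
          refine ⟨⟨Finset.mem_univ _, ?_, ?_⟩, rfl⟩
          · have := conj_not_mem hZ hx.2.2 h⁻¹
            simpa using this
          · show h * (h⁻¹ * x * h) * h⁻¹ ∈ C g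
            have : h * (h⁻¹ * x * h) * h⁻¹ = x := by group
            rw [this]
            exact hx.2.1
        · show h * (h⁻¹ * x * h) * h⁻¹ = x
          group
    rw [Finset.sum_congr rfl hfib, Finset.sum_const, smul_eq_mul, Finset.card_univ]
    simp only [Nat.card_eq_fintype_card]
  rw [← h1, h2]

end Finite

end Cfsg.Agent.Lib.Lead.DicksonCA
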