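import Cfsg.Agent.Lib.Lead.DicksonGenA

/-!
Subgroups of `SL₂(F)` with `|P| + 1` Sylow `p`-subgroups, `p` odd (lead): Bruhat decomposition, the
subfield of parameters, and the structure `H = SL₂(K₀) · (H ∩ Diag)`.
-/

set_option autoImplicit false

namespace Cfsg.Agent.Lib.Lead.DicksonField

open Matrix Cfsg.Agent.Lib.Helper9.SL2Upper Cfsg.Agent.Lib.Lead.DicksonBase
  Cfsg.Agent.Lib.Helper15.TwoByTwo Cfsg.Agent.Lib.Lead.SL2Scalar Cfsg.Agent.Lib.Lead.DicksonCA
  Cfsg.Agent.Lib.Lead.DicksonSL2 Cfsg.Agent.Lib.Lead.DicksonGen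

variable {F : Type*} [Field F]

local notation "SL2" => Matrix.SpecialLinearGroup (Fin 2) F
local notation "M2" => Matrix (Fin 2) (Fin 2) F

variable {H : Subgroup (Matrix.SpecialLinearGroup (Fin 2) F)}

/-- **Bruhat decomposition** from the index condition -/
theorem bruhat [Finite H] {b : F} (hb : b ≠ 0) (hy : lower b ∈ H)
    (hidx : (BH H).index = Nat.card (PH H) + 1) (g : H) :
    g ∈ BH H ∨ ∃ (u : PH H) (β : BH H), g = (u : H) * ⟨lower b, hy⟩ * (β : H) := by
  classical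
  letI : Fintype H := Fintype.ofFinite H
  letI : Fintype (PH H) := Fintype.ofFinite _
  letI : Fintype (BH H) := Fintype.ofFinite _
  set y : H := ⟨lower b, hy⟩ with hydef
  let φ : (PH H) × (BH H) → H := fun q => (q.1 : H) * y * (q.2 : H)
  have hinj : Function.Injective φ := by
    intro q q' hqq
    have hqq' : (q.1 : H) * y * (q.2 : H) = (q'.1 : H) * y * (q'.2 : H) := hqq
    have h1 : y⁻¹ * ((q'.1 : H)⁻¹ * (q.1 : H)) * y = (q'.2 : H) * (q.2 : H)⁻¹ := by
      calc y⁻¹ * ((q'.1 : H)⁻¹ * (q.1 : H)) * y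
          = y⁻¹ * (q'.1 : H)⁻¹ * ((q.1 : H) * y * (q.2 : H)) * (q.2 : H)⁻¹ := by group
        _ = y⁻¹ * (q'.1 : H)⁻¹ * ((q'.1 : H) * y * (q'.2 : H)) * (q.2 : H)⁻¹ := by rw [hqq']
        _ = (q'.2 : H) * (q.2 : H)⁻¹ := by group
    have hv : (q'.1 : H)⁻¹ * (q.1 : H) ∈ PH H := (PH H).mul_mem ((PH H).inv_mem q'.1.2) q.1.2
    have hw : (q'.2 : H) * (q.2 : H)⁻¹ ∈ BH H := (BH H).mul_mem q'.2.2 ((BH H).inv_mem q.2.2)
    have hv' := mem_PH.mp hv
    rw [mem_Uni_iff_upper] at hv'
    rw [← h1, mem_BH] at hw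
    generalize hvdef : (q'.1 : H)⁻¹ * (q.1 : H) = v at hv' hw h1
    obtain ⟨t, ht⟩ : ∃ t : F, (v : SL2) = upper t := ⟨_, hv'⟩
    have h2 : ((y⁻¹ * v * y : H) : SL2) = lower (-b) * upper t * lower b := by
      rw [Subgroup.coe_mul, Subgroup.coe_mul, Subgroup.coe_inv, ht, ← lower_inv']
    have h3 := conj_lower_10 b t
    rw [← h2, mem_Borel.mp hw] at h3
    have ht0 : t = 0 := by
      have : b ^ 2 * t = 0 := by linear_combination h3
      rcases mul_eq_zero.mp this with h | h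
      · exact absurd ((pow_eq_zero_iff two_ne_zero).mp h) hb
      · exact h
    have hv1 : v = 1 := by
      apply Subtype.ext
      rw [ht, ht0, upper_zero]
      rfl
    have h11 : (q.1 : H) = (q'.1 : H) := by
      have : (q.1 : H) = (q'.1 : H) * ((q'.1 : H)⁻¹ * (q.1 : H)) := by group
      rw [this, hvdef, hv1, mul_one]
    have h22 : (q.2 : H) = (q'.2 : H) := by
      rw [h11] at hqq'
      exact mul_left_cancel hqq'
    exact Prod.ext (Subtype.ext h11) (Subtype.ext h22)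
  -- counting
  let S₁ : Finset H := Finset.univ.filter (fun x => x ∈ BH H)
  let S₂ : Finset H := Finset.univ.image φ
  have hS₁ : S₁.card = Nat.card (BH H) := by
    rw [Nat.card_eq_fintype_card, Fintype.card_subtype]
  have hS₂ : S₂.card = Nat.card (PH H) * Nat.card (BH H) := by
    rw [Finset.card_image_of_injective _ hinj, Finset.card_univ, Fintype.card_prod,
      Nat.card_eq_fintype_card, Nat.card_eq_fintype_card]
  have hynB : (y : SL2) ∉ DicksonSL2.Borel := by
    intro h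
    have : ((lower b : SL2) : M2) 1 0 = 0 := h
    simp at this
    exact hb this
  have hdisj : Disjoint S₁ S₂ := by
    rw [Finset.disjoint_left]
    intro x hx₁ hx₂
    rw [Finset.mem_filter] at hx₁
    obtain ⟨q, -, rfl⟩ := Finset.mem_image.mp hx₂
    apply hynB
    rw [← mem_BH]
    have hu : (q.1 : H) ∈ BH H := by
      rw [mem_BH]; exact Uni_le_Borel (mem_PH.mp q.1.2)
    have : y = (q.1 : H)⁻¹ * ((q.1 : H) * y * (q.2 : H)) * (q.2 : H)⁻¹ := by group
    rw [this]
    exact (BH H).mul_mem ((BH H).mul_mem ((BH H).inv_mem hu) hx₁.2) ((BH H).inv_mem q.2.2)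
  have hcardH : Nat.card H = (Nat.card (PH H) + 1) * Nat.card (BH H) := by
    rw [← hidx, mul_comm]
    exact (Subgroup.card_mul_index _).symm
  have huniv : S₁ ∪ S₂ = Finset.univ := by
    apply Finset.eq_univ_of_card
    rw [Finset.card_union_of_disjoint hdisj, hS₁, hS₂, ← Nat.card_eq_fintype_card, hcardH]
    ring
  have hg : g ∈ S₁ ∪ S₂ := by rw [huniv]; exact Finset.mem_univ _
  rcases Finset.mem_union.mp hg with h | h
  · left
    rw [Finset.mem_filter] at h
    exact h.2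
  · right
    obtain ⟨q, -, hq⟩ := Finset.mem_image.mp h
    exact ⟨q.1, q.2, hq.symm⟩

end Cfsg.Agent.Lib.Lead.DicksonField
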