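import Cfsg.Agent.Lib.Lead.DicksonField

/-!
Subgroups of `SL₂(F)` with `|P| + 1` Sylow `p`-subgroups, `p` odd (lead): the subfield of
parameters and the structure `H = SL₂(K₀) · (H ∩ Diag)`.
-/

set_option autoImplicit false

namespace Cfsg.Agent.Lib.Lead.DicksonField

open Matrix Cfsg.Agent.Lib.Helper9.SL2Upper Cfsg.Agent.Lib.Lead.DicksonBase
  Cfsg.Agent.Lib.Helper15.TwoByTwo Cfsg.Agent.Lib.Lead.SL2Scalar Cfsg.Agent.Lib.Lead.DicksonCA
  Cfsg.Agent.Lib.Lead.DicksonSL2 Cfsg.Agent.Lib.Lead.DicksonGen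

variable {F : Type*} [Field F]

local notation "SL2" => Matrix.SpecialLinearGroup (Fin 2) F
local notation "M2" => Matrix (Fin 2) (Fin 2) F

variable {H : Subgroup (Matrix.SpecialLinearGroup (Fin 2) F)}

/-- the Weyl element attached to `b` -/
def Wb (b : F) : SL2 := upper (-b⁻¹) * lower b * upper (-b⁻¹)

theorem Wb_coe (b : F) (hb : b ≠ 0) : ((Wb b : SL2) : M2) = !![0, -b⁻¹; b, 0] := by
  ext i j
  fin_cases i <;> fin_cases j <;>
    simp [Wb, Matrix.SpecialLinearGroup.coe_mul, Matrix.mul_apply, Fin.sum_univ_two, hb]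

theorem Wb_inv_coe (b : F) (hb : b ≠ 0) : (((Wb b : SL2)⁻¹ : SL2) : M2) = !![0, b⁻¹; -b, 0] := by
  ext i j
  fin_cases i <;> fin_cases j
  · show ((_ : SL2) : M2) 0 0 = _
    rw [inv_00, Wb_coe b hb]; simp
  · show ((_ : SL2) : M2) 0 1 = _
    rw [inv_01, Wb_coe b hb]; simp
  · show ((_ : SL2) : M2) 1 0 = _
    rw [inv_10, Wb_coe b hb]; simp
  · show ((_ : SL2) : M2) 1 1 = _
    rw [inv_11, Wb_coe b hb]; simp

theorem lower_eq_conj_Wb (b : F) (hb : b ≠ 0) (t : F) :
    (lower (-(b ^ 2 * t)) : SL2) = (Wb b)⁻¹ * upper t * Wb b := by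
  apply Subtype.ext
  rw [Matrix.SpecialLinearGroup.coe_mul, Matrix.SpecialLinearGroup.coe_mul, Wb_inv_coe b hb,
    Wb_coe b hb]
  ext i j
  fin_cases i <;> fin_cases j <;> simp [Matrix.mul_apply, Fin.sum_univ_two, hb] <;> ring

variable (p : ℕ) [hp : Fact p.Prime] [CharP F p]

/-- from `upper 1` and some `lower b` to `lower 1` -/
theorem lower_one_mem_of_index [Finite H] (hp2 : p ≠ 2) {b : F} (hb : b ≠ 0)
    (h1 : upper 1 ∈ H) (hy : lower b ∈ H) (hidx : (BH H).index = Nat.card (PH H) + 1) :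
    lower 1 ∈ H := by
  have hhalf := half_mul (F := F) p hp2
  set n := (p + 1) / 2 with hn
  have hnsmul : ∀ (a : F) (k : ℕ), upper a ∈ H → upper ((k : F) * a) ∈ H := by
    intro a k ha
    rw [← upper_pow]; exact H.pow_mem ha k
  have hhalf' : ∀ a : F, upper (2 * a) ∈ H → upper a ∈ H := by
    intro a ha
    have := hnsmul _ n ha
    rwa [← mul_assoc, hhalf, one_mul] at this
  have hneg : ∀ a : F, upper a ∈ H → upper (-a) ∈ H := by
    intro a ha
    rw [← upper_inv]; exact H.inv_mem ha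
  obtain ⟨s, hs, hsb⟩ := exists_upper_of_index (H := H) hb hy hidx
  have hs' : s = 2 * (-b⁻¹) := by
    field_simp
    linear_combination hsb
  rw [hs'] at hs
  have hub : upper (-b⁻¹) ∈ H := hhalf' _ hs
  have hW : Wb b ∈ H := H.mul_mem (H.mul_mem hub hy) hub
  have hl2 : lower (-(b ^ 2 * 1)) ∈ H := by
    rw [lower_eq_conj_Wb b hb]
    exact H.mul_mem (H.mul_mem (H.inv_mem hW) h1) hW
  have hb2 : -(b ^ 2 * 1) ≠ 0 := by
    rw [mul_one]
    exact neg_ne_zero.mpr (pow_ne_zero 2 hb)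
  obtain ⟨s₂, hs₂, hsb₂⟩ := exists_upper_of_index (H := H) hb2 hl2 hidx
  have hs₂' : s₂ = 2 * (b ^ 2)⁻¹ := by
    field_simp
    linear_combination -hsb₂
  rw [hs₂'] at hs₂
  have hu2 : upper ((b ^ 2)⁻¹) ∈ H := hhalf' _ hs₂
  have hl3 : lower (-(b ^ 2 * (b ^ 2)⁻¹)) ∈ H := by
    rw [lower_eq_conj_Wb b hb]
    exact H.mul_mem (H.mul_mem (H.inv_mem hW) hu2) hW
  rw [mul_inv_cancel₀ (pow_ne_zero 2 hb)] at hl3
  have := H.inv_mem hl3
  rwa [lower_inv', neg_neg] at this

/-- the parameters of the upper unitriangular elements form a subfield -/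
theorem exists_subfield [Finite H] (hp2 : p ≠ 2) (hl : lower 1 ∈ H)
    (hidx : (BH H).index = Nat.card (PH H) + 1) :
    ∃ K : Subfield F, (∀ t : F, upper t ∈ H ↔ t ∈ K) ∧ (∀ t : F, lower t ∈ H ↔ t ∈ K) := by
  have hhalf := half_mul (F := F) p hp2
  set n := (p + 1) / 2 with hn
  have hadd : ∀ a b : F, upper a ∈ H → upper b ∈ H → upper (a + b) ∈ H := by
    intro a b ha hb
    rw [← upper_mul]; exact H.mul_mem ha hb
  have hneg : ∀ a : F, upper a ∈ H → upper (-a) ∈ H := by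
    intro a ha
    rw [← upper_inv]; exact H.inv_mem ha
  have hsub : ∀ a b : F, upper a ∈ H → upper b ∈ H → upper (a - b) ∈ H := by
    intro a b ha hb
    rw [sub_eq_add_neg]; exact hadd _ _ ha (hneg _ hb)
  have hnsmul : ∀ (a : F) (k : ℕ), upper a ∈ H → upper ((k : F) * a) ∈ H := by
    intro a k ha
    rw [← upper_pow]; exact H.pow_mem ha k
  have hhalf' : ∀ a : F, upper (2 * a) ∈ H → upper a ∈ H := by
    intro a ha
    have := hnsmul _ n ha
    rwa [← mul_assoc, hhalf, one_mul] at this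
  -- upper 1 ∈ H
  have h1 : upper (1 : F) ∈ H := by
    obtain ⟨s, hs, hsb⟩ := exists_upper_of_index (H := H) (one_ne_zero) hl hidx
    rw [mul_one] at hsb
    rw [hsb] at hs
    have h2 : upper (2 : F) ∈ H := by
      have := hneg _ hs
      rwa [neg_neg] at this
    apply hhalf'
    rwa [mul_one]
  have hW : (W : SL2) ∈ H := W_mem h1 hl
  have hlow : ∀ t : F, upper t ∈ H → lower (-t) ∈ H := by
    intro t ht
    rw [lower_eq_conj]
    exact H.mul_mem (H.mul_mem (H.inv_mem hW) ht) hW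
  have hinv : ∀ t : F, upper t ∈ H → upper t⁻¹ ∈ H := by
    intro t ht
    by_cases ht0 : t = 0
    · rw [ht0, _root_.inv_zero, upper_zero]; exact H.one_mem
    · obtain ⟨s, hs, hsb⟩ := exists_upper_of_index (H := H) (neg_ne_zero.mpr ht0) (hlow t ht) hidx
      have hs' : s = 2 * t⁻¹ := by
        field_simp
        linear_combination -hsb
      rw [hs'] at hs
      exact hhalf' _ hs
  have hsq : ∀ a : F, upper a ∈ H → upper (a * a) ∈ H := by
    intro a ha
    by_cases ha0 : a = 0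
    · rw [ha0, mul_zero, upper_zero]; exact H.one_mem
    by_cases ha1 : a = 1
    · rw [ha1, mul_one]; exact h1
    have ha1' : a - 1 ≠ 0 := sub_ne_zero.mpr ha1
    have h3 : upper ((a - 1)⁻¹ - a⁻¹) ∈ H := hsub _ _ (hinv _ (hsub _ _ ha h1)) (hinv _ ha)
    have h4 := hinv _ h3
    have h5 : ((a - 1)⁻¹ - a⁻¹)⁻¹ = a * a - a := by
      have : (a - 1)⁻¹ - a⁻¹ = (a * (a - 1))⁻¹ := by
        field_simp
        ring
      rw [this, inv_inv]; ring
    rw [h5] at h4
    have := hadd _ _ h4 ha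
    rwa [sub_add_cancel] at this
  have hmul : ∀ a b : F, upper a ∈ H → upper b ∈ H → upper (a * b) ∈ H := by
    intro a b ha hb
    apply hhalf'
    have h3 := hsub _ _ (hsub _ _ (hsq _ (hadd _ _ ha hb)) (hsq _ ha)) (hsq _ hb)
    have h4 : (a + b) * (a + b) - a * a - b * b = 2 * (a * b) := by ring
    rwa [h4] at h3
  let K : Subfield F :=
    { carrier := {t | upper t ∈ H}
      mul_mem' := fun {a b} ha hb => hmul a b ha hb
      one_mem' := h1
      add_mem' := fun {a b} ha hb => hadd a b ha hb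
      zero_mem' := by
        show upper (0 : F) ∈ H
        rw [upper_zero]; exact H.one_mem
      neg_mem' := fun {a} ha => hneg a ha
      inv_mem' := fun a ha => hinv a ha }
  refine ⟨K, fun t => Iff.rfl, fun t => ?_⟩
  constructor
  · intro ht
    have h3 : upper (-t) ∈ H := by
      rw [upper_eq_conj, neg_neg]
      exact H.mul_mem (H.mul_mem hW ht) (H.inv_mem hW)
    have := hneg _ h3
    rwa [neg_neg] at this
  · intro ht
    have := hlow (-t) (hneg t ht)
    rwa [neg_neg] at this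

end Cfsg.Agent.Lib.Lead.DicksonField
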