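import Cfsg.Agent.Lib.Lead.DicksonField2

/-!
Subgroups of `SL₂(F)` with `|P| + 1` Sylow `p`-subgroups, `p` odd (lead): the structure
`H = SL₂(K₀) · (H ∩ Diag)`.
-/

set_option autoImplicit false

namespace Cfsg.Agent.Lib.Lead.DicksonField

open Matrix Cfsg.Agent.Lib.Helper9.SL2Upper Cfsg.Agent.Lib.Lead.DicksonBase
  Cfsg.Agent.Lib.Helper15.TwoByTwo Cfsg.Agent.Lib.Lead.SL2Scalar Cfsg.Agent.Lib.Lead.DicksonCA
  Cfsg.Agent.Lib.Lead.DicksonSL2 Cfsg.Agent.Lib.Lead.DicksonGen

variable {F : Type*} [Field F]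

local notation "SL2" => Matrix.SpecialLinearGroup (Fin 2) F
local notation "M2" => Matrix (Fin 2) (Fin 2) F

variable {H : Subgroup (Matrix.SpecialLinearGroup (Fin 2) F)}

/-- the image of `SL₂(K)` for a subfield `K` -/
def SLK (K : Subfield F) : Subgroup (Matrix.SpecialLinearGroup (Fin 2) F) :=
  (Matrix.SpecialLinearGroup.map (K.subtype : K →+* F)).range

theorem upper_mem_SLK (K : Subfield F) {t : F} (ht : t ∈ K) : (upper t : SL2) ∈ SLK K :=
  ⟨upper ⟨t, ht⟩, by rw [map_upper]; rfl⟩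

theorem lower_mem_SLK (K : Subfield F) {t : F} (ht : t ∈ K) : (lower t : SL2) ∈ SLK K :=
  ⟨lower ⟨t, ht⟩, by rw [map_lower]; rfl⟩

/-- `SL₂(K) ≤ H` as soon as the elementary matrices over `K` are in `H` -/
theorem SLK_le (K : Subfield F) (hu : ∀ t ∈ K, upper t ∈ H) (hl : ∀ t ∈ K, lower t ∈ H) :
    SLK K ≤ H := by
  rintro _ ⟨x, rfl⟩
  have : x ∈ H.comap (Matrix.SpecialLinearGroup.map (K.subtype : K →+* F)) := by
    apply mem_of_upper_lower
    · intro t
      rw [Subgroup.mem_comap, map_upper]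
      exact hu _ t.2
    · intro t
      rw [Subgroup.mem_comap, map_lower]
      exact hl _ t.2
  exact this

/-- the diagonal matrix `diag(a, a⁻¹)` -/
def dg (a : Fˣ) : SL2 :=
  ⟨!![(a : F), 0; 0, ((a⁻¹ : Fˣ) : F)], by simp [Matrix.det_fin_two]⟩

@[simp] theorem dg_coe (a : Fˣ) : ((dg a : SL2) : M2) = !![(a : F), 0; 0, ((a⁻¹ : Fˣ) : F)] := rfl

/-- a Borel element is `upper (a c) * diag(a, a⁻¹)` -/
theorem borel_eq {g : SL2} (hg : g ∈ DicksonSL2.Borel) :
    ∃ a : Fˣ, (a : F) = (g : M2) 0 0 ∧ g = upper ((g : M2) 0 0 * (g : M2) 0 1) * dg a := by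
  have hd := det_Borel hg
  have h10 := mem_Borel.mp hg
  have ha0 : (g : M2) 0 0 ≠ 0 := left_ne_zero_of_mul_eq_one hd
  refine ⟨Units.mk0 _ ha0, rfl, ?_⟩
  have hinv : ((Units.mk0 _ ha0)⁻¹ : Fˣ) = Units.mk0 ((g : M2) 1 1)
      (right_ne_zero_of_mul_eq_one hd) := by
    rw [inv_eq_iff_mul_eq_one]
    ext
    simp only [Units.val_mul, Units.val_mk0, Units.val_one]
    linear_combination hd
  apply sl_ext
  · simp [mul_00]
  · rw [mul_01]
    simp only [upper_coe, dg_coe, hinv, Units.val_mk0, Matrix.of_apply, Matrix.cons_val',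
      Matrix.cons_val_zero, Matrix.cons_val_one, Matrix.cons_val_fin_one]
    linear_combination (-(g : M2) 0 1) * hd
  · rw [mul_10]
    simp [h10]
  · rw [mul_11]
    simp [hinv]

variable (p : ℕ) [hp : Fact p.Prime] [CharP F p]

/-- **Structure theorem** for `|P| + 1` Sylow subgroups, `p` odd, in standard position. -/
theorem structure_of_index [Finite H] (hp2 : p ≠ 2) {b : F} (hb : b ≠ 0)
    (h1 : upper 1 ∈ H) (hy : lower b ∈ H) (hidx : (BH H).index = Nat.card (PH H) + 1) :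
    ∃ K : Subfield F, (∀ t : F, upper t ∈ H ↔ t ∈ K) ∧ (∀ t : F, lower t ∈ H ↔ t ∈ K) ∧
      SLK K ≤ H ∧
      ∀ g ∈ H, ∃ s ∈ SLK K, ∃ a : Fˣ, (a : F) ^ 2 ∈ K ∧ dg a ∈ H ∧ g = s * dg a := by
  have hl1 := lower_one_mem_of_index p hp2 hb h1 hy hidx
  obtain ⟨K, hKu, hKl⟩ := exists_subfield p hp2 hl1 hidx
  have hle : SLK K ≤ H := SLK_le K (fun t ht => (hKu t).mpr ht) (fun t ht => (hKl t).mpr ht)
  refine ⟨K, hKu, hKl, hle, ?_⟩
  -- Borel elements
  have hB : ∀ g ∈ H, g ∈ DicksonSL2.Borel →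
      ∃ s ∈ SLK K, ∃ a : Fˣ, (a : F) ^ 2 ∈ K ∧ dg a ∈ H ∧ g = s * dg a := by
    intro g hgH hgB
    obtain ⟨a, ha, hga⟩ := borel_eq hgB
    -- a² ∈ K
    have ha2 : (a : F) ^ 2 ∈ K := by
      rw [← hKu]
      have := conj_upper_of_Borel hgB 1
      rw [mul_one, ← ha] at this
      rw [← this]
      exact H.mul_mem (H.mul_mem hgH h1) (H.inv_mem hgH)
    -- a c ∈ K via the Bruhat decomposition of g * lower 1
    have hgy : g * lower 1 ∈ H := H.mul_mem hgH hl1
    have hac : (g : M2) 0 0 * (g : M2) 0 1 ∈ K := by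
      rcases bruhat (one_ne_zero) hl1 hidx ⟨g * lower 1, hgy⟩ with hin | ⟨u, β, hu⟩
      · exfalso
        rw [mem_BH] at hin
        have h2 : lower (1 : F) ∈ DicksonSL2.Borel := by
          have : (lower 1 : SL2) = g⁻¹ * (g * lower 1) := by group
          rw [this]
          exact DicksonSL2.Borel.mul_mem (DicksonSL2.Borel.inv_mem hgB) hin
        have : ((lower 1 : SL2) : M2) 1 0 = 0 := h2
        simp at this
      · have hu' := congrArg (fun x : H => (x : SL2)) hu
        simp only [Subgroup.coe_mul] at hu'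
        have huU := mem_PH.mp u.2
        rw [mem_Uni_iff_upper] at huU
        obtain ⟨t, ht⟩ : ∃ t : F, ((u : H) : SL2) = upper t := ⟨_, huU⟩
        have htK : t ∈ K := by
          rw [← hKu, ← ht]; exact (u : H).2
        have hβ := mem_Borel.mp (mem_BH.mp β.2)
        rw [ht] at hu'
        have e00 := congrArg (fun x : SL2 => (x : M2) 0 0) hu'
        have e10 := congrArg (fun x : SL2 => (x : M2) 1 0) hu'
        simp only [mul_10, mul_11, mul_00, mul_01, lower_coe, upper_coe, Matrix.of_apply,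
          Matrix.cons_val', Matrix.cons_val_zero, Matrix.cons_val_one, Matrix.cons_val_fin_one,
          hβ, mem_Borel.mp hgB] at e00 e10
        -- e00 : g00 + g01 = (1 + t) * β00 ; e10 : g11 = β00
        have hd := det_Borel hgB
        have hkey : (g : M2) 0 0 * (g : M2) 0 1 = (1 + t) - (g : M2) 0 0 ^ 2 := by
          have e10' : (g : M2) 1 1 = ((β : H) : SL2).1 0 0 := by linear_combination e10
          have e00' : (g : M2) 0 0 + (g : M2) 0 1 = (1 + t) * ((β : H) : SL2).1 0 0 := by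
            linear_combination e00
          rw [← e10'] at e00'
          linear_combination (g : M2) 0 0 * e00' + (1 + t) * hd
        rw [hkey, ← ha]
        exact K.sub_mem (K.add_mem K.one_mem htK) ha2
    have hus : upper ((g : M2) 0 0 * (g : M2) 0 1) ∈ SLK K := upper_mem_SLK K hac
    refine ⟨_, hus, a, ha2, ?_, hga⟩
    have : dg a = (upper ((g : M2) 0 0 * (g : M2) 0 1))⁻¹ * g := by
      rw [eq_inv_mul_iff_mul_eq]; exact hga.symm
    rw [this]
    exact H.mul_mem (H.inv_mem (hle hus)) hgH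
  intro g hgH
  rcases bruhat (one_ne_zero) hl1 hidx ⟨g, hgH⟩ with hin | ⟨u, β, hu⟩
  · exact hB g hgH (mem_BH.mp hin)
  · have hu' := congrArg (fun x : H => (x : SL2)) hu
    simp only [Subgroup.coe_mul] at hu'
    obtain ⟨s, hs, a, ha2, hda, hβa⟩ := hB _ (β : H).2 (mem_BH.mp β.2)
    have huU := mem_PH.mp u.2
    rw [mem_Uni_iff_upper] at huU
    obtain ⟨t, ht⟩ : ∃ t : F, ((u : H) : SL2) = upper t := ⟨_, huU⟩
    have htK : t ∈ K := by
      rw [← hKu, ← ht]; exact (u : H).2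
    refine ⟨upper t * lower 1 * s, ?_, a, ha2, hda, ?_⟩
    · exact (SLK K).mul_mem ((SLK K).mul_mem (upper_mem_SLK K htK) (lower_mem_SLK K K.one_mem)) hs
    · have : g = upper t * lower 1 * ((β : H) : SL2) := by rw [← ht]; exact hu'
      rw [this, hβa]
      group

end Cfsg.Agent.Lib.Lead.DicksonField
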