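import Cfsg.Agent.Lib.Lead.DicksonField3

/-!
Subgroups of `SL₂(F)` with `|P| + 1` Sylow `p`-subgroups, every characteristic (lead): a fixed
point argument replaces the halving used for `p` odd.
-/

set_option autoImplicit false

namespace Cfsg.Agent.Lib.Lead.DicksonField

open Matrix Cfsg.Agent.Lib.Helper9.SL2Upper Cfsg.Agent.Lib.Lead.DicksonBase
  Cfsg.Agent.Lib.Helper15.TwoByTwo Cfsg.Agent.Lib.Lead.SL2Scalar Cfsg.Agent.Lib.Lead.DicksonCA
  Cfsg.Agent.Lib.Lead.DicksonSL2 Cfsg.Agent.Lib.Lead.DicksonGen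

variable {F : Type*} [Field F]

local notation "SL2" => Matrix.SpecialLinearGroup (Fin 2) F
local notation "M2" => Matrix (Fin 2) (Fin 2) F

variable {H : Subgroup (Matrix.SpecialLinearGroup (Fin 2) F)}

/-- the `(1,0)` entry of `h⁻¹ * lower b * h` -/
theorem conj_lower_entry (b : F) (h : SL2) :
    ((h⁻¹ * (lower b * h) : SL2) : M2) 1 0 = b * (h : M2) 0 0 ^ 2 := by
  rw [mul_10, inv_10, inv_11, mul_00, mul_10]
  simp only [lower_coe, Matrix.of_apply, Matrix.cons_val', Matrix.cons_val_zero,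
    Matrix.cons_val_one, Matrix.cons_val_fin_one]
  ring

/-- characteristic-free: some element of `H` sends `e₁` into `⟨e₂⟩` -/
theorem exists_zero_entry_of_index (p : ℕ) [hp : Fact p.Prime] [CharP F p] [Finite H] {b c : F} (hc : c ≠ 0)
    (hu : upper c ∈ H) (hb : b ≠ 0) (hy : lower b ∈ H)
    (hidx : (BH H).index = Nat.card (PH H) + 1) :
    ∃ h ∈ H, (h : M2) 0 0 = 0 := by
  classical
  set y : H := ⟨lower b, hy⟩ with hydef
  have hyp : y ^ p = 1 := by
    apply Subtype.ext
    rw [Subgroup.coe_pow]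
    exact lower_pow_char p b
  have hZ : IsPGroup p (Subgroup.zpowers y) := by
    intro g
    obtain ⟨k, hk⟩ := Subgroup.mem_zpowers_iff.mp g.2
    refine ⟨1, ?_⟩
    apply Subtype.ext
    rw [Subgroup.coe_pow, pow_one, ← hk, ← zpow_natCast, ← _root_.zpow_mul, mul_comm, _root_.zpow_mul,
      zpow_natCast, hyp, _root_.one_zpow]
    rfl
  have hPdvd : p ∣ Nat.card (PH H) := by
    rcases (PH_isPGroup (H := H) p).card_eq_or_dvd with h1 | h1
    · exfalso
      have hbot : PH H = ⊥ := Subgroup.card_eq_one.mp h1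
      have hmem : (⟨upper c, hu⟩ : H) ∈ PH H := by
        rw [mem_PH, mem_Uni_iff_upper]
        simp
      rw [hbot, Subgroup.mem_bot] at hmem
      have : (upper c : SL2) = 1 := congrArg Subtype.val hmem
      exact hc ((upper_eq_one_iff c).mp this)
    · exact h1
  have hnd : ¬ p ∣ Nat.card (H ⧸ BH H) := by
    rw [← Subgroup.index_eq_card, hidx]
    intro hd
    have : p ∣ 1 := (Nat.dvd_add_right hPdvd).mp hd
    exact hp.out.one_lt.ne' (Nat.dvd_one.mp this)
  obtain ⟨q, hq⟩ := hZ.nonempty_fixed_point_of_prime_not_dvd_card (H ⧸ BH H) hnd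
  induction q using QuotientGroup.induction_on with
  | H h =>
    have hfix := hq ⟨y, Subgroup.mem_zpowers y⟩
    have hfix' : ((y * h : H) : H ⧸ BH H) = (h : H ⧸ BH H) := hfix
    rw [eq_comm, QuotientGroup.eq, mem_BH, mem_Borel] at hfix'
    refine ⟨(h : SL2), h.2, ?_⟩
    have hent := conj_lower_entry b (h : SL2)
    have hcoe : ((h⁻¹ * (y * h) : H) : SL2) = (h : SL2)⁻¹ * (lower b * (h : SL2)) := by
      simp [hydef]
    rw [hcoe] at hfix'
    rw [hfix'] at hent
    rcases mul_eq_zero.mp hent.symm with h0 | h0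
    · exact absurd h0 hb
    · exact (pow_eq_zero_iff two_ne_zero).mp h0

/-- characteristic-free version of `exists_upper_of_index` -/
theorem upper_neg_inv_mem_of_index (p : ℕ) [hp : Fact p.Prime] [CharP F p] [Finite H] {b c : F} (hc : c ≠ 0)
    (hu : upper c ∈ H) (hb : b ≠ 0) (hy : lower b ∈ H)
    (hidx : (BH H).index = Nat.card (PH H) + 1) :
    upper (-b⁻¹) ∈ H := by
  obtain ⟨h, hhH, hh0⟩ := exists_zero_entry_of_index p hc hu hb hy hidx
  rcases bruhat hb hy hidx ⟨h, hhH⟩ with hin | ⟨u, β, hu'⟩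
  · exfalso
    rw [mem_BH, mem_Borel] at hin
    have hd := det_eq h
    simp only at hin
    rw [hh0, hin] at hd
    simp at hd
  · have hu'' := congrArg (fun x : H => (x : SL2)) hu'
    simp only [Subgroup.coe_mul] at hu''
    have huU := mem_PH.mp u.2
    rw [mem_Uni_iff_upper] at huU
    obtain ⟨s, hs⟩ : ∃ s : F, ((u : H) : SL2) = upper s := ⟨_, huU⟩
    have hsH : upper s ∈ H := by rw [← hs]; exact (u : H).2
    have hβ := mem_Borel.mp (mem_BH.mp β.2)
    rw [hs] at hu''
    have e00 := congrArg (fun x : SL2 => (x : M2) 0 0) hu''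
    simp only [mul_10, mul_11, mul_00, mul_01, lower_coe, upper_coe, Matrix.of_apply,
      Matrix.cons_val', Matrix.cons_val_zero, Matrix.cons_val_one, Matrix.cons_val_fin_one,
      hβ, hh0] at e00
    have hβ0 : ((β : H) : SL2).1 0 0 ≠ 0 := left_ne_zero_of_mul_eq_one (det_Borel (mem_BH.mp β.2))
    have hsb : 1 + s * b = 0 := by
      have : (1 + s * b) * ((β : H) : SL2).1 0 0 = 0 := by linear_combination -e00
      rcases mul_eq_zero.mp this with h' | h'
      · exact h'
      · exact absurd h' hβ0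
    have hs' : s = -b⁻¹ := by
      field_simp
      linear_combination hsb
    rwa [hs'] at hsH

end Cfsg.Agent.Lib.Lead.DicksonField
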