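import Cfsg.Agent.Lib.Lead.DicksonGenA

/-!
Dickson's generation theorem, part B (lead): for `lam ^ 2 = -1` in characteristic `3`, the matrices
`lower 1`, `upper lam` preserve a binary form of degree `12` that `upper 1` does not preserve; so they
generate a proper subgroup.
-/

set_option autoImplicit false
set_option maxHeartbeats 1000000

namespace Cfsg.Agent.Lib.Lead.DicksonGen

open Matrix Cfsg.Agent.Lib.Helper9.SL2Upper Cfsg.Agent.Lib.Lead.DicksonBase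
  Cfsg.Agent.Lib.Lead.DicksonSL2

variable {F : Type*} [Field F]

local notation "SL2" => Matrix.SpecialLinearGroup (Fin 2) F
local notation "M2" => Matrix (Fin 2) (Fin 2) F

/-- the invariant of degree `12` -/
def fpoly (a b : F) : F := b ^ 12 - a ^ 2 * b ^ 10 + a ^ 6 * b ^ 6 - a ^ 10 * b ^ 2 - a ^ 12

theorem fpoly_lower (h3 : (3 : F) = 0) (a b : F) : fpoly a (a + b) = fpoly a b := by
  unfold fpoly
  linear_combination (4 * a ^ 1 * b ^ 11 + 22 * a ^ 2 * b ^ 10 + 70 * a ^ 3 * b ^ 9 + 150 * a ^ 4 * b ^ 8 + 224 * a ^ 5 * b ^ 7 + 238 * a ^ 6 * b ^ 6 + 182 * a ^ 7 * b ^ 5 + 100 * a ^ 8 * b ^ 4 + 40 * a ^ 9 * b ^ 3 + 12 * a ^ 10 * b ^ 2 + 2 * a ^ 11 * b ^ 1) * h3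

theorem fpoly_upper (h3 : (3 : F) = 0) (lam : F) (hlam : lam ^ 2 = -1) (a b : F) :
    fpoly (a + lam * b) b = fpoly a b := by
  unfold fpoly
  linear_combination ((-1) * b ^ 12 * lam ^ 2 + 1 * b ^ 12 * lam ^ 4 + (-1) * b ^ 12 * lam ^ 10 + (-8) * a ^ 1 * b ^ 11 * lam ^ 1 + 8 * a ^ 1 * b ^ 11 * lam ^ 3 + (-2) * a ^ 1 * b ^ 11 * lam ^ 5 + 2 * a ^ 1 * b ^ 11 * lam ^ 7 + (-12) * a ^ 1 * b ^ 11 * lam ^ 9 + (-36) * a ^ 2 * b ^ 10 + 36 * a ^ 2 * b ^ 10 * lam ^ 2 + (-21) * a ^ 2 * b ^ 10 * lam ^ 4 + 21 * a ^ 2 * b ^ 10 * lam ^ 6 + (-66) * a ^ 2 * b ^ 10 * lam ^ 8 + 120 * a ^ 3 * b ^ 9 * lam ^ 1 + (-100) * a ^ 3 * b ^ 9 * lam ^ 3 + 100 * a ^ 3 * b ^ 9 * lam ^ 5 + (-220) * a ^ 3 * b ^ 9 * lam ^ 7 + 300 * a ^ 4 * b ^ 8 + (-285) * a ^ 4 * b ^ 8 * lam ^ 2 + 285 * a ^ 4 * b ^ 8 * lam ^ 4 + (-495) * a ^ 4 * b ^ 8 * lam ^ 6 + (-540) * a ^ 5 * b ^ 7 * lam ^ 1 + 540 * a ^ 5 *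 b ^ 7 * lam ^ 3 + (-792) * a ^ 5 * b ^ 7 * lam ^ 5 + (-714) * a ^ 6 * b ^ 6 + 714 * a ^ 6 * b ^ 6 * lam ^ 2 + (-924) * a ^ 6 * b ^ 6 * lam ^ 4 + 672 * a ^ 7 * b ^ 5 * lam ^ 1 + (-792) * a ^ 7 * b ^ 5 * lam ^ 3 + 450 * a ^ 8 * b ^ 4 + (-495) * a ^ 8 * b ^ 4 * lam ^ 2 + (-220) * a ^ 9 * b ^ 3 * lam ^ 1 + (-66) * a ^ 10 * b ^ 2) * hlam + (2 * a ^ 1 * b ^ 11 * lam ^ 1 + 12 * a ^ 2 * b ^ 10 + (-40) * a ^ 3 * b ^ 9 * lam ^ 1 + (-100) * a ^ 4 * b ^ 8 + 182 * a ^ 5 * b ^ 7 * lam ^ 1 + 238 * a ^ 6 * b ^ 6 + (-224) * a ^ 7 * b ^ 5 * lam ^ 1 + (-150) * a ^ 8 * b ^ 4 + 70 * a ^ 9 * b ^ 3 * lam ^ 1 + 22 * a ^ 10 * b ^ 2 + (-4) * a ^ 11 * b ^ 1 * lam ^ 1) * h3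

/-- the stabilizer of the form -/
def stabF : Subgroup (Matrix.SpecialLinearGroup (Fin 2) F) where
  carrier := {g | ∀ a b : F, fpoly ((g : M2) 0 0 * a + (g : M2) 0 1 * b)
    ((g : M2) 1 0 * a + (g : M2) 1 1 * b) = fpoly a b}
  one_mem' := by
    intro a b
    simp
  mul_mem' := by
    intro g h hg hh a b
    have h1 := hg ((h : M2) 0 0 * a + (h : M2) 0 1 * b) ((h : M2) 1 0 * a + (h : M2) 1 1 * b)
    rw [hh a b] at h1
    rw [← h1, mul_00, mul_01, mul_10, mul_11]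
    congr 1 <;> ring
  inv_mem' := by
    intro g hg a b
    have h1 := hg ((g : M2) 1 1 * a - (g : M2) 0 1 * b) (-(g : M2) 1 0 * a + (g : M2) 0 0 * b)
    have hd := det_eq g
    have e1 : (g : M2) 0 0 * ((g : M2) 1 1 * a - (g : M2) 0 1 * b) +
        (g : M2) 0 1 * (-(g : M2) 1 0 * a + (g : M2) 0 0 * b) = a := by
      linear_combination a * hd
    have e2 : (g : M2) 1 0 * ((g : M2) 1 1 * a - (g : M2) 0 1 * b) +
        (g : M2) 1 1 * (-(g : M2) 1 0 * a + (g : M2) 0 0 * b) = b := by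
      linear_combination b * hd
    rw [e1, e2] at h1
    rw [inv_00, inv_01, inv_10, inv_11, h1]
    congr 1 <;> ring

theorem mem_stabF {g : SL2} : g ∈ (stabF : Subgroup SL2) ↔
    ∀ a b : F, fpoly ((g : M2) 0 0 * a + (g : M2) 0 1 * b)
      ((g : M2) 1 0 * a + (g : M2) 1 1 * b) = fpoly a b := Iff.rfl

theorem lower_mem_stabF (h3 : (3 : F) = 0) : (lower 1 : SL2) ∈ (stabF : Subgroup SL2) := by
  rw [mem_stabF]
  intro a b
  have := fpoly_lower h3 a b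
  simpa using this

theorem upper_mem_stabF (h3 : (3 : F) = 0) (lam : F) (hlam : lam ^ 2 = -1) :
    (upper lam : SL2) ∈ (stabF : Subgroup SL2) := by
  rw [mem_stabF]
  intro a b
  have := fpoly_upper h3 lam hlam a b
  simpa using this

theorem upper_one_not_mem_stabF (h2 : (2 : F) ≠ 0) : (upper 1 : SL2) ∉ (stabF : Subgroup SL2) := by
  intro h
  rw [mem_stabF] at h
  have := h 0 1
  simp [fpoly] at this
  apply h2
  linear_combination -this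

/-- the exceptional pair generates a proper subgroup -/
theorem closure_ne_top (h2 : (2 : F) ≠ 0) (h3 : (3 : F) = 0) (lam : F) (hlam : lam ^ 2 = -1) :
    Subgroup.closure {(lower 1 : SL2), upper lam} ≠ ⊤ := by
  intro htop
  have hle : Subgroup.closure {(lower 1 : SL2), upper lam} ≤ stabF := by
    rw [Subgroup.closure_le]
    intro z hz
    rcases hz with rfl | rfl
    · exact lower_mem_stabF h3
    · exact upper_mem_stabF h3 lam hlam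
  rw [htop] at hle
  exact upper_one_not_mem_stabF h2 (hle (Subgroup.mem_top _))

end Cfsg.Agent.Lib.Lead.DicksonGen
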