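import Cfsg.Agent.Lib.Lead.DicksonGenB

/-!
Dickson's generation theorem, part C (lead): the field of nine elements, the centre in the
exceptional case, and the theorem.
-/

set_option autoImplicit false

namespace Cfsg.Agent.Lib.Lead.DicksonGen

open Matrix Polynomial Cfsg.Agent.Lib.Helper9.SL2Upper Cfsg.Agent.Lib.Lead.DicksonBase
  Cfsg.Agent.Lib.Helper15.TwoByTwo Cfsg.Agent.Lib.Lead.SL2Scalar Cfsg.Agent.Lib.Lead.DicksonCA
  Cfsg.Agent.Lib.Lead.DicksonSL2

variable {F : Type*} [Field F]

local notation "SL2" => Matrix.SpecialLinearGroup (Fin 2) F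
local notation "M2" => Matrix (Fin 2) (Fin 2) F

theorem card_eq_nine [Fintype F] (h2 : (2 : F) ≠ 0) (h3 : (3 : F) = 0) (lam : F)
    (hlam : lam ^ 2 = -1) (hgen : Subfield.closure ({lam} : Set F) = ⊤) : Fintype.card F = 9 := by
  have hchar : ringChar F = 3 :=
    CharP.ringChar_of_prime_eq_zero Nat.prime_three (by exact_mod_cast h3)
  haveI : CharP F 3 := hchar ▸ ringChar.charP F
  haveI : Fact (Nat.Prime 3) := ⟨Nat.prime_three⟩
  let φ : F →+* F := (frobenius F 3).comp (frobenius F 3)
  have hφ : ∀ z : F, φ z = (z ^ 3) ^ 3 := fun z => rfl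
  let A : Subfield F := φ.eqLocusField (RingHom.id F)
  have hmemA : ∀ z : F, z ∈ A ↔ (z ^ 3) ^ 3 = z := by
    intro z
    show φ z = RingHom.id F z ↔ _
    rw [hφ]; rfl
  have hlamA : lam ∈ A := by
    rw [hmemA]
    have : (lam ^ 3) ^ 3 = lam * (lam ^ 2) ^ 4 := by ring
    rw [this, hlam]; ring
  have hA : A = ⊤ := by
    rw [eq_top_iff, ← hgen, Subfield.closure_le]
    intro t ht
    rw [Set.mem_singleton_iff] at ht
    rw [ht]; exact hlamA
  have hall : ∀ z : F, z ^ 9 = z := by
    intro z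
    have : z ∈ A := by rw [hA]; exact Subfield.mem_top z
    rw [hmemA] at this
    calc z ^ 9 = (z ^ 3) ^ 3 := by ring
      _ = z := this
  -- at most nine elements
  have hle : Fintype.card F ≤ 9 := by
    have hne : (X ^ 9 - X : F[X]) ≠ 0 := FiniteField.X_pow_card_sub_X_ne_zero F (by norm_num)
    have hsub : (Finset.univ : Finset F).val ⊆ (X ^ 9 - X : F[X]).roots := by
      intro z _
      rw [mem_roots hne, IsRoot.def, eval_sub, eval_pow, eval_X, hall z, sub_self]
    have := card_le_degree_of_subset_roots hsub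
    rwa [FiniteField.X_pow_card_sub_X_natDegree_eq F (by norm_num : 1 < 9), Finset.card_univ]
      at this
  obtain ⟨n, -, hn⟩ := FiniteField.card F 3
  have hn3 : Fintype.card F ≠ 3 := by
    intro hc
    have h4 := FiniteField.pow_card lam
    rw [hc] at h4
    have h5 : lam ^ 3 = lam * lam ^ 2 := by ring
    rw [h5, hlam] at h4
    have h6 : (2 : F) * lam = 0 := by linear_combination -h4
    rcases mul_eq_zero.mp h6 with h | h
    · exact h2 h
    · rw [h] at hlam
      have : (1 : F) = 0 := by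
        have h0 : (0 : F) ^ 2 = 0 := by ring
        rw [h0] at hlam
        linear_combination hlam
      exact one_ne_zero this
  have hn1 : (n : ℕ) ≠ 1 := by
    intro h
    rw [h, pow_one] at hn
    exact hn3 hn
  have hn2 : (n : ℕ) ≤ 2 := by
    by_contra hcon
    push Not at hcon
    have : 3 ^ 3 ≤ 3 ^ (n : ℕ) := Nat.pow_le_pow_right (by norm_num) hcon
    omega
  have hnpos : 0 < (n : ℕ) := n.pos
  have : (n : ℕ) = 2 := by omega
  rw [hn, this]
  norm_num

variable {H : Subgroup (Matrix.SpecialLinearGroup (Fin 2) F)}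

/-- in the exceptional case the group has order `120` -/
theorem card_eq_120 [Finite H] (h2 : (2 : F) ≠ 0) (hcard : Nat.card H = 60 * Nat.card (ZH H)) :
    Nat.card H = 120 := by
  have hdvd := card_ZH_dvd (H := H) h2
  have hpos : 0 < Nat.card (ZH H) := Nat.card_pos
  have hle : Nat.card (ZH H) ≤ 2 := Nat.le_of_dvd (by norm_num) hdvd
  rcases Nat.lt_or_ge (Nat.card (ZH H)) 2 with hlt | hge
  · exfalso
    have h1 : Nat.card (ZH H) = 1 := by omega
    rw [h1, mul_one] at hcard
    haveI : Fact (Nat.Prime 2) := ⟨Nat.prime_two⟩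
    obtain ⟨g, hg⟩ := exists_prime_orderOf_dvd_card' (G := H) 2 (by rw [hcard]; norm_num)
    have hg2 : g * g = 1 := by
      have := pow_orderOf_eq_one g
      rw [hg, pow_two] at this
      exact this
    have hg1 : g ≠ 1 := by
      intro h
      rw [h, orderOf_one] at hg
      omega
    have hm : mat g * mat g = 1 := by rw [← mat_mul, hg2, mat_one]
    have hz : g ∈ ZH H := eq_one_or_neg_of_sq h2 (mat g) (mat_det g) hm
    have hbot : ZH H = ⊥ := Subgroup.card_eq_one.mp h1
    rw [hbot, Subgroup.mem_bot] at hz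
    exact hg1 hz
  · have : Nat.card (ZH H) = 2 := by omega
    rw [hcard, this]

variable (p : ℕ) [hp : Fact p.Prime] [CharP F p]

/-- in the exceptional case `p = 3` and the parameter is `±1` or a square root of `-1` -/
theorem exceptional_param [Finite H] (hp2 : p ≠ 2) (lam : F) (hlam : lam ≠ 0)
    (hl : lower 1 ∈ H) (hu : upper lam ∈ H) (hQ : Nat.card (PH H) = 3)
    (hord : ∀ x : H, x ^ 6 = 1 ∨ x ^ 4 = 1 ∨ x ^ 10 = 1) :
    (3 : F) = 0 ∧ (lam = 1 ∨ lam = -1 ∨ lam ^ 2 = -1) := by
  have h2 : (2 : F) ≠ 0 := two_ne_zero_of_char p hp2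
  have hp3 : p = 3 := by
    obtain ⟨k, hk⟩ := IsPGroup.iff_card.mp (PH_isPGroup (H := H) p)
    rw [hQ] at hk
    have hk0 : k ≠ 0 := by
      intro h0
      rw [h0, pow_zero] at hk
      omega
    have : p ∣ 3 := by rw [hk]; exact dvd_pow_self p hk0
    exact (Nat.prime_dvd_prime_iff_eq hp.out Nat.prime_three).mp this
  have h3 : (3 : F) = 0 := by
    have := CharP.cast_eq_zero F p
    rw [hp3] at this
    exact_mod_cast this
  refine ⟨h3, ?_⟩
  have hli : lower (-1) ∈ H := by
    rw [← lower_inv']; exact H.inv_mem hl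
  have hord' : ∀ g : SL2, g ∈ H → g ^ 6 = 1 ∨ g ^ 4 = 1 ∨ g ^ 10 = 1 := by
    intro g hg
    rcases hord ⟨g, hg⟩ with h | h | h
    · left
      have := congrArg (fun x : H => (x : SL2)) h
      simpa using this
    · right; left
      have := congrArg (fun x : H => (x : SL2)) h
      simpa using this
    · right; right
      have := congrArg (fun x : H => (x : SL2)) h
      simpa using this
  have t1 := trace_of_small_order h3 h2 _ (hord' _ (H.mul_mem hu hl))
  have t2 := trace_of_small_order h3 h2 _ (hord' _ (H.mul_mem hu hli))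
  rw [trace_upper_lower] at t1 t2
  have t1' : (2 + lam) ^ 2 = 1 ∨ (2 + lam) = 0 ∨ (2 + lam) ^ 4 = -1 := by
    rwa [mul_one] at t1
  have t2' : (2 - lam) ^ 2 = 1 ∨ (2 - lam) = 0 ∨ (2 - lam) ^ 4 = -1 := by
    have e : 2 + lam * -1 = 2 - lam := by ring
    rwa [e] at t2
  exact exc_mu h3 lam hlam t1' t2'

end Cfsg.Agent.Lib.Lead.DicksonGen
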