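import Cfsg.Agent.Lib.Lead.DicksonGenC

/-!
Dickson's generation theorem, part D (lead): the theorem.
-/

set_option autoImplicit false

namespace Cfsg.Agent.Lib.Lead.DicksonGen

open Matrix Polynomial Cfsg.Agent.Lib.Helper9.SL2Upper Cfsg.Agent.Lib.Lead.DicksonBase
  Cfsg.Agent.Lib.Helper15.TwoByTwo Cfsg.Agent.Lib.Lead.SL2Scalar Cfsg.Agent.Lib.Lead.DicksonCA
  Cfsg.Agent.Lib.Lead.DicksonSL2

variable {F : Type*} [Field F]

local notation "SL2" => Matrix.SpecialLinearGroup (Fin 2) F
local notation "M2" => Matrix (Fin 2) (Fin 2) F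

variable {H : Subgroup (Matrix.SpecialLinearGroup (Fin 2) F)}

/-- over a prime field, `upper 1` and `lower 1` generate everything -/
theorem eq_top_of_prime_field (p : ℕ) [hp : Fact p.Prime] [CharP F p] (hl : lower 1 ∈ H)
    (hu : upper 1 ∈ H) (lam : F) (hlam : lam = 1 ∨ lam = -1)
    (hgen : Subfield.closure ({lam} : Set F) = ⊤) : H = ⊤ := by
  set f : ZMod p →+* F := ZMod.castHom (dvd_refl p) F with hf
  have hmem : lam ∈ f.fieldRange := by
    rcases hlam with h | h
    · rw [h]; exact one_mem _
    · rw [h]; exact neg_mem (one_mem _)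
  have hR : f.fieldRange = ⊤ := by
    rw [eq_top_iff, ← hgen, Subfield.closure_le]
    intro t ht
    rw [Set.mem_singleton_iff] at ht
    rw [ht]; exact hmem
  have hall : ∀ t : F, ∃ k : ℕ, t = (k : F) := by
    intro t
    have : t ∈ f.fieldRange := by rw [hR]; exact Subfield.mem_top t
    obtain ⟨z, hz⟩ := RingHom.mem_fieldRange.mp this
    refine ⟨z.val, ?_⟩
    rw [← hz, ← ZMod.natCast_zmod_val z, map_natCast, ZMod.natCast_zmod_val]
  rw [eq_top_iff]
  intro x _
  apply mem_of_upper_lower H
  · intro t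
    obtain ⟨k, rfl⟩ := hall t
    have : (upper (k : F) : SL2) = upper 1 ^ k := by rw [upper_pow, mul_one]
    rw [this]; exact H.pow_mem hu k
  · intro t
    obtain ⟨k, rfl⟩ := hall t
    have : (lower (k : F) : SL2) = lower 1 ^ k := by rw [lower_pow, mul_one]
    rw [this]; exact H.pow_mem hl k

/-- **Dickson's generation theorem.** -/
theorem generation [Fintype F] (h2 : (2 : F) ≠ 0) (lam : F) (hlam : lam ≠ 0)
    (hgen : Subfield.closure ({lam} : Set F) = ⊤) :
    (Subgroup.closure {(lower 1 : SL2), upper lam} = ⊤ ∧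
        ¬ (Fintype.card F = 9 ∧ lam ^ 2 = -1)) ∨
      (Fintype.card F = 9 ∧ lam ^ 2 = -1 ∧
        Nat.card (Subgroup.closure {(lower 1 : SL2), upper lam}) = 120) := by
  classical
  set H := Subgroup.closure {(lower 1 : SL2), upper lam} with hH
  have hl : lower 1 ∈ H := Subgroup.subset_closure (by simp)
  have hu : upper lam ∈ H := Subgroup.subset_closure (by simp)
  set p := ringChar F with hpdef
  haveI : CharP F p := ringChar.charP F
  haveI hpf : Fact p.Prime := ⟨CharP.char_is_prime F p⟩
  have hp2 : p ≠ 2 := by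
    intro h
    apply h2
    have := CharP.cast_eq_zero F p
    rw [h] at this
    exact_mod_cast this
  haveI : Finite (Matrix.SpecialLinearGroup (Fin 2) F) := inferInstance
  haveI : Finite H := inferInstance
  have hne : PH H ≠ ⊥ := by
    intro hbot
    have hmem : (⟨upper lam, hu⟩ : H) ∈ PH H := by
      rw [mem_PH]; exact upper_mem_Uni lam
    rw [hbot, Subgroup.mem_bot] at hmem
    have := congrArg (fun x : H => (x : SL2)) hmem
    simp only [Subgroup.coe_one] at this
    exact hlam ((upper_eq_one_iff lam).mp this)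
  have hnB : ∃ y : H, (y : SL2) ∉ DicksonSL2.Borel := by
    refine ⟨⟨lower 1, hl⟩, ?_⟩
    intro h
    have : ((lower 1 : SL2) : M2) 1 0 = 0 := h
    simp at this
  have hexc : (Fintype.card F = 9 ∧ lam ^ 2 = -1) → H ≠ ⊤ := by
    rintro ⟨h9, hl2⟩
    have h3 : (3 : F) = 0 := by
      have h := FiniteField.cast_card_eq_zero F
      rw [h9] at h
      have h33 : (3 : F) * 3 = 0 := by
        have : ((9 : ℕ) : F) = 3 * 3 := by norm_num
        rw [← this]; exact h
      exact mul_self_eq_zero.mp h33
    exact closure_ne_top h2 h3 lam hl2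
  have hnot : lam = 1 ∨ lam = -1 → ¬ (Fintype.card F = 9 ∧ lam ^ 2 = -1) := by
    rintro h ⟨-, hl2⟩
    apply h2
    rcases h with h | h
    · rw [h] at hl2
      linear_combination hl2
    · rw [h] at hl2
      linear_combination hl2
  rcases dichotomy' p hp2 hne hnB with hidx | ⟨hQ, hcard, hord⟩
  · have htop := eq_top_of_index p hp2 hl hu hgen hidx
    left
    exact ⟨htop, fun hex => hexc hex htop⟩
  · obtain ⟨h3, hcases⟩ := exceptional_param p hp2 lam hlam hl hu hQ hord
    have hpm : lam = 1 ∨ lam = -1 → H = ⊤ := by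
      intro h
      have hu1 : upper (1 : F) ∈ H := by
        rcases h with h | h
        · rw [← h]; exact hu
        · have : (upper (1 : F) : SL2) = (upper lam)⁻¹ := by rw [upper_inv, h, neg_neg]
          rw [this]; exact H.inv_mem hu
      exact eq_top_of_prime_field p hl hu1 lam h hgen
    rcases hcases with h1 | h1 | h1
    · left
      exact ⟨hpm (Or.inl h1), hnot (Or.inl h1)⟩
    · left
      exact ⟨hpm (Or.inr h1), hnot (Or.inr h1)⟩
    · right
      exact ⟨card_eq_nine h2 h3 lam h1 hgen, h1, card_eq_120 h2 hcard⟩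

end Cfsg.Agent.Lib.Lead.DicksonGen
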