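import Cfsg.Agent.Lib.Lead.DicksonBase
import Cfsg.Agent.Lib.Lead.SL2Scalar

/-!
Matrix lemmas on `SL₂(F)` for the class-equation proof of Dickson's theorem (lead).
-/

set_option autoImplicit false

namespace Cfsg.Agent.Lib.Lead.DicksonSL2

open Matrix Cfsg.Agent.Lib.Helper9.SL2Upper Cfsg.Agent.Lib.Lead.DicksonBase
  Cfsg.Agent.Lib.Helper15.TwoByTwo

variable {F : Type*} [Field F]

local notation "SL2" => Matrix.SpecialLinearGroup (Fin 2) F
local notation "M2" => Matrix (Fin 2) (Fin 2) F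

theorem inv_00 (g : SL2) : ((g⁻¹ : SL2) : M2) 0 0 = (g : M2) 1 1 := by
  rw [Matrix.SpecialLinearGroup.coe_inv, Matrix.adjugate_fin_two]; simp

theorem inv_01 (g : SL2) : ((g⁻¹ : SL2) : M2) 0 1 = - (g : M2) 0 1 := by
  rw [Matrix.SpecialLinearGroup.coe_inv, Matrix.adjugate_fin_two]; simp

theorem inv_10 (g : SL2) : ((g⁻¹ : SL2) : M2) 1 0 = - (g : M2) 1 0 := by
  rw [Matrix.SpecialLinearGroup.coe_inv, Matrix.adjugate_fin_two]; simp

theorem inv_11 (g : SL2) : ((g⁻¹ : SL2) : M2) 1 1 = (g : M2) 0 0 := by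
  rw [Matrix.SpecialLinearGroup.coe_inv, Matrix.adjugate_fin_two]; simp

theorem mul_00 (g h : SL2) : ((g * h : SL2) : M2) 0 0 =
    (g : M2) 0 0 * (h : M2) 0 0 + (g : M2) 0 1 * (h : M2) 1 0 := by
  rw [Matrix.SpecialLinearGroup.coe_mul, Matrix.mul_apply, Fin.sum_univ_two]

theorem mul_01 (g h : SL2) : ((g * h : SL2) : M2) 0 1 =
    (g : M2) 0 0 * (h : M2) 0 1 + (g : M2) 0 1 * (h : M2) 1 1 := by
  rw [Matrix.SpecialLinearGroup.coe_mul, Matrix.mul_apply, Fin.sum_univ_two]

theorem mul_10 (g h : SL2) : ((g * h : SL2) : M2) 1 0 =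
    (g : M2) 1 0 * (h : M2) 0 0 + (g : M2) 1 1 * (h : M2) 1 0 := by
  rw [Matrix.SpecialLinearGroup.coe_mul, Matrix.mul_apply, Fin.sum_univ_two]

theorem mul_11 (g h : SL2) : ((g * h : SL2) : M2) 1 1 =
    (g : M2) 1 0 * (h : M2) 0 1 + (g : M2) 1 1 * (h : M2) 1 1 := by
  rw [Matrix.SpecialLinearGroup.coe_mul, Matrix.mul_apply, Fin.sum_univ_two]

/-- the upper triangular subgroup -/
def Borel : Subgroup SL2 where
  carrier := {g | (g : M2) 1 0 = 0}
  one_mem' := by simp
  mul_mem' := by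
    intro g h hg hh
    simp only [Set.mem_setOf_eq] at hg hh ⊢
    rw [mul_10, hg, hh]; ring
  inv_mem' := by
    intro g hg
    simp only [Set.mem_setOf_eq] at hg ⊢
    rw [inv_10, hg, neg_zero]

theorem mem_Borel {g : SL2} : g ∈ Borel ↔ (g : M2) 1 0 = 0 := Iff.rfl

/-- the unipotent upper triangular subgroup -/
def Uni : Subgroup SL2 where
  carrier := {g | (g : M2) 1 0 = 0 ∧ (g : M2) 0 0 = 1}
  one_mem' := by simp
  mul_mem' := by
    intro g h hg hh
    simp only [Set.mem_setOf_eq] at hg hh ⊢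
    rw [mul_10, mul_00, hg.1, hh.1, hg.2, hh.2]
    constructor <;> ring
  inv_mem' := by
    intro g hg
    simp only [Set.mem_setOf_eq] at hg ⊢
    have hd := det_eq g
    rw [hg.1, hg.2] at hd
    rw [inv_10, inv_00, hg.1, neg_zero]
    refine ⟨rfl, ?_⟩
    linear_combination hd

theorem mem_Uni {g : SL2} : g ∈ Uni ↔ (g : M2) 1 0 = 0 ∧ (g : M2) 0 0 = 1 := Iff.rfl

theorem Uni_le_Borel : (Uni : Subgroup SL2) ≤ Borel := fun _ hg => hg.1

theorem mem_Uni_iff_upper {g : SL2} : g ∈ Uni ↔ g = upper ((g : M2) 0 1) := by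
  constructor
  · intro hg
    have hd := det_eq g
    rw [hg.1, hg.2] at hd
    apply sl_ext
    · simp [hg.2]
    · simp
    · simp [hg.1]
    · simp; linear_combination hd
  · intro hg
    rw [hg]
    constructor <;> simp

theorem upper_mem_Uni (s : F) : upper s ∈ (Uni : Subgroup SL2) := by
  constructor <;> simp

theorem det_Borel {g : SL2} (hg : g ∈ Borel) : (g : M2) 0 0 * (g : M2) 1 1 = 1 := by
  have hd := det_eq g
  rw [mem_Borel.mp hg] at hd
  linear_combination hd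

/-- conjugating `upper s` by a Borel element -/
theorem conj_upper_of_Borel {g : SL2} (hg : g ∈ Borel) (s : F) :
    g * upper s * g⁻¹ = upper ((g : M2) 0 0 ^ 2 * s) := by
  rw [mul_upper_of_lower_zero s g hg]
  group

/-- if `g (upper s) g⁻¹` is unipotent upper triangular with `s ≠ 0`, then `g` is Borel -/
theorem mem_Borel_of_conj {g : SL2} {s : F} (hs : s ≠ 0) (h : g * upper s * g⁻¹ ∈ Uni) :
    g ∈ Borel := by
  have h1 := h.1
  rw [mul_10, mul_10, mul_11, inv_00, inv_10] at h1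
  simp only [upper_coe, Matrix.of_apply, Matrix.cons_val', Matrix.cons_val_zero,
    Matrix.cons_val_one, Matrix.cons_val_fin_one] at h1
  -- h1 : (g10 * 1 + g11 * 0) * g11 + (g10 * s + g11 * 1) * (- g10) = 0
  have h2 : s * (g : M2) 1 0 ^ 2 = 0 := by linear_combination (-1 : F) * h1
  rcases mul_eq_zero.mp h2 with h3 | h3
  · exact absurd h3 hs
  · exact (pow_eq_zero_iff two_ne_zero).mp h3

/-- the commutator of two Borel elements is unipotent -/
theorem comm_mem_Uni {a b : SL2} (ha : a ∈ Borel) (hb : b ∈ Borel) :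
    a * b * a⁻¹ * b⁻¹ ∈ Uni := by
  have ha0 := mem_Borel.mp ha
  have hb0 := mem_Borel.mp hb
  have hda := det_Borel ha
  have hdb := det_Borel hb
  constructor
  · have : a * b * a⁻¹ * b⁻¹ ∈ Borel :=
      Borel.mul_mem (Borel.mul_mem (Borel.mul_mem ha hb) (Borel.inv_mem ha)) (Borel.inv_mem hb)
    exact this
  · simp only [mul_00, mul_01, mul_10, mul_11, inv_00, inv_01, inv_10, inv_11, ha0, hb0]
    linear_combination ((a : M2) 0 0 * (a : M2) 1 1) * hdb + hda

/-- an element commuting with a Borel element having distinct eigenvalues is Borel -/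
theorem mem_Borel_of_commute {h c : SL2} (hh : h ∈ Borel) (hk : (h : M2) 0 0 ^ 2 ≠ 1)
    (hc : c * h = h * c) : c ∈ Borel := by
  have hh0 := mem_Borel.mp hh
  have hd := det_Borel hh
  have h1 : ((c * h : SL2) : M2) 1 0 = ((h * c : SL2) : M2) 1 0 := by rw [hc]
  rw [mul_10, mul_10, hh0] at h1
  have h2 : (c : M2) 1 0 * ((h : M2) 0 0 ^ 2 - 1) = 0 := by
    linear_combination (h : M2) 0 0 * h1 + (c : M2) 1 0 * hd
  rcases mul_eq_zero.mp h2 with h3 | h3
  · exact h3
  · exact absurd (sub_eq_zero.mp h3) hk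

end Cfsg.Agent.Lib.Lead.DicksonSL2
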