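import Cfsg.Agent.Lib.Lead.DicksonSL2a
import Cfsg.Agent.Lib.Lead.DicksonCA

/-!
Subgroups of `SL₂(F)`: the CA property relative to the scalar subgroup (lead).
-/

set_option autoImplicit false

namespace Cfsg.Agent.Lib.Lead.DicksonSL2

open Matrix Cfsg.Agent.Lib.Helper9.SL2Upper Cfsg.Agent.Lib.Lead.DicksonBase
  Cfsg.Agent.Lib.Helper15.TwoByTwo Cfsg.Agent.Lib.Lead.SL2Scalar Cfsg.Agent.Lib.Lead.DicksonCA

variable {F : Type*} [Field F]

local notation "SL2" => Matrix.SpecialLinearGroup (Fin 2) F
local notation "M2" => Matrix (Fin 2) (Fin 2) F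

variable (H : Subgroup (Matrix.SpecialLinearGroup (Fin 2) F))

/-- the scalar elements of `H` -/
def ZH : Subgroup H where
  carrier := {x | mat x = 1 ∨ mat x = -1}
  one_mem' := Or.inl mat_one
  mul_mem' := by
    intro x y hx hy
    simp only [Set.mem_setOf_eq] at hx hy ⊢
    rw [mat_mul]
    rcases hx with hx | hx <;> rcases hy with hy | hy <;> rw [hx, hy] <;> simp
  inv_mem' := by
    intro x hx
    simp only [Set.mem_setOf_eq] at hx ⊢
    have h1 := mat_inv_mul x
    rcases hx with hx | hx
    · left
      rw [hx, mul_one] at h1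
      exact h1
    · right
      rw [hx, mul_neg, mul_one] at h1
      rw [← h1, neg_neg]

/-- the unipotent upper triangular elements of `H` -/
def PH : Subgroup H := (Uni : Subgroup SL2).subgroupOf H

/-- the upper triangular elements of `H` -/
def BH : Subgroup H := (Borel : Subgroup SL2).subgroupOf H

variable {H}

theorem mem_ZH {x : H} : x ∈ ZH H ↔ mat x = 1 ∨ mat x = -1 := Iff.rfl

theorem mem_PH {x : H} : x ∈ PH H ↔ (x : SL2) ∈ Uni := Subgroup.mem_subgroupOf

theorem mem_BH {x : H} : x ∈ BH H ↔ (x : SL2) ∈ Borel := Subgroup.mem_subgroupOf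

theorem ZH_central {z : H} (hz : z ∈ ZH H) (g : H) : z * g = g * z := by
  rcases hz with hz | hz
  · exact comm_of_scalar (c := 1) (by rw [hz, one_smul]) g
  · exact comm_of_scalar (c := -1) (by rw [hz, neg_smul, one_smul]) g

theorem nonscalar_of_not_mem {g : H} (hg : g ∉ ZH H) : ∀ c : F, mat g ≠ c • 1 := by
  intro c hc
  apply hg
  have h1 := scalar_sq hc
  have h2 : (c - 1) * (c + 1) = 0 := by linear_combination h1
  rcases mul_eq_zero.mp h2 with h | h
  · left
    rw [hc, sub_eq_zero.mp h, one_smul]
  · right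
    rw [hc, eq_neg_of_add_eq_zero_left h, neg_smul, one_smul]

theorem isCA : IsCA (ZH H) := by
  refine ⟨fun z hz g => ZH_central hz g, ?_⟩
  · intro g hg a b ha hb
    have hns := nonscalar_of_not_mem hg
    have ha' : mat g * mat a = mat a * mat g := by rw [← mat_mul, ← mat_mul, ha]
    have hb' : mat g * mat b = mat b * mat g := by rw [← mat_mul, ← mat_mul, hb]
    apply mat_inj
    rw [mat_mul, mat_mul]
    exact comm_of_span (mat g) (mat a) (mat b) (comm_nonscalar _ _ hns ha')
      (comm_nonscalar _ _ hns hb')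

theorem card_ZH_dvd [Finite H] (h2 : (2 : F) ≠ 0) : Nat.card (ZH H) ∣ 2 := by
  classical
  have hle : Nat.card (ZH H) ≤ 2 := by
    have : Nat.card (ZH H) ≤ Nat.card Bool := by
      apply Nat.card_le_card_of_injective (fun x : ZH H => decide (mat (x : H) = 1))
      intro x y hxy
      simp only [decide_eq_decide] at hxy
      apply Subtype.ext
      apply mat_inj
      rcases x.2 with hx | hx
      · rw [hx, hxy.mp hx]
      · rcases y.2 with hy | hy
        · rw [hy, hxy.mpr hy]
        · rw [hx, hy]
    simpa using this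
  have hpos : 0 < Nat.card (ZH H) := Nat.card_pos
  interval_cases (Nat.card (ZH H)) <;> simp

end Cfsg.Agent.Lib.Lead.DicksonSL2
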