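import Cfsg.Agent.Lib.Lead.DicksonSL2b

/-!
Subgroups of `SL₂(F)`: the Sylow subgroup of unipotent upper triangular elements (lead).
-/

set_option autoImplicit false

namespace Cfsg.Agent.Lib.Lead.DicksonSL2

open Matrix Cfsg.Agent.Lib.Helper9.SL2Upper Cfsg.Agent.Lib.Lead.DicksonBase
  Cfsg.Agent.Lib.Helper15.TwoByTwo Cfsg.Agent.Lib.Lead.SL2Scalar Cfsg.Agent.Lib.Lead.DicksonCA

variable {F : Type*} [Field F]

local notation "SL2" => Matrix.SpecialLinearGroup (Fin 2) F
local notation "M2" => Matrix (Fin 2) (Fin 2) F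

variable {H : Subgroup (Matrix.SpecialLinearGroup (Fin 2) F)}

theorem upper_fix (s : F) : ((upper s : SL2) : M2).mulVec ![1, 0] = ![1, 0] := by
  ext i
  fin_cases i <;> simp [Matrix.mulVec, dotProduct, Fin.sum_univ_two]

theorem mem_Uni_iff_fix {g : SL2} : g ∈ Uni ↔ (g : M2).mulVec ![1, 0] = ![1, 0] := by
  constructor
  · intro hg
    rw [mem_Uni_iff_upper.mp hg]
    exact upper_fix _
  · intro hg
    rw [eq_upper_of_fix g hg]
    exact upper_mem_Uni _

theorem e1_ne_zero : (![1, 0] : Fin 2 → F) ≠ 0 := by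
  intro h
  have := congrFun h 0
  simp at this

variable (p : ℕ) [hp : Fact p.Prime] [CharP F p]

/-- `p`-elements of `SL₂(F)` have order dividing `p` (after helper9). -/
theorem pow_p_eq_one' (x : SL2) {k : ℕ} (hx : x ^ (p ^ k) = 1) : x ^ p = 1 := by
  obtain ⟨v, hv, hxv⟩ := exists_fixed_vector p x hx
  exact pow_eq_one_of_fix p (Fact.out : p.Prime).ne_zero x v hv hxv

/-- a commuting `p`-element fixes the same vector (after helper9) -/
theorem fix_of_commute' (g x : SL2) (hg : g ≠ 1)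
    (v : Fin 2 → F) (hv : v ≠ 0) (hgv : (g : M2).mulVec v = v) (hc : x * g = g * x)
    (hx : x ^ p = 1) : (x : M2).mulVec v = v := by
  apply fix_of_eigen p x hx v hv
  by_contra hw
  apply hg
  apply Subtype.ext
  rw [Matrix.SpecialLinearGroup.coe_one]
  apply eq_one_of_fix_two (g : M2) v ((x : M2).mulVec v) hv hw hgv
  rw [Matrix.mulVec_mulVec, ← Matrix.SpecialLinearGroup.coe_mul, ← hc,
    Matrix.SpecialLinearGroup.coe_mul, ← Matrix.mulVec_mulVec, hgv]

theorem PH_isPGroup : IsPGroup p (PH H) := by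
  intro x
  refine ⟨1, ?_⟩
  rw [pow_one]
  apply Subtype.ext
  apply Subtype.ext
  have hx : ((x : H) : SL2) ∈ Uni := mem_PH.mp x.2
  rw [mem_Uni_iff_upper] at hx
  show (((x : H) : SL2)) ^ p = 1
  rw [hx, upper_pow_char]

/-- a `p`-element commuting with a nontrivial element of `Uni` lies in `Uni` -/
theorem mem_Uni_of_commute {u x : SL2} (hu : u ∈ Uni) (hu1 : u ≠ 1) {k : ℕ}
    (hx : x ^ (p ^ k) = 1) (hc : x * u = u * x) : x ∈ Uni := by
  rw [mem_Uni_iff_fix] at hu ⊢
  exact fix_of_commute' p u x hu1 _ e1_ne_zero hu hc (pow_p_eq_one' p x hx)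

/-- an element of `H` commuting with a nontrivial element of `Uni` is Borel with diagonal `±1` -/
theorem diag_of_commute {s : F} (hs : s ≠ 0) {g : SL2} (hc : g * upper s = upper s * g) :
    g ∈ Borel ∧ (g : M2) 0 0 ^ 2 = 1 := by
  have h00 : ((g * upper s : SL2) : M2) 0 0 = ((upper s * g : SL2) : M2) 0 0 := by rw [hc]
  have h01 : ((g * upper s : SL2) : M2) 0 1 = ((upper s * g : SL2) : M2) 0 1 := by rw [hc]
  rw [mul_00, mul_00] at h00
  rw [mul_01, mul_01] at h01
  simp only [upper_coe, Matrix.of_apply, Matrix.cons_val', Matrix.cons_val_zero,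
    Matrix.cons_val_one, Matrix.cons_val_fin_one] at h00 h01
  have h10 : (g : M2) 1 0 = 0 := by
    have : s * (g : M2) 1 0 = 0 := by linear_combination (-1 : F) * h00
    rcases mul_eq_zero.mp this with h | h
    · exact absurd h hs
    · exact h
  refine ⟨h10, ?_⟩
  have hd := det_Borel (g := g) h10
  have h3 : s * ((g : M2) 0 0 - (g : M2) 1 1) = 0 := by linear_combination h01
  rcases mul_eq_zero.mp h3 with h | h
  · exact absurd h hs
  · have : (g : M2) 0 0 = (g : M2) 1 1 := sub_eq_zero.mp h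
    rw [pow_two]
    nth_rewrite 2 [this]
    exact hd

end Cfsg.Agent.Lib.Lead.DicksonSL2
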