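import Cfsg.Agent.Lib.Lead.DicksonSL2c

/-!
Subgroups of `SL₂(F)`: centralizers of unipotent elements, the Sylow subgroup, its normalizer (lead).
-/

set_option autoImplicit false

namespace Cfsg.Agent.Lib.Lead.DicksonSL2

open Matrix Cfsg.Agent.Lib.Helper9.SL2Upper Cfsg.Agent.Lib.Lead.DicksonBase
  Cfsg.Agent.Lib.Helper15.TwoByTwo Cfsg.Agent.Lib.Lead.SL2Scalar Cfsg.Agent.Lib.Lead.DicksonCA

variable {F : Type*} [Field F]

local notation "SL2" => Matrix.SpecialLinearGroup (Fin 2) F
local notation "M2" => Matrix (Fin 2) (Fin 2) F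

variable {H : Subgroup (Matrix.SpecialLinearGroup (Fin 2) F)}

variable (p : ℕ) [hp : Fact p.Prime] [CharP F p]

/-- the matrix of a Borel element with diagonal `-1` -/
theorem mat_eq_of_diag_neg {x : SL2} (hx : x ∈ Borel) (h00 : (x : M2) 0 0 = -1) :
    (x : M2) = (-1 : F) • (1 : M2) + !![0, (x : M2) 0 1; 0, 0] := by
  have hd := det_Borel hx
  rw [h00] at hd
  have h11 : (x : M2) 1 1 = -1 := by linear_combination (-1 : F) * hd
  ext i j
  fin_cases i <;> fin_cases j <;> simp [h00, h11, mem_Borel.mp hx]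

theorem pow_p_of_diag_neg (hp2 : p ≠ 2) {x : SL2} (hx : x ∈ Borel) (h00 : (x : M2) 0 0 = -1) :
    ((x ^ p : SL2) : M2) = -1 := by
  rw [Matrix.SpecialLinearGroup.coe_pow, mat_eq_of_diag_neg hx h00]
  obtain ⟨n, hn⟩ : ∃ n, p = n + 1 := ⟨p - 1, by have := (Fact.out : p.Prime).pos; omega⟩
  have hN : (!![0, (x : M2) 0 1; 0, 0] : M2) * !![0, (x : M2) 0 1; 0, 0] = 0 := by
    ext i j
    fin_cases i <;> fin_cases j <;> simp [Matrix.mul_apply, Fin.sum_univ_two]
  have hodd : Odd p := (Fact.out : p.Prime).odd_of_ne_two hp2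
  rw [hn, pow_succ_of_sq_zero (-1 : F) _ hN n, ← hn, hodd.neg_one_pow, CharP.cast_eq_zero, zero_mul,
    zero_smul, add_zero, neg_smul, one_smul]

/-- a Borel element of `H` with diagonal `±1` lies in `Z P` -/
theorem mem_ZP_of_diag (hp2 : p ≠ 2) {x : H} (hx : (x : SL2) ∈ Borel)
    (hd : ((x : SL2) : M2) 0 0 ^ 2 = 1) : x ∈ ZH H ⊔ PH H := by
  have h2 : (((x : SL2) : M2) 0 0 - 1) * (((x : SL2) : M2) 0 0 + 1) = 0 := by
    linear_combination hd
  rcases mul_eq_zero.mp h2 with h | h
  · apply Subgroup.mem_sup_right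
    rw [mem_PH]
    exact ⟨hx, sub_eq_zero.mp h⟩
  · have h00 : ((x : SL2) : M2) 0 0 = -1 := eq_neg_of_add_eq_zero_left h
    have hz : x ^ p ∈ ZH H := by
      right
      show (((x ^ p : H) : SL2) : M2) = -1
      rw [Subgroup.coe_pow]
      exact pow_p_of_diag_neg p hp2 hx h00
    have hzi : (x ^ p)⁻¹ ∈ ZH H := (ZH H).inv_mem hz
    have hmat : mat ((x ^ p)⁻¹) = -1 := by
      have h1 := mat_inv_mul (x ^ p)
      have h3 : mat (x ^ p) = -1 := by
        show (((x ^ p : H) : SL2) : M2) = -1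
        rw [Subgroup.coe_pow]
        exact pow_p_of_diag_neg p hp2 hx h00
      rw [h3, mul_neg, mul_one] at h1
      rw [← h1, neg_neg]
    have hu : (x ^ p) * x ∈ PH H := by
      rw [mem_PH]
      have hB : (((x ^ p) * x : H) : SL2) ∈ Borel := by
        rw [Subgroup.coe_mul, Subgroup.coe_pow]
        exact Borel.mul_mem (Borel.pow_mem hx p) hx
      refine ⟨hB, ?_⟩
      have h3 : mat ((x ^ p) * x) = -mat x := by
        rw [mat_mul]
        have : mat (x ^ p) = -1 := by
          show (((x ^ p : H) : SL2) : M2) = -1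
          rw [Subgroup.coe_pow]
          exact pow_p_of_diag_neg p hp2 hx h00
        rw [this, neg_mul, one_mul]
      show mat ((x ^ p) * x) 0 0 = 1
      rw [h3]
      show - (((x : SL2) : M2) 0 0) = 1
      rw [h00, neg_neg]
    have : x = (x ^ p)⁻¹ * ((x ^ p) * x) := by group
    rw [this]
    exact Subgroup.mul_mem _ (Subgroup.mem_sup_left hzi) (Subgroup.mem_sup_right hu)

theorem PH_comm {a b : H} (ha : a ∈ PH H) (hb : b ∈ PH H) : a * b = b * a := by
  rw [mem_PH, mem_Uni_iff_upper] at ha hb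
  apply Subtype.ext
  rw [Subgroup.coe_mul, Subgroup.coe_mul, ha, hb, upper_mul, upper_mul, add_comm]

/-- the centralizer of a nontrivial unipotent element -/
theorem C_of_mem_PH (hp2 : p ≠ 2) {u : H} (hu : u ∈ PH H) (hu1 : u ≠ 1) : C u = ZH H ⊔ PH H := by
  have hu' := mem_PH.mp hu
  rw [mem_Uni_iff_upper] at hu'
  have hs : ((u : SL2) : M2) 0 1 ≠ 0 := by
    intro h0
    apply hu1
    apply Subtype.ext
    rw [hu', h0, upper_zero]
    rfl
  apply le_antisymm
  · intro g hg
    have hc : g * u = u * g := mem_C.mp hg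
    have hc' : (g : SL2) * upper (((u : SL2) : M2) 0 1) = upper (((u : SL2) : M2) 0 1) * (g : SL2) := by
      rw [← hu', ← Subgroup.coe_mul, ← Subgroup.coe_mul, hc]
    obtain ⟨hB, hd⟩ := diag_of_commute hs hc'
    exact mem_ZP_of_diag p hp2 hB hd
  · apply sup_le
    · intro z hz
      exact mem_C.mpr (ZH_central hz u)
    · intro a ha
      exact mem_C.mpr (PH_comm ha hu)

/-- `P_H` as a Sylow subgroup -/
noncomputable def sylowPH [Finite H] (hne : PH H ≠ ⊥) : Sylow p H where
  toSubgroup := PH H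
  isPGroup' := PH_isPGroup p
  is_maximal' := by
    intro R hR hle
    apply le_antisymm _ hle
    -- a nontrivial element of PH
    have hex : ∃ u ∈ PH H, u ≠ 1 := by
      by_contra hcon
      push Not at hcon
      exact hne ((Subgroup.eq_bot_iff_forall _).mpr hcon)
    obtain ⟨u, hu, hu1⟩ := hex
    have huR : u ∈ R := hle hu
    haveI : Nontrivial R := ⟨⟨⟨u, huR⟩, 1, fun h => hu1 (congrArg Subtype.val h)⟩⟩
    haveI : Nontrivial (Subgroup.center R) := hR.center_nontrivial
    obtain ⟨z, hz1⟩ := exists_ne (1 : Subgroup.center R)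
    have hzc : ∀ r : R, r * (z : R) = (z : R) * r := fun r =>
      (Subgroup.mem_center_iff.mp z.2 r)
    have hzu : ((z : R) : H) * u = u * ((z : R) : H) := by
      have := hzc ⟨u, huR⟩
      have h2 := congrArg Subtype.val this
      exact h2.symm
    obtain ⟨k, hk⟩ := hR (z : R)
    have hzk : (((z : R) : H) : SL2) ^ (p ^ k) = 1 := by
      have := congrArg (fun r : R => ((r : H) : SL2)) hk
      simpa using this
    have hzU : (((z : R) : H) : SL2) ∈ Uni := by
      apply mem_Uni_of_commute p (mem_PH.mp hu) _ hzk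
      · rw [← Subgroup.coe_mul, ← Subgroup.coe_mul, hzu]
      · intro h
        apply hu1
        exact Subtype.ext h
    have hz1' : (((z : R) : H) : SL2) ≠ 1 := by
      intro h
      apply hz1
      apply Subtype.ext
      apply Subtype.ext
      apply Subtype.ext
      exact h
    intro r hr
    rw [mem_PH]
    obtain ⟨k', hk'⟩ := hR ⟨r, hr⟩
    have hrk : ((r : H) : SL2) ^ (p ^ k') = 1 := by
      have := congrArg (fun r : R => ((r : H) : SL2)) hk'
      simpa using this
    apply mem_Uni_of_commute p hzU hz1' hrk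
    have := hzc ⟨r, hr⟩
    have h2 := congrArg (fun r : R => ((r : H) : SL2)) this
    simpa using h2

theorem sylowPH_coe [Finite H] (hne : PH H ≠ ⊥) : ((sylowPH p hne : Sylow p H) : Subgroup H) = PH H :=
  rfl

/-- the normalizer of `P_H` -/
theorem normalizer_PH (hne : PH H ≠ ⊥) : Subgroup.normalizer ((PH H : Subgroup H) : Set H) = BH H := by
  have hex : ∃ u ∈ PH H, u ≠ 1 := by
    by_contra hcon
    push Not at hcon
    exact hne ((Subgroup.eq_bot_iff_forall _).mpr hcon)
  obtain ⟨u, hu, hu1⟩ := hex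
  have hu' := mem_PH.mp hu
  rw [mem_Uni_iff_upper] at hu'
  have hs : ((u : SL2) : M2) 0 1 ≠ 0 := by
    intro h0
    apply hu1
    apply Subtype.ext
    rw [hu', h0, upper_zero]
    rfl
  apply le_antisymm
  · intro g hg
    rw [mem_BH]
    have h1 : g * u * g⁻¹ ∈ PH H := (Subgroup.mem_normalizer_iff.mp hg u).mp hu
    rw [mem_PH] at h1
    have h2 : (g : SL2) * upper (((u : SL2) : M2) 0 1) * (g : SL2)⁻¹ ∈ Uni := by
      rw [← hu']
      simpa using h1
    exact mem_Borel_of_conj hs h2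
  · intro g hg
    rw [mem_BH] at hg
    have key : ∀ b : H, (b : SL2) ∈ Borel → ∀ a ∈ PH H, b * a * b⁻¹ ∈ PH H := by
      intro b hb a ha
      rw [mem_PH] at ha ⊢
      rw [mem_Uni_iff_upper] at ha
      have : ((b * a * b⁻¹ : H) : SL2) = (b : SL2) * upper (((a : SL2) : M2) 0 1) * (b : SL2)⁻¹ := by
        rw [← ha]; simp
      rw [this, conj_upper_of_Borel hb]
      exact upper_mem_Uni _
    rw [Subgroup.mem_normalizer_iff]
    intro a
    constructor
    · exact key g hg a
    · intro ha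
      have := key g⁻¹ (by simpa using Borel.inv_mem hg) _ ha
      have e : g⁻¹ * (g * a * g⁻¹) * g⁻¹⁻¹ = a := by group
      rwa [e] at this

end Cfsg.Agent.Lib.Lead.DicksonSL2
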