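import Cfsg.Agent.Lib.Lead.DicksonSL2d
import Cfsg.Agent.Lib.Lead.DicksonAbs6

/-!
Subgroups of `SL₂(F)`: normalizers of semisimple maximal abelian subgroups and the hypotheses of
the abstract class-equation theorem (lead).
-/

set_option autoImplicit false

namespace Cfsg.Agent.Lib.Lead.DicksonSL2

open Matrix Cfsg.Agent.Lib.Helper9.SL2Upper Cfsg.Agent.Lib.Lead.DicksonBase
  Cfsg.Agent.Lib.Helper15.TwoByTwo Cfsg.Agent.Lib.Lead.SL2Scalar Cfsg.Agent.Lib.Lead.DicksonCA

variable {F : Type*} [Field F]

local notation "SL2" => Matrix.SpecialLinearGroup (Fin 2) F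
local notation "M2" => Matrix (Fin 2) (Fin 2) F

/-- a matrix commuting with a semisimple non-scalar `X` of determinant one, with the same trace and
determinant, is `X` or its inverse -/
theorem eq_or_inv_of_commute (h2 : (2 : F) ≠ 0) (X Y : M2) (hX : ∀ c : F, X ≠ c • 1)
    (hdX : X.det = 1) (hdisc : X.trace ^ 2 ≠ 4 * X.det) (hc : X * Y = Y * X)
    (htr : Y.trace = X.trace) (hdY : Y.det = 1) : Y = X ∨ Y * X = 1 := by
  obtain ⟨α, β, hY⟩ := comm_nonscalar X Y hX hc
  have h1 : 2 * α + β * X.trace = X.trace := by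
    have := htr
    rw [hY, trace_smul_one_add] at this
    exact this
  have h3 : α ^ 2 + α * β * X.trace + β ^ 2 = 1 := by
    rw [hY, det_smul_one_add, hdX, mul_one] at hdY
    exact hdY
  rw [hdX, mul_one] at hdisc
  have h4 : (1 - β ^ 2) * (X.trace ^ 2 - 4) = 0 := by
    linear_combination (4 : F) * h3 - (X.trace + β * X.trace + 2 * α) * h1
  have h5 : (1 - β) * (1 + β) = 0 := by
    rcases mul_eq_zero.mp h4 with h | h
    · linear_combination h
    · exact absurd (sub_eq_zero.mp h) hdisc
  rcases mul_eq_zero.mp h5 with h | h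
  · left
    have hβ : β = 1 := by linear_combination (-1 : F) * h
    rw [hβ, one_mul] at h1
    have hα : α = 0 := by
      have : 2 * α = 0 := by linear_combination h1
      rcases mul_eq_zero.mp this with h' | h'
      · exact absurd h' h2
      · exact h'
    rw [hY, hα, hβ, zero_smul, one_smul, zero_add]
  · right
    have hβ : β = -1 := by linear_combination h
    rw [hβ] at h1
    have hα : α = X.trace := by
      have : 2 * (α - X.trace) = 0 := by linear_combination h1
      rcases mul_eq_zero.mp this with h' | h'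
      · exact absurd h' h2
      · exact sub_eq_zero.mp h'
    rw [hY, hα, hβ, add_mul, smul_mul_assoc, one_mul, smul_mul_assoc, cayley X, hdX]
    simp only [neg_smul, one_smul]
    abel

variable {H : Subgroup (Matrix.SpecialLinearGroup (Fin 2) F)}

variable (p : ℕ) [hp : Fact p.Prime] [CharP F p]

theorem mat_conj_trace (a g : H) : (mat (a * g * a⁻¹)).trace = (mat g).trace := by
  rw [mat_mul, mat_mul, Matrix.trace_mul_comm, ← mul_assoc, mat_inv_mul, one_mul]

/-- the normalizer of a semisimple maximal abelian subgroup has index at most two -/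
theorem card_normalizer_C [Finite H] (hp2 : p ≠ 2) {g : H} (hg : g ∉ ZH H)
    (hnd : ¬ p ∣ Nat.card (C g)) :
    Nat.card (Subgroup.normalizer (C g : Set H)) = Nat.card (C g) ∨
      Nat.card (Subgroup.normalizer (C g : Set H)) = 2 * Nat.card (C g) := by
  classical
  have h2 : (2 : F) ≠ 0 := two_ne_zero_of_char p hp2
  have hns := nonscalar_of_not_mem hg
  -- the order of g is prime to p
  have hord : ¬ p ∣ orderOf g := by
    intro hd
    apply hnd
    have h1 : orderOf g ∣ Nat.card (C g) := by
      have := orderOf_dvd_natCard (⟨g, self_mem_C g⟩ : C g)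
      rwa [Subgroup.orderOf_mk] at this
    exact dvd_trans hd h1
  have hr : ((orderOf g : ℕ) : F) ≠ 0 := by
    intro h0
    exact hord ((CharP.cast_eq_zero_iff F p _).mp h0)
  have hpow : mat g ^ orderOf g = 1 := by
    rw [← mat_pow, pow_orderOf_eq_one, mat_one]
  have hdisc := disc_ne_zero h2 (mat g) hns (orderOf g) hr hpow
  -- elements of the normalizer centralize or invert g
  have key : ∀ a ∈ Subgroup.normalizer (C g : Set H), a ∈ C g ∨ a * g * a⁻¹ * g = 1 := by
    intro a ha
    have h1 : a * g * a⁻¹ ∈ C g := (Subgroup.mem_normalizer_iff.mp ha g).mp (self_mem_C g)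
    have hc : mat g * mat (a * g * a⁻¹) = mat (a * g * a⁻¹) * mat g := by
      rw [← mat_mul, ← mat_mul, mem_C.mp h1]
    rcases eq_or_inv_of_commute h2 (mat g) (mat (a * g * a⁻¹)) hns (mat_det g) hdisc hc
      (mat_conj_trace a g) (mat_det _) with h | h
    · left
      rw [mem_C]
      have : a * g * a⁻¹ = g := mat_inj h
      calc a * g = a * g * a⁻¹ * a := by group
        _ = g * a := by rw [this]
    · right
      apply mat_inj
      rw [mat_mul, h, mat_one]
  have hle : C g ≤ Subgroup.normalizer (C g : Set H) := Subgroup.le_normalizer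
  obtain ⟨k, hk⟩ := Subgroup.card_dvd_of_le hle
  by_cases hex : ∃ a₀ ∈ Subgroup.normalizer (C g : Set H), a₀ ∉ C g
  · obtain ⟨a₀, ha₀, ha₀C⟩ := hex
    have hinv₀ : a₀ * g * a₀⁻¹ * g = 1 := (key a₀ ha₀).resolve_left ha₀C
    -- the normalizer is contained in C g ∪ a₀ C g
    have hsub : ((Subgroup.normalizer (C g : Set H) : Subgroup H) : Set H) ⊆
        (C g : Set H) ∪ (fun c => a₀ * c) '' (C g : Set H) := by
      intro a ha
      rcases key a ha with h | h
      · exact Or.inl h
      · right
        refine ⟨a₀⁻¹ * a, ?_, by group⟩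
        show a₀⁻¹ * a ∈ C g
        rw [mem_C]
        have e1 : a * g * a⁻¹ = g⁻¹ := eq_inv_of_mul_eq_one_left h
        have e2 : a₀ * g * a₀⁻¹ = g⁻¹ := eq_inv_of_mul_eq_one_left hinv₀
        have e3 : a₀⁻¹ * g⁻¹ * a₀ = g := by
          rw [← e2]; group
        calc a₀⁻¹ * a * g = a₀⁻¹ * (a * g * a⁻¹) * a := by group
          _ = a₀⁻¹ * g⁻¹ * a := by rw [e1]
          _ = (a₀⁻¹ * g⁻¹ * a₀) * (a₀⁻¹ * a) := by group
          _ = g * (a₀⁻¹ * a) := by rw [e3]
    have hcard : Nat.card (Subgroup.normalizer (C g : Set H)) ≤ 2 * Nat.card (C g) := by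
      have h1 : Nat.card (Subgroup.normalizer (C g : Set H)) =
          ((Subgroup.normalizer (C g : Set H) : Subgroup H) : Set H).ncard :=
        Nat.card_coe_set_eq _
      have h3 : Nat.card (C g) = ((C g : Subgroup H) : Set H).ncard := Nat.card_coe_set_eq _
      rw [h1, h3]
      calc ((Subgroup.normalizer (C g : Set H) : Subgroup H) : Set H).ncard
          ≤ ((C g : Set H) ∪ (fun c => a₀ * c) '' (C g : Set H)).ncard :=
            Set.ncard_le_ncard hsub (Set.toFinite _)
        _ ≤ (C g : Set H).ncard + ((fun c => a₀ * c) '' (C g : Set H)).ncard :=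
            Set.ncard_union_le _ _
        _ ≤ (C g : Set H).ncard + (C g : Set H).ncard :=
            Nat.add_le_add_left (Set.ncard_image_le (Set.toFinite _)) _
        _ = 2 * (C g : Set H).ncard := by ring
    have hpos : 0 < Nat.card (C g) := Nat.card_pos
    have hk2 : k ≤ 2 := by
      rw [hk, mul_comm] at hcard
      exact Nat.le_of_mul_le_mul_right hcard hpos
    have hk1 : k ≠ 1 := by
      intro h1
      rw [h1, mul_one] at hk
      have := Subgroup.eq_of_le_of_card_ge hle (le_of_eq hk)
      apply ha₀C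
      rw [this]
      exact ha₀
    have hk0 : k ≠ 0 := by
      intro h0
      rw [h0, mul_zero] at hk
      have : 0 < Nat.card (Subgroup.normalizer (C g : Set H)) := Nat.card_pos
      omega
    right
    have : k = 2 := by omega
    rw [hk, this, mul_comm]
  · left
    push Not at hex
    have : Subgroup.normalizer (C g : Set H) = C g := le_antisymm hex hle
    rw [this]

end Cfsg.Agent.Lib.Lead.DicksonSL2
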