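import Cfsg.Agent.Lib.Lead.DicksonSL2g

/-!
Subgroups of `SL₂(F)`: traces of elements of small order, and the exceptional case (lead).
-/

set_option autoImplicit false

namespace Cfsg.Agent.Lib.Lead.DicksonSL2

open Matrix Cfsg.Agent.Lib.Helper9.SL2Upper Cfsg.Agent.Lib.Lead.DicksonBase
  Cfsg.Agent.Lib.Helper15.TwoByTwo Cfsg.Agent.Lib.Lead.SL2Scalar Cfsg.Agent.Lib.Lead.DicksonCA

variable {F : Type*} [Field F]

local notation "SL2" => Matrix.SpecialLinearGroup (Fin 2) F
local notation "M2" => Matrix (Fin 2) (Fin 2) F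

/-- the Chebyshev-type sequence with `G ^ k = a k • G - a (k-1) • 1` -/
def aSeq (τ : F) : ℕ → F
  | 0 => 0
  | 1 => 1
  | (k + 2) => τ * aSeq τ (k + 1) - aSeq τ k

theorem pow_eq_aSeq (G : M2) (hd : G.det = 1) (k : ℕ) :
    G ^ (k + 1) = aSeq G.trace (k + 1) • G - aSeq G.trace k • (1 : M2) := by
  induction k with
  | zero => simp [aSeq]
  | succ k ih =>
    have hc := cayley G
    rw [hd, one_smul] at hc
    rw [pow_succ, ih, sub_mul, smul_mul_assoc, smul_mul_assoc, one_mul, hc]
    show _ = (G.trace * aSeq G.trace (k + 1) - aSeq G.trace k) • G - aSeq G.trace (k + 1) • (1 : M2)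
    module

theorem eq_one_or_neg_of_sq (h2 : (2 : F) ≠ 0) (X : M2) (hd : X.det = 1) (hX : X * X = 1) :
    X = 1 ∨ X = -1 := by
  have hc := cayley X
  rw [hd, one_smul, hX] at hc
  -- τ • X = 2
  have h1 : X.trace • X = (2 : F) • (1 : M2) := by
    rw [two_smul]
    rw [eq_sub_iff_add_eq] at hc
    exact hc.symm
  have hτ : X.trace ≠ 0 := by
    intro h0
    rw [h0, zero_smul] at h1
    have := congrFun (congrFun h1 0) 0
    simp at this
    exact h2 this.symm
  have h3 : X = (2 / X.trace) • (1 : M2) := by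
    calc X = (X.trace)⁻¹ • (X.trace • X) := by rw [smul_smul, inv_mul_cancel₀ hτ, one_smul]
      _ = (X.trace)⁻¹ • ((2 : F) • (1 : M2)) := by rw [h1]
      _ = (2 / X.trace) • (1 : M2) := by rw [smul_smul, div_eq_inv_mul]
  have h4 : (2 / X.trace) * (2 / X.trace) = 1 := by
    have := hd
    rw [h3, Matrix.det_smul, Matrix.det_one, Fintype.card_fin, mul_one, pow_two] at this
    exact this
  have h5 : (2 / X.trace - 1) * (2 / X.trace + 1) = 0 := by linear_combination h4
  rcases mul_eq_zero.mp h5 with h | h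
  · left
    rw [h3, sub_eq_zero.mp h, one_smul]
  · right
    rw [h3, eq_neg_of_add_eq_zero_left h, neg_smul, one_smul]

/-- if a power of a non-scalar `G` is `±1`, the corresponding `aSeq` coefficient vanishes -/
theorem aSeq_eq_zero (G : M2) (hd : G.det = 1) (hns : ∀ c : F, G ≠ c • 1) (k : ℕ)
    (h : G ^ (k + 1) = 1 ∨ G ^ (k + 1) = -1) : aSeq G.trace (k + 1) = 0 := by
  by_contra hne
  have h1 := pow_eq_aSeq G hd k
  have key : ∀ c : F, G ^ (k + 1) = c • (1 : M2) → False := by
    intro c hc
    rw [hc] at h1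
    apply hns ((c + aSeq G.trace k) / aSeq G.trace (k + 1))
    have h3 : aSeq G.trace (k + 1) • G = (c + aSeq G.trace k) • (1 : M2) := by
      rw [add_smul, h1]; abel
    calc G = (aSeq G.trace (k + 1))⁻¹ • (aSeq G.trace (k + 1) • G) := by
          rw [smul_smul, inv_mul_cancel₀ hne, one_smul]
      _ = (aSeq G.trace (k + 1))⁻¹ • ((c + aSeq G.trace k) • (1 : M2)) := by rw [h3]
      _ = ((c + aSeq G.trace k) / aSeq G.trace (k + 1)) • (1 : M2) := by
          rw [smul_smul, div_eq_inv_mul]
  rcases h with h | h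
  · exact key 1 (by rw [h, one_smul])
  · exact key (-1) (by rw [h, neg_smul, one_smul])

/-- traces of elements of order dividing `6`, `4` or `10` in characteristic `3` -/
theorem trace_of_small_order (h3 : (3 : F) = 0) (h2 : (2 : F) ≠ 0) (g : SL2)
    (h : g ^ 6 = 1 ∨ g ^ 4 = 1 ∨ g ^ 10 = 1) :
    (g : M2).trace ^ 2 = 1 ∨ (g : M2).trace = 0 ∨ (g : M2).trace ^ 4 = -1 := by
  set G : M2 := (g : M2) with hG
  have hd : G.det = 1 := g.2
  by_cases hns : ∀ c : F, G ≠ c • 1
  · have hpowdet : ∀ k : ℕ, (G ^ k).det = 1 := fun k => by rw [Matrix.det_pow, hd, one_pow]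
    have hmat : ∀ k : ℕ, g ^ k = 1 → G ^ k = 1 := by
      intro k hk
      rw [hG, ← Matrix.SpecialLinearGroup.coe_pow, hk, Matrix.SpecialLinearGroup.coe_one]
    rcases h with h | h | h
    · left
      have h6 := hmat 6 h
      have hsq : G ^ 3 * G ^ 3 = 1 := by rw [← pow_add]; exact h6
      have := aSeq_eq_zero G hd hns 2 (eq_one_or_neg_of_sq h2 _ (hpowdet 3) hsq)
      simp only [aSeq] at this
      linear_combination this
    · right; left
      have h4 := hmat 4 h
      have hsq : G ^ 2 * G ^ 2 = 1 := by rw [← pow_add]; exact h4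
      have := aSeq_eq_zero G hd hns 1 (eq_one_or_neg_of_sq h2 _ (hpowdet 2) hsq)
      simp only [aSeq] at this
      linear_combination this
    · right; right
      have h10 := hmat 10 h
      have hsq : G ^ 5 * G ^ 5 = 1 := by rw [← pow_add]; exact h10
      have := aSeq_eq_zero G hd hns 4 (eq_one_or_neg_of_sq h2 _ (hpowdet 5) hsq)
      simp only [aSeq] at this
      linear_combination this + (G.trace ^ 2) * h3
  · left
    push Not at hns
    obtain ⟨c, hc⟩ := hns
    have hcc : c * c = 1 := by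
      have := hd
      rw [hc, Matrix.det_smul, Matrix.det_one, Fintype.card_fin, mul_one, pow_two] at this
      exact this
    have htr : G.trace = 2 * c := by
      rw [hc, Matrix.trace_smul, Matrix.trace_one, Fintype.card_fin]
      simp [mul_comm]
    rw [htr]
    linear_combination (4 : F) * hcc + h3

end Cfsg.Agent.Lib.Lead.DicksonSL2
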