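import Cfsg.Agent.Lib.Lead.DicksonSL2h

/-!
Subgroups of `SL₂(F)` that are not `p`-closed contain a pair of unipotent elements with
`tr (x y) - 2` a nonzero element of the prime field (lead).
-/

set_option autoImplicit false

namespace Cfsg.Agent.Lib.Lead.DicksonSL2

open Matrix Cfsg.Agent.Lib.Helper9.SL2Upper Cfsg.Agent.Lib.Lead.DicksonBase
  Cfsg.Agent.Lib.Helper15.TwoByTwo Cfsg.Agent.Lib.Lead.SL2Scalar Cfsg.Agent.Lib.Lead.DicksonCA

variable {F : Type*} [Field F]

local notation "SL2" => Matrix.SpecialLinearGroup (Fin 2) F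
local notation "M2" => Matrix (Fin 2) (Fin 2) F

theorem exc_mu (h3 : (3 : F) = 0) (μ : F) (hμ : μ ≠ 0)
    (h1 : (2 + μ) ^ 2 = 1 ∨ (2 + μ) = 0 ∨ (2 + μ) ^ 4 = -1)
    (h1' : (2 - μ) ^ 2 = 1 ∨ (2 - μ) = 0 ∨ (2 - μ) ^ 4 = -1) :
    μ = 1 ∨ μ = -1 ∨ μ ^ 2 = -1 := by
  rcases h1 with h | h | h
  · right; left
    have : μ * (μ + 1) = 0 := by linear_combination h - (μ + 1) * h3
    rcases mul_eq_zero.mp this with h' | h'
    · exact absurd h' hμ
    · exact eq_neg_of_add_eq_zero_left h'
  · left
    linear_combination h - h3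
  · rcases h1' with h' | h' | h'
    · left
      have : μ * (μ - 1) = 0 := by linear_combination h' + (μ - 1) * h3
      rcases mul_eq_zero.mp this with h'' | h''
      · exact absurd h'' hμ
      · exact sub_eq_zero.mp h''
    · right; left
      linear_combination (-1 : F) * h' + h3
    · right; right
      have : μ * (μ ^ 2 + 1) = 0 := by
        linear_combination h - h' - 16 * μ * h3 - 5 * μ * (μ ^ 2 + 1) * h3
      rcases mul_eq_zero.mp this with h'' | h''
      · exact absurd h'' hμ
      · exact eq_neg_of_add_eq_zero_left h''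

theorem trace_upper_lower (a b : F) : ((upper a * lower b : SL2) : M2).trace = 2 + a * b := by
  rw [Matrix.trace_fin_two]
  simp only [mul_00, mul_11, lower_coe, upper_coe, Matrix.of_apply,
    Matrix.cons_val', Matrix.cons_val_zero, Matrix.cons_val_one, Matrix.cons_val_fin_one]
  ring

theorem trace_upper_conj (a b : F) :
    ((upper a * (lower b * upper a * lower (-b)) : SL2) : M2).trace = 2 - (a * b) ^ 2 := by
  rw [Matrix.trace_fin_two]
  simp only [mul_00, mul_11, mul_01, mul_10, lower_coe, upper_coe, Matrix.of_apply,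
    Matrix.cons_val', Matrix.cons_val_zero, Matrix.cons_val_one, Matrix.cons_val_fin_one]
  ring

variable {H : Subgroup (Matrix.SpecialLinearGroup (Fin 2) F)}

variable (p : ℕ) [hp : Fact p.Prime] [CharP F p]

theorem lower_pow_char (b : F) : (lower b : SL2) ^ p = 1 := by
  rw [lower_pow, CharP.cast_eq_zero, zero_mul, lower_zero]

theorem exists_pair [Finite H] (hp2 : p ≠ 2) {a b : F} (ha : a ≠ 0) (hb : b ≠ 0)
    (hx : upper a ∈ H) (hy : lower b ∈ H) :
    ∃ x y : SL2, x ∈ H ∧ y ∈ H ∧ x ^ p = 1 ∧ y ^ p = 1 ∧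
      (((x * y : SL2) : M2).trace = 2 + 1 ∨ ((x * y : SL2) : M2).trace = 2 - 1 ∨
        ((x * y : SL2) : M2).trace = 2 - 2) := by
  have h2 : (2 : F) ≠ 0 := two_ne_zero_of_char p hp2
  have hne : PH H ≠ ⊥ := by
    intro hbot
    have hmem : (⟨upper a, hx⟩ : H) ∈ PH H := by
      rw [mem_PH]; exact upper_mem_Uni a
    rw [hbot, Subgroup.mem_bot] at hmem
    have := congrArg (fun x : H => (x : SL2)) hmem
    simp only [Subgroup.coe_one] at this
    exact ha ((upper_eq_one_iff a).mp this)
  have hnB : ∃ y : H, (y : SL2) ∉ Borel := by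
    refine ⟨⟨lower b, hy⟩, ?_⟩
    intro h
    have : ((lower b : SL2) : M2) 1 0 = 0 := h
    simp at this
    exact hb this
  rcases dichotomy p hp2 hne hnB with hidx | ⟨hQ, hord⟩
  · obtain ⟨s, hs, hsb⟩ := exists_upper_of_index hb hy hidx
    refine ⟨upper s, lower b, hs, hy, upper_pow_char p s, lower_pow_char p b, ?_⟩
    right; right
    rw [trace_upper_lower, hsb]
    ring
  · -- p = 3
    have hp3 : p = 3 := by
      obtain ⟨k, hk⟩ := IsPGroup.iff_card.mp (PH_isPGroup (H := H) p)
      rw [hQ] at hk
      have hk0 : k ≠ 0 := by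
        intro h0
        rw [h0, pow_zero] at hk
        omega
      have : p ∣ 3 := by rw [hk]; exact dvd_pow_self p hk0
      exact (Nat.prime_dvd_prime_iff_eq hp.out Nat.prime_three).mp this
    have h3 : (3 : F) = 0 := by
      have := CharP.cast_eq_zero F p
      rw [hp3] at this
      exact_mod_cast this
    have hyi : lower (-b) ∈ H := by
      rw [← lower_inv']; exact H.inv_mem hy
    have hord' : ∀ g : SL2, g ∈ H → g ^ 6 = 1 ∨ g ^ 4 = 1 ∨ g ^ 10 = 1 := by
      intro g hg
      rcases hord ⟨g, hg⟩ with h | h | h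
      · left
        have := congrArg (fun x : H => (x : SL2)) h
        simpa using this
      · right; left
        have := congrArg (fun x : H => (x : SL2)) h
        simpa using this
      · right; right
        have := congrArg (fun x : H => (x : SL2)) h
        simpa using this
    have t1 := trace_of_small_order h3 h2 _ (hord' _ (H.mul_mem hx hy))
    have t2 := trace_of_small_order h3 h2 _ (hord' _ (H.mul_mem hx hyi))
    rw [trace_upper_lower] at t1 t2
    have t2' : (2 - a * b) ^ 2 = 1 ∨ (2 - a * b) = 0 ∨ (2 - a * b) ^ 4 = -1 := by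
      have e : 2 + a * -b = 2 - a * b := by ring
      rw [e] at t2
      exact t2
    rcases exc_mu h3 (a * b) (mul_ne_zero ha hb) t1 t2' with h | h | h
    · refine ⟨upper a, lower b, hx, hy, upper_pow_char p a, lower_pow_char p b, ?_⟩
      left
      rw [trace_upper_lower, h]
    · refine ⟨upper a, lower b, hx, hy, upper_pow_char p a, lower_pow_char p b, ?_⟩
      right; left
      rw [trace_upper_lower, h]
      ring
    · refine ⟨upper a, lower b * upper a * lower (-b), hx,
        H.mul_mem (H.mul_mem hy hx) hyi, upper_pow_char p a, ?_, ?_⟩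
      · rw [← lower_inv', conj_pow, upper_pow_char]
        group
      · left
        rw [trace_upper_conj, h]
        ring

end Cfsg.Agent.Lib.Lead.DicksonSL2
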