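import Cfsg.Agent.Lib.Lead.DicksonSL2i

/-!
Two unipotent elements of `SL₂(F)` with `tr (x y) - 2` a nonzero element of the prime field
generate a copy of `SL₂(𝔽_p)` (lead).
-/

set_option autoImplicit false

namespace Cfsg.Agent.Lib.Lead.DicksonSL2

open Matrix Cfsg.Agent.Lib.Helper9.SL2Upper Cfsg.Agent.Lib.Lead.DicksonBase
  Cfsg.Agent.Lib.Helper15.TwoByTwo Cfsg.Agent.Lib.Lead.SL2Scalar

variable {F : Type*} [Field F]

local notation "SL2" => Matrix.SpecialLinearGroup (Fin 2) F
local notation "M2" => Matrix (Fin 2) (Fin 2) F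

/-- conjugation by an invertible matrix as an endomorphism of `SL₂(F)` -/
def conjHom (M Mi : M2) (h1 : M * Mi = 1) (h2 : Mi * M = 1) : SL2 →* SL2 where
  toFun A := ⟨M * (A : M2) * Mi, by
    rw [Matrix.det_mul, Matrix.det_mul, A.2, mul_one, ← Matrix.det_mul, h1, Matrix.det_one]⟩
  map_one' := by
    apply Subtype.ext
    show M * ((1 : SL2) : M2) * Mi = 1
    rw [Matrix.SpecialLinearGroup.coe_one, mul_one, h1]
  map_mul' := by
    intro A B
    apply Subtype.ext
    show M * ((A * B : SL2) : M2) * Mi = (M * (A : M2) * Mi) * (M * (B : M2) * Mi)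
    rw [Matrix.SpecialLinearGroup.coe_mul]
    calc M * ((A : M2) * (B : M2)) * Mi = M * (A : M2) * 1 * (B : M2) * Mi := by
          rw [mul_one]; simp only [mul_assoc]
      _ = M * (A : M2) * (Mi * M) * (B : M2) * Mi := by rw [h2]
      _ = _ := by simp only [mul_assoc]

theorem conjHom_coe (M Mi : M2) (h1 : M * Mi = 1) (h2 : Mi * M = 1) (A : SL2) :
    ((conjHom M Mi h1 h2 A : SL2) : M2) = M * (A : M2) * Mi := rfl

theorem conjHom_injective (M Mi : M2) (h1 : M * Mi = 1) (h2 : Mi * M = 1) :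
    Function.Injective (conjHom M Mi h1 h2) := by
  intro A B hAB
  have h := congrArg (fun X : SL2 => (X : M2)) hAB
  simp only [conjHom_coe] at h
  apply Subtype.ext
  calc (A : M2) = (Mi * M) * (A : M2) * (Mi * M) := by rw [h2, one_mul, mul_one]
    _ = Mi * (M * (A : M2) * Mi) * M := by simp only [mul_assoc]
    _ = Mi * (M * (B : M2) * Mi) * M := by rw [h]
    _ = (Mi * M) * (B : M2) * (Mi * M) := by simp only [mul_assoc]
    _ = (B : M2) := by rw [h2, one_mul, mul_one]

/-- the trace of a determinant-one matrix with a fixed vector is `2` -/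
theorem trace_eq_two_of_fix (g : M2) (hdet : g.det = 1) (e : Fin 2 → F) (he : e ≠ 0)
    (hge : g.mulVec e = e) : g.trace = 2 := by
  have hc := cayley g
  rw [hdet, one_smul] at hc
  have h1 : (g * g).mulVec e = e := by rw [← Matrix.mulVec_mulVec, hge, hge]
  rw [hc, Matrix.sub_mulVec, Matrix.smul_mulVec, hge, Matrix.one_mulVec] at h1
  have h2 : (g.trace - 2) • e = 0 := by
    rw [sub_smul, two_smul]
    rw [sub_eq_iff_eq_add] at h1
    rw [h1]; abel
  rcases smul_eq_zero.1 h2 with h | h
  · exact sub_eq_zero.1 h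
  · exact absurd h he

end Cfsg.Agent.Lib.Lead.DicksonSL2
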