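import Cfsg.Agent.Lib.Lead.DicksonSL2j

/-!
Two unipotent elements of `SL₂(F)` with `tr (x y) - 2` a nonzero element of the prime field
generate a copy of `SL₂(𝔽_p)`: the isomorphism (lead).
-/

set_option autoImplicit false

namespace Cfsg.Agent.Lib.Lead.DicksonSL2

open Matrix Cfsg.Agent.Lib.Helper9.SL2Upper Cfsg.Agent.Lib.Lead.DicksonBase
  Cfsg.Agent.Lib.Helper15.TwoByTwo Cfsg.Agent.Lib.Lead.SL2Scalar

variable {F : Type*} [Field F]

local notation "SL2" => Matrix.SpecialLinearGroup (Fin 2) F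
local notation "M2" => Matrix (Fin 2) (Fin 2) F

theorem lower_fix (s : F) : ((lower s : SL2) : M2).mulVec ![0, 1] = ![0, 1] := by
  ext i
  fin_cases i <;> simp [Matrix.mulVec, dotProduct, Fin.sum_univ_two]

/-- normal form of a pair of unipotent elements with independent fixed vectors -/
theorem exists_normal_form (x y : SL2) (v₁ v₂ : Fin 2 → F)
    (hx : (x : M2).mulVec v₁ = v₁) (hy : (y : M2).mulVec v₂ = v₂)
    (hδ : v₁ 0 * v₂ 1 - v₁ 1 * v₂ 0 ≠ 0) :
    ∃ (M Mi : M2) (h1 : M * Mi = 1) (h2 : Mi * M = 1) (a b : F),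
      x = conjHom M Mi h1 h2 (upper a) ∧ y = conjHom M Mi h1 h2 (lower b) := by
  set δ := v₁ 0 * v₂ 1 - v₁ 1 * v₂ 0 with hδdef
  let M : M2 := !![v₁ 0, v₂ 0; v₁ 1, v₂ 1]
  let Mi : M2 := δ⁻¹ • !![v₂ 1, -v₂ 0; -v₁ 1, v₁ 0]
  have h1 : M * Mi = 1 := by
    ext i j
    fin_cases i <;> fin_cases j <;>
      simp [M, Mi, Matrix.mul_apply, Fin.sum_univ_two] <;> field_simp <;> ring_nf
    all_goals (try rw [hδdef]) <;> ring
  have h2 : Mi * M = 1 := by
    ext i j
    fin_cases i <;> fin_cases j <;>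
      simp [M, Mi, Matrix.mul_apply, Fin.sum_univ_two] <;> field_simp <;> ring_nf
    all_goals (try rw [hδdef]) <;> ring
  have hM1 : M.mulVec ![1, 0] = v₁ := by
    ext i
    fin_cases i <;> simp [M, Matrix.mulVec, dotProduct, Fin.sum_univ_two]
  have hM2 : M.mulVec ![0, 1] = v₂ := by
    ext i
    fin_cases i <;> simp [M, Matrix.mulVec, dotProduct, Fin.sum_univ_two]
  have hx' : ((conjHom Mi M h2 h1 x : SL2) : M2).mulVec ![1, 0] = ![1, 0] := by
    rw [conjHom_coe, ← Matrix.mulVec_mulVec, ← Matrix.mulVec_mulVec, hM1, hx, ← hM1,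
      Matrix.mulVec_mulVec, h2, Matrix.one_mulVec]
  have hy' : ((conjHom Mi M h2 h1 y : SL2) : M2).mulVec ![0, 1] = ![0, 1] := by
    rw [conjHom_coe, ← Matrix.mulVec_mulVec, ← Matrix.mulVec_mulVec, hM2, hy, ← hM2,
      Matrix.mulVec_mulVec, h2, Matrix.one_mulVec]
  have hback : ∀ g : SL2, conjHom M Mi h1 h2 (conjHom Mi M h2 h1 g) = g := by
    intro g
    apply Subtype.ext
    rw [conjHom_coe, conjHom_coe]
    calc M * (Mi * (g : M2) * M) * Mi = (M * Mi) * (g : M2) * (M * Mi) := by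
          simp only [mul_assoc]
      _ = (g : M2) := by rw [h1, one_mul, mul_one]
  refine ⟨M, Mi, h1, h2, ((conjHom Mi M h2 h1 x : SL2) : M2) 0 1,
    ((conjHom Mi M h2 h1 y : SL2) : M2) 1 0, ?_, ?_⟩
  · rw [← eq_upper_of_fix _ hx', hback]
  · rw [← eq_lower_of_fix _ hy', hback]

end Cfsg.Agent.Lib.Lead.DicksonSL2
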