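import Cfsg.Agent.Lib.Lead.DicksonSL2k

/-!
Two unipotent elements of `SL₂(F)` with `tr (x y) - 2` a nonzero element of the prime field
generate a copy of `SL₂(𝔽_p)`: the theorem (lead).
-/

set_option autoImplicit false

namespace Cfsg.Agent.Lib.Lead.DicksonSL2

open Matrix Cfsg.Agent.Lib.Helper9.SL2Upper Cfsg.Agent.Lib.Lead.DicksonBase
  Cfsg.Agent.Lib.Helper15.TwoByTwo Cfsg.Agent.Lib.Lead.SL2Scalar

variable {F : Type*} [Field F]

local notation "SL2" => Matrix.SpecialLinearGroup (Fin 2) F
local notation "M2" => Matrix (Fin 2) (Fin 2) F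

theorem trace_conjHom (M Mi : M2) (h1 : M * Mi = 1) (h2 : Mi * M = 1) (A : SL2) :
    ((conjHom M Mi h1 h2 A : SL2) : M2).trace = (A : M2).trace := by
  rw [conjHom_coe, Matrix.trace_mul_comm, ← mul_assoc, h2, one_mul]

/-- dependent fixed vectors -/
theorem fix_of_det_zero (x : SL2) (v₁ v₂ : Fin 2 → F) (hv₁ : v₁ ≠ 0)
    (hx : (x : M2).mulVec v₁ = v₁) (hδ : v₁ 0 * v₂ 1 - v₁ 1 * v₂ 0 = 0) :
    (x : M2).mulVec v₂ = v₂ := by
  have key : ∃ c : F, v₂ = c • v₁ := by
    by_cases h0 : v₁ 0 = 0
    · have h1 : v₁ 1 ≠ 0 := by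
        intro h1
        apply hv₁
        ext i
        fin_cases i
        · exact h0
        · exact h1
      rw [h0, zero_mul, zero_sub, neg_eq_zero] at hδ
      have h20 : v₂ 0 = 0 := by
        rcases mul_eq_zero.mp hδ with h | h
        · exact absurd h h1
        · exact h
      refine ⟨v₂ 1 / v₁ 1, ?_⟩
      ext i
      fin_cases i
      · simp [h0, h20]
      · simp only [Fin.mk_one, Fin.isValue, Pi.smul_apply, smul_eq_mul]
        field_simp
    · refine ⟨v₂ 0 / v₁ 0, ?_⟩
      ext i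
      fin_cases i
      · simp only [Fin.zero_eta, Fin.isValue, Pi.smul_apply, smul_eq_mul]
        field_simp
      · simp only [Fin.mk_one, Fin.isValue, Pi.smul_apply, smul_eq_mul]
        field_simp
        linear_combination hδ
  obtain ⟨c, rfl⟩ := key
  rw [Matrix.mulVec_smul, hx]

section Map

variable {R : Type*} [Field R] (f : R →+* F)

theorem map_upper (s : R) :
    Matrix.SpecialLinearGroup.map f (upper s) = (upper (f s) : SL2) := by
  apply sl_ext <;> simp [Matrix.SpecialLinearGroup.map_apply_coe, RingHom.mapMatrix_apply]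

theorem map_lower (s : R) :
    Matrix.SpecialLinearGroup.map f (lower s) = (lower (f s) : SL2) := by
  apply sl_ext <;> simp [Matrix.SpecialLinearGroup.map_apply_coe, RingHom.mapMatrix_apply]

theorem map_injective (hf : Function.Injective f) :
    Function.Injective (Matrix.SpecialLinearGroup.map (n := Fin 2) f) := by
  intro A B hAB
  apply Subtype.ext
  ext i j
  have h := congrArg (fun X : SL2 => (X : M2) i j) hAB
  simp only [Matrix.SpecialLinearGroup.map_apply_coe, RingHom.mapMatrix_apply,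
    Matrix.map_apply] at h
  exact hf h

end Map

/-- the diagonal conjugation -/
theorem conj_diag_upper (a : F) (ha : a ≠ 0) :
    ∃ (D Di : M2) (h1 : D * Di = 1) (h2 : Di * D = 1),
      (∀ s, conjHom D Di h1 h2 (upper s) = upper (a * s)) ∧
      (∀ s, conjHom D Di h1 h2 (lower s) = lower (s / a)) := by
  have h1 : (!![a, 0; 0, 1] : M2) * !![a⁻¹, 0; 0, 1] = 1 := by
    ext i j
    fin_cases i <;> fin_cases j <;> simp [Matrix.mul_apply, Fin.sum_univ_two, ha]
  have h2 : (!![a⁻¹, 0; 0, 1] : M2) * !![a, 0; 0, 1] = 1 := by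
    ext i j
    fin_cases i <;> fin_cases j <;> simp [Matrix.mul_apply, Fin.sum_univ_two, ha]
  refine ⟨!![a, 0; 0, 1], !![a⁻¹, 0; 0, 1], h1, h2, ?_, ?_⟩
  · intro s
    apply sl_ext <;>
      simp [conjHom_coe, Matrix.mul_apply, Fin.sum_univ_two, ha]
  · intro s
    apply sl_ext <;>
      simp [conjHom_coe, Matrix.mul_apply, Fin.sum_univ_two, ha, div_eq_mul_inv]

variable (p : ℕ) [hp : Fact p.Prime] [CharP F p]

/-- **Theorem G**: two elements of order dividing `p` whose product has trace `2 + c`, with `c` a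
nonzero element of the prime field, generate a copy of `SL₂(𝔽_p)`. -/
theorem closure_pair_iso (x y : SL2) (hx : x ^ p = 1) (hy : y ^ p = 1) (c₀ : ZMod p)
    (hc₀ : c₀ ≠ 0)
    (htr : ((x * y : SL2) : M2).trace = 2 + ZMod.castHom (dvd_refl p) F c₀) :
    Nonempty (Subgroup.closure {x, y} ≃* Matrix.SpecialLinearGroup (Fin 2) (ZMod p)) := by
  set f : ZMod p →+* F := ZMod.castHom (dvd_refl p) F with hf
  have hfinj : Function.Injective f := RingHom.injective f
  have hc : f c₀ ≠ 0 := by
    intro h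
    apply hc₀
    apply hfinj
    rw [h, map_zero]
  obtain ⟨v₁, hv₁, hxv⟩ := exists_fixed_vector p x (k := 1) (by simpa using hx)
  obtain ⟨v₂, hv₂, hyv⟩ := exists_fixed_vector p y (k := 1) (by simpa using hy)
  have hδ : v₁ 0 * v₂ 1 - v₁ 1 * v₂ 0 ≠ 0 := by
    intro hδ
    have hxv₂ := fix_of_det_zero x v₁ v₂ hv₁ hxv hδ
    have hxy : ((x * y : SL2) : M2).mulVec v₂ = v₂ := by
      rw [Matrix.SpecialLinearGroup.coe_mul, ← Matrix.mulVec_mulVec, hyv, hxv₂]
    have := trace_eq_two_of_fix _ (x * y).2 v₂ hv₂ hxy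
    rw [htr] at this
    apply hc
    linear_combination this
  obtain ⟨M, Mi, h1, h2, a, b, hxa, hyb⟩ := exists_normal_form x y v₁ v₂ hxv hyv hδ
  have hab : a * b = f c₀ := by
    have h3 : ((x * y : SL2) : M2).trace = 2 + a * b := by
      rw [hxa, hyb, ← map_mul, trace_conjHom, trace_upper_lower]
    rw [htr] at h3
    linear_combination -h3
  have ha : a ≠ 0 := by
    rintro rfl
    rw [zero_mul] at hab
    exact hc hab.symm
  obtain ⟨D, Di, g1, g2, hDu, hDl⟩ := conj_diag_upper a ha
  let ψ : Matrix.SpecialLinearGroup (Fin 2) (ZMod p) →* SL2 :=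
    (conjHom M Mi h1 h2).comp ((conjHom D Di g1 g2).comp (Matrix.SpecialLinearGroup.map f))
  have hψinj : Function.Injective ψ :=
    (conjHom_injective M Mi h1 h2).comp
      ((conjHom_injective D Di g1 g2).comp (map_injective f hfinj))
  have hψu : ψ (upper 1) = x := by
    show conjHom M Mi h1 h2 (conjHom D Di g1 g2 (Matrix.SpecialLinearGroup.map f (upper 1))) = x
    rw [map_upper, hDu, map_one, mul_one, hxa]
  have hψl : ψ (lower c₀) = y := by
    show conjHom M Mi h1 h2 (conjHom D Di g1 g2 (Matrix.SpecialLinearGroup.map f (lower c₀))) = y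
    rw [map_lower, hDl, hyb, ← hab, mul_div_cancel_left₀ b ha]
  have hrange : ψ.range = Subgroup.closure {x, y} := by
    rw [MonoidHom.range_eq_map, ← closure_upper_lower (1 : ZMod p) c₀ one_ne_zero hc₀,
      MonoidHom.map_closure]
    congr 1
    rw [Set.image_pair, hψu, hψl]
  exact ⟨((MonoidHom.ofInjective hψinj).trans (MulEquiv.subgroupCongr hrange)).symm⟩

end Cfsg.Agent.Lib.Lead.DicksonSL2
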