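import Cfsg.Agent.Lib.Lead.DicksonSL2l

/-!
Dickson's theorem for `SL₂`: a subgroup of `SL₂(F)`, `F` finite of odd characteristic `p`, with more
than one Sylow `p`-subgroup contains a copy of `SL₂(𝔽_p)` (lead).
-/

set_option autoImplicit false

namespace Cfsg.Agent.Lib.Lead.DicksonSL2

open Matrix Cfsg.Agent.Lib.Helper9.SL2Upper Cfsg.Agent.Lib.Lead.DicksonBase
  Cfsg.Agent.Lib.Helper15.TwoByTwo Cfsg.Agent.Lib.Lead.SL2Scalar

variable {F : Type*} [Field F]

local notation "SL2" => Matrix.SpecialLinearGroup (Fin 2) F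
local notation "M2" => Matrix (Fin 2) (Fin 2) F

/-- the stabilizer of a vector, inside `H` -/
def stabIn (H : Subgroup (Matrix.SpecialLinearGroup (Fin 2) F)) (v : Fin 2 → F) :
    Subgroup H where
  carrier := {h | ((h : SL2) : M2).mulVec v = v}
  one_mem' := by
    show (((1 : H) : SL2) : M2).mulVec v = v
    rw [Subgroup.coe_one, Matrix.SpecialLinearGroup.coe_one, Matrix.one_mulVec]
  mul_mem' := by
    intro a b ha hb
    show (((a * b : H) : SL2) : M2).mulVec v = v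
    have ha' : ((a : SL2) : M2).mulVec v = v := ha
    have hb' : ((b : SL2) : M2).mulVec v = v := hb
    rw [Subgroup.coe_mul, Matrix.SpecialLinearGroup.coe_mul, ← Matrix.mulVec_mulVec, hb', ha']
  inv_mem' := by
    intro a ha
    show (((a⁻¹ : H) : SL2) : M2).mulVec v = v
    have ha' : ((a : SL2) : M2).mulVec v = v := ha
    have hinv : (((a⁻¹ : H) : SL2) : M2) * ((a : SL2) : M2) = 1 := by
      rw [← Matrix.SpecialLinearGroup.coe_mul, ← Subgroup.coe_mul, inv_mul_cancel,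
        Subgroup.coe_one, Matrix.SpecialLinearGroup.coe_one]
    calc (((a⁻¹ : H) : SL2) : M2).mulVec v
        = (((a⁻¹ : H) : SL2) : M2).mulVec (((a : SL2) : M2).mulVec v) := by rw [ha']
      _ = v := by rw [Matrix.mulVec_mulVec, hinv, Matrix.one_mulVec]

theorem mem_stabIn (H : Subgroup (Matrix.SpecialLinearGroup (Fin 2) F)) (v : Fin 2 → F) (h : H) :
    h ∈ stabIn H v ↔ ((h : SL2) : M2).mulVec v = v := Iff.rfl

variable (p : ℕ) [hp : Fact p.Prime] [CharP F p]

theorem stabIn_isPGroup (H : Subgroup (Matrix.SpecialLinearGroup (Fin 2) F)) (v : Fin 2 → F)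
    (hv : v ≠ 0) : IsPGroup p (stabIn H v) := by
  intro g
  refine ⟨1, ?_⟩
  rw [pow_one]
  apply Subtype.ext
  apply Subtype.ext
  have hg : (((g : H) : SL2) : M2).mulVec v = v := g.2
  have := pow_eq_one_of_fix p hp.out.ne_zero ((g : H) : SL2) v hv hg
  rw [Subgroup.coe_pow, Subgroup.coe_pow, this]
  rfl

/-- two `p`-elements with independent fixed vectors in a subgroup that is not `p`-closed -/
theorem exists_indep_pair (H : Subgroup (Matrix.SpecialLinearGroup (Fin 2) F)) [Finite H]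
    (hH : 1 < Nat.card (Sylow p H)) :
    ∃ (x y : SL2) (v₁ v₂ : Fin 2 → F), x ∈ H ∧ y ∈ H ∧ x ≠ 1 ∧ y ≠ 1 ∧
      (x : M2).mulVec v₁ = v₁ ∧ (y : M2).mulVec v₂ = v₂ ∧
      v₁ 0 * v₂ 1 - v₁ 1 * v₂ 0 ≠ 0 := by
  haveI : Nontrivial (Sylow p H) := Finite.one_lt_card_iff_nontrivial.mp hH
  obtain ⟨P₁, P₂, hne⟩ := exists_pair_ne (Sylow p H)
  have hnle : ¬ (P₁ : Subgroup H) ≤ P₂ := by
    intro hle
    apply hne
    apply Sylow.ext
    exact (P₁.is_maximal' P₂.2 hle).symm
  obtain ⟨g, hg₁, hg₂⟩ := SetLike.not_le_iff_exists.mp hnle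
  obtain ⟨k, hk⟩ := P₁.2 ⟨g, hg₁⟩
  have hk' : ((g : H) : SL2) ^ (p ^ k) = 1 := by
    have := congrArg (fun z : (P₁ : Subgroup H) => ((z : H) : SL2)) hk
    simpa using this
  obtain ⟨v₁, hv₁, hgv⟩ := exists_fixed_vector p (g : SL2) hk'
  have hy : ∃ y : H, y ∈ (P₂ : Subgroup H) ∧ ((y : SL2) : M2).mulVec v₁ ≠ v₁ := by
    by_contra hcon
    push_neg at hcon
    have hle : (P₂ : Subgroup H) ≤ stabIn H v₁ := fun y hy => hcon y hy
    have := P₂.is_maximal' (stabIn_isPGroup p H v₁ hv₁) hle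
    apply hg₂
    rw [← this]
    exact hgv
  obtain ⟨y, hyP, hyv⟩ := hy
  obtain ⟨l, hl⟩ := P₂.2 ⟨y, hyP⟩
  have hl' : ((y : H) : SL2) ^ (p ^ l) = 1 := by
    have := congrArg (fun z : (P₂ : Subgroup H) => ((z : H) : SL2)) hl
    simpa using this
  obtain ⟨v₂, hv₂, hyv₂⟩ := exists_fixed_vector p (y : SL2) hl'
  refine ⟨g, y, v₁, v₂, g.2, y.2, ?_, ?_, hgv, hyv₂, ?_⟩
  · intro h1
    apply hg₂
    have : g = 1 := Subtype.ext h1
    rw [this]
    exact one_mem _
  · intro h1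
    apply hyv
    rw [h1, Matrix.SpecialLinearGroup.coe_one, Matrix.one_mulVec]
  · intro hδ
    apply hyv
    apply fix_of_det_zero (y : SL2) v₂ v₁ hv₂ hyv₂
    linear_combination -hδ

/-- **Dickson's theorem for `SL₂`** (the `p`-unclosed case). -/
theorem exists_SL2p [Finite F] (hp2 : p ≠ 2) (H : Subgroup (Matrix.SpecialLinearGroup (Fin 2) F))
    (hH : 1 < Nat.card (Sylow p H)) :
    ∃ K : Subgroup SL2, K ≤ H ∧
      Nonempty (K ≃* Matrix.SpecialLinearGroup (Fin 2) (ZMod p)) := by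
  haveI : Fintype F := Fintype.ofFinite F
  haveI : Finite SL2 := inferInstance
  obtain ⟨x, y, v₁, v₂, hxH, hyH, hx1, hy1, hxv, hyv, hδ⟩ := exists_indep_pair p H hH
  obtain ⟨M, Mi, h1, h2, a, b, hxa, hyb⟩ := exists_normal_form x y v₁ v₂ hxv hyv hδ
  have ha : a ≠ 0 := by
    rintro rfl
    apply hx1
    rw [hxa, upper_zero, map_one]
  have hb : b ≠ 0 := by
    rintro rfl
    apply hy1
    rw [hyb, lower_zero, map_one]
  set φ := conjHom M Mi h1 h2 with hφ
  have hua : upper a ∈ H.comap φ := by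
    rw [Subgroup.mem_comap, ← hxa]; exact hxH
  have hlb : lower b ∈ H.comap φ := by
    rw [Subgroup.mem_comap, ← hyb]; exact hyH
  obtain ⟨x', y', hx', hy', hx'p, hy'p, htr⟩ := exists_pair (H := H.comap φ) p hp2 ha hb hua hlb
  have hx'' : φ x' ∈ H := hx'
  have hy'' : φ y' ∈ H := hy'
  have hxp : φ x' ^ p = 1 := by rw [← map_pow, hx'p, map_one]
  have hyp : φ y' ^ p = 1 := by rw [← map_pow, hy'p, map_one]
  have htr' : ((φ x' * φ y' : SL2) : M2).trace = ((x' * y' : SL2) : M2).trace := by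
    rw [← map_mul, hφ, trace_conjHom]
  have h2ne : (2 : ZMod p) ≠ 0 := by
    intro h
    have h2' : ((2 : ℕ) : ZMod p) = 0 := by exact_mod_cast h
    rw [ZMod.natCast_eq_zero_iff] at h2'
    exact hp2 ((Nat.prime_dvd_prime_iff_eq hp.out Nat.prime_two).mp h2')
  refine ⟨Subgroup.closure {φ x', φ y'}, ?_, ?_⟩
  · rw [Subgroup.closure_le]
    intro z hz
    rcases hz with rfl | rfl
    · exact hx''
    · exact hy''
  · rcases htr with h | h | h
    · apply closure_pair_iso p _ _ hxp hyp 1 one_ne_zero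
      rw [htr', h, map_one]
    · apply closure_pair_iso p _ _ hxp hyp (-1) (neg_ne_zero.mpr one_ne_zero)
      rw [htr', h, map_neg, map_one]; ring
    · apply closure_pair_iso p _ _ hxp hyp (-2) (neg_ne_zero.mpr h2ne)
      rw [htr', h, map_neg, map_ofNat]; ring

end Cfsg.Agent.Lib.Lead.DicksonSL2
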