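import Mathlib
import Cfsg.Agent.S0799
import Cfsg.Agent.Lib.Helper16.DkMax2
import Cfsg.Agent.Lib.Helper1.DkMinIndex
import Cfsg.Agent.Lib.Helper12.DkE

/-!
Dihedral subgroups of `PSL₂(q)` of order `2(q ± 1)/d` are maximal: preliminaries (lead).
-/

set_option autoImplicit false

namespace Cfsg.Agent.Lib.Lead.DkCoatom

open Cfsg.Agent.Lib.Helper12.DkG Cfsg.Agent.Lib.Helper16.DkMax Cfsg.Agent.Lib.Lead.DicksonSL2

local notation "SL2" => Matrix.SpecialLinearGroup (Fin 2)
local notation "PSL2" => Matrix.ProjectiveSpecialLinearGroup (Fin 2)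
local notation "PGL2" => Matrix.ProjGenLinGroup (Fin 2)

/-- dihedral groups of degree at least `2` are not cyclic -/
theorem dihedral_not_cyclic {n : ℕ} (hn : 2 ≤ n) : ¬ IsCyclic (DihedralGroup n) := by
  intro hc
  classical
  haveI : NeZero n := ⟨by omega⟩
  haveI : Fact (1 < n) := ⟨by omega⟩
  have h := IsCyclic.card_pow_eq_one_le (α := DihedralGroup n) (n := 2) (by norm_num)
  have hsub : ({1, DihedralGroup.sr 0, DihedralGroup.sr 1} : Finset (DihedralGroup n)) ⊆
      Finset.univ.filter (fun a : DihedralGroup n => a ^ 2 = 1) := by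
    intro x hx
    simp only [Finset.mem_insert, Finset.mem_singleton] at hx
    rw [Finset.mem_filter]
    refine ⟨Finset.mem_univ _, ?_⟩
    rcases hx with rfl | rfl | rfl
    · simp
    · rw [pow_two]; simp
    · rw [pow_two]; simp
  have hcard : ({1, DihedralGroup.sr 0, DihedralGroup.sr 1} : Finset (DihedralGroup n)).card = 3 := by
    rw [Finset.card_eq_three]
    refine ⟨1, DihedralGroup.sr 0, DihedralGroup.sr 1, ?_, ?_, ?_, rfl⟩
    · rw [DihedralGroup.one_def]; exact fun h => by cases h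
    · rw [DihedralGroup.one_def]; exact fun h => by cases h
    · intro h
      have : (0 : ZMod n) = 1 := by injection h
      exact zero_ne_one this
  have := Finset.card_le_card hsub
  omega

/-- the commutator of the standard generators of a dihedral group -/
theorem dihedral_comm (n : ℕ) :
    (DihedralGroup.r 1 : DihedralGroup n) * DihedralGroup.sr 0 * (DihedralGroup.r 1)⁻¹ *
      (DihedralGroup.sr 0)⁻¹ = DihedralGroup.r 1 ^ 2 := by
  rw [DihedralGroup.r_one_pow]
  simp only [DihedralGroup.r_mul_sr, DihedralGroup.inv_r, DihedralGroup.sr_mul_r,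
    DihedralGroup.inv_sr, DihedralGroup.sr_mul_sr]
  congr 1
  push_cast
  ring

/-- the image of the rotation under an injective homomorphism has order `n` -/
theorem orderOf_image_r {n : ℕ} {X : Type*} [Group X] (φ : DihedralGroup n →* X)
    (hφ : Function.Injective φ) : orderOf (φ (DihedralGroup.r 1)) = n := by
  rw [orderOf_injective φ hφ, DihedralGroup.orderOf_r_one]

/-- a dihedral group of degree `n ≥ 3` coprime to `p` does not embed in the normalizer of a
Sylow `p`-subgroup of `PSL₂(F)` -/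
theorem not_le_normalizer_of_dihedral {F : Type*} [Field F] [Fintype F] (p : ℕ) [Fact p.Prime]
    [CharP F p] {n : ℕ} (hn : 3 ≤ n) (hcop : Nat.Coprime n p) (P : Sylow p (PSL2 F))
    (φ : DihedralGroup n →* PSL2 F) (hφ : Function.Injective φ)
    (himg : ∀ x, φ x ∈ Subgroup.normalizer ((P : Subgroup (PSL2 F)) : Set (PSL2 F))) : False := by
  have hc := comm_mem_of_mem_normalizer p P (φ (DihedralGroup.r 1)) (φ (DihedralGroup.sr 0))
    (himg _) (himg _)
  rw [← map_inv, ← map_inv, ← map_mul, ← map_mul, ← map_mul, dihedral_comm] at hc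
  obtain ⟨k, hk⟩ := P.isPGroup' ⟨_, hc⟩
  have hk' : (φ (DihedralGroup.r 1 ^ 2)) ^ (p ^ k) = 1 := by
    have := congrArg Subtype.val hk
    simpa using this
  rw [← map_pow, ← pow_mul] at hk'
  have h1 : (DihedralGroup.r 1 : DihedralGroup n) ^ (2 * p ^ k) = 1 := by
    apply hφ
    rw [hk', map_one]
  have h2 : n ∣ 2 * p ^ k := by
    rw [← DihedralGroup.orderOf_r_one (n := n)]
    exact orderOf_dvd_of_pow_eq_one h1
  have h3 : n ∣ 2 := (Nat.Coprime.pow_right k hcop).dvd_of_dvd_mul_right h2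
  have := Nat.le_of_dvd (by norm_num) h3
  omega

theorem A4_pow : ∀ g : alternatingGroup (Fin 4), g ^ 2 = 1 ∨ g ^ 3 = 1 := by decide

set_option maxRecDepth 100000 in
theorem S4_pow : ∀ g : Equiv.Perm (Fin 4), g ^ 4 = 1 ∨ g ^ 3 = 1 := by decide +kernel

set_option maxRecDepth 100000 in
theorem A4_no_S3 : ∀ a b : alternatingGroup (Fin 4), a ^ 3 = 1 → b ^ 2 = 1 → b * a * b⁻¹ = a⁻¹ →
    a = 1 ∨ b = 1 := by decide +kernel

set_option maxRecDepth 100000 in
theorem A5_pow : ∀ g : alternatingGroup (Fin 5), g ^ 2 = 1 ∨ g ^ 3 = 1 ∨ g ^ 5 = 1 := by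
  decide +kernel

end Cfsg.Agent.Lib.Lead.DkCoatom
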