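import Cfsg.Agent.Lib.Lead.DkCoatomA

/-!
Dihedral subgroups of `PSL₂(q)` of order `2(q ± 1)/d` are maximal: cyclic `p'`-subgroups (lead).
-/

set_option autoImplicit false

namespace Cfsg.Agent.Lib.Lead.DkCoatom

open Cfsg.Agent.Lib.Helper12.DkG Cfsg.Agent.Lib.Helper16.DkMax Cfsg.Agent.Lib.Lead.DicksonSL2

local notation "SL2" => Matrix.SpecialLinearGroup (Fin 2)
local notation "PSL2" => Matrix.ProjectiveSpecialLinearGroup (Fin 2)
local notation "PGL2" => Matrix.ProjGenLinGroup (Fin 2)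

theorem gcd_cases (q : ℕ) (hq : 1 ≤ q) :
    (q % 2 = 0 ∧ Nat.gcd 2 (q - 1) = 1) ∨ (q % 2 = 1 ∧ Nat.gcd 2 (q - 1) = 2) := by
  rcases Nat.even_or_odd q with ⟨k, hk⟩ | ⟨k, hk⟩
  · left
    refine ⟨by omega, ?_⟩
    have : q - 1 = 2 * (k - 1) + 1 := by omega
    rw [this]; simp
  · right
    refine ⟨by omega, ?_⟩
    have : q - 1 = 2 * k := by omega
    rw [this]; simp

/-- conclusions (a), (c) of Dickson's theorem for a `p'`-subgroup of `PSL₂(F)` -/
theorem conclAC_of_not_dvd {F : Type*} [Field F] [Fintype F] (p : ℕ) [Fact p.Prime] [CharP F p]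
    (H : Subgroup (PSL2 F)) (hnd : ¬ p ∣ Nat.card H) :
    ConclAC (Fintype.card F) (Nat.gcd 2 (Fintype.card F - 1)) H := by
  classical
  have hπs : Function.Surjective (QuotientGroup.mk' (Subgroup.center (SL2 F))) :=
    QuotientGroup.mk'_surjective _
  obtain ⟨Hh, hHh⟩ : ∃ Hh : Subgroup (SL2 F),
      Hh = H.comap (QuotientGroup.mk' (Subgroup.center (SL2 F))) := ⟨_, rfl⟩
  have hmap : Hh.map (QuotientGroup.mk' (Subgroup.center (SL2 F))) = H := by
    rw [hHh]; exact Subgroup.map_comap_eq_self_of_surjective hπs H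
  have hZle : Subgroup.center (SL2 F) ≤ Hh := by
    intro z hz
    rw [hHh, Subgroup.mem_comap, QuotientGroup.mk'_apply, (QuotientGroup.eq_one_iff z).mpr hz]
    exact H.one_mem
  have hz := Cfsg.Agent.S0799.card_ZH_of_center_le hZle
  haveI : Finite (SL2 F) := inferInstance
  obtain ⟨e⟩ := quot_equiv Hh
  have e' : (↥Hh ⧸ ZH Hh) ≃* H := e.trans (MulEquiv.subgroupCongr hmap)
  have hcard : Nat.card Hh = Nat.card H * Nat.card (ZH Hh) := by
    rw [Subgroup.card_eq_card_quotient_mul_card_subgroup (ZH Hh), Nat.card_congr e'.toEquiv]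
  have hnd' : ¬ p ∣ Nat.card Hh := by
    rw [hcard]
    intro h
    rcases (Nat.Prime.dvd_mul Fact.out).mp h with h | h
    · exact hnd h
    · have hc := Cfsg.Agent.Lib.Helper12.DkE.coprime_card_ZH (H := Hh) p
      have h1 : p ∣ 1 := by
        rw [← hc]
        exact Nat.dvd_gcd h dvd_rfl
      exact (Fact.out : p.Prime).one_lt.ne' (Nat.dvd_one.mp h1)
  have h1 := T1 (H := Hh) p hnd'
  rw [hz] at h1
  exact ConclAC.congr e' h1

/-- a cyclic `p'`-subgroup of `PSL₂(K)` has order at most `(r + 1)/d` -/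
theorem cyclic_card_le {K : Type*} [Field K] [Fintype K] (p : ℕ) [Fact p.Prime] [CharP K p]
    (C : Subgroup (PSL2 K)) (hC : IsCyclic C) (hnd : ¬ p ∣ Nat.card C) :
    Nat.card C * Nat.gcd 2 (Fintype.card K - 1) ≤ Fintype.card K + 1 := by
  have hr2 : 2 ≤ Fintype.card K := Fintype.one_lt_card
  have hd0 : 0 < Nat.gcd 2 (Fintype.card K - 1) := Nat.gcd_pos_of_pos_left _ (by norm_num)
  have hd2 : Nat.gcd 2 (Fintype.card K - 1) ≤ 2 := Nat.le_of_dvd (by norm_num) (Nat.gcd_dvd_left _ _)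
  rcases conclAC_of_not_dvd p C hnd with ⟨k, hk, ⟨-, hk'⟩ | ⟨⟨e⟩⟩⟩ | ⟨⟨e⟩⟩ | ⟨⟨e⟩⟩ | ⟨⟨e⟩⟩
  · rw [hk']
    rcases hk with hk | hk
    · have h1 : 0 < (Fintype.card K + 1) / Nat.gcd 2 (Fintype.card K - 1) :=
        Nat.div_pos (by omega) hd0
      calc k * Nat.gcd 2 (Fintype.card K - 1)
          ≤ (Fintype.card K + 1) / Nat.gcd 2 (Fintype.card K - 1) *
            Nat.gcd 2 (Fintype.card K - 1) := Nat.mul_le_mul_right _ (Nat.le_of_dvd h1 hk)
        _ ≤ Fintype.card K + 1 := Nat.div_mul_le_self _ _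
    · have hdd : Nat.gcd 2 (Fintype.card K - 1) ∣ Fintype.card K - 1 := Nat.gcd_dvd_right _ _
      have h1 : 0 < (Fintype.card K - 1) / Nat.gcd 2 (Fintype.card K - 1) :=
        Nat.div_pos (Nat.le_of_dvd (by omega) hdd) hd0
      calc k * Nat.gcd 2 (Fintype.card K - 1)
          ≤ (Fintype.card K - 1) / Nat.gcd 2 (Fintype.card K - 1) *
            Nat.gcd 2 (Fintype.card K - 1) := Nat.mul_le_mul_right _ (Nat.le_of_dvd h1 hk)
        _ ≤ Fintype.card K - 1 := Nat.div_mul_le_self _ _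
        _ ≤ Fintype.card K + 1 := by omega
  · -- dihedral and cyclic
    have hcyc : IsCyclic (DihedralGroup k) := isCyclic_of_surjective e e.surjective
    have hk1 : k < 2 := by
      by_contra h
      exact dihedral_not_cyclic (not_lt.mp h) hcyc
    have hcard : Nat.card C = 2 * k := by
      rw [Nat.card_congr e.toEquiv, DihedralGroup.nat_card]
    have hpos : 0 < Nat.card C := Nat.card_pos
    have hk1' : k = 1 := by omega
    rw [hk1'] at hcard
    have hp2 : p ≠ 2 := by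
      rintro rfl
      apply hnd
      rw [hcard]
    obtain ⟨a, hpp, hqa⟩ := FiniteField.card K p
    have hp3 : 3 ≤ p := by
      have := hpp.two_le
      omega
    have hple : p ≤ Fintype.card K := by
      rw [hqa]
      calc p = p ^ 1 := (pow_one p).symm
        _ ≤ p ^ (a : ℕ) := Nat.pow_le_pow_right hpp.pos a.pos
    rw [hcard]
    calc 2 * 1 * Nat.gcd 2 (Fintype.card K - 1) ≤ 2 * 1 * 2 := Nat.mul_le_mul_left _ hd2
      _ ≤ Fintype.card K + 1 := by omega
  · exact absurd hC (HasPair.not_cyclic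
      (HasPair.of_injective e.symm.toMonoidHom e.symm.injective hasPair_A4))
  · exact absurd hC (HasPair.not_cyclic
      (HasPair.of_injective e.symm.toMonoidHom e.symm.injective hasPair_S4))
  · exact absurd hC (HasPair.not_cyclic
      (HasPair.of_injective e.symm.toMonoidHom e.symm.injective hasPair_A5))

/-- squares in `PGL₂(K)` come from `PSL₂(K)` -/
theorem sq_mem_range_toPGL {K : Type*} [Field K] (y : PGL2 K) :
    ∃ x : PSL2 K, Matrix.ProjectiveSpecialLinearGroup.toPGL x = y ^ 2 := by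
  induction y using Matrix.ProjGenLinGroup.induction_on with | mk g =>
  have hdet : ((g.det⁻¹ : Kˣ) : K) ^ 2 * (g.1 * g.1).det = 1 := by
    rw [Matrix.det_mul]
    have h1 : ((g.det⁻¹ : Kˣ) : K) * (g.det : K) = 1 := by
      rw [← Units.val_mul, inv_mul_cancel, Units.val_one]
    have h2 : (g.1).det = (g.det : K) := rfl
    rw [h2]
    linear_combination ((g.det⁻¹ : Kˣ) : K) * (g.det : K) * h1 + h1
  have hdet' : (((g.det⁻¹ : Kˣ) : K) • (g.1 * g.1)).det = 1 := by
    rw [Matrix.det_smul, Fintype.card_fin]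
    exact hdet
  let h : SL2 K := ⟨((g.det⁻¹ : Kˣ) : K) • (g.1 * g.1), hdet'⟩
  refine ⟨(QuotientGroup.mk h : PSL2 K), ?_⟩
  have e1 : Matrix.ProjectiveSpecialLinearGroup.toPGL (QuotientGroup.mk h : PSL2 K)
      = Matrix.ProjGenLinGroup.mk (Matrix.SpecialLinearGroup.toGL h) :=
    Matrix.ProjectiveSpecialLinearGroup.toPGL_mk h
  rw [e1, ← map_pow, Matrix.ProjGenLinGroup.mk_eq_mk_iff]
  refine ⟨g.det, Units.ext ?_⟩
  have h1 : ((g.det⁻¹ : Kˣ) : K) * (g.det : K) = 1 := by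
    rw [← Units.val_mul, inv_mul_cancel, Units.val_one]
  have hm : ((Matrix.SpecialLinearGroup.toGL h : GL (Fin 2) K) : Matrix (Fin 2) (Fin 2) K)
      = ((g.det⁻¹ : Kˣ) : K) • (g.1 * g.1) := rfl
  rw [Units.val_mul, Units.val_pow_eq_pow_val, pow_two, hm, Matrix.GeneralLinearGroup.coe_scalar,
    Matrix.scalar_apply, ← Matrix.smul_one_eq_diagonal, Matrix.smul_mul, Matrix.mul_smul,
    Matrix.mul_one, smul_smul, h1, one_smul]

end Cfsg.Agent.Lib.Lead.DkCoatom
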