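import Cfsg.Agent.Lib.Lead.DkCoatomB

/-!
Dihedral subgroups of `PSL₂(q)` of order `2(q ± 1)/d` are maximal: embeddings of dihedral groups in
`A₄`, `S₄`, `A₅`, `PSL₂(K)`, `PGL₂(K)` and the arithmetic of the small cases (lead).
-/

set_option autoImplicit false

namespace Cfsg.Agent.Lib.Lead.DkCoatom

open Cfsg.Agent.Lib.Helper12.DkG Cfsg.Agent.Lib.Helper16.DkMax Cfsg.Agent.Lib.Lead.DicksonSL2
open Cfsg.Agent.Lib.Helper1.DkOrders

local notation "SL2" => Matrix.SpecialLinearGroup (Fin 2)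
local notation "PSL2" => Matrix.ProjectiveSpecialLinearGroup (Fin 2)
local notation "PGL2" => Matrix.ProjGenLinGroup (Fin 2)

theorem no_embed_A4 {n : ℕ} (hn : 3 ≤ n) (φ : DihedralGroup n →* alternatingGroup (Fin 4))
    (hφ : Function.Injective φ) : False := by
  have ho := orderOf_image_r φ hφ
  have hn3 : n = 3 := by
    rcases A4_pow (φ (DihedralGroup.r 1)) with h | h
    · have := Nat.le_of_dvd (by norm_num) (ho ▸ orderOf_dvd_of_pow_eq_one h)
      omega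
    · have := Nat.le_of_dvd (by norm_num) (ho ▸ orderOf_dvd_of_pow_eq_one h)
      omega
  subst hn3
  have h1 : φ (DihedralGroup.r 1) ^ 3 = 1 := by
    have := pow_orderOf_eq_one (φ (DihedralGroup.r 1))
    rwa [ho] at this
  have h2 : φ (DihedralGroup.sr 0) ^ 2 = 1 := by
    rw [← map_pow, pow_two, DihedralGroup.sr_mul_self, map_one]
  have h3 : φ (DihedralGroup.sr 0) * φ (DihedralGroup.r 1) * (φ (DihedralGroup.sr 0))⁻¹ =
      (φ (DihedralGroup.r 1))⁻¹ := by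
    rw [← map_inv, ← map_inv, ← map_mul, ← map_mul]
    congr 1
  rcases A4_no_S3 _ _ h1 h2 h3 with h | h
  · rw [h, orderOf_one] at ho
    omega
  · have : (DihedralGroup.sr 0 : DihedralGroup 3) = 1 := hφ (by rw [h, map_one])
    exact absurd this (by decide)

theorem embed_S4 {n : ℕ} (hn : 3 ≤ n) (φ : DihedralGroup n →* Equiv.Perm (Fin 4))
    (hφ : Function.Injective φ) : n = 3 ∨ n = 4 := by
  have ho := orderOf_image_r φ hφ
  rcases S4_pow (φ (DihedralGroup.r 1)) with h | h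
  · have h1 : n ∣ 4 := ho ▸ orderOf_dvd_of_pow_eq_one h
    have := Nat.le_of_dvd (by norm_num) h1
    right
    interval_cases n
    · omega
    · rfl
  · have := Nat.le_of_dvd (by norm_num) (ho ▸ orderOf_dvd_of_pow_eq_one h)
    omega

theorem embed_A5 {n : ℕ} (hn : 3 ≤ n) (φ : DihedralGroup n →* alternatingGroup (Fin 5))
    (hφ : Function.Injective φ) : n = 3 ∨ n = 5 := by
  have ho := orderOf_image_r φ hφ
  rcases A5_pow (φ (DihedralGroup.r 1)) with h | h | h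
  · have := Nat.le_of_dvd (by norm_num) (ho ▸ orderOf_dvd_of_pow_eq_one h)
    omega
  · have := Nat.le_of_dvd (by norm_num) (ho ▸ orderOf_dvd_of_pow_eq_one h)
    omega
  · have h1 : n ∣ 5 := ho ▸ orderOf_dvd_of_pow_eq_one h
    have := Nat.le_of_dvd (by norm_num) h1
    right
    interval_cases n
    · omega
    · omega
    · rfl

theorem not_dvd_of_coprime {n p : ℕ} (hp : p.Prime) (hcop : Nat.Coprime n p) {k : ℕ} (hk : k ∣ n) :
    ¬ p ∣ k := by
  intro h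
  have h1 : p ∣ Nat.gcd n p := Nat.dvd_gcd (h.trans hk) dvd_rfl
  rw [hcop] at h1
  exact hp.one_lt.ne' (Nat.dvd_one.mp h1)

theorem embed_PSL_le {K : Type*} [Field K] [Fintype K] (p : ℕ) [hp : Fact p.Prime] [CharP K p]
    {n : ℕ} (hcop : Nat.Coprime n p) (φ : DihedralGroup n →* PSL2 K)
    (hφ : Function.Injective φ) :
    n * Nat.gcd 2 (Fintype.card K - 1) ≤ Fintype.card K + 1 := by
  have ho := orderOf_image_r φ hφ
  have hc : Nat.card (Subgroup.zpowers (φ (DihedralGroup.r 1))) = n := by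
    rw [Nat.card_zpowers, ho]
  have h := cyclic_card_le p (Subgroup.zpowers (φ (DihedralGroup.r 1)))
    (Subgroup.isCyclic_zpowers _) (by rw [hc]; exact not_dvd_of_coprime hp.out hcop dvd_rfl)
  rwa [hc] at h

theorem embed_PGL_le {K : Type*} [Field K] [Fintype K] (p : ℕ) [hp : Fact p.Prime] [CharP K p]
    {n : ℕ} (hcop : Nat.Coprime n p) (φ : DihedralGroup n →* PGL2 K)
    (hφ : Function.Injective φ) :
    n * Nat.gcd 2 (Fintype.card K - 1) ≤ 2 * (Fintype.card K + 1) := by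
  have ho := orderOf_image_r φ hφ
  obtain ⟨x, hx⟩ := sq_mem_range_toPGL (φ (DihedralGroup.r 1))
  have hox : orderOf x = n / Nat.gcd n 2 := by
    rw [← orderOf_injective Matrix.ProjectiveSpecialLinearGroup.toPGL
      Matrix.ProjectiveSpecialLinearGroup.toPGL_injective x, hx, orderOf_pow' _ (by norm_num : (2 : ℕ) ≠ 0), ho]
  have hdvd : n / Nat.gcd n 2 ∣ n := Nat.div_dvd_of_dvd (Nat.gcd_dvd_left _ _)
  have hc : Nat.card (Subgroup.zpowers x) = n / Nat.gcd n 2 := by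
    rw [Nat.card_zpowers, hox]
  have h := cyclic_card_le p (Subgroup.zpowers x)
    (Subgroup.isCyclic_zpowers _) (by rw [hc]; exact not_dvd_of_coprime hp.out hcop hdvd)
  rw [hc] at h
  have hg2 : Nat.gcd n 2 ≤ 2 := Nat.le_of_dvd (by norm_num) (Nat.gcd_dvd_right _ _)
  have hn' : n = n / Nat.gcd n 2 * Nat.gcd n 2 := (Nat.div_mul_cancel (Nat.gcd_dvd_left _ _)).symm
  have hle : n ≤ n / Nat.gcd n 2 * 2 := by
    calc n = n / Nat.gcd n 2 * Nat.gcd n 2 := hn'
      _ ≤ n / Nat.gcd n 2 * 2 := Nat.mul_le_mul_left _ hg2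
  calc n * Nat.gcd 2 (Fintype.card K - 1)
      ≤ n / Nat.gcd n 2 * 2 * Nat.gcd 2 (Fintype.card K - 1) := Nat.mul_le_mul_right _ hle
    _ = 2 * (n / Nat.gcd n 2 * Nat.gcd 2 (Fintype.card K - 1)) := by ring
    _ ≤ 2 * (Fintype.card K + 1) := Nat.mul_le_mul_left _ h

theorem small_arith (q d n G c : ℕ) (hd : (q % 2 = 0 ∧ d = 1) ∨ (q % 2 = 1 ∧ d = 2))
    (hG : G * d = q * (q - 1) * (q + 1)) (hc : c ∣ G) (hcG : c ≠ G)
    (hs : (n * d = q + 1 ∧ q ≠ 7 ∧ q ≠ 9) ∨ (n * d = q - 1 ∧ q ≠ 7 ∧ q ≠ 9 ∧ q ≠ 11))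
    (hnc : (c = 24 ∧ (n = 3 ∨ n = 4)) ∨ (c = 60 ∧ (n = 3 ∨ n = 5))) : False := by
  rcases hd with ⟨hp, rfl⟩ | ⟨hp, rfl⟩ <;> rcases hs with ⟨h1, h2⟩ | ⟨h1, h2⟩ <;>
    rcases hnc with ⟨rfl, rfl | rfl⟩ | ⟨rfl, rfl | rfl⟩ <;>
    (have hq : q ≤ 11 := by omega) <;> interval_cases q <;> omega

theorem sq_sub_one' (r : ℕ) (hr : 1 ≤ r) : r ^ 2 - 1 = (r - 1) * (r + 1) := by
  obtain ⟨k, rfl⟩ : ∃ k, r = k + 1 := ⟨r - 1, by omega⟩
  rw [Nat.add_sub_cancel]
  have : (k + 1) ^ 2 = k * (k + 1 + 1) + 1 := by ring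
  rw [this, Nat.add_sub_cancel]

theorem subfield_arith (q r m n d dK G Mc : ℕ) (hq2 : 2 ≤ q) (hr2 : 2 ≤ r) (hm : r ^ m = q)
    (hd : (q % 2 = 0 ∧ d = 1) ∨ (q % 2 = 1 ∧ d = 2))
    (hdK : (r % 2 = 0 ∧ dK = 1) ∨ (r % 2 = 1 ∧ dK = 2))
    (hG : G * d = q * (q - 1) * (q + 1))
    (hMc : Mc * dK = r * (r - 1) * (r + 1) ∨ Mc = r * (r - 1) * (r + 1))
    (hb : 2 ≤ m → n * dK ≤ 2 * (r + 1))
    (hs : (n * d = q + 1 ∧ q ≠ 7 ∧ q ≠ 9) ∨ (n * d = q - 1 ∧ q ≠ 7 ∧ q ≠ 9 ∧ q ≠ 11))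
    (hlt : 2 * n < Mc) (hdvd : Mc ∣ G) (hne : Mc ≠ G) : False := by
  have hd0 : 0 < d := by rcases hd with ⟨-, rfl⟩ | ⟨-, rfl⟩ <;> norm_num
  have hGpos : 0 < G := by
    rcases Nat.eq_zero_or_pos G with h | h
    · exfalso
      rw [h, zero_mul] at hG
      have h1 : 0 < q * (q - 1) * (q + 1) :=
        Nat.mul_pos (Nat.mul_pos (by omega) (by omega)) (by omega)
      omega
    · exact h
  rcases Nat.lt_or_ge m 2 with hm2 | hm2
  · interval_cases m
    · rw [pow_zero] at hm; omega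
    · rw [pow_one] at hm
      subst hm
      have hdd : dK = d := by
        rcases hd with ⟨h1, rfl⟩ | ⟨h1, rfl⟩ <;> rcases hdK with ⟨h2, rfl⟩ | ⟨h2, rfl⟩ <;> omega
      subst hdd
      rcases hMc with h | h
      · exact hne (Nat.eq_of_mul_eq_mul_right hd0 (h.trans hG.symm))
      · have h1 : Mc ≤ G := Nat.le_of_dvd hGpos hdvd
        have h2 : G ≤ G * dK := Nat.le_mul_of_pos_right _ hd0
        rw [← hG] at h
        omega
  · have hb' := hb hm2
    have hpar : q % 2 = r % 2 := by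
      rw [← hm, Nat.pow_mod]
      rcases Nat.mod_two_eq_zero_or_one r with h | h
      · rw [h, zero_pow (by omega)]; norm_num
      · rw [h, one_pow]; norm_num
    have hdd : dK = d := by
      rcases hd with ⟨h1, rfl⟩ | ⟨h1, rfl⟩ <;> rcases hdK with ⟨h2, rfl⟩ | ⟨h2, rfl⟩ <;> omega
    subst hdd
    have hr2q : r ^ 2 ≤ q := by
      rw [← hm]; exact Nat.pow_le_pow_right (by omega) hm2
    have hq' : q ≤ 2 * r + 3 := by
      rcases hs with ⟨h1, -⟩ | ⟨h1, -⟩ <;> omega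
    have hr3 : r ≤ 3 := by
      by_contra h
      have h := not_le.mp h
      nlinarith
    have hm3 : m < 3 := by
      by_contra h
      have h := not_lt.mp h
      have h3 : r ^ 3 ≤ q := by
        rw [← hm]; exact Nat.pow_le_pow_right (by omega) h
      interval_cases r
      · norm_num at h3; omega
      · norm_num at h3; omega
    have hm2' : m = 2 := by omega
    subst hm2'
    interval_cases r
    · -- q = 4
      norm_num at hm
      subst hm
      rcases hdK with ⟨h2, rfl⟩ | ⟨h2, rfl⟩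
      · rcases hMc with h | h <;> rcases hs with ⟨h1, -⟩ | ⟨h1, -⟩ <;> omega
      · omega
    · norm_num at hm
      subst hm
      rcases hs with ⟨-, -, h⟩ | ⟨-, -, h, -⟩ <;> exact h rfl

end Cfsg.Agent.Lib.Lead.DkCoatom
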