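import Mathlib
import Cfsg.Agent.Lib.Lead.MaxClass
import Cfsg.Agent.Lib.Helper24.DihIso

/-! The central quotient of a `2`-group of maximal class is dihedral. -/

set_option autoImplicit false

namespace Cfsg.Agent.Lib.Lead.MaxClassDihedral

open Subgroup
open scoped commutatorElement
open Cfsg.Agent.Lib.Lead.CyclicMax
open Cfsg.Agent.Lib.Lead.UniqueOrderP
open Cfsg.Agent.Lib.Lead.Taussky
open Cfsg.Agent.Lib.Lead.MaxClass

universe u

theorem central_quotient_dihedral {X : Type u} [Group X] [Finite X] (n : ℕ) (hn : 3 ≤ n)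
    (hX : Nat.card X = 2 ^ n) (hidx : (commutator X).index = 4) :
    Nonempty (X ⧸ center X ≃* DihedralGroup (2 ^ (n - 2))) := by
  haveI : Fact (Nat.Prime 2) := ⟨Nat.prime_two⟩
  obtain ⟨a, b, hoa, hb, hai, hrel⟩ := structure_of_index_four n hn hX hidx
  have hZ := card_center_of_index_four n hn hX hidx
  have htop := closure_pair_eq_top Nat.prime_two hai hb
  set z := a ^ (2 ^ (n - 2)) with hz
  have hz2 : z * z = 1 := by
    rw [hz, ← pow_add, ← two_mul, ← pow_succ']
    have : n - 2 + 1 = n - 1 := by omega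
    rw [this, ← hoa]
    exact pow_orderOf_eq_one a
  have hzinv : z⁻¹ = z := inv_eq_of_mul_eq_one_left hz2
  have hz1 : z ≠ 1 := by
    apply pow_ne_one_of_lt_orderOf (by positivity)
    rw [hoa]
    apply Nat.pow_lt_pow_right (by norm_num)
    omega
  have hzodd : ∀ k : ℕ, z ^ (2 * k + 1) = z := by
    intro k
    rw [pow_succ, pow_mul, pow_two, hz2, one_pow, one_mul]
  -- `b` commutes with `z`
  have hbz : b * z * b⁻¹ = z := by
    rw [hz, ← conj_pow]
    rcases hrel with ⟨-, h⟩ | ⟨-, h⟩ | ⟨h4, -, h⟩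
    · rw [h, inv_pow, ← hz, hzinv]
    · rw [h, inv_pow, ← hz, hzinv]
    · rw [h, ← pow_mul, mul_comm, pow_mul, ← hz]
      obtain ⟨j, hj⟩ : ∃ j, n - 2 = j + 1 := ⟨n - 3, by omega⟩
      have : 2 ^ (n - 2) - 1 = 2 * (2 ^ j - 1) + 1 := by
        rw [hj, pow_succ]
        have : 1 ≤ 2 ^ j := Nat.one_le_two_pow
        omega
      rw [this, hzodd]
  have hzc : z ∈ center X := by
    have hle : closure ({a, b} : Set X) ≤ centralizer {z} := by
      rw [closure_le]
      rintro x (rfl | rfl)
      · rw [SetLike.mem_coe, mem_centralizer_singleton_iff, hz, ← pow_succ, ← pow_succ']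
      · rw [SetLike.mem_coe, mem_centralizer_singleton_iff]
        calc x * z = (x * z * x⁻¹) * x := by group
          _ = z * x := by rw [hbz]
    rw [htop] at hle
    rw [mem_center_iff]
    intro g
    have := hle (mem_top g)
    rw [mem_centralizer_singleton_iff] at this
    exact this
  -- the centre is `{1, z}`
  have hZelts : ∀ w ∈ center X, w = 1 ∨ w = z := by
    intro w hw
    obtain ⟨y, hy, huniq⟩ := (Nat.card_eq_two_iff' (1 : center X)).mp hZ
    by_cases hw1 : w = 1
    · exact Or.inl hw1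
    · right
      have e1 : (⟨w, hw⟩ : center X) = y := huniq _ (fun h => hw1 (by simpa using congrArg Subtype.val h))
      have e2 : (⟨z, hzc⟩ : center X) = y := huniq _ (fun h => hz1 (by simpa using congrArg Subtype.val h))
      simpa using congrArg Subtype.val (e1.trans e2.symm)
  have hZsq : ∀ w ∈ center X, w * w = 1 := by
    intro w hw
    rcases hZelts w hw with rfl | rfl
    · simp
    · exact hz2
  have hZa : center X ≤ zpowers a := by
    intro w hw
    rcases hZelts w hw with rfl | rfl
    · exact one_mem _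
    · exact pow_mem (mem_zpowers a) _
  have hkey : ∀ k : ℕ, a ^ k ∈ center X → 2 ^ (n - 2) ∣ k := by
    intro k hk
    have h1 := hZsq _ hk
    rw [← pow_add, ← two_mul] at h1
    have h2 := orderOf_dvd_of_pow_eq_one h1
    rw [hoa] at h2
    have h3 : (2 : ℕ) ^ (n - 1) = 2 * 2 ^ (n - 2) := by
      rw [← pow_succ']
      congr 1
      omega
    rw [h3] at h2
    exact Nat.dvd_of_mul_dvd_mul_left (by norm_num) h2
  -- pass to the quotient
  set π := QuotientGroup.mk' (center X) with hπ
  have hπs : Function.Surjective π := QuotientGroup.mk'_surjective _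
  have hπ1 : ∀ x : X, π x = 1 ↔ x ∈ center X := by
    intro x
    rw [hπ, QuotientGroup.mk'_apply, QuotientGroup.eq_one_iff]
  have hoā : orderOf (π a) = 2 ^ (n - 2) := by
    apply Nat.dvd_antisymm
    · apply orderOf_dvd_of_pow_eq_one
      rw [← map_pow, hπ1]
      exact hzc
    · apply hkey
      rw [← hπ1, map_pow]
      exact pow_orderOf_eq_one _
  set s := π b with hs
  set t := π b * π a with ht
  have hbsq : b ^ 2 ∈ center X := by
    rcases hrel with ⟨h, -⟩ | ⟨h, -⟩ | ⟨-, h, -⟩
    · rw [h]; exact one_mem _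
    · rw [h]; exact hzc
    · rw [h]; exact one_mem _
  have hs2 : s * s = 1 := by
    rw [hs, ← map_mul, hπ1, ← pow_two]
    exact hbsq
  have hsinv : s⁻¹ = s := inv_eq_of_mul_eq_one_left hs2
  have hconj : s * π a * s = (π a)⁻¹ := by
    have h1 : s * π a * s⁻¹ = (π a)⁻¹ := by
      rw [hs, ← map_inv, ← map_mul, ← map_mul, ← map_inv]
      rcases hrel with ⟨-, h⟩ | ⟨-, h⟩ | ⟨h4, -, h⟩
      · rw [h]
      · rw [h]
      · rw [h]
        have h5 : a ^ (2 ^ (n - 2) - 1) = z * a⁻¹ := by
          rw [hz, eq_mul_inv_iff_mul_eq, ← pow_succ]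
          congr 1
          have : 1 ≤ 2 ^ (n - 2) := Nat.one_le_two_pow
          omega
        rw [h5, map_mul, (hπ1 z).mpr hzc, one_mul]
    rw [hsinv] at h1
    exact h1
  have ht2 : t * t = 1 := by
    rw [ht]
    calc s * π a * (s * π a) = (s * π a * s) * π a := by group
      _ = 1 := by rw [hconj]; group
  have hs1 : s ≠ 1 := by
    rw [hs, Ne, hπ1]
    intro h
    exact hb (hZa h)
  have ht1 : t ≠ 1 := by
    rw [ht, ← map_mul, Ne, hπ1]
    intro h
    have h2 := hZa h
    apply hb
    have : b = (b * a) * a⁻¹ := by group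
    rw [this]
    exact mul_mem h2 (inv_mem (mem_zpowers a))
  have hos : orderOf s = 2 := orderOf_eq_prime (by rw [pow_two]; exact hs2) hs1
  have hot : orderOf t = 2 := orderOf_eq_prime (by rw [pow_two]; exact ht2) ht1
  have hst : s * t = π a := by
    rw [ht, ← mul_assoc, hs2, one_mul]
  have hcl : closure ({s, t} : Set (X ⧸ center X)) = ⊤ := by
    rw [eq_top_iff, ← Subgroup.map_top_of_surjective π hπs, ← htop, MonoidHom.map_closure,
      closure_le]
    rintro _ ⟨x, (hx | hx), rfl⟩
    · rw [hx, ← hst]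
      exact mul_mem (subset_closure (by simp)) (subset_closure (by simp))
    · rw [Set.mem_singleton_iff] at hx
      rw [hx]
      exact subset_closure (Set.mem_insert _ _)
  have hD := Cfsg.Agent.Lib.Helper24.closure_pair_equiv_dihedral hos hot
  rw [hst, hoā] at hD
  obtain ⟨e⟩ := hD
  exact ⟨(Subgroup.topEquiv.symm.trans (MulEquiv.subgroupCongr hcl.symm)).trans e⟩

end Cfsg.Agent.Lib.Lead.MaxClassDihedral
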