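import Mathlib
import Cfsg.Prelude.Def_Transfer
import Cfsg.Agent.Lib.Lead.NormalRankTwo

/-! Odd `p`: nonabelian `p`-groups in which every non-cyclic subgroup is self-centralizing have order `p³`. -/

set_option autoImplicit false

namespace Cfsg.Agent.Lib.Lead.SelfCentralizing

open Subgroup
open Cfsg.Agent.Lib.Lead.UniqueOrderP
open Cfsg.Agent.Lib.Lead.NormalRankTwo

variable {G : Type*} [Group G]

/-- the index of the centralizer of `y` is the size of the conjugacy class -/
theorem index_centralizer_eq_ncard_orbit [Finite G] (y : G) :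
    (centralizer {y}).index = (MulAction.orbit (ConjAct G) y).ncard := by
  rw [← MulAction.index_stabilizer]
  have h1 := Subgroup.card_mul_index (centralizer {y})
  have h2 := Subgroup.card_mul_index (MulAction.stabilizer (ConjAct G) y)
  have h3 : Nat.card (ConjAct G) = Nat.card G := rfl
  rw [← Subgroup.nat_card_centralizer_nat_card_stabilizer, h3, ← h1] at h2
  exact (Nat.eq_of_mul_eq_mul_left Nat.card_pos h2).symm

theorem backward [Finite G] {p : ℕ} [hp : Fact p.Prime] (hG : IsPGroup p G)
    (hna : ∃ x y : G, x * y ≠ y * x) (hcard : Nat.card G = p ^ 3) (H : Subgroup G)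
    (hH : ¬ IsCyclic H) : centralizer (H : Set G) ≤ H := by
  obtain ⟨k, hk⟩ := (hG.to_subgroup H).exists_card_eq
  have hk3 : k ≤ 3 := by
    have := Subgroup.card_subgroup_dvd_card H
    rw [hk, hcard] at this
    exact (Nat.pow_dvd_pow_iff_le_right hp.out.one_lt).mp this
  have hk2 : 2 ≤ k := by
    by_contra hlt
    apply hH
    have : k = 0 ∨ k = 1 := by omega
    rcases this with rfl | rfl
    · rw [pow_zero] at hk
      haveI : Subsingleton H := (Nat.card_eq_one_iff_unique.mp hk).1
      exact isCyclic_of_subsingleton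
    · exact isCyclic_of_prime_card (p := p) (by simpa using hk)
  have : k = 2 ∨ k = 3 := by omega
  rcases this with rfl | rfl
  · have hHc : ∀ a b : H, a * b = b * a := IsPGroup.commutative_of_card_eq_prime_sq hk
    intro g hg
    by_contra hgH
    rw [mem_centralizer_iff] at hg
    set S : Set G := (H : Set G) ∪ {g} with hS
    have hScomm : ∀ x ∈ S, ∀ y ∈ S, x * y = y * x := by
      intro x hx y hy
      rcases hx with hx | hx <;> rcases hy with hy | hy
      · exact congrArg Subtype.val (hHc ⟨x, hx⟩ ⟨y, hy⟩)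
      · rw [Set.mem_singleton_iff] at hy; subst hy; exact hg x hx
      · rw [Set.mem_singleton_iff] at hx; subst hx; exact (hg y hy).symm
      · rw [Set.mem_singleton_iff] at hx hy; rw [hx, hy]
    have hKc := closure_comm_of_comm S hScomm
    set K := closure S with hK
    have hHK : H ≤ K := fun x hx => Subgroup.subset_closure (Or.inl hx)
    have hgK : g ∈ K := Subgroup.subset_closure (Or.inr rfl)
    obtain ⟨j, hj⟩ := (hG.to_subgroup K).exists_card_eq
    have hj3 : j ≤ 3 := by
      have := Subgroup.card_subgroup_dvd_card K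
      rw [hj, hcard] at this
      exact (Nat.pow_dvd_pow_iff_le_right hp.out.one_lt).mp this
    have hj2 : 2 ≤ j := by
      have := Subgroup.card_dvd_of_le hHK
      rw [hj, hk] at this
      exact (Nat.pow_dvd_pow_iff_le_right hp.out.one_lt).mp this
    have hjne : j ≠ 2 := by
      rintro rfl
      have : H = K := Subgroup.eq_of_le_of_card_ge hHK (by rw [hj, hk])
      exact hgH (this ▸ hgK)
    have hj3' : j = 3 := by omega
    have hKtop : K = ⊤ := (Subgroup.card_eq_iff_eq_top K).mp (by rw [hj, hj3', hcard])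
    obtain ⟨x, y, hxy⟩ := hna
    exact hxy (hKc x (hKtop ▸ mem_top x) y (hKtop ▸ mem_top y))
  · have hHtop : H = ⊤ := (Subgroup.card_eq_iff_eq_top H).mp (by rw [hk, hcard])
    rw [hHtop]
    exact le_top

theorem forward [Finite G] {p : ℕ} [hp : Fact p.Prime] (hp2 : p ≠ 2) (hG : IsPGroup p G)
    (hna : ∃ x y : G, x * y ≠ y * x)
    (hsc : ∀ H : Subgroup G, ¬ IsCyclic H → centralizer (H : Set G) ≤ H) : Nat.card G = p ^ 3 := by
  have hGnc : ¬ IsCyclic (⊤ : Subgroup G) := by
    intro h
    obtain ⟨x, y, hxy⟩ := hna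
    letI := IsCyclic.commGroup (α := (⊤ : Subgroup G))
    have := mul_comm (⟨x, mem_top x⟩ : (⊤ : Subgroup G)) ⟨y, mem_top y⟩
    exact hxy (congrArg Subtype.val this)
  obtain ⟨A, -, hAn, ⟨hAcomm, hAexp⟩, hAcard⟩ := exists_normal_elementaryAbelian_sq hp2 hG ⊤ hGnc
  haveI := hAn
  have hAnc : ¬ IsCyclic A := by
    intro h
    obtain ⟨a, ha⟩ := IsCyclic.exists_ofOrder_eq_natCard (α := A)
    have h1 : a ^ p = 1 := Subtype.ext (by simpa using hAexp a.1 a.2)
    have h2 := orderOf_dvd_of_pow_eq_one h1
    rw [ha, hAcard] at h2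
    have := Nat.le_of_dvd hp.out.pos h2
    have hlt : p < p ^ 2 := by
      rw [pow_two]; exact lt_mul_of_one_lt_left hp.out.pos hp.out.one_lt
    omega
  have hcent : centralizer (A : Set G) ≤ A := hsc A hAnc
  have hAne : A ≠ ⊥ := by
    rintro rfl
    rw [Subgroup.card_bot] at hAcard
    have : 1 < p ^ 2 := Nat.one_lt_pow (by norm_num) hp.out.one_lt
    omega
  obtain ⟨z, hzA, hz1, hzc⟩ := exists_central_of_normal hG A hAne
  have hzp : z ^ p = 1 := hAexp z hzA
  have hordz : orderOf z = p := orderOf_eq_prime hzp hz1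
  have hZA : zpowers z ≤ A := zpowers_le.mpr hzA
  have hZcard : Nat.card (zpowers z) = p := by rw [Nat.card_zpowers, hordz]
  have hplt : p < p ^ 2 := by
    rw [pow_two]; exact lt_mul_of_one_lt_left hp.out.pos hp.out.one_lt
  obtain ⟨y, hyA, hyZ⟩ : ∃ y ∈ A, y ∉ zpowers z := by
    by_contra hcon
    push_neg at hcon
    have : A ≤ zpowers z := hcon
    have := Subgroup.card_le_of_le this
    rw [hAcard, hZcard] at this
    omega
  -- `A = ⟨z, y⟩`
  set B := closure ({z, y} : Set G) with hB
  have hzB : z ∈ B := Subgroup.subset_closure (by simp)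
  have hyB : y ∈ B := Subgroup.subset_closure (by simp)
  have hBA : B ≤ A := by
    rw [hB, closure_le]
    intro x hx
    rcases hx with rfl | rfl
    · exact hzA
    · exact hyA
  have hBeq : B = A := by
    apply Subgroup.eq_of_le_of_card_ge hBA
    obtain ⟨j, hj⟩ := (hG.to_subgroup B).exists_card_eq
    have hZB : zpowers z ≤ B := zpowers_le.mpr hzB
    have h1 := Subgroup.card_dvd_of_le hZB
    rw [hj, hZcard] at h1
    have hj1 : j ≠ 0 := by
      rintro rfl
      rw [pow_zero] at h1
      exact hp.out.one_lt.ne' (Nat.dvd_one.mp h1)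
    have hj2 : j ≠ 1 := by
      rintro rfl
      rw [pow_one] at hj
      have : zpowers z = B := Subgroup.eq_of_le_of_card_ge hZB (by rw [hj, hZcard])
      exact hyZ (this ▸ hyB)
    rw [hAcard, hj]
    exact Nat.pow_le_pow_right hp.out.pos (by omega)
  -- `C_G(y) ≤ A`
  have hCy : centralizer {y} ≤ A := by
    intro g hg
    apply hcent
    rw [mem_centralizer_iff]
    intro a ha
    have hle : B ≤ centralizer {g} := by
      rw [hB, closure_le]
      intro x hx
      rw [SetLike.mem_coe, mem_centralizer_iff]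
      intro w hw
      rw [Set.mem_singleton_iff] at hw
      subst hw
      rcases hx with rfl | rfl
      · exact (mem_center_iff.mp hzc w)
      · rw [mem_centralizer_iff] at hg
        exact (hg x rfl).symm
    have haB : a ∈ B := hBeq ▸ ha
    have := hle haB
    rw [mem_centralizer_iff] at this
    exact (this g rfl).symm
  -- class of `y`
  have horb : MulAction.orbit (ConjAct G) y ⊆ (A : Set G) \ (zpowers z : Set G) := by
    intro x hx
    rw [ConjAct.mem_orbit_conjAct, isConj_iff] at hx
    obtain ⟨c, hc⟩ := hx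
    have hxy : x = c⁻¹ * y * c := by rw [← hc]; group
    refine ⟨?_, ?_⟩
    · rw [hxy]
      have := hAn.conj_mem y hyA c⁻¹
      simpa using this
    · intro hxZ
      have hxc : x ∈ center G := (zpowers_le.mpr hzc) hxZ
      have : y = x := by
        rw [← hc, mem_center_iff.mp hxc c]
        group
      exact hyZ (this ▸ hxZ)
  have hidx : (centralizer {y}).index ≤ p ^ 2 - p := by
    rw [index_centralizer_eq_ncard_orbit]
    refine le_trans (Set.ncard_le_ncard horb (Set.toFinite _)) ?_
    rw [Set.ncard_diff (by exact_mod_cast hZA) (Set.toFinite _)]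
    have h1 : (A : Set G).ncard = p ^ 2 := by
      rw [← hAcard]; exact (Nat.card_coe_set_eq (A : Set G)).symm
    have h2 : (zpowers z : Set G).ncard = p := by
      rw [← hZcard]; exact (Nat.card_coe_set_eq (zpowers z : Set G)).symm
    rw [h1, h2]
  obtain ⟨n, hn⟩ := hG.exists_card_eq
  have hidx2 : (centralizer {y}).index ∣ p := by
    have h1 : (centralizer {y}).index ∣ p ^ n := by
      rw [← hn]; exact Subgroup.index_dvd_card _
    obtain ⟨j, -, hj⟩ := (Nat.dvd_prime_pow hp.out).mp h1
    rw [hj] at hidx ⊢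
    have : j ≤ 1 := by
      by_contra hgt
      have : p ^ 2 ≤ p ^ j := Nat.pow_le_pow_right hp.out.pos (by omega)
      have hp0 := hp.out.pos
      omega
    calc p ^ j ∣ p ^ 1 := pow_dvd_pow p this
      _ = p := pow_one p
  have hle : Nat.card G ≤ p ^ 3 := by
    rw [← Subgroup.card_mul_index (centralizer {y})]
    calc Nat.card (centralizer {y}) * (centralizer {y}).index ≤ p ^ 2 * p :=
          Nat.mul_le_mul (by rw [← hAcard]; exact Subgroup.card_le_of_le hCy)
            (Nat.le_of_dvd hp.out.pos hidx2)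
      _ = p ^ 3 := by ring
  have hn3 : n ≤ 3 := by
    rw [hn] at hle
    exact (Nat.pow_le_pow_iff_right hp.out.one_lt).mp hle
  have hn2 : 3 ≤ n := by
    by_contra hlt
    have hA2 := Subgroup.card_subgroup_dvd_card A
    rw [hAcard, hn] at hA2
    have h2 : 2 ≤ n := (Nat.pow_dvd_pow_iff_le_right hp.out.one_lt).mp hA2
    have : n = 2 := by omega
    rw [this] at hn
    obtain ⟨x, y, hxy⟩ := hna
    exact hxy (IsPGroup.commutative_of_card_eq_prime_sq hn x y)
  rw [hn]
  congr 1
  omega

end Cfsg.Agent.Lib.Lead.SelfCentralizing
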