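import Mathlib
import Cfsg.Agent.Lib.Lead.SelfCentralizing
import Cfsg.Agent.Lib.Lead.NormalChain

/-! Order bound for a `p`-group with a maximal normal abelian subgroup of order `p^a`. -/

set_option autoImplicit false

namespace Cfsg.Agent.Lib.Lead.MaxNormalAbelian

open Subgroup
open Cfsg.Agent.Lib.Lead.UniqueOrderP
open Cfsg.Agent.Lib.Lead.NormalChain
open Cfsg.Agent.Lib.Lead.SelfCentralizing

variable {G : Type*} [Group G]

/-- `|G : C_G(A)| ≤ p^(a(a-1)/2)` for a normal abelian subgroup `A` of order `p^a` of a `p`-group. -/
theorem index_centralizer_le [Finite G] {p : ℕ} [hp : Fact p.Prime] (hG : IsPGroup p G) (a : ℕ) :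
    ∀ A : Subgroup G, A.Normal → (∀ x ∈ A, ∀ y ∈ A, x * y = y * x) → Nat.card A = p ^ a →
      (centralizer (A : Set G)).index ≤ p ^ (a * (a - 1) / 2) := by
  induction a with
  | zero =>
    intro A _ _ hA
    rw [pow_zero] at hA
    have : A = ⊥ := (Subgroup.card_eq_one).mp hA
    have hc : centralizer ((⊥ : Subgroup G) : Set G) = ⊤ := by
      rw [eq_top_iff]
      intro g _
      rw [mem_centralizer_iff]
      intro h hh
      rw [SetLike.mem_coe, mem_bot] at hh
      rw [hh]; simp
    rw [this, hc, index_top]
    simp
  | succ a ih =>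
    intro A hAn hAab hAcard
    haveI := hAn
    obtain ⟨A', hA'A, hA'n, hA'c⟩ := exists_normal_le_card hG A a
      (by rw [hAcard]; exact pow_dvd_pow p (Nat.le_succ a))
    haveI := hA'n
    have hlt : p ^ a < p ^ (a + 1) := Nat.pow_lt_pow_right hp.out.one_lt (Nat.lt_succ_self a)
    obtain ⟨x, hxA, hxA'⟩ : ∃ x ∈ A, x ∉ A' := by
      by_contra hcon
      push_neg at hcon
      have : A ≤ A' := hcon
      have := Subgroup.card_le_of_le this
      rw [hAcard, hA'c] at this
      omega
    have ih' := ih A' hA'n (fun u hu v hv => hAab u (hA'A hu) v (hA'A hv)) hA'c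
    obtain ⟨n, hn⟩ := hG.exists_card_eq
    -- class of x
    have hcl : (centralizer {x}).index ≤ p ^ a := by
      have horb : MulAction.orbit (ConjAct G) x ⊆ (A : Set G) \ (A' : Set G) := by
        intro y hy
        rw [ConjAct.mem_orbit_conjAct, isConj_iff] at hy
        obtain ⟨c, hc⟩ := hy
        have hyx : y = c⁻¹ * x * c := by rw [← hc]; group
        refine ⟨?_, ?_⟩
        · rw [hyx]
          have := hAn.conj_mem x hxA c⁻¹
          simpa using this
        · intro hyA'
          apply hxA'
          rw [← hc]
          exact hA'n.conj_mem y hyA' c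
      have h1 : (centralizer {x}).index ≤ p ^ (a + 1) - p ^ a := by
        rw [index_centralizer_eq_ncard_orbit]
        refine le_trans (Set.ncard_le_ncard horb (Set.toFinite _)) ?_
        rw [Set.ncard_diff (by exact_mod_cast hA'A) (Set.toFinite _)]
        have e1 : (A : Set G).ncard = p ^ (a + 1) := by
          rw [← hAcard]; exact (Nat.card_coe_set_eq (A : Set G)).symm
        have e2 : (A' : Set G).ncard = p ^ a := by
          rw [← hA'c]; exact (Nat.card_coe_set_eq (A' : Set G)).symm
        rw [e1, e2]
      have h2 : (centralizer {x}).index ∣ p ^ n := by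
        rw [← hn]; exact Subgroup.index_dvd_card _
      obtain ⟨j, -, hj⟩ := (Nat.dvd_prime_pow hp.out).mp h2
      rw [hj] at h1 ⊢
      apply Nat.pow_le_pow_right hp.out.pos
      by_contra hgt
      have : p ^ (a + 1) ≤ p ^ j := Nat.pow_le_pow_right hp.out.pos (by omega)
      have hpos : 0 < p ^ a := pow_pos hp.out.pos a
      omega
    -- centralizers
    have hle : centralizer (A' : Set G) ⊓ centralizer {x} ≤ centralizer (A : Set G) := by
      intro g hg
      obtain ⟨hg1, hg2⟩ := Subgroup.mem_inf.mp hg
      set B := closure ((A' : Set G) ∪ {x}) with hB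
      have hA'B : A' ≤ B := fun u hu => Subgroup.subset_closure (Or.inl hu)
      have hxB : x ∈ B := Subgroup.subset_closure (Or.inr rfl)
      have hBA : B ≤ A := by
        rw [hB, closure_le]
        intro u hu
        rcases hu with hu | hu
        · exact hA'A hu
        · rw [Set.mem_singleton_iff] at hu; subst hu; exact hxA
      have hBeq : B = A := by
        apply Subgroup.eq_of_le_of_card_ge hBA
        obtain ⟨j, hj⟩ := (hG.to_subgroup B).exists_card_eq
        have h1 := Subgroup.card_dvd_of_le hA'B
        rw [hj, hA'c] at h1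
        have hj1 : a ≤ j := (Nat.pow_dvd_pow_iff_le_right hp.out.one_lt).mp h1
        have hj2 : j ≠ a := by
          rintro rfl
          have : A' = B := Subgroup.eq_of_le_of_card_ge hA'B (by rw [hj, hA'c])
          exact hxA' (this ▸ hxB)
        rw [hAcard, hj]
        exact Nat.pow_le_pow_right hp.out.pos (by omega)
      have hBle : B ≤ centralizer {g} := by
        rw [hB, closure_le]
        intro u hu
        rw [SetLike.mem_coe, mem_centralizer_iff]
        intro w hw
        rw [Set.mem_singleton_iff] at hw
        subst hw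
        rcases hu with hu | hu
        · rw [mem_centralizer_iff] at hg1
          exact (hg1 u hu).symm
        · rw [Set.mem_singleton_iff] at hu; subst hu
          rw [mem_centralizer_iff] at hg2
          exact (hg2 u rfl).symm
      rw [mem_centralizer_iff]
      intro u hu
      have := hBle (hBeq ▸ hu)
      rw [mem_centralizer_iff] at this
      exact (this g rfl).symm
    have h1 : (centralizer (A : Set G)).index ≤ (centralizer (A' : Set G) ⊓ centralizer {x}).index :=
      Nat.le_of_dvd (Nat.pos_of_ne_zero Subgroup.index_ne_zero_of_finite) (Subgroup.index_dvd_of_le hle)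
    have h2 := Subgroup.index_inf_le (H := centralizer (A' : Set G)) (K := centralizer {x})
    have h3 : (centralizer (A' : Set G)).index * (centralizer {x}).index ≤
        p ^ (a * (a - 1) / 2) * p ^ a := Nat.mul_le_mul ih' hcl
    have e : (a + 1) * (a + 1 - 1) / 2 = a * (a - 1) / 2 + a := by
      rw [Nat.add_sub_cancel]
      have : (a + 1) * a = a * (a - 1) + a * 2 := by
        rcases a with _ | b
        · simp
        · simp only [Nat.add_sub_cancel]; ring
      rw [this, Nat.add_mul_div_right _ _ (by norm_num)]
    rw [e, pow_add]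
    exact h1.trans (h2.trans h3)

/-- **S0129** -/
theorem card_le_of_maximal_normal_abelian [Finite G] {p : ℕ} [hp : Fact p.Prime] (hG : IsPGroup p G)
    (A : Subgroup G) [hA : A.Normal] (hAab : ∀ x ∈ A, ∀ y ∈ A, x * y = y * x)
    (hmax : ∀ B : Subgroup G, B.Normal → (∀ x ∈ B, ∀ y ∈ B, x * y = y * x) → A ≤ B → B = A)
    (a : ℕ) (ha : Nat.card A = p ^ a) : Nat.card G ≤ p ^ (a * (a + 1) / 2) := by
  have hcent := centralizer_eq_of_maximal_normal_abelian hG A hAab hmax
  have h1 := index_centralizer_le hG a A hA hAab ha
  have h2 := Subgroup.card_mul_index (centralizer (A : Set G))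
  rw [← h2, hcent, ha]
  rw [hcent] at h1
  have e : a * (a + 1) / 2 = a + a * (a - 1) / 2 := by
    have : a * (a + 1) = a * 2 + a * (a - 1) := by
      rcases a with _ | b
      · simp
      · simp only [Nat.add_sub_cancel]; ring
    rw [this, Nat.add_comm (a * 2), Nat.add_mul_div_right _ _ (by norm_num), Nat.add_comm]
  rw [e, pow_add]
  exact Nat.mul_le_mul le_rfl h1

end Cfsg.Agent.Lib.Lead.MaxNormalAbelian
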