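import Mathlib

/-!
Quadratic pairs and the natural module, part A (lead): for endomorphisms `a, b` of square zero,
`c = a b + b a` commutes with `a` and `b`; if `f(c) = 0` with `f` irreducible, `f(0) ≠ 0`, the module
contains a copy of `K²`, `K = AdjoinRoot f`, on which `1 + a`, `1 + b` act as the elementary matrices.
-/

set_option autoImplicit false

namespace Cfsg.Agent.Lib.Lead.QuadNatural

open Polynomial

section Alg

variable {k : Type*} [Field k] {V : Type*} [AddCommGroup V] [Module k V]

theorem commute_left {a b : Module.End k V} (ha : a * a = 0) : Commute a (a * b + b * a) := by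
  unfold Commute SemiconjBy
  calc a * (a * b + b * a) = (a * a) * b + a * b * a := by noncomm_ring
    _ = a * b * a + b * (a * a) := by rw [ha]; noncomm_ring
    _ = (a * b + b * a) * a := by noncomm_ring

theorem commute_right {a b : Module.End k V} (hb : b * b = 0) : Commute b (a * b + b * a) := by
  unfold Commute SemiconjBy
  calc b * (a * b + b * a) = b * a * b + (b * b) * a := by noncomm_ring
    _ = a * (b * b) + b * a * b := by rw [hb]; noncomm_ring
    _ = (a * b + b * a) * b := by noncomm_ring

theorem commute_aeval {a c : Module.End k V} (h : Commute a c) (g : k[X]) :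
    Commute a (aeval c g) := by
  induction g using Polynomial.induction_on' with
  | add p q hp hq => rw [map_add]; exact hp.add_right hq
  | monomial n r =>
    rw [aeval_monomial]
    exact (Algebra.commute_algebraMap_right r a).mul_right (h.pow_right n)

end Alg

section Main

variable {k : Type*} [Field k] {V : Type*} [AddCommGroup V] [Module k V]
variable (f : k[X]) (c : Module.End k V)

/-- the action of `AdjoinRoot f` when `f(c) = 0` -/
noncomputable def phi (hf : aeval c f = 0) : AdjoinRoot f →+* Module.End k V :=
  Ideal.Quotient.lift (Ideal.span {f}) ((aeval c : k[X] →ₐ[k] Module.End k V) : k[X] →+* _) (by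
    intro g hg
    obtain ⟨y, rfl⟩ := Ideal.mem_span_singleton.1 hg
    show aeval c (f * y) = 0
    rw [map_mul, hf, zero_mul])

theorem phi_mk (hf : aeval c f = 0) (g : k[X]) : phi f c hf (AdjoinRoot.mk f g) = aeval c g := rfl

theorem phi_root (hf : aeval c f = 0) : phi f c hf (AdjoinRoot.root f) = c := by
  rw [← AdjoinRoot.mk_X, phi_mk, aeval_X]

theorem commute_phi (hf : aeval c f = 0) {a : Module.End k V} (h : Commute a c)
    (z : AdjoinRoot f) : Commute a (phi f c hf z) := by
  induction z using AdjoinRoot.induction_on with
  | ih g => rw [phi_mk]; exact commute_aeval h g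

end Main

end Cfsg.Agent.Lib.Lead.QuadNatural
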