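import Cfsg.Agent.Lib.Lead.QuadNatA

/-!
Quadratic pairs and the natural module, part B (lead): the embedding of `K²`.
-/

set_option autoImplicit false

namespace Cfsg.Agent.Lib.Lead.QuadNatural

open Polynomial

variable {k : Type*} [Field k] {V : Type*} [AddCommGroup V] [Module k V]

theorem root_ne_zero (f : k[X]) [hfi : Fact (Irreducible f)] (hf0 : f.coeff 0 ≠ 0) :
    AdjoinRoot.root f ≠ 0 := by
  intro h
  rw [← AdjoinRoot.mk_X, AdjoinRoot.mk_eq_zero] at h
  have h1 : Associated f X := Irreducible.associated_of_dvd hfi.out irreducible_X h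
  have h2 : X ∣ f := h1.symm.dvd
  exact hf0 (X_dvd_iff.mp h2)

theorem phi_eq_zero (f : k[X]) [hfi : Fact (Irreducible f)] (c : Module.End k V)
    (hf : aeval c f = 0) (z : AdjoinRoot f) (w : V) (hw : w ≠ 0) (h : phi f c hf z w = 0) :
    z = 0 := by
  by_contra hz
  apply hw
  have h1 : phi f c hf (z⁻¹ * z) w = 0 := by
    rw [map_mul, Module.End.mul_apply, h, map_zero]
  rwa [inv_mul_cancel₀ hz, map_one, Module.End.one_apply] at h1

theorem exists_embedding (f : k[X]) [hfi : Fact (Irreducible f)] (hf0 : f.coeff 0 ≠ 0)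
    [Nontrivial V] (a b : Module.End k V) (ha : a * a = 0) (hb : b * b = 0)
    (hf : aeval (a * b + b * a) f = 0) :
    ∃ ι : (Fin 2 → AdjoinRoot f) →+ V, Function.Injective ι ∧
      (∀ u, ι u + a (ι u) = ι ![u 0 + AdjoinRoot.root f * u 1, u 1]) ∧
      (∀ u, ι u + b (ι u) = ι ![u 0, u 0 + u 1]) := by
  set c := a * b + b * a with hc
  have hγ := root_ne_zero f hf0
  -- a vector not killed by `a`
  have hav : ∃ v, a v ≠ 0 := by
    by_contra hcon
    push_neg at hcon
    have ha0 : a = 0 := LinearMap.ext hcon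
    have hc0 : c = 0 := by rw [hc, ha0]; simp
    rw [hc0] at hf
    have h1 : aeval (0 : Module.End k V) f = algebraMap k _ (f.coeff 0) := by
      rw [aeval_def, eval₂_at_zero]
    rw [h1] at hf
    obtain ⟨w, hw⟩ := exists_ne (0 : V)
    have h2 := LinearMap.congr_fun hf w
    rw [Module.algebraMap_end_apply, LinearMap.zero_apply] at h2
    rcases smul_eq_zero.mp h2 with h | h
    · exact hf0 h
    · exact hw h
  obtain ⟨v, hv⟩ := hav
  set u₀ := a v with hu₀
  set u₁ := b u₀ with hu₁
  set Φ := phi f c hf with hΦ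
  have hca : ∀ (z : AdjoinRoot f) (w : V), a (Φ z w) = Φ z (a w) := by
    intro z w
    have := commute_phi f c hf (commute_left (b := b) ha) z
    have h2 := LinearMap.congr_fun this.eq w
    simpa using h2
  have hcb : ∀ (z : AdjoinRoot f) (w : V), b (Φ z w) = Φ z (b w) := by
    intro z w
    have := commute_phi f c hf (commute_right (a := a) hb) z
    have h2 := LinearMap.congr_fun this.eq w
    simpa using h2
  have hau₀ : a u₀ = 0 := by
    rw [hu₀, ← Module.End.mul_apply, ha, LinearMap.zero_apply]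
  have hbu₁ : b u₁ = 0 := by
    rw [hu₁, ← Module.End.mul_apply, hb, LinearMap.zero_apply]
  have hau₁ : a u₁ = Φ (AdjoinRoot.root f) u₀ := by
    rw [hΦ, phi_root, hc, LinearMap.add_apply, Module.End.mul_apply, Module.End.mul_apply, hau₀,
      map_zero, add_zero]
  let ι : (Fin 2 → AdjoinRoot f) →+ V :=
    AddMonoidHom.mk' (fun u => Φ (u 0) u₀ + Φ (u 1) u₁) (by
      intro u w
      simp only [Pi.add_apply, map_add, LinearMap.add_apply]
      abel)
  have hι : ∀ u, ι u = Φ (u 0) u₀ + Φ (u 1) u₁ := fun u => rfl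
  refine ⟨ι, ?_, ?_, ?_⟩
  · rw [injective_iff_map_eq_zero]
    intro u hu
    rw [hι] at hu
    have h1 := congrArg a hu
    have hmul : Φ (u 1) (Φ (AdjoinRoot.root f) u₀) = Φ (u 1 * AdjoinRoot.root f) u₀ := by
      rw [map_mul, Module.End.mul_apply]
    rw [map_add, hca, hca, hau₀, map_zero, zero_add, hau₁, map_zero, hmul] at h1
    have h2 := phi_eq_zero f c hf _ u₀ hv h1
    have hu1 : u 1 = 0 := by
      rcases mul_eq_zero.mp h2 with h | h
      · exact h
      · exact absurd h hγ
    rw [hu1, map_zero, LinearMap.zero_apply, add_zero] at hu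
    have hu0 := phi_eq_zero f c hf _ u₀ hv hu
    ext i
    fin_cases i
    · exact hu0
    · exact hu1
  · intro u
    have hmul : Φ (u 1) (Φ (AdjoinRoot.root f) u₀) = Φ (AdjoinRoot.root f * u 1) u₀ := by
      rw [mul_comm, map_mul, Module.End.mul_apply]
    rw [hι, hι, map_add, hca, hca, hau₀, map_zero, zero_add, hau₁, hmul]
    simp only [Matrix.cons_val_zero, Matrix.cons_val_one, Matrix.cons_val_fin_one, map_add,
      LinearMap.add_apply]
    abel
  · intro u
    rw [hι, hι, map_add, hcb, hcb, hbu₁, map_zero, add_zero, ← hu₁]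
    simp only [Matrix.cons_val_zero, Matrix.cons_val_one, Matrix.cons_val_fin_one, map_add,
      LinearMap.add_apply]
    abel

end Cfsg.Agent.Lib.Lead.QuadNatural
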