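import Cfsg.Agent.Lib.Lead.QuadNatB

/-!
Quadratic pairs and the natural module, part C (lead): a non-nilpotent endomorphism has an
irreducible factor `f` of its minimal polynomial with `f(0) ≠ 0` and nonzero kernel; restriction
to that kernel.
-/

set_option autoImplicit false

namespace Cfsg.Agent.Lib.Lead.QuadNatural

open Polynomial

variable {k : Type*} [Field k] {V : Type*} [AddCommGroup V] [Module k V]

theorem exists_irreducible_factor [FiniteDimensional k V] (c : Module.End k V)
    (hc : ¬ IsNilpotent c) :
    ∃ f : k[X], Irreducible f ∧ f.coeff 0 ≠ 0 ∧ LinearMap.ker (aeval c f) ≠ ⊥ := by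
  set m := minpoly k c with hm
  have hm0 : m ≠ 0 := minpoly.ne_zero (Algebra.IsIntegral.isIntegral c)
  obtain ⟨q, hq, hXq⟩ := exists_eq_pow_rootMultiplicity_mul_and_not_dvd m hm0 0
  rw [C_0, sub_zero] at hq hXq
  set n := rootMultiplicity 0 m with hn
  have hq0 : q ≠ 0 := by
    rintro rfl
    exact hm0 (by rw [hq, mul_zero])
  have hqu : ¬ IsUnit q := by
    intro hu
    apply hc
    obtain ⟨r, hr, rfl⟩ := Polynomial.isUnit_iff.mp hu
    refine ⟨n, ?_⟩
    have h1 : aeval c m = 0 := minpoly.aeval k c
    rw [hq, map_mul, map_pow, aeval_X, aeval_C] at h1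
    have h2 : c ^ n * (algebraMap k (Module.End k V) r * algebraMap k (Module.End k V) r⁻¹) = 0 := by
      rw [← mul_assoc, h1, zero_mul]
    rwa [← map_mul, mul_inv_cancel₀ hr.ne_zero, map_one, mul_one] at h2
  obtain ⟨f, hfi, hfq⟩ := WfDvdMonoid.exists_irreducible_factor hqu hq0
  refine ⟨f, hfi, ?_, ?_⟩
  · intro h0
    apply hXq
    exact (X_dvd_iff.mpr h0).trans hfq
  · intro hker
    obtain ⟨g, hg⟩ : f ∣ m := hfq.trans ⟨X ^ n, by rw [hq, mul_comm]⟩
    have h1 : aeval c m = 0 := minpoly.aeval k c
    rw [hg, map_mul] at h1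
    have h2 : aeval c g = 0 := by
      apply LinearMap.ext
      intro v
      have h3 := LinearMap.congr_fun h1 v
      rw [Module.End.mul_apply, LinearMap.zero_apply] at h3
      have h4 : aeval c g v ∈ LinearMap.ker (aeval c f) := h3
      rw [hker, Submodule.mem_bot] at h4
      rw [h4, LinearMap.zero_apply]
    obtain ⟨h, hh⟩ := minpoly.dvd k c h2
    have h5 : m * (f * h) = m := by
      calc m * (f * h) = f * (m * h) := by ring
        _ = f * g := by rw [hh]
        _ = m := hg.symm
    have h6 : f * h = 1 := (mul_eq_left₀ hm0).mp h5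
    exact hfi.not_isUnit (IsUnit.of_mul_eq_one _ h6)

theorem aeval_restrict_apply (c : Module.End k V) (U : Submodule k V) (hU : ∀ u ∈ U, c u ∈ U)
    (g : k[X]) (u : U) : ((aeval (c.restrict hU) g u : U) : V) = aeval c g (u : V) := by
  induction g using Polynomial.induction_on' with
  | add p q hp hq => simp only [map_add, LinearMap.add_apply, Submodule.coe_add, hp, hq]
  | monomial n r =>
    rw [aeval_monomial, aeval_monomial, Module.End.mul_apply, Module.End.mul_apply,
      Module.algebraMap_end_apply, Module.algebraMap_end_apply, Submodule.coe_smul,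
      Module.End.pow_restrict n hU]
    rfl

/-- everything needed about the restriction to `ker f(c)` -/
theorem exists_embedding_of_ker (f : k[X]) [hfi : Fact (Irreducible f)] (hf0 : f.coeff 0 ≠ 0)
    (a b : Module.End k V) (ha : a * a = 0) (hb : b * b = 0)
    (hker : LinearMap.ker (aeval (a * b + b * a) f) ≠ ⊥) :
    ∃ ι : (Fin 2 → AdjoinRoot f) →+ V, Function.Injective ι ∧
      (∀ u, ι u + a (ι u) = ι ![u 0 + AdjoinRoot.root f * u 1, u 1]) ∧
      (∀ u, ι u + b (ι u) = ι ![u 0, u 0 + u 1]) := by
  set c := a * b + b * a with hc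
  set U := LinearMap.ker (aeval c f) with hUdef
  have hUa : ∀ u ∈ U, a u ∈ U := by
    intro u hu
    rw [hUdef, LinearMap.mem_ker] at hu ⊢
    have h1 := commute_aeval (commute_left (b := b) ha) f
    have h2 := LinearMap.congr_fun h1.eq u
    rw [Module.End.mul_apply, Module.End.mul_apply, hu, map_zero] at h2
    exact h2.symm
  have hUb : ∀ u ∈ U, b u ∈ U := by
    intro u hu
    rw [hUdef, LinearMap.mem_ker] at hu ⊢
    have h1 := commute_aeval (commute_right (a := a) hb) f
    have h2 := LinearMap.congr_fun h1.eq u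
    rw [Module.End.mul_apply, Module.End.mul_apply, hu, map_zero] at h2
    exact h2.symm
  have hUc : ∀ u ∈ U, c u ∈ U := by
    intro u hu
    rw [hc, LinearMap.add_apply, Module.End.mul_apply, Module.End.mul_apply]
    exact U.add_mem (hUa _ (hUb _ hu)) (hUb _ (hUa _ hu))
  set a' := a.restrict hUa with ha'
  set b' := b.restrict hUb with hb'
  have ha'2 : a' * a' = 0 := by
    apply LinearMap.ext
    intro u
    apply Subtype.ext
    rw [Module.End.mul_apply, ha', LinearMap.coe_restrict_apply, LinearMap.coe_restrict_apply,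
      ← Module.End.mul_apply, ha]
    rfl
  have hb'2 : b' * b' = 0 := by
    apply LinearMap.ext
    intro u
    apply Subtype.ext
    rw [Module.End.mul_apply, hb', LinearMap.coe_restrict_apply, LinearMap.coe_restrict_apply,
      ← Module.End.mul_apply, hb]
    rfl
  have hc' : a' * b' + b' * a' = c.restrict hUc := by
    apply LinearMap.ext
    intro u
    apply Subtype.ext
    rw [LinearMap.add_apply, Module.End.mul_apply, Module.End.mul_apply, Submodule.coe_add,
      LinearMap.coe_restrict_apply]
    show a (b u) + b (a u) = (a * b + b * a) u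
    rw [LinearMap.add_apply, Module.End.mul_apply, Module.End.mul_apply]
  have hf' : aeval (a' * b' + b' * a') f = 0 := by
    rw [hc']
    apply LinearMap.ext
    intro u
    apply Subtype.ext
    rw [aeval_restrict_apply]
    exact u.2
  haveI : Nontrivial U := Submodule.nontrivial_iff_ne_bot.mpr hker
  obtain ⟨ι', hinj, h1, h2⟩ := exists_embedding f hf0 a' b' ha'2 hb'2 hf'
  refine ⟨(U.subtype : U →+ V).comp ι', ?_, ?_, ?_⟩
  · exact (Subtype.val_injective).comp hinj
  · intro u
    have := congrArg (fun z : U => (z : V)) (h1 u)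
    exact this
  · intro u
    have := congrArg (fun z : U => (z : V)) (h2 u)
    exact this

end Cfsg.Agent.Lib.Lead.QuadNatural
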