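import Cfsg.Agent.Lib.Lead.QuadNatC

/-!
Quadratic pairs and the natural module, part D (lead): if `c = a b + b a` is nilpotent then the group
generated by `1 + a`, `1 + b` is unipotent.
-/

set_option autoImplicit false

namespace Cfsg.Agent.Lib.Lead.QuadNatural

section Chain

variable {k : Type*} [Field k] {V : Type*} [AddCommGroup V] [Module k V]
variable (a b : Module.End k V)

/-- the descending chain `V ⊇ aV + bV ⊇ …` -/
def D : ℕ → Submodule k V
  | 0 => ⊤
  | n + 1 => (D n).map a ⊔ (D n).map b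

theorem D_succ (n : ℕ) : D a b (n + 1) = (D a b n).map a ⊔ (D a b n).map b := rfl

theorem D_anti (n : ℕ) : D a b (n + 1) ≤ D a b n := by
  induction n with
  | zero => exact le_top
  | succ n ih =>
    rw [D_succ a b (n + 1), D_succ a b n]
    exact sup_le_sup (Submodule.map_mono ih) (Submodule.map_mono ih)

theorem D_antitone : Antitone (D a b) := antitone_nat_of_succ_le (D_anti a b)

theorem a_mem_D {n : ℕ} {v : V} (hv : v ∈ D a b n) : a v ∈ D a b (n + 1) :=
  Submodule.mem_sup_left (Submodule.mem_map_of_mem hv)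

theorem b_mem_D {n : ℕ} {v : V} (hv : v ∈ D a b n) : b v ∈ D a b (n + 1) :=
  Submodule.mem_sup_right (Submodule.mem_map_of_mem hv)

variable {a b}

theorem sq_ab (ha : a * a = 0) (hb : b * b = 0) :
    (a * b) * (a * b) = (a * b + b * a) * (a * b) := by
  have h1 : (a * b + b * a) * (a * b) = a * b * (a * b) + b * (a * a) * b := by noncomm_ring
  rw [h1, ha, mul_zero, zero_mul, add_zero]

theorem eq_bot_of_fixed (ha : a * a = 0) (hb : b * b = 0) (W : Submodule k V)
    (hW : W = W.map a ⊔ W.map b) (hc : IsNilpotent (a * b + b * a)) : W = ⊥ := by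
  obtain ⟨N, hN⟩ := hc
  set c := a * b + b * a with hcdef
  have haa : ∀ X : Submodule k V, (X.map a).map a = ⊥ := by
    intro X
    rw [← Submodule.map_comp, ← Module.End.mul_eq_comp, ha, Submodule.map_zero]
  have hbb : ∀ X : Submodule k V, (X.map b).map b = ⊥ := by
    intro X
    rw [← Submodule.map_comp, ← Module.End.mul_eq_comp, hb, Submodule.map_zero]
  have hA : W.map a = (W.map b).map a := by
    conv_lhs => rw [hW]
    rw [Submodule.map_sup, haa, bot_sup_eq]
  have hB : W.map b = (W.map a).map b := by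
    conv_lhs => rw [hW]
    rw [Submodule.map_sup, hbb, sup_bot_eq]
  have hA2 : W.map a = (W.map a).map (a * b) := by
    conv_lhs => rw [hA, hB]
    rw [Module.End.mul_eq_comp, Submodule.map_comp]
  have hA3 : W.map a = (W.map a).map c := by
    conv_lhs => rw [hA2, hA2]
    rw [← Submodule.map_comp, ← Module.End.mul_eq_comp, sq_ab ha hb, Module.End.mul_eq_comp,
      Submodule.map_comp, ← hA2]
  have hA4 : ∀ j : ℕ, W.map a = (W.map a).map (c ^ j) := by
    intro j
    induction j with
    | zero => rw [pow_zero, Module.End.one_eq_id, Submodule.map_id]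
    | succ j ih =>
      rw [pow_succ, Module.End.mul_eq_comp, Submodule.map_comp, ← hA3, ← ih]
  have hA0 : W.map a = ⊥ := by
    rw [hA4 N, hN, Submodule.map_zero]
  have hB0 : W.map b = ⊥ := by
    rw [hB, hA0, Submodule.map_bot]
  rw [hW, hA0, hB0, bot_sup_eq]

theorem exists_D_eq_bot [FiniteDimensional k V] (ha : a * a = 0) (hb : b * b = 0)
    (hc : IsNilpotent (a * b + b * a)) : ∃ n, D a b n = ⊥ := by
  let F : ℕ →o (Submodule k V)ᵒᵈ :=
    ⟨fun n => OrderDual.toDual (D a b n), fun m n hmn => D_antitone a b hmn⟩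
  obtain ⟨n, hn⟩ := IsArtinian.monotone_stabilizes F
  have h1 : D a b n = D a b (n + 1) := by
    have := hn (n + 1) (Nat.le_succ n)
    exact congrArg OrderDual.ofDual this
  refine ⟨n, eq_bot_of_fixed ha hb _ ?_ hc⟩
  conv_lhs => rw [h1]
  rfl

variable (a b)

/-- the endomorphisms that are unipotent with respect to the chain -/
def uni : Submonoid (Module.End k V) where
  carrier := {T | ∀ n, ∀ v ∈ D a b n, T v - v ∈ D a b (n + 1)}
  one_mem' := by
    intro n v _
    rw [Module.End.one_apply, sub_self]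
    exact Submodule.zero_mem _
  mul_mem' := by
    intro T T' hT hT' n v hv
    have h1 : T' v - v ∈ D a b (n + 1) := hT' n v hv
    have h2 : T (T' v - v) - (T' v - v) ∈ D a b (n + 2) := hT (n + 1) _ h1
    have h3 : T v - v ∈ D a b (n + 1) := hT n v hv
    have h4 : (T * T') v - v = (T (T' v - v) - (T' v - v)) + (T' v - v) + (T v - v) := by
      rw [Module.End.mul_apply, map_sub]
      abel
    rw [h4]
    exact Submodule.add_mem _ (Submodule.add_mem _ (D_anti a b (n + 1) h2) h1) h3

theorem mem_uni (T : Module.End k V) :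
    T ∈ uni a b ↔ ∀ n, ∀ v ∈ D a b n, T v - v ∈ D a b (n + 1) := Iff.rfl

theorem pow_mem_D {T : Module.End k V} (hT : T ∈ uni a b) (n : ℕ) (v : V) :
    ((T - 1) ^ n) v ∈ D a b n := by
  induction n with
  | zero => exact Submodule.mem_top
  | succ n ih =>
    rw [pow_succ', Module.End.mul_apply, LinearMap.sub_apply, Module.End.one_apply]
    exact hT n _ ih

end Chain

section Group

variable {k : Type*} [Field k] {V : Type*} [AddCommGroup V] [Module k V] [FiniteDimensional k V]
variable {G : Type*} [Group G] (ρ : Representation k G V)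

theorem rho_inv_of_sq_zero (x : G) (hx : (ρ x - 1) * (ρ x - 1) = 0) :
    ρ x⁻¹ = 1 - (ρ x - 1) := by
  have h1 : ρ x * (1 - (ρ x - 1)) = 1 := by
    have : ρ x * (1 - (ρ x - 1)) = 1 - (ρ x - 1) * (ρ x - 1) := by noncomm_ring
    rw [this, hx, sub_zero]
  calc ρ x⁻¹ = ρ x⁻¹ * (ρ x * (1 - (ρ x - 1))) := by rw [h1, mul_one]
    _ = (ρ x⁻¹ * ρ x) * (1 - (ρ x - 1)) := by rw [mul_assoc]
    _ = 1 - (ρ x - 1) := by rw [← map_mul, inv_mul_cancel, map_one, one_mul]

theorem rho_mem_uni (x y : G) (hx : (ρ x - 1) * (ρ x - 1) = 0) (hy : (ρ y - 1) * (ρ y - 1) = 0)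
    (g : G) (hg : g ∈ Subgroup.closure {x, y}) : ρ g ∈ uni (ρ x - 1) (ρ y - 1) := by
  set a := ρ x - 1 with ha
  set b := ρ y - 1 with hb
  have hxa : ρ x = 1 + a := by rw [ha]; abel
  have hyb : ρ y = 1 + b := by rw [hb]; abel
  have h1 : ρ x ∈ uni a b := by
    intro n v hv
    rw [hxa, LinearMap.add_apply, Module.End.one_apply, add_sub_cancel_left]
    exact a_mem_D a b hv
  have h2 : ρ y ∈ uni a b := by
    intro n v hv
    rw [hyb, LinearMap.add_apply, Module.End.one_apply, add_sub_cancel_left]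
    exact b_mem_D a b hv
  have h3 : ρ x⁻¹ ∈ uni a b := by
    intro n v hv
    rw [rho_inv_of_sq_zero ρ x hx, LinearMap.sub_apply, Module.End.one_apply, sub_sub_cancel_left]
    exact Submodule.neg_mem _ (a_mem_D a b hv)
  have h4 : ρ y⁻¹ ∈ uni a b := by
    intro n v hv
    rw [rho_inv_of_sq_zero ρ y hy, LinearMap.sub_apply, Module.End.one_apply, sub_sub_cancel_left]
    exact Submodule.neg_mem _ (b_mem_D a b hv)
  have hg' : g ∈ Submonoid.closure (({x, y} : Set G) ∪ ({x, y} : Set G)⁻¹) := by
    rw [← Subgroup.closure_toSubmonoid]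
    exact hg
  clear hg
  induction hg' using Submonoid.closure_induction with
  | mem z hz =>
    rcases hz with hz | hz
    · rcases hz with rfl | rfl
      · exact h1
      · exact h2
    · rw [Set.mem_inv] at hz
      rcases hz with hz | hz
      · have : z = x⁻¹ := by rw [← hz, inv_inv]
        rw [this]; exact h3
      · have hz' : z⁻¹ = y := hz
        have : z = y⁻¹ := by rw [← hz', inv_inv]
        rw [this]; exact h4
  | one => rw [map_one]; exact (uni a b).one_mem
  | mul z w _ _ hz hw => rw [map_mul]; exact (uni a b).mul_mem hz hw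

/-- **L3**: if `c` is nilpotent the group generated by `x, y` acts as a `p`-group. -/
theorem pgroup_of_nilpotent (p : ℕ) [hp : Fact p.Prime] [CharP k p] (x y : G)
    (hx : (ρ x - 1) * (ρ x - 1) = 0) (hy : (ρ y - 1) * (ρ y - 1) = 0)
    (hc : IsNilpotent ((ρ x - 1) * (ρ y - 1) + (ρ y - 1) * (ρ x - 1))) :
    ∀ g ∈ Subgroup.closure {x, y}, ∃ j : ℕ, g ^ p ^ j ∈ ρ.ker := by
  intro g hg
  rcases subsingleton_or_nontrivial V with hV | hV
  · refine ⟨0, ?_⟩
    rw [MonoidHom.mem_ker]
    apply LinearMap.ext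
    intro v
    exact Subsingleton.elim _ _
  · obtain ⟨n, hn⟩ := exists_D_eq_bot hx hy hc
    have hmem := rho_mem_uni ρ x y hx hy g hg
    have h0 : (ρ g - 1) ^ n = 0 := by
      apply LinearMap.ext
      intro v
      have := pow_mem_D _ _ hmem n v
      rw [hn, Submodule.mem_bot] at this
      rw [this, LinearMap.zero_apply]
    haveI : CharP (Module.End k V) p :=
      charP_of_injective_algebraMap (algebraMap k (Module.End k V)).injective p
    refine ⟨n, ?_⟩
    have hle : n ≤ p ^ n := (Nat.lt_pow_self hp.out.one_lt).le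
    have h1 : (ρ g - 1) ^ p ^ n = 0 := pow_eq_zero_of_le hle h0
    rw [sub_pow_char_pow_of_commute (p := p) (h := Commute.one_right _), one_pow, sub_eq_zero] at h1
    rw [MonoidHom.mem_ker, map_pow, h1]

end Group

end Cfsg.Agent.Lib.Lead.QuadNatural
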