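import Mathlib

/-!
The rank-one Steinberg presentation of `SL₂` over a field: the presented group and the relations
derived formally from the defining ones (lead).
-/

set_option autoImplicit false

namespace Cfsg.Agent.Lib.Lead.St2

variable (K : Type*) [Field K]

/-- the defining relations -/
def rels : Set (FreeGroup (Bool × K)) :=
  {g : FreeGroup (Bool × K) | ∃ (b : Bool) (t u : K),
      g = FreeGroup.of (b, t) * FreeGroup.of (b, u) * (FreeGroup.of (b, t + u))⁻¹} ∪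
    {g | ∃ (b : Bool) (t u : K), t ≠ 0 ∧
      g = (FreeGroup.of (b, t) * FreeGroup.of (!b, -t⁻¹) * FreeGroup.of (b, t)) * FreeGroup.of (b, u) *
            (FreeGroup.of (b, t) * FreeGroup.of (!b, -t⁻¹) * FreeGroup.of (b, t))⁻¹ *
              (FreeGroup.of (!b, -(t⁻¹ ^ 2 * u)))⁻¹}

/-- the Steinberg group of rank one -/
abbrev St := PresentedGroup (rels K)

variable {K}

/-- the generators -/
def g (b : Bool) (t : K) : St K := PresentedGroup.of (b, t)

/-- the Weyl elements -/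
def W (b : Bool) (t : K) : St K := g b t * g (!b) (-t⁻¹) * g b t

theorem g_add (b : Bool) (t u : K) : g b t * g b u = g b (t + u) := by
  have h : PresentedGroup.mk (rels K)
      (FreeGroup.of (b, t) * FreeGroup.of (b, u) * (FreeGroup.of (b, t + u))⁻¹) = 1 :=
    PresentedGroup.one_of_mem (Or.inl ⟨b, t, u, rfl⟩)
  rw [map_mul, map_mul, map_inv] at h
  exact mul_inv_eq_one.mp h

theorem W_conj (b : Bool) {t : K} (ht : t ≠ 0) (u : K) :
    W b t * g b u * (W b t)⁻¹ = g (!b) (-(t⁻¹ ^ 2 * u)) := by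
  have h : PresentedGroup.mk (rels K)
      ((FreeGroup.of (b, t) * FreeGroup.of (!b, -t⁻¹) * FreeGroup.of (b, t)) * FreeGroup.of (b, u) *
            (FreeGroup.of (b, t) * FreeGroup.of (!b, -t⁻¹) * FreeGroup.of (b, t))⁻¹ *
              (FreeGroup.of (!b, -(t⁻¹ ^ 2 * u)))⁻¹) = 1 :=
    PresentedGroup.one_of_mem (Or.inr ⟨b, t, u, ht, rfl⟩)
  rw [map_mul, map_mul, map_mul, map_inv, map_inv, map_mul, map_mul] at h
  exact mul_inv_eq_one.mp h

theorem g_zero (b : Bool) : g b (0 : K) = 1 := by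
  have h := g_add b (0 : K) 0
  rw [add_zero] at h
  exact mul_eq_left.mp h

theorem g_neg (b : Bool) (t : K) : (g b t)⁻¹ = g b (-t) := by
  rw [inv_eq_iff_mul_eq_one, g_add, add_neg_cancel, g_zero]

theorem g_comm (b : Bool) (t u : K) : g b t * g b u = g b u * g b t := by
  rw [g_add, g_add, add_comm]

theorem W_inv (b : Bool) (t : K) : (W b t)⁻¹ = W b (-t) := by
  unfold W
  have e : -(-t)⁻¹ = t⁻¹ := by rw [inv_neg, neg_neg]
  rw [e, mul_inv_rev, mul_inv_rev, g_neg, g_neg, neg_neg, ← mul_assoc]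

theorem W_conj' (b : Bool) {t : K} (ht : t ≠ 0) (u : K) :
    W b t * g (!b) u * (W b t)⁻¹ = g b (-(t ^ 2 * u)) := by
  have h := W_conj b (neg_ne_zero.mpr ht) (-(t ^ 2 * u))
  rw [W_inv, neg_neg] at h
  have e : -((-t)⁻¹ ^ 2 * -(t ^ 2 * u)) = u := by
    field_simp
  rw [e] at h
  rw [← h, ← W_inv]
  group

theorem W_eq (b : Bool) {t : K} (ht : t ≠ 0) : W b t = W (!b) (-t⁻¹) := by
  have h1 := W_conj b ht t
  have h2 := W_conj' b ht (-t⁻¹)
  have e1 : -(t⁻¹ ^ 2 * t) = -t⁻¹ := by field_simp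
  have e2 : -(t ^ 2 * -t⁻¹) = t := by field_simp
  rw [e1] at h1
  rw [e2] at h2
  have h3 : W b t = (W b t * g b t * (W b t)⁻¹) * (W b t * g (!b) (-t⁻¹) * (W b t)⁻¹) *
      (W b t * g b t * (W b t)⁻¹) := by
    conv_lhs => rw [show W b t = W b t * W b t * (W b t)⁻¹ by group]
    conv_lhs => enter [1, 2]; unfold W
    group
  rw [h1, h2] at h3
  rw [h3]
  unfold W
  have e3 : -(-t⁻¹)⁻¹ = t := by rw [inv_neg, neg_neg, inv_inv]
  rw [Bool.not_not, e3]

theorem W_W (b : Bool) {t u : K} (ht : t ≠ 0) (hu : u ≠ 0) :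
    W b t * W b u * (W b t)⁻¹ = W b (t ^ 2 * u⁻¹) := by
  have h1 := W_conj b ht u
  have h2 := W_conj' b ht (-u⁻¹)
  have h3 : W b t * W b u * (W b t)⁻¹ = (W b t * g b u * (W b t)⁻¹) *
      (W b t * g (!b) (-u⁻¹) * (W b t)⁻¹) * (W b t * g b u * (W b t)⁻¹) := by
    conv_lhs => enter [1, 2]; unfold W
    group
  rw [h3, h1, h2]
  have hne : t ^ 2 * u⁻¹ ≠ 0 := mul_ne_zero (pow_ne_zero 2 ht) (inv_ne_zero hu)
  rw [W_eq b hne]
  unfold W
  rw [Bool.not_not]
  have e1 : -(t ^ 2 * u⁻¹)⁻¹ = -(t⁻¹ ^ 2 * u) := by field_simp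
  have e2 : -(-(t ^ 2 * u⁻¹)⁻¹)⁻¹ = -(t ^ 2 * -u⁻¹) := by field_simp
  rw [e2, e1]

end Cfsg.Agent.Lib.Lead.St2
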