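import Cfsg.Agent.Lib.Lead.St2A

/-!
The rank-one Steinberg group: the elements `x`, `y`, `w`, `h` and their relations (lead).
-/

set_option autoImplicit false

namespace Cfsg.Agent.Lib.Lead.St2

variable {K : Type*} [Field K]

/-- upper root elements -/
def x (t : K) : St K := g true t
/-- lower root elements -/
def y (t : K) : St K := g false t
/-- Weyl elements -/
def w (t : K) : St K := W true t
/-- torus elements -/
def h (t : K) : St K := w t * (w 1)⁻¹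

theorem w_def (t : K) : w t = x t * y (-t⁻¹) * x t := rfl

theorem x_add (t u : K) : x t * x u = x (t + u) := g_add true t u
theorem y_add (t u : K) : y t * y u = y (t + u) := g_add false t u
theorem x_zero : x (0 : K) = 1 := g_zero true
theorem y_zero : y (0 : K) = 1 := g_zero false
theorem x_inv (t : K) : (x t)⁻¹ = x (-t) := g_neg true t
theorem y_inv (t : K) : (y t)⁻¹ = y (-t) := g_neg false t
theorem w_inv (t : K) : (w t)⁻¹ = w (-t) := W_inv true t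

theorem w_x {t : K} (ht : t ≠ 0) (u : K) : w t * x u * (w t)⁻¹ = y (-(t⁻¹ ^ 2 * u)) :=
  W_conj true ht u

theorem w_y {t : K} (ht : t ≠ 0) (u : K) : w t * y u * (w t)⁻¹ = x (-(t ^ 2 * u)) :=
  W_conj' true ht u

theorem w_w {t u : K} (ht : t ≠ 0) (hu : u ≠ 0) : w t * w u * (w t)⁻¹ = w (t ^ 2 * u⁻¹) :=
  W_W true ht hu

theorem w_eq_h (t : K) : w t = h t * w 1 := by
  unfold h; group

theorem h_one : h (1 : K) = 1 := by
  unfold h; group

theorem h_eq (t : K) : h t = w t * w (-1) := by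
  unfold h; rw [w_inv]

theorem h_x {t : K} (ht : t ≠ 0) (u : K) : h t * x u * (h t)⁻¹ = x (t ^ 2 * u) := by
  have h1 := w_x (K := K) (t := -1) (neg_ne_zero.mpr one_ne_zero) u
  have h2 := w_y ht (-u)
  have e1 : -((-1 : K)⁻¹ ^ 2 * u) = -u := by
    rw [inv_neg, inv_one]; ring
  have e2 : -(t ^ 2 * -u) = t ^ 2 * u := by ring
  rw [e1, ← w_inv] at h1
  rw [e2] at h2
  rw [← h2, ← h1]
  unfold h
  group

theorem h_y {t : K} (ht : t ≠ 0) (u : K) : h t * y u * (h t)⁻¹ = y (t⁻¹ ^ 2 * u) := by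
  have h1 := w_y (K := K) (t := -1) (neg_ne_zero.mpr one_ne_zero) u
  have h2 := w_x ht (-u)
  have e1 : -((-1 : K) ^ 2 * u) = -u := by ring
  have e2 : -(t⁻¹ ^ 2 * -u) = t⁻¹ ^ 2 * u := by ring
  rw [e1, ← w_inv] at h1
  rw [e2] at h2
  rw [← h2, ← h1]
  unfold h
  group

theorem h_w {t u : K} (ht : t ≠ 0) (hu : u ≠ 0) : h t * w u * (h t)⁻¹ = w (t ^ 2 * u) := by
  have h1 := w_w (K := K) (t := -1) (neg_ne_zero.mpr one_ne_zero) hu
  have h2 := w_w ht (inv_ne_zero hu)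
  have e1 : (-1 : K) ^ 2 * u⁻¹ = u⁻¹ := by ring
  have e2 : t ^ 2 * u⁻¹⁻¹ = t ^ 2 * u := by simp
  rw [e1, ← w_inv] at h1
  rw [e2] at h2
  rw [← h2, ← h1]
  unfold h
  group

theorem h_h {t u : K} (ht : t ≠ 0) (hu : u ≠ 0) :
    h t * h u * (h t)⁻¹ = h (t ^ 2 * u) * (h (t ^ 2))⁻¹ := by
  have h1 := h_w ht hu
  have h2 := h_w (K := K) ht one_ne_zero
  rw [mul_one] at h2
  have e : h t * h u * (h t)⁻¹ = (h t * w u * (h t)⁻¹) * (h t * w 1 * (h t)⁻¹)⁻¹ := by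
    conv_lhs => enter [1, 2]; unfold h
    group
  rw [e, h1, h2]
  unfold h
  group

theorem om_h {t : K} (ht : t ≠ 0) : w 1 * h t * (w 1)⁻¹ = h t⁻¹ := by
  have h1 := w_w (K := K) (t := 1) one_ne_zero ht
  rw [one_pow, one_mul] at h1
  unfold h
  rw [← h1]
  group

theorem y_form (c : K) : y c = x c⁻¹ * w (-c⁻¹) * x c⁻¹ := by
  rw [w_def]
  have e : -(-c⁻¹)⁻¹ = c := by rw [inv_neg, neg_neg, inv_inv]
  rw [e]
  have e2 : x c⁻¹ * (x (-c⁻¹) * y c * x (-c⁻¹)) * x c⁻¹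
      = (x c⁻¹ * x (-c⁻¹)) * y c * (x (-c⁻¹) * x c⁻¹) := by group
  rw [e2, x_add, x_add, add_neg_cancel, neg_add_cancel, x_zero, one_mul, mul_one]

theorem x_form {a : K} (ha : a ≠ 0) : x a = y a⁻¹ * w a * y a⁻¹ := by
  have h1 : w a = y (-a⁻¹) * x a * y (-a⁻¹) := by
    have := W_eq true ha
    unfold w
    rw [this]
    unfold W
    have e : -(-a⁻¹)⁻¹ = a := by rw [inv_neg, neg_neg, inv_inv]
    rw [e]
    rfl
  rw [h1]
  have e2 : y a⁻¹ * (y (-a⁻¹) * x a * y (-a⁻¹)) * y a⁻¹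
      = (y a⁻¹ * y (-a⁻¹)) * x a * (y (-a⁻¹) * y a⁻¹) := by group
  rw [e2, y_add, y_add, add_neg_cancel, neg_add_cancel, y_zero, one_mul, mul_one]

end Cfsg.Agent.Lib.Lead.St2
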