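import Cfsg.Agent.Lib.Lead.St2B

/-!
The rank-one Steinberg group: the torus elements commute (finite fields) and the identity coming
from the two ways of rewriting `x a * y b` (lead).
-/

set_option autoImplicit false

namespace Cfsg.Agent.Lib.Lead.St2

variable {K : Type*} [Field K]

/-- the identity from the two Bruhat forms of `x a * y b` -/
theorem w_J {a b : K} (ha : a ≠ 0) (hb : b ≠ 0) (hm : 1 + a * b ≠ 0) :
    w ((1 + a * b) / b) * w (-b⁻¹) = w a * w (-(a / (1 + a * b))) := by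
  have hr : (1 + a * b) / b ≠ 0 := div_ne_zero hm hb
  have hr' : (1 + a * b) / a ≠ 0 := div_ne_zero hm ha
  have hm' : 1 + b * a ≠ 0 := by rwa [mul_comm]
  have hm'' : a * b + 1 ≠ 0 := by rwa [add_comm]
  have hm''' : b * a + 1 ≠ 0 := by rwa [add_comm, mul_comm]
  -- way 1
  have way1 : x a * y b = y ((1 + a * b) / b)⁻¹ * (w ((1 + a * b) / b) * w (-b⁻¹)) *
      x (a / (1 + a * b)) := by
    have h1 : x a * y b = x ((1 + a * b) / b) * w (-b⁻¹) * x b⁻¹ := by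
      rw [y_form b, ← mul_assoc, ← mul_assoc, x_add]
      congr 3
      field_simp
      ring
    have h2 := w_y (inv_ne_zero hb) ((1 + a * b) / b)⁻¹
    -- y r⁻¹ * w (-b⁻¹) = w (-b⁻¹) * x (-(b⁻¹^2 * r⁻¹))
    have h3 : y ((1 + a * b) / b)⁻¹ * w (-b⁻¹) =
        w (-b⁻¹) * x (-(b⁻¹ ^ 2 * ((1 + a * b) / b)⁻¹)) := by
      rw [← h2, ← w_inv]
      group
    rw [h1, x_form hr]
    have e : y ((1 + a * b) / b)⁻¹ * w ((1 + a * b) / b) * y ((1 + a * b) / b)⁻¹ * w (-b⁻¹) * x b⁻¹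
        = y ((1 + a * b) / b)⁻¹ * w ((1 + a * b) / b) * (y ((1 + a * b) / b)⁻¹ * w (-b⁻¹)) * x b⁻¹ := by
      group
    rw [e, h3]
    have e' : y ((1 + a * b) / b)⁻¹ * w ((1 + a * b) / b) *
        (w (-b⁻¹) * x (-(b⁻¹ ^ 2 * ((1 + a * b) / b)⁻¹))) * x b⁻¹
        = y ((1 + a * b) / b)⁻¹ * (w ((1 + a * b) / b) * w (-b⁻¹)) *
          (x (-(b⁻¹ ^ 2 * ((1 + a * b) / b)⁻¹)) * x b⁻¹) := by group
    rw [e', x_add]
    congr 2
    have e3 : -(b⁻¹ ^ 2 * ((1 + a * b) / b)⁻¹) + b⁻¹ = a / (1 + a * b) := by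
      field_simp
      ring
    exact e3
  -- way 2
  have way2 : x a * y b = y ((1 + a * b) / b)⁻¹ * (w a * w (-(a / (1 + a * b)))) *
      x (a / (1 + a * b)) := by
    have h1 : x a * y b = y a⁻¹ * w a * y ((1 + a * b) / a) := by
      rw [x_form ha, mul_assoc, y_add]
      congr 2
      field_simp
    have h2 := w_x ha ((1 + a * b) / a)⁻¹
    have h3 : w a * x ((1 + a * b) / a)⁻¹ = y (-(a⁻¹ ^ 2 * ((1 + a * b) / a)⁻¹)) * w a := by
      rw [← h2]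
      group
    rw [h1, y_form ((1 + a * b) / a)]
    have e : y a⁻¹ * w a * (x ((1 + a * b) / a)⁻¹ * w (-((1 + a * b) / a)⁻¹) * x ((1 + a * b) / a)⁻¹)
        = y a⁻¹ * (w a * x ((1 + a * b) / a)⁻¹) * w (-((1 + a * b) / a)⁻¹) * x ((1 + a * b) / a)⁻¹ := by
      group
    rw [e, h3]
    have e' : y a⁻¹ * (y (-(a⁻¹ ^ 2 * ((1 + a * b) / a)⁻¹)) * w a) * w (-((1 + a * b) / a)⁻¹) *
        x ((1 + a * b) / a)⁻¹
        = (y a⁻¹ * y (-(a⁻¹ ^ 2 * ((1 + a * b) / a)⁻¹))) * (w a * w (-((1 + a * b) / a)⁻¹)) *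
        x ((1 + a * b) / a)⁻¹ := by group
    rw [e', y_add]
    have e1 : a⁻¹ + -(a⁻¹ ^ 2 * ((1 + a * b) / a)⁻¹) = ((1 + a * b) / b)⁻¹ := by
      field_simp
      ring
    have e2 : ((1 + a * b) / a)⁻¹ = a / (1 + a * b) := by
      field_simp
    rw [e1, e2]
  rw [way1] at way2
  exact mul_left_cancel (mul_right_cancel way2)

theorem h_J {a b : K} (ha : a ≠ 0) (hb : b ≠ 0) (hm : 1 + a * b ≠ 0) :
    h ((1 + a * b) / b) * (h b⁻¹)⁻¹ = h a * (h (a / (1 + a * b)))⁻¹ := by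
  have := w_J ha hb hm
  rw [← w_inv, ← w_inv] at this
  unfold h
  have e1 : w ((1 + a * b) / b) * (w 1)⁻¹ * (w b⁻¹ * (w 1)⁻¹)⁻¹ = w ((1 + a * b) / b) * (w b⁻¹)⁻¹ := by
    group
  have e2 : w a * (w 1)⁻¹ * (w (a / (1 + a * b)) * (w 1)⁻¹)⁻¹ = w a * (w (a / (1 + a * b)))⁻¹ := by
    group
  rw [e1, e2, this]

end Cfsg.Agent.Lib.Lead.St2
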