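import Cfsg.Agent.Lib.Lead.St2C

/-!
The rank-one Steinberg group over a finite field: `h` is multiplicative (Steinberg's Theorem 9 in
rank one) (lead).
-/

set_option autoImplicit false

namespace Cfsg.Agent.Lib.Lead.St2

variable {K : Type*} [Field K]

/-- an element commuting with all the generators is central -/
theorem central_of_comm (z : St K) (hx : ∀ u, z * x u = x u * z) (hy : ∀ u, z * y u = y u * z)
    (a : St K) : z * a = a * z := by
  have hle : (⊤ : Subgroup (St K)) ≤ Subgroup.centralizer {z} := by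
    rw [← PresentedGroup.closure_range_of, Subgroup.closure_le]
    rintro _ ⟨⟨b, t⟩, rfl⟩
    rw [SetLike.mem_coe, Subgroup.mem_centralizer_iff]
    intro c hc
    rw [Set.mem_singleton_iff] at hc
    subst hc
    cases b
    · exact hy t
    · exact hx t
  have := hle (Subgroup.mem_top a)
  rw [Subgroup.mem_centralizer_iff] at this
  exact this z rfl

/-- pairs `(η, μ)`: the element `η` acts on the root subgroups as the torus element of
parameter `μ` -/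
def Tsub (K : Type*) [Field K] : Subgroup (St K × Kˣ) where
  carrier := {p | (∀ u, p.1 * x u * p.1⁻¹ = x ((p.2 : K) ^ 2 * u)) ∧
    (∀ u, p.1 * y u * p.1⁻¹ = y (((p.2⁻¹ : Kˣ) : K) ^ 2 * u))}
  one_mem' := by
    refine ⟨fun u => ?_, fun u => ?_⟩ <;> simp
  mul_mem' := by
    rintro ⟨a, μ⟩ ⟨b, ν⟩ ⟨ha1, ha2⟩ ⟨hb1, hb2⟩
    refine ⟨fun u => ?_, fun u => ?_⟩
    · have e : a * b * x u * (a * b)⁻¹ = a * (b * x u * b⁻¹) * a⁻¹ := by group
      show a * b * x u * (a * b)⁻¹ = x (((μ * ν : Kˣ) : K) ^ 2 * u)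
      rw [e, hb1, ha1]
      congr 1
      push_cast
      ring
    · have e : a * b * y u * (a * b)⁻¹ = a * (b * y u * b⁻¹) * a⁻¹ := by group
      show a * b * y u * (a * b)⁻¹ = y ((((μ * ν)⁻¹ : Kˣ) : K) ^ 2 * u)
      rw [e, hb2, ha2]
      congr 1
      rw [mul_inv]
      push_cast
      ring
  inv_mem' := by
    rintro ⟨a, μ⟩ ⟨ha1, ha2⟩
    refine ⟨fun u => ?_, fun u => ?_⟩
    · show a⁻¹ * x u * a⁻¹⁻¹ = x (((μ⁻¹ : Kˣ) : K) ^ 2 * u)
      have := ha1 (((μ⁻¹ : Kˣ) : K) ^ 2 * u)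
      have e : (μ : K) ^ 2 * (((μ⁻¹ : Kˣ) : K) ^ 2 * u) = u := by
        rw [← mul_assoc, ← mul_pow, ← Units.val_mul, mul_inv_cancel, Units.val_one, one_pow, one_mul]
      rw [e] at this
      rw [← this]
      group
    · show a⁻¹ * y u * a⁻¹⁻¹ = y ((((μ⁻¹)⁻¹ : Kˣ) : K) ^ 2 * u)
      have := ha2 ((((μ⁻¹)⁻¹ : Kˣ) : K) ^ 2 * u)
      have e : ((μ⁻¹ : Kˣ) : K) ^ 2 * ((((μ⁻¹)⁻¹ : Kˣ) : K) ^ 2 * u) = u := by
        rw [← mul_assoc, ← mul_pow, ← Units.val_mul, mul_inv_cancel, Units.val_one, one_pow, one_mul]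
      rw [e] at this
      rw [← this]
      group

theorem h_mem_Tsub (μ : Kˣ) : (h (μ : K), μ) ∈ Tsub K := by
  refine ⟨fun u => h_x μ.ne_zero u, fun u => ?_⟩
  have := h_y μ.ne_zero u
  rw [this]
  congr 2
  simp

theorem central_of_Tsub_one {z : St K} (hz : (z, (1 : Kˣ)) ∈ Tsub K) (a : St K) :
    z * a = a * z := by
  obtain ⟨h1, h2⟩ := hz
  refine central_of_comm z (fun u => ?_) (fun u => ?_) a
  · have := h1 u
    simp only [Units.val_one, one_pow, one_mul] at this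
    calc z * x u = (z * x u * z⁻¹) * z := by group
      _ = x u * z := by rw [this]
  · have := h2 u
    simp only [inv_one, Units.val_one, one_pow, one_mul] at this
    calc z * y u = (z * y u * z⁻¹) * z := by group
      _ = y u * z := by rw [this]

theorem h_comm [Finite K] {t u : K} (ht : t ≠ 0) (hu : u ≠ 0) : h t * h u = h u * h t := by
  haveI := Fintype.ofFinite K
  obtain ⟨v, hv⟩ := IsCyclic.exists_generator (α := Kˣ)
  obtain ⟨k, hk⟩ := Subgroup.mem_zpowers_iff.mp (hv (Units.mk0 t ht))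
  obtain ⟨l, hl⟩ := Subgroup.mem_zpowers_iff.mp (hv (Units.mk0 u hu))
  -- `h t = ζ * (h v)^k` with `ζ` central
  have key : ∀ (s : K) (hs : s ≠ 0) (m : ℤ), v ^ m = Units.mk0 s hs →
      ∀ a : St K, (h s * (h (v : K) ^ m)⁻¹) * a = a * (h s * (h (v : K) ^ m)⁻¹) := by
    intro s hs m hm a
    have h1 : (h s, Units.mk0 s hs) ∈ Tsub K := h_mem_Tsub (Units.mk0 s hs)
    have h2 : ((h (v : K), v) ^ m)⁻¹ ∈ Tsub K :=
      (Tsub K).inv_mem ((Tsub K).zpow_mem (h_mem_Tsub v) m)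
    have h3 := (Tsub K).mul_mem h1 h2
    have e : (h s, Units.mk0 s hs) * ((h (v : K), v) ^ m)⁻¹ =
        (h s * (h (v : K) ^ m)⁻¹, (1 : Kˣ)) := by
      rw [Prod.ext_iff]
      refine ⟨?_, ?_⟩
      · simp
      · simp [hm]
    rw [e] at h3
    exact central_of_Tsub_one h3 a
  have kt := key t ht k hk
  have ku := key u hu l hl
  obtain ⟨ζ, hζ⟩ : ∃ ζ, ζ = h t * (h (v : K) ^ k)⁻¹ := ⟨_, rfl⟩
  obtain ⟨ξ, hξ⟩ : ∃ ξ, ξ = h u * (h (v : K) ^ l)⁻¹ := ⟨_, rfl⟩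
  rw [← hζ] at kt
  rw [← hξ] at ku
  have et : h t = ζ * h (v : K) ^ k := by rw [hζ]; group
  have eu : h u = ξ * h (v : K) ^ l := by rw [hξ]; group
  rw [et, eu]
  calc ζ * h (v : K) ^ k * (ξ * h (v : K) ^ l)
      = ζ * (h (v : K) ^ k * ξ) * h (v : K) ^ l := by group
    _ = ζ * (ξ * h (v : K) ^ k) * h (v : K) ^ l := by rw [ku]
    _ = (ζ * ξ) * (h (v : K) ^ k * h (v : K) ^ l) := by group
    _ = (ξ * ζ) * (h (v : K) ^ l * h (v : K) ^ k) := by
        rw [kt ξ, ← zpow_add, ← zpow_add, add_comm]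
    _ = ξ * (ζ * h (v : K) ^ l) * h (v : K) ^ k := by group
    _ = ξ * (h (v : K) ^ l * ζ) * h (v : K) ^ k := by rw [kt]
    _ = ξ * h (v : K) ^ l * (ζ * h (v : K) ^ k) := by group

theorem h_sq_mul [Finite K] {t u : K} (ht : t ≠ 0) (hu : u ≠ 0) :
    h (t ^ 2 * u) = h (t ^ 2) * h u := by
  have h1 := h_h ht hu
  rw [h_comm ht hu, mul_inv_cancel_right] at h1
  have h2 : h (t ^ 2 * u) = h u * h (t ^ 2) := by rw [h1]; group
  rw [h2, h_comm hu (pow_ne_zero 2 ht)]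

/-- `h` is multiplicative on two arguments whose sum is a nonzero square -/
theorem h_mul_of_add_sq [Finite K] {n n' s : K} (hn : n ≠ 0) (hn' : n' ≠ 0) (hs : s ≠ 0)
    (hsum : n + n' = s ^ 2) : h n * h n' = h (n * n') := by
  have hσ : n + n' ≠ 0 := by rw [hsum]; exact pow_ne_zero 2 hs
  have hm : 1 + n * n'⁻¹ ≠ 0 := by
    intro h0
    apply hσ
    have : n + n' = (1 + n * n'⁻¹) * n' := by field_simp; ring
    rw [this, h0, zero_mul]
  have hJ := h_J hn (inv_ne_zero hn') hm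
  have e1 : (1 + n * n'⁻¹) / n'⁻¹ = s ^ 2 := by
    rw [← hsum]; field_simp; ring
  have e2 : n / (1 + n * n'⁻¹) = n * n' / s ^ 2 := by
    have e3 : 1 + n * n'⁻¹ = (n + n') / n' := by field_simp; ring
    rw [e3, div_div_eq_mul_div, hsum]
  rw [e1, inv_inv, e2] at hJ
  have hq : n * n' / s ^ 2 ≠ 0 := div_ne_zero (mul_ne_zero hn hn') (pow_ne_zero 2 hs)
  -- h (s^2) * (h n')⁻¹ = h n * (h (n n'/s^2))⁻¹
  have h3 : h (s ^ 2) * h (n * n' / s ^ 2) = h n * h n' := by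
    have : h (s ^ 2) = h n * (h (n * n' / s ^ 2))⁻¹ * h n' := by
      rw [← hJ]; group
    rw [this, mul_assoc, mul_assoc, h_comm hn' hq, ← mul_assoc (h (n * n' / s ^ 2))⁻¹,
      inv_mul_cancel, one_mul]
  rw [← h3, ← h_sq_mul hs hq]
  congr 1
  field_simp

end Cfsg.Agent.Lib.Lead.St2
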