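import Cfsg.Agent.Lib.Lead.St2D

/-!
The rank-one Steinberg group over a finite field: `h` is multiplicative (lead).
-/

set_option autoImplicit false

namespace Cfsg.Agent.Lib.Lead.St2

open Polynomial

section field

variable {K : Type*} [Field K] [Fintype K]

theorem exists_sq_add_sq (hodd : Fintype.card K % 2 = 1) (c : K) : ∃ a b : K, a ^ 2 + b ^ 2 = c := by
  have hf : degree (X ^ 2 : K[X]) = 2 := degree_X_pow 2
  have hg : degree (X ^ 2 - C c : K[X]) = 2 := degree_X_pow_sub_C (by norm_num) c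
  obtain ⟨a, b, hab⟩ := FiniteField.exists_root_sum_quadratic hf hg hodd
  refine ⟨a, b, ?_⟩
  simp only [eval_pow, eval_X, eval_sub, eval_C] at hab
  linear_combination hab

/-- in a finite field with a non-square some `1 + s ^ 2`, `s ≠ 0`, is not a square -/
theorem exists_one_add_sq_not_sq (hns : ∃ a : K, ¬ IsSquare a) :
    ∃ s : K, s ≠ 0 ∧ ¬ IsSquare (1 + s ^ 2) := by
  by_contra hcon
  push Not at hcon
  have hchar : ringChar K ≠ 2 := by
    intro h2
    obtain ⟨a, ha⟩ := hns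
    exact ha (FiniteField.isSquare_of_char_two h2 a)
  have hodd := FiniteField.odd_card_of_char_ne_two hchar
  -- squares are closed under addition
  have hadd : ∀ a b : K, IsSquare (a ^ 2 + b ^ 2) := by
    intro a b
    by_cases hb : b = 0
    · rw [hb, zero_pow two_ne_zero, add_zero]; exact IsSquare.sq a
    · by_cases ha : a = 0
      · rw [ha, zero_pow two_ne_zero, zero_add]; exact IsSquare.sq b
      · have h1 := hcon (a / b) (div_ne_zero ha hb)
        have e : a ^ 2 + b ^ 2 = b ^ 2 * (1 + (a / b) ^ 2) := by field_simp; ring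
        rw [e]
        exact (IsSquare.sq b).mul h1
  obtain ⟨c, hc⟩ := hns
  obtain ⟨a, b, hab⟩ := exists_sq_add_sq hodd c
  exact hc (hab ▸ hadd a b)

theorem isSquare_mul_of_not_isSquare {a b : K} (ha : ¬ IsSquare a) (hb : ¬ IsSquare b) :
    IsSquare (a * b) := by
  classical
  have ha0 : a ≠ 0 := fun h => ha (h ▸ IsSquare.zero)
  have hb0 : b ≠ 0 := fun h => hb (h ▸ IsSquare.zero)
  rw [← quadraticChar_one_iff_isSquare (mul_ne_zero ha0 hb0), map_mul,
    quadraticChar_neg_one_iff_not_isSquare.mpr ha, quadraticChar_neg_one_iff_not_isSquare.mpr hb]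
  norm_num

end field

variable {K : Type*} [Field K] [Finite K]

theorem h_sq_mul' {s u : K} (hs : s ≠ 0) (hu : u ≠ 0) : h (s * s * u) = h (s * s) * h u := by
  have := h_sq_mul hs hu
  rwa [pow_two] at this

theorem h_mul_self_of_not_isSquare {t : K} (ht : ¬ IsSquare t) : h t * h t = h (t * t) := by
  haveI := Fintype.ofFinite K
  have ht0 : t ≠ 0 := fun h => ht (h ▸ IsSquare.zero)
  obtain ⟨s, hs0, hs⟩ := exists_one_add_sq_not_sq ⟨t, ht⟩
  obtain ⟨r, hr⟩ := isSquare_mul_of_not_isSquare ht hs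
  have hr0 : r ≠ 0 := by
    rintro rfl
    have hm0 : 1 + s ^ 2 ≠ 0 := fun h => hs (h ▸ IsSquare.zero)
    rw [mul_zero] at hr
    exact (mul_ne_zero ht0 hm0) hr
  have hn' : t * s ^ 2 ≠ 0 := mul_ne_zero ht0 (pow_ne_zero 2 hs0)
  have hsum : t + t * s ^ 2 = r ^ 2 := by rw [pow_two r, ← hr]; ring
  have h1 := h_mul_of_add_sq ht0 hn' hr0 hsum
  -- h t * h (t s²) = h (t · t s²)
  have e1 : t * s ^ 2 = s ^ 2 * t := mul_comm _ _
  have e2 : t * (s ^ 2 * t) = s ^ 2 * (t * t) := by ring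
  rw [e1, h_sq_mul hs0 ht0, e2, h_sq_mul hs0 (mul_ne_zero ht0 ht0)] at h1
  rw [← mul_assoc, h_comm ht0 (pow_ne_zero 2 hs0), mul_assoc] at h1
  exact mul_left_cancel h1

/-- Steinberg's relation (C) in rank one over a finite field -/
theorem h_mul {t u : K} (ht : t ≠ 0) (hu : u ≠ 0) : h t * h u = h (t * u) := by
  haveI := Fintype.ofFinite K
  by_cases hts : IsSquare t
  · obtain ⟨s, rfl⟩ := hts
    have hs : s ≠ 0 := fun h => ht (by rw [h, mul_zero])
    exact (h_sq_mul' hs hu).symm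
  by_cases hus : IsSquare u
  · obtain ⟨s, rfl⟩ := hus
    have hs : s ≠ 0 := fun h => hu (by rw [h, mul_zero])
    rw [h_comm ht hu, mul_comm t, h_sq_mul' hs ht]
  -- both non-squares
  obtain ⟨r, hr⟩ := isSquare_mul_of_not_isSquare hus hts
  have hr0 : r ≠ 0 := by
    rintro rfl
    rw [mul_zero] at hr
    exact (mul_ne_zero hu ht) hr
  have hc0 : r / t ≠ 0 := div_ne_zero hr0 ht
  have eu : u = (r / t) * (r / t) * t := by
    field_simp
    rw [pow_two, ← hr]
  have h2 := h_mul_self_of_not_isSquare hts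
  have e3 : t * u = (r / t) * (r / t) * (t * t) := by
    rw [eu]; ring
  rw [e3, h_sq_mul' hc0 (mul_ne_zero ht ht), ← h2, eu, h_sq_mul' hc0 ht, ← mul_assoc,
    h_comm ht (mul_ne_zero hc0 hc0), mul_assoc]

theorem h_inv' {t : K} (ht : t ≠ 0) : (h t)⁻¹ = h t⁻¹ := by
  rw [inv_eq_iff_mul_eq_one, h_mul ht (inv_ne_zero ht), mul_inv_cancel₀ ht, h_one]

end Cfsg.Agent.Lib.Lead.St2
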