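import Cfsg.Agent.Lib.Lead.St2E

/-!
The rank-one Steinberg group: the homomorphism onto `SL₂(K)` (lead).
-/

set_option autoImplicit false

namespace Cfsg.Agent.Lib.Lead.St2

variable {K : Type*} [Field K]

local notation "SL2" => Matrix.SpecialLinearGroup (Fin 2)

/-- upper unitriangular matrices -/
def Xm (t : K) : SL2 K := ⟨!![1, t; 0, 1], by simp [Matrix.det_fin_two_of]⟩

/-- lower unitriangular matrices -/
def Ym (t : K) : SL2 K := ⟨!![1, 0; t, 1], by simp [Matrix.det_fin_two_of]⟩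

/-- the images of the generators -/
def gm (p : Bool × K) : SL2 K := if p.1 then Xm p.2 else Ym p.2

theorem Xm_add (t u : K) : Xm t * Xm u = Xm (t + u) := by
  apply Subtype.ext
  show (!![1, t; 0, 1] : Matrix (Fin 2) (Fin 2) K) * !![1, u; 0, 1] = !![1, t + u; 0, 1]
  rw [Matrix.mul_fin_two]
  simp [add_comm]

theorem Ym_add (t u : K) : Ym t * Ym u = Ym (t + u) := by
  apply Subtype.ext
  show (!![1, 0; t, 1] : Matrix (Fin 2) (Fin 2) K) * !![1, 0; u, 1] = !![1, 0; t + u, 1]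
  rw [Matrix.mul_fin_two]
  simp [add_comm]

theorem Wm_X {t : K} (ht : t ≠ 0) (u : K) :
    (Xm t * Ym (-t⁻¹) * Xm t) * Xm u = Ym (-(t⁻¹ ^ 2 * u)) * (Xm t * Ym (-t⁻¹) * Xm t) := by
  apply Subtype.ext
  show ((!![1, t; 0, 1] : Matrix (Fin 2) (Fin 2) K) * !![1, 0; -t⁻¹, 1] * !![1, t; 0, 1]) *
      !![1, u; 0, 1] = !![1, 0; -(t⁻¹ ^ 2 * u), 1] *
      ((!![1, t; 0, 1] : Matrix (Fin 2) (Fin 2) K) * !![1, 0; -t⁻¹, 1] * !![1, t; 0, 1])
  simp only [Matrix.mul_fin_two]
  ext i j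
  fin_cases i <;> fin_cases j
  all_goals simp
  all_goals try field_simp
  all_goals try ring_nf
  all_goals try simp

theorem Wm_Y {t : K} (ht : t ≠ 0) (u : K) :
    (Ym t * Xm (-t⁻¹) * Ym t) * Ym u = Xm (-(t⁻¹ ^ 2 * u)) * (Ym t * Xm (-t⁻¹) * Ym t) := by
  apply Subtype.ext
  show ((!![1, 0; t, 1] : Matrix (Fin 2) (Fin 2) K) * !![1, -t⁻¹; 0, 1] * !![1, 0; t, 1]) *
      !![1, 0; u, 1] = !![1, -(t⁻¹ ^ 2 * u); 0, 1] *
      ((!![1, 0; t, 1] : Matrix (Fin 2) (Fin 2) K) * !![1, -t⁻¹; 0, 1] * !![1, 0; t, 1])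
  simp only [Matrix.mul_fin_two]
  ext i j
  fin_cases i <;> fin_cases j
  all_goals simp
  all_goals try field_simp
  all_goals try ring_nf
  all_goals try simp

theorem gm_rels : ∀ r ∈ rels K, FreeGroup.lift gm r = 1 := by
  rintro r (⟨b, t, u, rfl⟩ | ⟨b, t, u, ht, rfl⟩)
  · simp only [map_mul, map_inv, FreeGroup.lift_apply_of]
    rw [mul_inv_eq_one]
    cases b
    · exact Ym_add t u
    · exact Xm_add t u
  · simp only [map_mul, map_inv, FreeGroup.lift_apply_of]
    rw [mul_inv_eq_one, mul_inv_eq_iff_eq_mul]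
    cases b
    · exact Wm_Y ht u
    · exact Wm_X ht u

/-- the homomorphism onto `SL₂(K)` -/
def π : St K →* SL2 K := PresentedGroup.toGroup gm_rels

theorem π_x (t : K) : π (x t) = Xm t := by
  show PresentedGroup.toGroup gm_rels (PresentedGroup.of (true, t)) = _
  rw [PresentedGroup.toGroup.of]
  rfl

theorem π_y (t : K) : π (y t) = Ym t := by
  show PresentedGroup.toGroup gm_rels (PresentedGroup.of (false, t)) = _
  rw [PresentedGroup.toGroup.of]
  rfl

theorem π_surjective : Function.Surjective (π (K := K)) := by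
  intro A
  refine Matrix.SL2.transvection_induction (fun A => ∃ a, π a = A) ?_ ?_ A
  · intro i j hij c
    fin_cases i <;> fin_cases j
    · exact absurd rfl hij
    · refine ⟨x c, ?_⟩
      rw [π_x]
      ext a b
      fin_cases a <;> fin_cases b <;>
        simp [Xm, Matrix.SpecialLinearGroup.transvection, Matrix.transvection, Matrix.single]
    · refine ⟨y c, ?_⟩
      rw [π_y]
      ext a b
      fin_cases a <;> fin_cases b <;>
        simp [Ym, Matrix.SpecialLinearGroup.transvection, Matrix.transvection, Matrix.single]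
    · exact absurd rfl hij
  · rintro A B ⟨a, rfl⟩ ⟨b, rfl⟩
    exact ⟨a * b, map_mul _ _ _⟩

end Cfsg.Agent.Lib.Lead.St2
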