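import Cfsg.Agent.Lib.Lead.St2F
import Cfsg.Agent.Lib.Helper12.SL2b

/-!
The rank-one Steinberg group over a finite field is `SL₂(K)`: Bruhat decomposition and counting
(lead).
-/

set_option autoImplicit false

namespace Cfsg.Agent.Lib.Lead.St2

variable {K : Type*} [Field K] [Finite K]

local notation "SL2" => Matrix.SpecialLinearGroup (Fin 2)

/-- the Bruhat normal forms -/
def Bru (K : Type*) [Field K] : Set (St K) :=
  {z | (∃ (a : K) (t : Kˣ), z = x a * h (t : K)) ∨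
    (∃ (a : K) (t : Kˣ) (b : K), z = x a * h (t : K) * w 1 * x b)}

theorem h_mul_x {c : K} (hc : c ≠ 0) (a : K) : h c * x a = x (c ^ 2 * a) * h c := by
  rw [← h_x hc a]; group

theorem x_mul_h {c : K} (hc : c ≠ 0) (a : K) : x a * h c = h c * x (c⁻¹ ^ 2 * a) := by
  rw [h_mul_x hc]
  congr 2
  field_simp

theorem om_mul_h {c : K} (hc : c ≠ 0) : w 1 * h c = h c⁻¹ * w 1 := by
  rw [← om_h hc]; group

theorem om_sq : w (1 : K) * w 1 = h (-1) := by
  have h1 : h (-1 : K) = (w 1)⁻¹ * (w 1)⁻¹ := by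
    unfold h; rw [← w_inv]
  have h2 : (h (-1 : K))⁻¹ = h (-1) := by
    rw [h_inv' (neg_ne_zero.mpr one_ne_zero), inv_neg, inv_one]
  rw [← h2, h1, mul_inv_rev, inv_inv]

theorem one_mem_Bru : (1 : St K) ∈ Bru K :=
  Or.inl ⟨0, 1, by rw [x_zero, Units.val_one, h_one, one_mul]⟩

theorem x_mul_mem_Bru (c : K) {z : St K} (hz : z ∈ Bru K) : x c * z ∈ Bru K := by
  rcases hz with ⟨a, t, rfl⟩ | ⟨a, t, b, rfl⟩
  · exact Or.inl ⟨c + a, t, by rw [← mul_assoc, x_add]⟩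
  · exact Or.inr ⟨c + a, t, b, by rw [← x_add]; group⟩

theorem h_mul_mem_Bru (c : Kˣ) {z : St K} (hz : z ∈ Bru K) : h (c : K) * z ∈ Bru K := by
  rcases hz with ⟨a, t, rfl⟩ | ⟨a, t, b, rfl⟩
  · refine Or.inl ⟨(c : K) ^ 2 * a, c * t, ?_⟩
    rw [← mul_assoc, h_mul_x c.ne_zero, mul_assoc, h_mul c.ne_zero t.ne_zero, Units.val_mul]
  · refine Or.inr ⟨(c : K) ^ 2 * a, c * t, b, ?_⟩
    have e : h (c : K) * (x a * h (t : K) * w 1 * x b) = (h (c : K) * x a) * h (t : K) * w 1 * x b := by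
      group
    rw [e, h_mul_x c.ne_zero, mul_assoc (x _), h_mul c.ne_zero t.ne_zero, Units.val_mul]

theorem mem_Bru_mul_x (c : K) {z : St K} (hz : z ∈ Bru K) : z * x c ∈ Bru K := by
  rcases hz with ⟨a, t, rfl⟩ | ⟨a, t, b, rfl⟩
  · refine Or.inl ⟨a + (t : K) ^ 2 * c, t, ?_⟩
    rw [mul_assoc, h_mul_x t.ne_zero, ← mul_assoc, x_add]
  · exact Or.inr ⟨a, t, b + c, by rw [mul_assoc, x_add]⟩

theorem mem_Bru_mul_h (c : Kˣ) {z : St K} (hz : z ∈ Bru K) : z * h (c : K) ∈ Bru K := by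
  rcases hz with ⟨a, t, rfl⟩ | ⟨a, t, b, rfl⟩
  · refine Or.inl ⟨a, t * c, ?_⟩
    rw [mul_assoc, h_mul t.ne_zero c.ne_zero, Units.val_mul]
  · refine Or.inr ⟨a, t * c⁻¹, (c : K)⁻¹ ^ 2 * b, ?_⟩
    have e : x a * h (t : K) * w 1 * x b * h (c : K) = x a * h (t : K) * (w 1 * (x b * h (c : K))) := by
      group
    rw [e, x_mul_h c.ne_zero, ← mul_assoc (w 1), om_mul_h c.ne_zero]
    have e2 : x a * h (t : K) * (h (c : K)⁻¹ * w 1 * x ((c : K)⁻¹ ^ 2 * b)) =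
        x a * (h (t : K) * h (c : K)⁻¹) * w 1 * x ((c : K)⁻¹ ^ 2 * b) := by group
    rw [e2, h_mul t.ne_zero (inv_ne_zero c.ne_zero), Units.val_mul, Units.val_inv_eq_inv_val]

theorem om_mem_Bru : w (1 : K) ∈ Bru K :=
  Or.inr ⟨0, 1, 0, by rw [x_zero, Units.val_one, h_one]; group⟩

theorem om_x (a : K) : w 1 * x a = y (-a) * w 1 := by
  have := w_x (K := K) (t := 1) one_ne_zero a
  rw [inv_one, one_pow, one_mul] at this
  rw [← this]; group

theorem om_mul_mem_Bru {z : St K} (hz : z ∈ Bru K) : w 1 * z ∈ Bru K := by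
  rcases hz with ⟨a, t, rfl⟩ | ⟨a, t, b, rfl⟩
  · -- ω x a h t = h t⁻¹ ω x (t⁻² a)
    have e : w 1 * (x a * h (t : K)) = h ((t⁻¹ : Kˣ) : K) * (w 1 * x ((t : K)⁻¹ ^ 2 * a)) := by
      rw [x_mul_h t.ne_zero, ← mul_assoc, om_mul_h t.ne_zero, mul_assoc, Units.val_inv_eq_inv_val]
    rw [e]
    exact h_mul_mem_Bru _ (mem_Bru_mul_x _ om_mem_Bru)
  · by_cases ha : a = 0
    · subst ha
      have e : w 1 * (x 0 * h (t : K) * w 1 * x b) = h ((t⁻¹ : Kˣ) : K) * h ((-1 : Kˣ) : K) * x b := by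
        rw [x_zero, one_mul, ← mul_assoc, ← mul_assoc, om_mul_h t.ne_zero, mul_assoc (h _), om_sq,
          Units.val_inv_eq_inv_val, Units.val_neg, Units.val_one]
      rw [e, mul_assoc]
      refine h_mul_mem_Bru _ (h_mul_mem_Bru _ ?_)
      exact Or.inl ⟨b, 1, by rw [Units.val_one, h_one, mul_one]⟩
    · -- ω x a = y(-a) ω,  y(-a) = x(-a⁻¹) h(a⁻¹) ω x(-a⁻¹)
      have hy : y (-a) = x (-a⁻¹) * h a⁻¹ * w 1 * x (-a⁻¹) := by
        rw [y_form (-a), inv_neg, neg_neg, w_eq_h a⁻¹]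
        group
      have e : w 1 * (x a * h (t : K) * w 1 * x b) =
          (x (-a⁻¹) * h a⁻¹ * w 1 * x (-a⁻¹)) * h ((t⁻¹ : Kˣ) : K) * h ((-1 : Kˣ) : K) * x b := by
        have e1 : w 1 * (x a * h (t : K) * w 1 * x b) = (w 1 * x a) * h (t : K) * w 1 * x b := by group
        rw [e1, om_x, hy]
        have e2 : x (-a⁻¹) * h a⁻¹ * w 1 * x (-a⁻¹) * w 1 * h (t : K) * w 1 * x b =
            x (-a⁻¹) * h a⁻¹ * w 1 * x (-a⁻¹) * (w 1 * h (t : K)) * w 1 * x b := by group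
        rw [e2, om_mul_h t.ne_zero]
        have e3 : x (-a⁻¹) * h a⁻¹ * w 1 * x (-a⁻¹) * (h (t : K)⁻¹ * w 1) * w 1 * x b =
            x (-a⁻¹) * h a⁻¹ * w 1 * x (-a⁻¹) * h (t : K)⁻¹ * (w 1 * w 1) * x b := by group
        rw [e3, om_sq, Units.val_inv_eq_inv_val, Units.val_neg, Units.val_one]
      rw [e]
      refine mem_Bru_mul_x _ (mem_Bru_mul_h _ (mem_Bru_mul_h _ ?_))
      exact Or.inr ⟨-a⁻¹, Units.mk0 a⁻¹ (inv_ne_zero ha), -a⁻¹, rfl⟩

theorem y_mul_mem_Bru (c : K) {z : St K} (hz : z ∈ Bru K) : y c * z ∈ Bru K := by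
  -- y c = ω x(-c) ω⁻¹,  ω⁻¹ = h(-1) ω
  have h1 : y c = w 1 * x (-c) * (h (-1) * w 1) := by
    have := om_x (K := K) (-c)
    rw [neg_neg] at this
    have e : (h (-1 : K) * w 1) = (w 1)⁻¹ := by
      rw [← w_eq_h, w_inv]
    rw [e, this]; group
  rw [h1]
  have e : w 1 * x (-c) * (h (-1) * w 1) * z = w 1 * (x (-c) * (h ((-1 : Kˣ) : K) * (w 1 * z))) := by
    rw [Units.val_neg, Units.val_one]; group
  rw [e]
  exact om_mul_mem_Bru (x_mul_mem_Bru _ (h_mul_mem_Bru _ (om_mul_mem_Bru hz)))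

theorem mem_Bru (z : St K) : z ∈ Bru K := by
  have hz : z ∈ Subgroup.closure (Set.range (PresentedGroup.of (rels := rels K))) := by
    rw [PresentedGroup.closure_range_of]; exact Subgroup.mem_top z
  induction hz using Subgroup.closure_induction_left with
  | one => exact one_mem_Bru
  | mul_left s hs z _ ih =>
    obtain ⟨⟨b, t⟩, rfl⟩ := hs
    cases b
    · exact y_mul_mem_Bru t ih
    · exact x_mul_mem_Bru t ih
  | inv_mul_cancel s hs z _ ih =>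
    obtain ⟨⟨b, t⟩, rfl⟩ := hs
    cases b
    · have : (PresentedGroup.of (rels := rels K) (false, t))⁻¹ = y (-t) := y_inv t
      rw [this]; exact y_mul_mem_Bru _ ih
    · have : (PresentedGroup.of (rels := rels K) (true, t))⁻¹ = x (-t) := x_inv t
      rw [this]; exact x_mul_mem_Bru _ ih

end Cfsg.Agent.Lib.Lead.St2
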