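import Cfsg.Agent.Lib.Lead.St2G

/-!
The rank-one Steinberg presentation of `SL₂` over a finite field (lead).
-/

set_option autoImplicit false

namespace Cfsg.Agent.Lib.Lead.St2

variable {K : Type*} [Field K] [Finite K]

local notation "SL2" => Matrix.SpecialLinearGroup (Fin 2)

/-- parametrization of the Bruhat normal forms -/
noncomputable def bruMap : (K × Kˣ) ⊕ (K × Kˣ × K) → St K :=
  Sum.elim (fun p => x p.1 * h (p.2 : K)) (fun p => x p.1 * h (p.2.1 : K) * w 1 * x p.2.2)

theorem bruMap_surjective : Function.Surjective (bruMap (K := K)) := by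
  intro z
  rcases mem_Bru z with ⟨a, t, rfl⟩ | ⟨a, t, b, rfl⟩
  · exact ⟨Sum.inl (a, t), rfl⟩
  · exact ⟨Sum.inr (a, t, b), rfl⟩

theorem card_St_le : Nat.card (St K) ≤ Nat.card (SL2 K) := by
  classical
  haveI := Fintype.ofFinite K
  have h1 := Nat.card_le_card_of_surjective _ (bruMap_surjective (K := K))
  rw [Cfsg.Agent.Lib.Helper12.SL2.card_SL2]
  have h2 : Nat.card ((K × Kˣ) ⊕ (K × Kˣ × K)) =
      Fintype.card K * (Fintype.card K - 1) +
        Fintype.card K * ((Fintype.card K - 1) * Fintype.card K) := by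
    rw [Nat.card_eq_fintype_card, Fintype.card_sum, Fintype.card_prod, Fintype.card_prod,
      Fintype.card_prod, Fintype.card_units]
  rw [h2] at h1
  have hq : 1 ≤ Fintype.card K := Fintype.card_pos
  obtain ⟨k, hk⟩ : ∃ k, Fintype.card K = k + 1 := ⟨Fintype.card K - 1, by omega⟩
  rw [hk] at h1 ⊢
  rw [Nat.add_sub_cancel] at h1
  have e : (k + 1) ^ 2 - 1 = k * (k + 2) := by
    have : (k + 1) ^ 2 = k * (k + 2) + 1 := by ring
    rw [this, Nat.add_sub_cancel]
  rw [e]
  calc Nat.card (St K) ≤ (k + 1) * k + (k + 1) * (k * (k + 1)) := h1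
    _ = (k + 1) * (k * (k + 2)) := by ring

theorem π_bijective : Function.Bijective (π (K := K)) := by
  haveI : Finite (St K) := Finite.of_surjective _ (bruMap_surjective (K := K))
  exact π_surjective.bijective_of_nat_card_le card_St_le

/-- the rank-one Steinberg presentation of `SL₂(K)`, `K` a finite field -/
theorem main : ∃ e : St K ≃* SL2 K,
    (∀ t : K, ((e (PresentedGroup.of (true, t)) : Matrix (Fin 2) (Fin 2) K)) = !![1, t; 0, 1]) ∧
    (∀ t : K, ((e (PresentedGroup.of (false, t)) : Matrix (Fin 2) (Fin 2) K)) = !![1, 0; t, 1]) := by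
  refine ⟨MulEquiv.ofBijective π π_bijective, fun t => ?_, fun t => ?_⟩
  · show ((π (x t) : SL2 K) : Matrix (Fin 2) (Fin 2) K) = _
    rw [π_x]; rfl
  · show ((π (y t) : SL2 K) : Matrix (Fin 2) (Fin 2) K) = _
    rw [π_y]; rfl

end Cfsg.Agent.Lib.Lead.St2
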