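import Mathlib
import Cfsg.Prelude.Def_PLocal
import Cfsg.Agent.Lib.Lead.StableWNormal
import Cfsg.Agent.Lib.Helper3.BurnsideFrattini
import Cfsg.Agent.Lib.Helper13.ThompsonTransfer

/-!
# `W(S)` is normal in an action-`p`-stable group with `C(O_p(G)) ≤ O_p(G)` (KS 9.4.4)
-/

set_option autoImplicit false

namespace Cfsg.Agent.Lib.Lead.StableWAction

open Subgroup
open scoped commutatorElement
open Cfsg.Agent.Lib.Helper16 Cfsg.Agent.Lib.Helper17
open Cfsg.Agent.Lib.Lead.QuadStable Cfsg.Agent.Lib.Lead.StableW Cfsg.Agent.Lib.Lead.StableWNormal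

universe u

variable {G : Type u} [Group G] [Finite G] {p : ℕ} [hp : Fact p.Prime]

/-- `C_G(Q/Φ(Q))` is a `p`-group when `C_G(Q) ≤ Q = O_p(G)` (Burnside). -/
theorem sectionKernel_isPGroup
    (hc : centralizer (Cfsg.pCore p G : Set G) ≤ Cfsg.pCore p G) :
    IsPGroup p ↥(Cfsg.sectionKernel (Cfsg.pCore p G)
      ((frattini ↥(Cfsg.pCore p G)).map (Cfsg.pCore p G).subtype)) := by
  set Q := Cfsg.pCore p G with hQ
  set N := (frattini ↥Q).map Q.subtype with hN
  have hNn : N.Normal := inferInstance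
  have hQp : IsPGroup p Q := pCore_isPGroup p G
  rintro ⟨x, hx⟩
  unfold Cfsg.sectionKernel at hx
  rw [mem_comap, mem_centralizer_iff] at hx
  have h1 : ∀ q ∈ Q, x⁻¹ * q⁻¹ * x * q ∈ N := by
    intro q hq
    have := hx (QuotientGroup.mk' N q) (mem_map_of_mem _ hq)
    rw [← map_mul, ← map_mul] at this
    have h2 := QuotientGroup.eq.mp this
    have e : (q * x)⁻¹ * (x * q) = x⁻¹ * q⁻¹ * x * q := by group
    rwa [e] at h2
  have h2 : ∀ q ∈ Q, x * q * x⁻¹ * q⁻¹ ∈ N := by
    intro q hq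
    have h3 := N.inv_mem (h1 q⁻¹ (Q.inv_mem hq))
    have h4 := hNn.conj_mem _ h3 x
    have e : x * (x⁻¹ * q⁻¹⁻¹ * x * q⁻¹)⁻¹ * x⁻¹ = x * q * x⁻¹ * q⁻¹ := by group
    rwa [e] at h4
  set α : MulAut ↥Q := MulAut.conjNormal x with hα
  have hαm : α ∈ Cfsg.Agent.Lib.Helper3.trivOnFrattiniQuot ↥Q := by
    rw [Cfsg.Agent.Lib.Helper3.mem_trivOnFrattiniQuot]
    intro q
    obtain ⟨f, hf, hfe⟩ := h2 q q.2
    have : f = α q * q⁻¹ := by
      apply Subtype.ext
      rw [Subgroup.coe_mul, Subgroup.coe_inv, hα, MulAut.conjNormal_apply]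
      exact hfe
    rw [← this]; exact hf
  obtain ⟨a, ha⟩ := Cfsg.Agent.Lib.Helper3.exists_pow_eq_one_of_trivOnFrattiniQuot hQp α hαm
  have hxa : x ^ (p ^ a) ∈ centralizer (Q : Set G) := by
    rw [mem_centralizer_iff]
    intro q hq
    have h3 : (MulAut.conjNormal (x ^ (p ^ a)) : MulAut ↥Q) = 1 := by
      rw [map_pow]; exact ha
    have h4 := congrArg (fun β : MulAut ↥Q => ((β ⟨q, hq⟩ : ↥Q) : G)) h3
    simp only [MulAut.conjNormal_apply, MulAut.one_apply] at h4
    calc q * x ^ (p ^ a) = (x ^ (p ^ a) * q * (x ^ (p ^ a))⁻¹) * x ^ (p ^ a) := by rw [h4]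
      _ = x ^ (p ^ a) * q := by group
  obtain ⟨b, hb⟩ := hQp ⟨_, hc hxa⟩
  refine ⟨a + b, Subtype.ext ?_⟩
  have := congrArg Subtype.val hb
  simp only [Subgroup.coe_pow, Subgroup.coe_one] at this ⊢
  rw [pow_add, pow_mul]; exact this

/-- `W(S) ≤ O_p(G)` from `p`-stability on the section `O_p(G)/Φ(O_p(G))`. -/
theorem Wof_le_pCore_of_section
    (hc : centralizer (Cfsg.pCore p G : Set G) ≤ Cfsg.pCore p G)
    (hsec : Cfsg.IsPStableOnSection p (Cfsg.pCore p G)
      ((frattini ↥(Cfsg.pCore p G)).map (Cfsg.pCore p G).subtype))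
    (S : Sylow p G) : Wof p (S : Subgroup G) ≤ Cfsg.pCore p G := by
  set Q := Cfsg.pCore p G with hQ
  have hQS : Q ≤ S := pCore_le_sylow S
  have hSp : IsPGroup p (S : Subgroup G) := S.isPGroup'
  intro a ha
  have hel : ∀ q ∈ Q, ⁅⁅q, a⁆, a⁆ = 1 := by
    intro q hq
    have h1 : ⁅q, a⁆ ∈ Wof p (S : Subgroup G) := by
      have : ⁅q, a⁆ = (q * a * q⁻¹) * a⁻¹ := by simp only [commutatorElement_def]
      rw [this]
      exact mul_mem (Wof_conj hSp (hQS hq) ha) (inv_mem ha)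
    rw [commutatorElement_eq_one_iff_mul_comm]
    exact Wof_comm hSp _ h1 _ ha
  have hq : ⁅⁅Q, zpowers a⁆, zpowers a⁆ ≤ (frattini ↥Q).map Q.subtype := by
    rw [quad_of_elem hel]; exact bot_le
  obtain ⟨D, hDn, hKD, ⟨k, hk⟩, haD⟩ := hsec a hq
  have hKp : IsPGroup p ↥(Cfsg.sectionKernel Q ((frattini ↥Q).map Q.subtype)) :=
    sectionKernel_isPGroup (p := p) hc
  set K := Cfsg.sectionKernel Q ((frattini ↥Q).map Q.subtype) with hK
  have hDp : IsPGroup p D := by
    obtain ⟨m, hm⟩ := IsPGroup.iff_card.mp hKp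
    have h1 : Nat.card (K.subgroupOf D) = Nat.card K :=
      Nat.card_congr (Subgroup.subgroupOfEquivOfLe hKD).toEquiv
    have h2 := (K.subgroupOf D).card_mul_index
    have h3 : (K.subgroupOf D).index = p ^ k := hk
    rw [h1, hm, h3, ← pow_add] at h2
    exact IsPGroup.of_card h2.symm
  exact le_pCore hDn hDp haD

/-- `N_G(J(S))` normalizes `W(S)` when it acts `p`-stably below `Ω₁Z(J(S))`. -/
theorem normalizer_J_le_normalizer_Wof
    (hc : centralizer (Cfsg.pCore p G : Set G) ≤ Cfsg.pCore p G) (S : Sylow p G)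
    (h3 : ∀ (V : Subgroup ↥(normalizer (Cfsg.thompsonSubgroupOf p (S : Subgroup G) : Set G)))
      [V.Normal],
      V.map (normalizer (Cfsg.thompsonSubgroupOf p (S : Subgroup G) : Set G)).subtype ≤
        (Cfsg.omegaCenterThompson p ↥(S : Subgroup G)).map (S : Subgroup G).subtype →
      Cfsg.IsPStableOn p V) :
    normalizer (Cfsg.thompsonSubgroupOf p (S : Subgroup G) : Set G) ≤
      normalizer (Wof p (S : Subgroup G) : Set G) := by
  classical
  set J := Cfsg.thompsonSubgroupOf p (S : Subgroup G) with hJ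
  set L := normalizer (J : Set G) with hL
  set Q := Cfsg.pCore p G with hQ
  have hQn : Q.Normal := Cfsg.Agent.Lib.Helper16.pCore_normal p G
  have hQp : IsPGroup p Q := pCore_isPGroup p G
  have hQS : Q ≤ S := pCore_le_sylow S
  have hSp : IsPGroup p (S : Subgroup G) := S.isPGroup'
  have hSL : (S : Subgroup G) ≤ L :=
    le_normalizer.trans (normalizer_le_normalizer_thompsonSubgroupOf _)
  set τ : ↥(S : Subgroup G) →* ↥L := inclusion hSL with hτdef
  have hτ : Cfsg.IsStableEmbedding p τ := by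
    refine ⟨inclusion_injective hSL, inferInstance, ⟨S.subtype hSL, ?_⟩, ?_, ?_, ?_⟩
    · ext x
      rw [Sylow.coe_subtype, mem_subgroupOf, MonoidHom.mem_range]
      constructor
      · intro hx; exact ⟨⟨x, hx⟩, Subtype.ext rfl⟩
      · rintro ⟨s, rfl⟩; exact s.2
    · have hQ'n : (Q.subgroupOf L).Normal := hQn.subgroupOf L
      have hQ'p : IsPGroup p (Q.subgroupOf L) := hQp.comap_subtype
      have hQ'le : Q.subgroupOf L ≤ Cfsg.pCore p ↥L := le_pCore hQ'n hQ'p
      intro x hx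
      apply hQ'le
      rw [mem_subgroupOf]
      apply hc
      rw [mem_centralizer_iff]
      intro q hq
      have hq' : (⟨q, hSL (hQS hq)⟩ : ↥L) ∈ Cfsg.pCore p ↥L := hQ'le (by rw [mem_subgroupOf]; exact hq)
      have := mem_centralizer_iff.mp hx _ hq'
      exact congrArg Subtype.val this
    · have : (Cfsg.thompsonSubgroup p ↥(S : Subgroup G)).map τ = J.subgroupOf L := by
        ext x
        rw [mem_subgroupOf, hJ]
        unfold Cfsg.thompsonSubgroupOf
        constructor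
        · rintro ⟨s, hs, rfl⟩
          exact ⟨s, hs, rfl⟩
        · rintro ⟨s, hs, hse⟩
          exact ⟨s, hs, Subtype.ext hse⟩
      rw [this]
      exact normal_in_normalizer
    · intro V hVn hV
      apply h3 V
      have := map_mono (f := L.subtype) hV
      rwa [map_map, subtype_comp_inclusion] at this
  have hnorm := map_normal hSp τ hτ
  intro l hl
  apply Cfsg.Agent.Lib.Helper13.mem_normalizer_of_conj_mem
  rintro w ⟨w0, hw0, rfl⟩
  have h1 := hnorm.conj_mem (τ w0) (mem_map_of_mem τ hw0) ⟨l, hl⟩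
  obtain ⟨w1, hw1, hwe⟩ := h1
  refine ⟨w1, hw1, ?_⟩
  have e : ∀ s : ↥(S : Subgroup G), ((τ s : ↥L) : G) = (s : G) := fun s => rfl
  have := congrArg Subtype.val hwe
  simpa [e] using this

/-- **KS 9.4.4.** -/
theorem Wof_normal_of_actionPStable (hst : Cfsg.IsActionPStable p G)
    (hc : centralizer (Cfsg.pCore p G : Set G) ≤ Cfsg.pCore p G) (S : Sylow p G) :
    (Wof p (S : Subgroup G)).Normal :=
  Wof_normal_core S (Wof_le_pCore_of_section hc hst.2.1 S) (fun V _ hV => hst.1 V hV)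
    (normalizer_J_le_normalizer_Wof hc S (hst.2.2 S))

end Cfsg.Agent.Lib.Lead.StableWAction
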