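import Mathlib
import Cfsg.Prelude.Def_PLocal
import Cfsg.Agent.Lib.Lead.StableWNormal
import Cfsg.Agent.Lib.Lead.FunctorNPC
import Cfsg.Agent.Lib.Lead.QuadStable
import Cfsg.Agent.Lib.Lead.GlaubermanZJD
import Cfsg.Agent.Lib.Helper17.StableClosure

/-!
# `W(S)` as a functor; Thompson's normal `p`-complement theorem in the form with `W(S)` (KS 9.4.7)
-/

set_option autoImplicit false

universe u

namespace Cfsg.Agent.Lib.Lead.StableWFunctor

open Subgroup
open scoped commutatorElement
open Cfsg.Agent.Lib.Helper13 Cfsg.Agent.Lib.Helper16 Cfsg.Agent.Lib.Helper17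
open Cfsg.Agent.Lib.Lead.FunctorNPC Cfsg.Agent.Lib.Lead.QuadStable
open Cfsg.Agent.Lib.Lead.StableW Cfsg.Agent.Lib.Lead.StableWNormal

/-- transport of `W(S)` along isomorphisms (no finiteness needed) -/
theorem stableNormalClosure_map_le {p : ℕ} (T T' : Type u) [Group T] [Group T'] (η : T ≃* T') :
    (Cfsg.stableNormalClosure p T).map η.toMonoidHom ≤ Cfsg.stableNormalClosure p T' := by
  unfold Cfsg.stableNormalClosure
  apply le_sInf
  intro W' hW'
  rw [Subgroup.map_le_iff_le_comap]
  apply sInf_le
  refine ⟨?_, ?_⟩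
  · rw [← Subgroup.map_le_iff_le_comap, omegaOne_center_map_equiv η]
    exact hW'.1
  · intro K _ τ hτ
    have h1 := hW'.2 K (τ.comp η.symm.toMonoidHom) (isStableEmbedding_comp_equiv τ η.symm hτ)
    have h2 : (W'.comap η.toMonoidHom).map τ = W'.map (τ.comp η.symm.toMonoidHom) := by
      rw [← Subgroup.map_map, Subgroup.map_equiv_eq_comap_symm' η.symm W']
      rfl
    rw [h2]
    exact h1

theorem stableNormalClosure_map_equiv {p : ℕ} {T T' : Type u} [Group T] [Group T'] (η : T ≃* T') :
    (Cfsg.stableNormalClosure p T).map η.toMonoidHom = Cfsg.stableNormalClosure p T' := by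
  apply le_antisymm (stableNormalClosure_map_le T T' η)
  rw [← map_symm_map_equiv η (Cfsg.stableNormalClosure p T')]
  exact Subgroup.map_mono (stableNormalClosure_map_le T' T η.symm)

/-- the functor `P ↦ W(P)` -/
def WS (p : ℕ) : ∀ (H : Type u) [Group H], Subgroup H → Subgroup H := fun _ _ P => Wof p P

theorem Wof_map_of_injOn {p : ℕ} {H K : Type u} [Group H] [Group K] (f : H →* K) (P : Subgroup H)
    (hinj : ∀ x ∈ P, f x = 1 → x = 1) : Wof p (P.map f) = (Wof p P).map f := by
  have hbij : Function.Bijective (f.subgroupMap P) := by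
    refine ⟨?_, f.subgroupMap_surjective P⟩
    rw [injective_iff_map_eq_one]
    intro x hx
    apply Subtype.ext
    have := congrArg Subtype.val hx
    exact hinj x x.2 this
  set e : ↥P ≃* ↥(P.map f) := MulEquiv.ofBijective (f.subgroupMap P) hbij with he
  have h1 := stableNormalClosure_map_equiv (p := p) e
  unfold Wof
  rw [← h1, Subgroup.map_map, Subgroup.map_map]
  congr 1

theorem WS_good (p : ℕ) [hp : Fact p.Prime] : IsGoodFunctor.{u} p (WS p) where
  le := fun _ _ P => Wof_le P
  map := fun _ _ _ _ f P hinj => Wof_map_of_injOn f P hinj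
  ne_bot := by
    intro H _ _ P hP hne h
    have hnt : Nontrivial ↥P := by
      rw [Subgroup.nontrivial_iff_ne_bot]; exact hne
    have h1 := (Cfsg.Agent.S0622.result hP).2.2.2.1 hnt
    apply h1
    have h2 : (Cfsg.stableNormalClosure p ↥P).map P.subtype = ⊥ := h
    exact (Subgroup.map_eq_bot_iff_of_injective _ P.subtype_injective).mp h2

/-- **Thompson's normal `p`-complement theorem in the form with `W(S)`.** -/
theorem thompson_W {p : ℕ} [hp : Fact p.Prime] (hp2 : p ≠ 2) {G : Type u} [Group G]
    [Finite G] (P : Sylow p G) (h : NPC p ↥(normalizer (Wof p (P : Subgroup G) : Set G))) :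
    NPC p G := by
  apply npc_of_functor (WS_good p) _ _ G rfl P h
  intro G _ _ P Q _ hQP hOp hcent hquot hcoatom
  show (Wof p (P : Subgroup G)).Normal
  have hQeq := pCore_eq_of_config P Q hQP hOp
  have hc : centralizer (Cfsg.pCore p G : Set G) ≤ Cfsg.pCore p G := by rw [hQeq]; exact hcent
  have hst0 := stable_of_coatom hp2 P Q hQP hcent hquot hcoatom
  have hst : ∀ (V : Subgroup G) [V.Normal], IsPGroup p V → Cfsg.IsPStableOn p V :=
    fun V hVn hVp => hst0 V (hOp V hVn hVp)
  have hPp : IsPGroup p (P : Subgroup G) := P.isPGroup'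
  by_cases hJ : normalizer (Cfsg.thompsonSubgroupOf p (P : Subgroup G) : Set G) = ⊤
  · -- `J(P)` is normal: the inclusion of `P` is a stable embedding
    have hτ : Cfsg.IsStableEmbedding p (P : Subgroup G).subtype := by
      refine ⟨Subtype.val_injective, inferInstance, ⟨P, ?_⟩, hc, ?_, ?_⟩
      · exact (Subgroup.range_subtype _).symm
      · exact normalizer_eq_top_iff.mp hJ
      · intro V hVn hV
        apply hst V
        exact hPp.to_le (hV.trans (map_subtype_le _))
    exact map_normal hPp _ hτ
  · -- `N(J(P)) = P`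
    have hPL : (P : Subgroup G) ≤ normalizer (Cfsg.thompsonSubgroupOf p (P : Subgroup G) : Set G) :=
      le_normalizer.trans (normalizer_le_normalizer_thompsonSubgroupOf _)
    have hLP : normalizer (Cfsg.thompsonSubgroupOf p (P : Subgroup G) : Set G) = P := by
      by_contra hne
      exact hJ (hcoatom.2 _ (lt_of_le_of_ne hPL (fun h => hne h.symm)))
    apply Wof_normal_core P
    · exact Cfsg.Agent.Lib.Lead.GlaubermanZJD.le_pCore_of_abelian_of_conj hc hst P _
        (Wof_comm hPp) (fun s hs z hz => Wof_conj hPp hs hz)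
    · intro V hVn hVea
      exact hst V (Cfsg.Agent.Lib.Lead.ThompsonRepl.isPGroup_of_elementaryAbelian hVea)
    · rw [hLP]
      intro s hs
      apply mem_normalizer_of_conj_mem
      intro w hw
      exact Wof_conj hPp hs hw

end Cfsg.Agent.Lib.Lead.StableWFunctor
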