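import Mathlib

set_option autoImplicit false

namespace Cfsg.Agent.Lib.Lead.SylowConj

/-- Sylow's theorem inside a subgroup `H` containing a Sylow `p`-subgroup `S` of `G`:
every `p`-element `t ∈ H` is `H`-conjugate into `S`. -/
theorem exists_conj_mem {G : Type*} [Group G] [Finite G] {p : ℕ} [Fact p.Prime]
    (H : Subgroup G) (S : Sylow p G) (hS : (S : Subgroup G) ≤ H) (t : G) (ht : t ∈ H)
    (htp : ∃ k : ℕ, t ^ p ^ k = 1) : ∃ c ∈ H, c * t * c⁻¹ ∈ (S : Subgroup G) := by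
  classical
  obtain ⟨k, hk⟩ := htp
  have hpg : IsPGroup p (Subgroup.zpowers (⟨t, ht⟩ : H)) := by
    intro y
    obtain ⟨y, hy⟩ := y
    obtain ⟨n, rfl⟩ := Subgroup.mem_zpowers_iff.mp hy
    refine ⟨k, ?_⟩
    apply Subtype.ext
    apply Subtype.ext
    simp only [Subgroup.coe_pow, Subgroup.coe_zpow, Subgroup.coe_one]
    rw [← zpow_natCast, ← zpow_mul, mul_comm, zpow_mul, zpow_natCast, hk, one_zpow]
  obtain ⟨Q, hQ⟩ := hpg.exists_le_sylow
  obtain ⟨c, hc⟩ := MulAction.exists_smul_eq H Q (S.subtype hS)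
  refine ⟨c, c.2, ?_⟩
  have h1 : (⟨t, ht⟩ : H) ∈ (Q : Subgroup H) := hQ (Subgroup.mem_zpowers _)
  have h2 : c * (⟨t, ht⟩ : H) * c⁻¹ ∈ ((c • Q : Sylow p H) : Subgroup H) := by
    rw [Sylow.smul_def, Sylow.pointwise_smul_def]
    exact ⟨_, h1, rfl⟩
  rw [hc, Sylow.coe_subtype, Subgroup.mem_subgroupOf] at h2
  simpa using h2

end Cfsg.Agent.Lib.Lead.SylowConj
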