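import Mathlib
import Cfsg.Prelude.Def_Local
import Cfsg.Prelude.Def_Transfer
import Cfsg.Agent.Lib.Lead.GlaubermanZJE
import Cfsg.Agent.Lib.Lead.ThompsonRepl
import Cfsg.Agent.Lib.Helper2.Cores
import Cfsg.Agent.Lib.Helper16.SylowNormal

/-!
# Thompson factorization `G = N_G(J(P)) C_G(Ω₁(Z(P)))` from a quadratic-stability hypothesis (lead)
-/

set_option autoImplicit false

namespace Cfsg.Agent.Lib.Lead.ThompsonFactor

open Subgroup
open scoped commutatorElement
open Cfsg.Agent.Lib.Lead.GlaubermanReplE Cfsg.Agent.Lib.Lead.GlaubermanZJE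
open Cfsg.Agent.Lib.Lead.ThompsonRepl

variable {G : Type*} [Group G] [Finite G] {p : ℕ} [hp : Fact p.Prime]

/-- the quadratic-stability hypothesis on normal elementary abelian subgroups -/
def QuadStab (p : ℕ) (G : Type*) [Group G] : Prop :=
  ∀ (V : Subgroup G), V.Normal → (∀ x ∈ V, ∀ y ∈ V, x * y = y * x) → (∀ x ∈ V, x ^ p = 1) →
    ∀ a : G, ⁅⁅V, zpowers a⁆, zpowers a⁆ = ⊥ →
      ∃ D : Subgroup G, D.Normal ∧ centralizer (V : Set G) ≤ D ∧ a ∈ D ∧
        ∀ d ∈ D, ∃ k : ℕ, d ^ p ^ k ∈ centralizer (V : Set G)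

theorem factorization (hp2 : p ≠ 2)
    (hc : centralizer (Cfsg.pCore p G : Set G) ≤ Cfsg.pCore p G)
    (hstab : QuadStab p G) (P : Sylow p G) (g : G) :
    ∃ a ∈ normalizer (Cfsg.thompsonSubgroupOf p (P : Subgroup G) : Set G),
      ∃ c ∈ centralizer {x : G | x ∈ (P : Subgroup G) ∧ (∀ y ∈ (P : Subgroup G), x * y = y * x) ∧
        x ^ p = 1}, g = a * c := by
  classical
  set S : Subgroup G := (P : Subgroup G) with hS
  have hSp : IsPGroup p S := P.isPGroup'
  set Q := Cfsg.pCore p G with hQ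
  haveI hQn : Q.Normal := Cfsg.Agent.Lib.Helper2.pCore_normal p
  have hQS : Q ≤ S := Cfsg.Agent.Lib.Helper2.pCore_le_sylow p P
  set Ω : Set G := {x : G | x ∈ S ∧ (∀ y ∈ S, x * y = y * x) ∧ x ^ p = 1} with hΩ
  -- the subgroup `U = Ω₁(Z(Q))`
  let U : Subgroup G :=
    { carrier := {z | z ∈ Q ∧ (∀ y ∈ Q, z * y = y * z) ∧ z ^ p = 1}
      one_mem' := ⟨Q.one_mem, fun y _ => by rw [one_mul, mul_one], one_pow _⟩
      mul_mem' := by
        rintro a b ⟨ha, hac, hap⟩ ⟨hb, hbc, hbp⟩
        refine ⟨Q.mul_mem ha hb, fun y hy => ?_, ?_⟩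
        · rw [mul_assoc, hbc y hy, ← mul_assoc, hac y hy, mul_assoc]
        · rw [(show Commute a b from hac b hb).mul_pow, hap, hbp, one_mul]
      inv_mem' := by
        rintro a ⟨ha, hac, hap⟩
        refine ⟨Q.inv_mem ha, fun y hy => ?_, by rw [inv_pow, hap, inv_one]⟩
        have := hac y hy
        calc a⁻¹ * y = a⁻¹ * (y * a) * a⁻¹ := by group
          _ = a⁻¹ * (a * y) * a⁻¹ := by rw [this]
          _ = y * a⁻¹ := by group }
  have hUmem : ∀ z, z ∈ U ↔ z ∈ Q ∧ (∀ y ∈ Q, z * y = y * z) ∧ z ^ p = 1 := fun z => Iff.rfl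
  haveI hUn : U.Normal := ⟨by
    rintro z ⟨hz, hzc, hzp⟩ g
    refine ⟨hQn.conj_mem z hz g, fun y hy => ?_, by rw [conj_pow, hzp, mul_one, mul_inv_cancel]⟩
    have h1 : g⁻¹ * y * g ∈ Q := by
      have := hQn.conj_mem y hy g⁻¹
      rwa [inv_inv] at this
    have h2 := hzc _ h1
    calc g * z * g⁻¹ * y = g * (z * (g⁻¹ * y * g)) * g⁻¹ := by group
      _ = g * ((g⁻¹ * y * g) * z) * g⁻¹ := by rw [h2]
      _ = y * (g * z * g⁻¹) := by group⟩
  have hΩU : Ω ⊆ U := by
    rintro x ⟨hxS, hxc, hxp⟩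
    have h1 : x ∈ centralizer (Q : Set G) :=
      mem_centralizer_iff.mpr (fun y hy => (hxc y (hQS hy)).symm)
    exact ⟨hc h1, fun y hy => hxc y (hQS hy), hxp⟩
  set V := normalClosure Ω with hV
  haveI hVn : V.Normal := normalClosure_normal
  have hVU : V ≤ U := normalClosure_le_normal hΩU
  have hVc : ∀ x ∈ V, ∀ y ∈ V, x * y = y * x := fun x hx y hy => (hVU hx).2.1 y (hVU hy).1
  have hVe : ∀ x ∈ V, x ^ p = 1 := fun x hx => (hVU hx).2.2
  have hVS : V ≤ S := fun x hx => hQS (hVU hx).1
  have hΩV : Ω ⊆ V := subset_normalClosure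
  set C := centralizer (V : Set G) with hC
  haveI hCn : C.Normal := by rw [hC]; infer_instance
  -- `O_p(G / C) = 1`
  have hOp : ∀ D : Subgroup G, D.Normal → C ≤ D → (∀ d ∈ D, ∃ k : ℕ, d ^ p ^ k ∈ C) → D ≤ C := by
    intro D hDn hCD hDp
    haveI := hDn
    haveI hWn : (V ⊓ centralizer (D : Set G)).Normal := inferInstance
    have hΩW : Ω ⊆ V ⊓ centralizer (D : Set G) := by
      intro x hx
      refine ⟨hΩV hx, ?_⟩
      rw [SetLike.mem_coe, mem_centralizer_iff]
      intro d hd
      obtain ⟨T, hT⟩ := Cfsg.Agent.Lib.Helper16.exists_sylow_subgroupOf_normal P D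
      have hquot : IsPGroup p (↥D ⧸ C.subgroupOf D) := by
        intro y
        induction y using QuotientGroup.induction_on with
        | H y =>
          obtain ⟨k, hk⟩ := hDp y y.2
          refine ⟨k, ?_⟩
          rw [← QuotientGroup.mk_pow, QuotientGroup.eq_one_iff, mem_subgroupOf]
          simpa using hk
      obtain ⟨t, ht, c, hcC, hdtc⟩ := exists_mul_of_quotient_isPGroup (C.subgroupOf D) hquot T ⟨d, hd⟩
      have htS : (t : G) ∈ S := by
        rw [hT] at ht
        exact mem_subgroupOf.mp ht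
      have hcC' : (c : G) ∈ C := mem_subgroupOf.mp hcC
      have hd' : d = (t : G) * (c : G) := by
        have := congrArg Subtype.val hdtc
        simpa using this
      have h1 : x * (t : G) = (t : G) * x := hx.2.1 _ htS
      have h2 : (c : G) * x = x * (c : G) := (mem_centralizer_iff.mp hcC' x (hΩV hx)).symm
      rw [hd']
      calc (t : G) * (c : G) * x = (t : G) * (x * (c : G)) := by rw [mul_assoc, h2]
        _ = x * ((t : G) * (c : G)) := by rw [← mul_assoc, ← h1, mul_assoc]
    have hVW : V ≤ V ⊓ centralizer (D : Set G) := normalClosure_le_normal hΩW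
    intro d hd
    rw [hC, mem_centralizer_iff]
    intro v hv
    exact (mem_centralizer_iff.mp (hVW hv).2 d hd).symm
  -- quadratic elements centralize `V`
  have hquad : ∀ a : G, ⁅⁅V, zpowers a⁆, zpowers a⁆ = ⊥ → a ∈ C := by
    intro a ha
    obtain ⟨D, hDn, hCD, haD, hDp⟩ := hstab V hVn hVc hVe a ha
    exact hOp D hDn hCD hDp haD
  -- every member of `maxEIn p S` centralizes `V`
  have hall : ∀ A ∈ maxEIn p S, A ≤ C := by
    by_contra hcon
    push Not at hcon
    let α := {A : Subgroup G // A ∈ maxEIn p S ∧ ¬ A ≤ C}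
    haveI : Nonempty α := by
      obtain ⟨A, hA, hAC⟩ := hcon
      exact ⟨⟨A, hA, hAC⟩⟩
    obtain ⟨⟨A, hA, hAC⟩, hmax⟩ := Finite.exists_max (fun A : α => Nat.card (A.1 ⊓ V : Subgroup G))
    have hAc := hA.2.1
    by_cases hVA : V ≤ normalizer (A : Set G)
    · apply hAC
      intro a ha
      apply hquad
      rw [eq_bot_iff]
      have h1 : ⁅V, zpowers a⁆ ≤ A := by
        rw [commutator_le]
        intro v hv b hb
        have hbA : b ∈ A := (zpowers_le.mpr ha) hb
        have hvN := hVA hv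
        rw [mem_normalizer_iff] at hvN
        have : ⁅v, b⁆ = (v * b * v⁻¹) * b⁻¹ := by simp [commutatorElement_def]
        rw [this]
        exact A.mul_mem ((hvN b).mp hbA) (A.inv_mem hbA)
      rw [commutator_le]
      intro w hw b hb
      have hbA : b ∈ A := (zpowers_le.mpr ha) hb
      rw [mem_bot, commutatorElement_eq_one_iff_mul_comm]
      exact hAc w (h1 hw) b hbA
    · obtain ⟨A', hA', hlt, hA'N⟩ := replacementE hp2 hSp hA hVS hVe
        (by
          have : ⁅V, V⁆ = ⊥ := by
            rw [eq_bot_iff, commutator_le]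
            intro x hx y hy
            rw [mem_bot, commutatorElement_eq_one_iff_mul_comm]
            exact hVc x hx y hy
          rw [this]; exact bot_le)
        (by
          intro z hz b hb
          have : ⁅V, V⁆ = ⊥ := by
            rw [eq_bot_iff, commutator_le]
            intro x hx y hy
            rw [mem_bot, commutatorElement_eq_one_iff_mul_comm]
            exact hVc x hx y hy
          rw [this, mem_bot] at hz
          rw [hz, one_mul, mul_one])
        (fun a _ b hb => hVn.conj_mem b hb a) hVA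
      have hA'C : ¬ A' ≤ C := by
        intro hle
        apply hVA
        have hVA' : V ≤ A' := by
          intro v hv
          apply mem_of_centralizesE hA' (hVS hv) (hVe v hv)
          intro a ha
          exact mem_centralizer_iff.mp (hle ha) v hv
        exact hVA'.trans hA'N
      have h1 := hmax ⟨A', hA', hA'C⟩
      have h2 : Nat.card (A ⊓ V : Subgroup G) < Nat.card (A' ⊓ V : Subgroup G) := by
        by_contra hge
        push Not at hge
        exact hlt.ne (Subgroup.eq_of_le_of_card_ge hlt.le hge)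
      exact absurd h1 (not_le_of_gt h2)
  -- `J(S) ≤ R = S ⊓ C` and `J(R) = J(S)`
  set R := S ⊓ C with hR
  have hJR : ∀ A ∈ maxEIn p S, A ≤ R := fun A hA => le_inf hA.1 (hall A hA)
  have hmaxeq : maxEIn p R = maxEIn p S := by
    obtain ⟨A₀, hA₀⟩ := maxEIn_nonempty (p := p) S
    obtain ⟨hA₀R, hsub⟩ := maxEIn_mono hA₀ (hJR A₀ hA₀) (inf_le_left : R ≤ S)
    apply Set.Subset.antisymm hsub
    intro A hA
    exact (maxEIn_mono hA (hJR A hA) inf_le_left).1
  have hJeq : JE p R = JE p S := by unfold JE; rw [hmaxeq]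
  have hNR : normalizer (R : Set G) ≤ normalizer (JE p S : Set G) := by
    intro n hn
    rw [← hJeq, mem_normalizer_iff_map_conj_eq]  -- placeholder name
    have h1 := JE_map (p := p) (MulAut.conj n) R
    have h2 : R.map (MulAut.conj n).toMonoidHom = R := by
      exact (mem_normalizer_iff_map_conj_eq.mp hn)
    rw [h2] at h1
    exact h1
  -- Frattini
  obtain ⟨T, hT⟩ := Cfsg.Agent.Lib.Helper16.exists_sylow_subgroupOf_normal P C
  have hfr := Sylow.normalizer_sup_eq_top T
  have hTR : (T : Subgroup ↥C).map C.subtype = R := by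
    rw [hT, hR]
    exact subgroupOf_map_subtype S C
  rw [hTR] at hfr
  have hg : g ∈ normalizer (R : Set G) ⊔ C := by rw [hfr]; exact mem_top g
  rw [← SetLike.mem_coe, mul_normal] at hg
  obtain ⟨n, hn, c, hcC, rfl⟩ := hg
  refine ⟨n, ?_, c, ?_, rfl⟩
  · rw [thompsonSubgroupOf_eq_JE]
    exact hNR hn
  · rw [mem_centralizer_iff]
    intro x hx
    exact mem_centralizer_iff.mp hcC x (hΩV hx)

end Cfsg.Agent.Lib.Lead.ThompsonFactor
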