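import Mathlib
import Cfsg.Agent.Lib.Lead.BaerSuzuki
import Cfsg.Agent.Lib.Helper2.SchurZassenhaus2
import Cfsg.Agent.Lib.Helper24.DihIso

/-! Groups in which no element inverts a nontrivial element of odd order have a normal Sylow 2-subgroup. -/

set_option autoImplicit false

namespace Cfsg.Agent.Lib.Lead

open Subgroup

universe u

/-- The "no inverted odd element" condition. -/
def NoInvOdd (G : Type*) [Group G] : Prop :=
  ∀ g h : G, Odd (orderOf h) → g * h * g⁻¹ = h⁻¹ → h = 1

theorem mem_zpowers_sup_of_map_mem {G : Type*} [Group G] (N : Subgroup G) [N.Normal] (a z : G)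
    (hz : (QuotientGroup.mk' N z) ∈ zpowers (QuotientGroup.mk' N a)) : z ∈ zpowers a ⊔ N := by
  obtain ⟨k, hk⟩ := Subgroup.mem_zpowers_iff.mp hz
  have h1 : QuotientGroup.mk' N ((a ^ k)⁻¹ * z) = 1 := by
    rw [map_mul, map_inv, map_zpow, hk, inv_mul_cancel]
  have h2 : (a ^ k)⁻¹ * z ∈ N := (QuotientGroup.eq_one_iff _).mp h1
  have : z = a ^ k * ((a ^ k)⁻¹ * z) := by group
  rw [this]
  exact mul_mem (le_sup_left (a := zpowers a) (zpow_mem (mem_zpowers a) k)) (le_sup_right (a := zpowers a) h2)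

theorem map_mem_zpowers_of_mem_sup {G : Type*} [Group G] (N : Subgroup G) [N.Normal] (a z : G)
    (hz : z ∈ zpowers a ⊔ N) : (QuotientGroup.mk' N z) ∈ zpowers (QuotientGroup.mk' N a) := by
  have : (zpowers a ⊔ N).map (QuotientGroup.mk' N) = zpowers (QuotientGroup.mk' N a) := by
    rw [Subgroup.map_sup, QuotientGroup.map_mk'_self, sup_bot_eq, MonoidHom.map_zpowers]
  rw [← this]
  exact ⟨z, hz, rfl⟩

/-- an element of odd order lying in a 2-group is trivial -/
theorem eq_one_of_odd_of_mem_two_group {G : Type*} [Group G] (N : Subgroup G) (hN : IsPGroup 2 N) (x : G)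
    (hx : x ∈ N) (hodd : Odd (orderOf x)) : x = 1 := by
  obtain ⟨k, hk⟩ := hN ⟨x, hx⟩
  have hk' : x ^ (2 ^ k) = 1 := by
    have := congrArg Subtype.val hk
    simpa using this
  have h1 : orderOf x ∣ 2 ^ k := orderOf_dvd_of_pow_eq_one hk'
  have h2 : (orderOf x).Coprime (2 ^ k) := (Nat.coprime_two_right.mpr hodd).pow_right k
  have : orderOf x = 1 := Nat.eq_one_of_dvd_coprimes h2 (dvd_refl _) h1
  exact orderOf_eq_one_iff.mp this


/-- Core of the lifting: `N` a normal 2-subgroup, `h` of odd order, `g` with `g h g⁻¹ ≡ h⁻¹ mod N`.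
Then some `s` inverts `h` exactly. -/
theorem exists_inverting_lift {G : Type u} [Group G] [Finite G] (N : Subgroup G) [N.Normal]
    (hN : IsPGroup 2 N) (g h : G) (hodd : Odd (orderOf h))
    (hinv : QuotientGroup.mk' N (g * h * g⁻¹) = (QuotientGroup.mk' N h)⁻¹) :
    ∃ s : G, s * h * s⁻¹ = h⁻¹ := by
  classical
  have : Fact (Nat.Prime 2) := ⟨Nat.prime_two⟩
  set π := QuotientGroup.mk' N with hπ
  set C : Subgroup G := zpowers h with hC
  set K : Subgroup G := zpowers (g * h * g⁻¹) with hK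
  set H : Subgroup G := C ⊔ N with hH
  have hCH : C ≤ H := le_sup_left
  have hNH : N ≤ H := le_sup_right
  have hzK : zpowers (π (g * h * g⁻¹)) = zpowers (π h) := by
    rw [hinv, Subgroup.zpowers_inv]
  have hKH : K ≤ H := by
    rw [hK, zpowers_le]
    apply mem_zpowers_sup_of_map_mem
    rw [← hπ, hinv]
    exact inv_mem (mem_zpowers _)
  have hHK : H ≤ K ⊔ N := by
    intro z hz
    apply mem_zpowers_sup_of_map_mem
    rw [← hπ, hzK]
    exact map_mem_zpowers_of_mem_sup N h z hz
  -- pass to the ambient group ↥H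
  have hN' : (N.subgroupOf H).Normal := inferInstance
  have hsupC : C.subgroupOf H ⊔ N.subgroupOf H = ⊤ := by
    rw [← Subgroup.subgroupOf_sup hCH hNH, Subgroup.subgroupOf_eq_top]
  have hsupK : K.subgroupOf H ⊔ N.subgroupOf H = ⊤ := by
    rw [← Subgroup.subgroupOf_sup hKH hNH, Subgroup.subgroupOf_eq_top]
    exact hHK
  obtain ⟨k, hk⟩ := (IsPGroup.iff_card (p := 2) (G := N)).mp hN
  have hcardN : Nat.card (N.subgroupOf H) = 2 ^ k := by
    rw [Nat.card_congr (Subgroup.subgroupOfEquivOfLe hNH).toEquiv, hk]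
  have hcardC : Nat.card (C.subgroupOf H) = orderOf h := by
    rw [Nat.card_congr (Subgroup.subgroupOfEquivOfLe hCH).toEquiv, hC, Nat.card_zpowers]
  have hordK : orderOf (g * h * g⁻¹) = orderOf h := by
    have := (MulAut.conj g).orderOf_eq h
    simpa using this
  have hcardK : Nat.card (K.subgroupOf H) = orderOf h := by
    rw [Nat.card_congr (Subgroup.subgroupOfEquivOfLe hKH).toEquiv, hK, Nat.card_zpowers, hordK]
  have hcop : (orderOf h).Coprime (2 ^ k) := (Nat.coprime_two_right.mpr hodd).pow_right k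
  have hsolv : Group.IsSolvable (N.subgroupOf H) := by
    have hp : IsPGroup 2 (N.subgroupOf H) := hN.comap_subtype
    have hnil : Group.IsNilpotent (N.subgroupOf H) := hp.isNilpotent
    infer_instance
  obtain ⟨u, hu⟩ := Cfsg.Agent.Lib.Helper2.sz_conj (N.subgroupOf H) (C.subgroupOf H) (K.subgroupOf H)
    (Or.inl hsolv) hsupC hsupK (by rw [hcardC, hcardN]; exact hcop) (by rw [hcardK, hcardN]; exact hcop)
  -- u h u⁻¹ ∈ K
  have huK : (u : G) * h * (u : G)⁻¹ ∈ K := by
    have hmem : (⟨h, hCH (mem_zpowers h)⟩ : ↥H) ∈ C.subgroupOf H := by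
      rw [Subgroup.mem_subgroupOf]; exact mem_zpowers h
    have h2 : (MulAut.conj u) ⟨h, hCH (mem_zpowers h)⟩ ∈ K.subgroupOf H := by
      rw [← hu]; exact ⟨_, hmem, rfl⟩
    rw [Subgroup.mem_subgroupOf] at h2
    simpa using h2
  obtain ⟨j, hj⟩ := Subgroup.mem_zpowers_iff.mp huK
  -- s := g⁻¹ u conjugates h to h^j
  have hs : (g⁻¹ * u) * h * (g⁻¹ * u)⁻¹ = h ^ j := by
    have e1 : (g⁻¹ * (u : G)) * h * (g⁻¹ * u)⁻¹ = g⁻¹ * ((u : G) * h * (u : G)⁻¹) * g := by group
    rw [e1, ← hj]
    have e2 : (g * h * g⁻¹) ^ j = g * h ^ j * g⁻¹ := by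
      have := map_zpow (MulAut.conj g) h j
      simp only [MulAut.conj_apply] at this
      exact this.symm
    rw [e2]; group
  -- images in the quotient
  have hπu : π (u : G) ∈ zpowers (π h) := map_mem_zpowers_of_mem_sup N h u u.2
  have hcomm : π (u : G) * π h * (π (u : G))⁻¹ = π h := by
    obtain ⟨i, hi⟩ := Subgroup.mem_zpowers_iff.mp hπu
    rw [← hi]
    have : Commute (π h ^ i) (π h) := (Commute.refl (π h)).zpow_left i
    rw [this.eq, mul_assoc, mul_inv_cancel, mul_one]
  have hginv : (π g)⁻¹ * π h * π g = (π h)⁻¹ := by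
    have h1 : π g * π h * (π g)⁻¹ = (π h)⁻¹ := by
      rw [← hinv]; simp
    have h2 : π h = (π g)⁻¹ * (π h)⁻¹ * π g := by
      rw [← h1]; group
    calc (π g)⁻¹ * π h * π g = ((π g)⁻¹ * (π h)⁻¹ * π g)⁻¹ := by group
      _ = (π h)⁻¹ := by rw [← h2]
  have hπs : π (h ^ j) = (π h)⁻¹ := by
    rw [← hs]
    simp only [map_mul, map_inv]
    calc (π g)⁻¹ * π (u : G) * π h * ((π g)⁻¹ * π (u : G))⁻¹
        = (π g)⁻¹ * (π (u : G) * π h * (π (u : G))⁻¹) * π g := by group
      _ = (π g)⁻¹ * π h * π g := by rw [hcomm]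
      _ = (π h)⁻¹ := hginv
  have hmemN : h ^ j * h ∈ N := by
    rw [← QuotientGroup.eq_one_iff, ← QuotientGroup.mk'_apply, ← hπ, map_mul, hπs, inv_mul_cancel]
  have hodd' : Odd (orderOf (h ^ j * h)) := by
    have : h ^ j * h = h ^ (j + 1) := by rw [zpow_add_one]
    rw [this]
    exact hodd.of_dvd_nat (orderOf_dvd_of_pow_eq_one (by
      rw [← zpow_natCast, ← zpow_mul, mul_comm, zpow_mul, zpow_natCast, pow_orderOf_eq_one, one_zpow]))
  have h1 := eq_one_of_odd_of_mem_two_group N hN _ hmemN hodd'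
  refine ⟨g⁻¹ * u, ?_⟩
  rw [hs]
  exact eq_inv_of_mul_eq_one_left h1


theorem NoInvOdd.quotient {G : Type u} [Group G] [Finite G] (hG : NoInvOdd G) (N : Subgroup G) [N.Normal]
    (hN : IsPGroup 2 N) : NoInvOdd (G ⧸ N) := by
  intro gbar hbar hodd hinv
  obtain ⟨g, rfl⟩ := QuotientGroup.mk'_surjective N gbar
  obtain ⟨y, rfl⟩ := QuotientGroup.mk'_surjective N hbar
  set π := QuotientGroup.mk' N with hπ
  set m := orderOf (π y) with hm
  have hym : y ^ m ∈ N := by
    rw [← QuotientGroup.eq_one_iff, ← QuotientGroup.mk'_apply, ← hπ, map_pow, hm, pow_orderOf_eq_one]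
  obtain ⟨j, hj⟩ := hN ⟨y ^ m, hym⟩
  have hj' : (y ^ m) ^ (2 ^ j) = 1 := by
    have := congrArg Subtype.val hj
    simpa using this
  set h := y ^ (2 ^ j) with hh
  have hhm : h ^ m = 1 := by
    rw [hh, ← pow_mul, mul_comm, pow_mul]; exact hj'
  have hodd_h : Odd (orderOf h) := hodd.of_dvd_nat (orderOf_dvd_of_pow_eq_one hhm)
  have hinv' : π (g * h * g⁻¹) = (π h)⁻¹ := by
    have e1 : π (g * h * g⁻¹) = (π g * π y * (π g)⁻¹) ^ (2 ^ j) := by
      rw [hh, map_mul, map_mul, map_inv, map_pow, conj_pow]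
    rw [e1, hinv, inv_pow, hh, map_pow]
  obtain ⟨s, hs⟩ := exists_inverting_lift N hN g h hodd_h hinv'
  have h1 : h = 1 := hG s h hodd_h hs
  have h2 : (π y) ^ (2 ^ j) = 1 := by
    rw [← map_pow, ← hh, h1, map_one]
  have h3 : orderOf (π y) ∣ 2 ^ j := orderOf_dvd_of_pow_eq_one h2
  have h4 : (orderOf (π y)).Coprime (2 ^ j) := (Nat.coprime_two_right.mpr hodd).pow_right j
  have : orderOf (π y) = 1 := Nat.eq_one_of_dvd_coprimes h4 (dvd_refl _) h3
  exact orderOf_eq_one_iff.mp this

theorem orderOf_conj_eq {G : Type*} [Group G] (a x : G) : orderOf (a * x * a⁻¹) = orderOf x := by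
  have := (MulAut.conj a).orderOf_eq x
  simpa using this

/-- two involutions `x`, `y` such that `x` inverts no nontrivial element of odd order generate a 2-group -/
theorem pair_isPGroup_of_noInv {G : Type*} [Group G] [Finite G] (x y : G) (hx : orderOf x = 2) (hy : orderOf y = 2)
    (hno : ∀ h : G, Odd (orderOf h) → x * h * x⁻¹ = h⁻¹ → h = 1) :
    IsPGroup 2 (closure ({x, y} : Set G)) := by
  have hx2 : x * x = 1 := Cfsg.Agent.Lib.Helper24.sq_one_of_orderOf_two hx
  have hy2 : y * y = 1 := Cfsg.Agent.Lib.Helper24.sq_one_of_orderOf_two hy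
  have hxinv : x⁻¹ = x := Cfsg.Agent.Lib.Helper24.inv_eq_self_of_orderOf_two hx
  have hyinv : y⁻¹ = y := Cfsg.Agent.Lib.Helper24.inv_eq_self_of_orderOf_two hy
  set u := x * y with hu
  have hn : 0 < orderOf u := orderOf_pos u
  obtain ⟨k, m, hm, hnkm⟩ := Nat.exists_eq_two_pow_mul_odd (Nat.pos_iff_ne_zero.mp hn)
  have hconj : x * u * x⁻¹ = u⁻¹ := by
    rw [hu, mul_inv_rev, hxinv, hyinv]
    calc x * (x * y) * x = (x * x) * y * x := by group
      _ = y * x := by rw [hx2, one_mul]
  have hconjpow : ∀ j : ℕ, x * u ^ j * x⁻¹ = (u ^ j)⁻¹ := by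
    intro j
    have : x * u ^ j * x⁻¹ = (x * u * x⁻¹) ^ j := by
      rw [conj_pow]
    rw [this, hconj, inv_pow]
  have hord : orderOf (u ^ (2 ^ k)) = m := by
    rw [orderOf_pow' u (by positivity), hnkm]
    rw [Nat.gcd_eq_right (Dvd.intro _ rfl)]
    exact Nat.mul_div_cancel_left m (by positivity)
  have h1 : u ^ (2 ^ k) = 1 := hno _ (by rw [hord]; exact hm) (hconjpow _)
  have hm1 : m = 1 := by
    rw [← hord, h1, orderOf_one]
  have hn2 : orderOf u = 2 ^ k := by rw [hnkm, hm1, mul_one]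
  obtain ⟨e⟩ := Cfsg.Agent.Lib.Helper24.closure_pair_equiv_dihedral hx hy
  have : NeZero (orderOf (x * y)) := ⟨Nat.pos_iff_ne_zero.mp hn⟩
  have hcard : Nat.card ↥(closure ({x, y} : Set G)) = 2 ^ (k + 1) := by
    rw [Nat.card_congr e.toEquiv, DihedralGroup.nat_card, ← hu, hn2, pow_succ, mul_comm]
  exact IsPGroup.of_card hcard

theorem sylow_two_normal_of_noInvOdd_aux (n : ℕ) : ∀ (G : Type u) [Group G] [Finite G], Nat.card G = n →
    NoInvOdd G → ∀ P : Sylow 2 G, (P : Subgroup G).Normal := by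
  induction n using Nat.strong_induction_on with
  | _ n ih =>
    intro G _ _ hn hG P
    have : Fact (Nat.Prime 2) := ⟨Nat.prime_two⟩
    let K : Set G := {t | orderOf t = 2}
    have hK : ∀ g x, x ∈ K → g * x * g⁻¹ ∈ K := by
      intro g x hx
      show orderOf (g * x * g⁻¹) = 2
      rw [orderOf_conj_eq]; exact hx
    have hpair : ∀ x ∈ K, ∀ y ∈ K, IsPGroup 2 (closure ({x, y} : Set G)) := by
      intro x hx y hy
      exact pair_isPGroup_of_noInv x y hx hy (fun h hodd hinv => hG x h hodd hinv)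
    obtain ⟨hNn, hNp⟩ := baer_suzuki_closure K hK hpair
    have hKP : K ⊆ (P : Set G) := baer_suzuki_subset_sylow K hK hpair P
    have hNP : closure K ≤ P := (closure_le _).mpr hKP
    by_cases hne : K.Nonempty
    · -- pass to the quotient
      obtain ⟨t, ht⟩ := hne
      have htN : t ∈ closure K := subset_closure ht
      have ht1 : t ≠ 1 := by
        intro h1
        have : orderOf t = 2 := ht
        rw [h1, orderOf_one] at this
        omega
      have hlt : Nat.card (G ⧸ closure K) < n := by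
        rw [← hn, ← Subgroup.index_eq_card, ← Subgroup.card_mul_index (closure K)]
        have h1 : 1 < Nat.card (closure K) := by
          rw [Finite.one_lt_card_iff_nontrivial]
          exact ⟨⟨⟨t, htN⟩, 1, fun h => ht1 (congrArg Subtype.val h)⟩⟩
        have h2 : 0 < (closure K).index := Nat.pos_of_ne_zero (Subgroup.index_ne_zero_of_finite)
        nlinarith
      have hq := hG.quotient (closure K) hNp
      let P' : Sylow 2 (G ⧸ closure K) := P.mapSurjective (QuotientGroup.mk'_surjective (closure K))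
      have hP'n : (P' : Subgroup (G ⧸ closure K)).Normal := ih _ hlt (G ⧸ closure K) rfl hq P'
      have hP'coe : (P' : Subgroup (G ⧸ closure K)) = (P : Subgroup G).map (QuotientGroup.mk' (closure K)) := rfl
      have hcomap : ((P : Subgroup G).map (QuotientGroup.mk' (closure K))).comap (QuotientGroup.mk' (closure K)) = P := by
        rw [Subgroup.comap_map_eq, QuotientGroup.ker_mk']
        exact sup_eq_left.mpr hNP
      rw [← hcomap, ← hP'coe]
      exact hP'n.comap _
    · -- no involutions: odd order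
      have hodd : ¬ 2 ∣ Nat.card G := by
        intro hdvd
        obtain ⟨t, ht⟩ := exists_prime_orderOf_dvd_card' 2 hdvd
        exact hne ⟨t, ht⟩
      have hPbot : (P : Subgroup G) = ⊥ := by
        obtain ⟨k, hk⟩ := (IsPGroup.iff_card (p := 2)).mp P.2
        have hdvd : Nat.card (P : Subgroup G) ∣ Nat.card G := Subgroup.card_subgroup_dvd_card _
        rcases Nat.eq_zero_or_pos k with h0 | hpos
        · rw [h0, pow_zero] at hk
          exact Subgroup.eq_bot_of_card_eq _ hk
        · exfalso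
          apply hodd
          exact dvd_trans (dvd_pow_self 2 (Nat.pos_iff_ne_zero.mp hpos)) (hk ▸ hdvd)
      rw [hPbot]
      infer_instance

/-- If no element of a finite group inverts a nontrivial element of odd order, the Sylow 2-subgroups are normal. -/
theorem sylow_two_normal_of_noInvOdd {G : Type u} [Group G] [Finite G] (hG : NoInvOdd G) (P : Sylow 2 G) :
    (P : Subgroup G).Normal :=
  sylow_two_normal_of_noInvOdd_aux (Nat.card G) G rfl hG P

end Cfsg.Agent.Lib.Lead
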