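import Mathlib
import Cfsg.Agent.Lib.Lead.WTC1

set_option autoImplicit false

/-! Statically checkable Todd–Coxeter certificates with virtual cosets.
Nodes are all cosets ever defined by a Felsch enumeration. Each slot `(x, s)` stores the first target
it ever received, the time (rank) at which it received it and a justification; each node that died
stores the node it was merged into (its alias), the time and a justification. The current value of a
slot at time `t` is the first target resolved along aliases of rank `< t`. Every fact is checked using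
facts of strictly smaller rank only. Tables are functions from a chunk index to a packed natural of
64 entries; words are packed with 4 bits per letter. The checking functions are written with
`Nat.rec` and `Bool.rec` so that the kernel evaluates them in few steps. -/

namespace Cfsg.Agent.Lib.Lead.VTC

open Cfsg.Agent.Lib.Lead.WTC Cfsg.Agent.Lib.Lead.WTC.Cert

def INF : ℕ := 16777215

def get16c (t : ℕ → ℕ) (x : ℕ) : ℕ :=
  Nat.land (Nat.shiftRight (t (Nat.shiftRight x 6)) (Nat.mul 16 (Nat.land x 63))) 65535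

def get24c (t : ℕ → ℕ) (x : ℕ) : ℕ :=
  Nat.land (Nat.shiftRight (t (Nat.shiftRight x 6)) (Nat.mul 24 (Nat.land x 63))) 16777215

def letter (W q : ℕ) : ℕ := Nat.land (Nat.shiftRight W (Nat.mul 4 q)) 15

def lettersFrom (W : ℕ) : ℕ → ℕ → List ℕ
  | _, 0 => []
  | pos, cnt+1 => letter W pos :: lettersFrom W (pos+1) cnt

theorem lettersFrom_add (W : ℕ) (a b pos : ℕ) :
    lettersFrom W pos (a + b) = lettersFrom W pos a ++ lettersFrom W (pos + a) b := by
  induction a generalizing pos with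
  | zero => simp [lettersFrom]
  | succ a ih =>
    have : a + 1 + b = (a + b) + 1 := by ring
    rw [this, lettersFrom, lettersFrom, ih (pos + 1)]
    have h2 : pos + 1 + a = pos + (a + 1) := by ring
    rw [h2]; rfl

theorem lettersFrom_split3 (W : ℕ) {L p : ℕ} (hp : p < L) :
    lettersFrom W 0 L = lettersFrom W 0 p ++ letter W p :: lettersFrom W (p + 1) (L - p - 1) := by
  have h1 : L = p + (1 + (L - p - 1)) := by omega
  conv_lhs => rw [h1]
  rw [lettersFrom_add, lettersFrom_add]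
  simp [lettersFrom]

structure VCert where
  N : ℕ
  n : ℕ
  k : ℕ
  fuel : ℕ
  nrel : ℕ
  nsub : ℕ
  ft : ℕ → ℕ → ℕ
  rk : ℕ → ℕ → ℕ
  js : ℕ → ℕ → ℕ
  par : ℕ → ℕ
  sg : ℕ → ℕ
  al : ℕ → ℕ
  qr : ℕ → ℕ
  qz : ℕ → ℕ
  qj : ℕ → ℕ
  nd : ℕ → ℕ
  ci : ℕ → ℕ
  tab : ℕ → ℕ → ℕ
  wt : ℕ → ℕ
  wl : ℕ → ℕ
  rels : List (List ℕ)
  subs : List (List ℕ)

namespace VCert
variable (c : VCert)

def F (x s : ℕ) : ℕ := get16c (c.ft s) x
def R (x s : ℕ) : ℕ := get24c (c.rk s) x
def K (x s : ℕ) : ℕ := get24c (c.js s) x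
def P (v : ℕ) : ℕ := get16c c.par v
def S (v : ℕ) : ℕ := get16c c.sg v
def AL (v : ℕ) : ℕ := get16c c.al v
def QR (v : ℕ) : ℕ := get24c c.qr v
def QZ (v : ℕ) : ℕ := get16c c.qz v
def QJ (v : ℕ) : ℕ := get24c c.qj v
def ND (i : ℕ) : ℕ := get16c c.nd i
def CI (v : ℕ) : ℕ := get16c c.ci v
def T (i s : ℕ) : ℕ := get16c (c.tab s) i

def resolve (bound : ℕ) (fuel : ℕ) : ℕ → ℕ :=
  Nat.rec (fun x => x)
    (fun _ ih x => Bool.rec x (ih (c.AL x)) (Nat.blt (c.QR x) bound)) fuel

theorem resolve_zero (bound x : ℕ) : c.resolve bound 0 x = x := rfl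

theorem resolve_succ (bound f x : ℕ) : c.resolve bound (f + 1) x =
    Bool.rec x (c.resolve bound f (c.AL x)) (Nat.blt (c.QR x) bound) := rfl

/-- Scan `cnt` letters of the packed word `W` starting at position `pos` from node `x`;
the result is `INF` on failure. -/
def pscan (bound W : ℕ) (cnt : ℕ) : ℕ → ℕ → ℕ :=
  Nat.rec (fun _ x => x)
    (fun _ ih pos x => Bool.rec INF
      (ih (Nat.succ pos) (c.resolve bound c.fuel (c.F x (letter W pos))))
      (Nat.blt (letter W pos) c.k && Nat.blt (c.R x (letter W pos)) bound)) cnt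

theorem pscan_zero (bound W pos x : ℕ) : c.pscan bound W 0 pos x = x := rfl

theorem pscan_succ (bound W cnt pos x : ℕ) : c.pscan bound W (cnt + 1) pos x =
    Bool.rec INF
      (c.pscan bound W cnt (pos + 1) (c.resolve bound c.fuel (c.F x (letter W pos))))
      (Nat.blt (letter W pos) c.k && Nat.blt (c.R x (letter W pos)) bound) := rfl

def gapOK (bound W L p x s y : ℕ) (base : Bool) : Bool :=
  Nat.beq (letter W p) s && Nat.blt p L &&
    Bool.rec (Nat.blt (c.pscan bound W (L - p - 1) (p + 1) y) INF)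
      (Nat.beq (c.pscan bound W (L - p - 1) (p + 1) y) 0) base &&
    Nat.beq (c.pscan bound W p 0 (c.pscan bound W (L - p - 1) (p + 1) y)) x

def defOK (x s : ℕ) : Bool :=
  Nat.blt 0 (c.F x s) && Nat.beq (c.P (c.F x s)) x && Nat.beq (c.S (c.F x s)) s

def inhOK (x s z : ℕ) : Bool :=
  Nat.blt z c.N && Nat.beq (c.resolve (c.R x s) c.fuel z) x && Nat.blt (c.R z s) (c.R x s) &&
    Nat.beq (c.resolve (c.R x s) c.fuel (c.F z s)) (c.F x s)

def entryOK (x s : ℕ) : Bool :=
  bif Nat.beq (c.R x s) INF then true else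
  (Nat.blt (c.F x s) c.N &&
   (bif Nat.beq (c.K x s) 1 then c.defOK x s
    else bif Nat.beq (Nat.land (c.K x s) 1) 0 then
      Nat.blt ((c.K x s - 2) / 2 / 128) (c.nrel + c.nsub) &&
      c.gapOK (c.R x s) (c.wt ((c.K x s - 2) / 2 / 128)) (c.wl ((c.K x s - 2) / 2 / 128))
        ((c.K x s - 2) / 2 % 128) x s (c.F x s) (Nat.ble c.nrel ((c.K x s - 2) / 2 / 128))
    else c.inhOK x s ((c.K x s - 3) / 2)))

def endsOK (v Z e : ℕ) : Bool :=
  (Nat.beq Z v && Nat.beq e (c.AL v)) || (Nat.beq Z (c.AL v) && Nat.beq e v)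

def aliasOK (v : ℕ) : Bool :=
  bif Nat.beq (c.QR v) INF then true else
  (Nat.blt (c.AL v) v && Nat.blt (c.QZ v) c.N && Nat.blt (c.QJ v / 128) (c.nrel + c.nsub) &&
   Nat.ble (c.QJ v % 128) (c.wl (c.QJ v / 128)) &&
   (bif Nat.blt (c.QJ v / 128) c.nrel then
      Nat.blt (c.pscan (c.QR v) (c.wt (c.QJ v / 128)) (c.wl (c.QJ v / 128) - c.QJ v % 128)
        (c.QJ v % 128) (c.QZ v)) INF &&
      Nat.blt (c.pscan (c.QR v) (c.wt (c.QJ v / 128)) (c.QJ v % 128) 0
        (c.pscan (c.QR v) (c.wt (c.QJ v / 128)) (c.wl (c.QJ v / 128) - c.QJ v % 128)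
          (c.QJ v % 128) (c.QZ v))) INF &&
      c.endsOK v (c.resolve (c.QR v) c.fuel (c.QZ v))
        (c.pscan (c.QR v) (c.wt (c.QJ v / 128)) (c.QJ v % 128) 0
          (c.pscan (c.QR v) (c.wt (c.QJ v / 128)) (c.wl (c.QJ v / 128) - c.QJ v % 128)
            (c.QJ v % 128) (c.QZ v)))
    else
      Nat.beq (c.pscan (c.QR v) (c.wt (c.QJ v / 128)) (c.wl (c.QJ v / 128) - c.QJ v % 128)
        (c.QJ v % 128) (c.QZ v)) 0 &&
      Nat.blt (c.pscan (c.QR v) (c.wt (c.QJ v / 128)) (c.QJ v % 128) 0 0) INF &&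
      c.endsOK v (c.resolve (c.QR v) c.fuel (c.QZ v))
        (c.pscan (c.QR v) (c.wt (c.QJ v / 128)) (c.QJ v % 128) 0 0)))

def treeOK : Bool :=
  (List.range c.N).all fun v => Nat.beq v 0 || (Nat.blt (c.P v) v && Nat.blt (c.S v) c.k)

/-- The packed words agree with the word lists. -/
def wordsOK : Bool :=
  decide (c.rels.length = c.nrel) && decide (c.subs.length = c.nsub) &&
  ((List.range c.nrel).all fun i =>
    decide (lettersFrom (c.wt i) 0 (c.wl i) = c.rels.getD i [])) &&
  ((List.range c.nsub).all fun i =>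
    decide (lettersFrom (c.wt (c.nrel + i)) 0 (c.wl (c.nrel + i)) = c.subs.getD i [])) &&
  (c.rels.all fun w => w.all fun u => decide (u < c.k))

def baseOK : Bool :=
  c.treeOK && c.wordsOK && Nat.blt 0 c.N && Nat.blt c.N INF

def rowOK (x : ℕ) : Bool :=
  c.aliasOK x && (List.range c.k).all fun s => c.entryOK x s

/-- The certificate is valid: checked in pieces by the kernel. -/
def Ok : Prop := c.baseOK = true ∧ ∀ x, x < c.N → c.rowOK x = true

theorem blt_iff {a b : ℕ} : Nat.blt a b = true ↔ a < b := by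
  simp [Nat.blt]

theorem ble_iff {a b : ℕ} : Nat.ble a b = true ↔ a ≤ b := by rw [Nat.ble_eq]

theorem beq_iff {a b : ℕ} : Nat.beq a b = true ↔ a = b :=
  ⟨Nat.eq_of_beq_eq_true, fun h => h ▸ Nat.beq_refl a⟩

theorem ok_base (h : c.Ok) : c.treeOK = true ∧ c.wordsOK = true ∧ 0 < c.N ∧ c.N < INF := by
  have h := h.1
  unfold baseOK at h
  simp only [Bool.and_eq_true, blt_iff] at h
  exact ⟨h.1.1.1, h.1.1.2, h.1.2, h.2⟩

theorem ok_tree (h : c.Ok) :
    ∀ v, v < c.N → v ≠ 0 → c.P v < v ∧ c.S v < c.k := by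
  intro v hv hv0
  have h1 := (c.ok_base h).1
  unfold treeOK at h1
  rw [List.all_eq_true] at h1
  have h2 := h1 v (List.mem_range.mpr hv)
  simp only [Bool.or_eq_true, Bool.and_eq_true, blt_iff, beq_iff] at h2
  rcases h2 with h2 | h2
  · exact absurd h2 hv0
  · exact h2

theorem ok_words (h : c.Ok) :
    c.rels.length = c.nrel ∧ c.subs.length = c.nsub ∧
    (∀ i, i < c.nrel → lettersFrom (c.wt i) 0 (c.wl i) = c.rels.getD i []) ∧
    (∀ i, i < c.nsub → lettersFrom (c.wt (c.nrel + i)) 0 (c.wl (c.nrel + i)) = c.subs.getD i []) ∧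
    (∀ w ∈ c.rels, ∀ u ∈ w, u < c.k) := by
  have h1 := (c.ok_base h).2.1
  unfold wordsOK at h1
  simp only [Bool.and_eq_true, List.all_eq_true, decide_eq_true_eq, List.mem_range] at h1
  exact ⟨h1.1.1.1.1, h1.1.1.1.2, h1.1.1.2, h1.1.2, h1.2⟩

theorem ok_N (h : c.Ok) : 0 < c.N := (c.ok_base h).2.2.1

theorem ok_entry (h : c.Ok) :
    ∀ x, x < c.N → ∀ s, s < c.k → c.entryOK x s = true := by
  intro x hx s hs
  have h2 := h.2 x hx
  unfold rowOK at h2
  rw [Bool.and_eq_true, List.all_eq_true] at h2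
  exact h2.2 s (List.mem_range.mpr hs)

theorem ok_alias (h : c.Ok) : ∀ v, v < c.N → c.aliasOK v = true := by
  intro v hv
  have h2 := h.2 v hv
  unfold rowOK at h2
  rw [Bool.and_eq_true] at h2
  exact h2.1

theorem of_range' (f : ℕ → Bool) (a b : ℕ) (h : (List.range' a (b - a)).all f = true) :
    ∀ x, a ≤ x → x < b → f x = true := by
  intro x hax hxb
  rw [List.all_eq_true] at h
  apply h
  rw [List.mem_range'_1]
  omega

theorem entry_cases (h : c.Ok) {x s : ℕ} (hx : x < c.N) (hs : s < c.k) (hr : c.R x s ≠ INF) :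
    c.F x s < c.N ∧
    ((c.K x s = 1 ∧ c.defOK x s = true) ∨
     (c.K x s ≠ 1 ∧ Nat.land (c.K x s) 1 = 0 ∧ (c.K x s - 2) / 2 / 128 < c.nrel + c.nsub ∧
        c.gapOK (c.R x s) (c.wt ((c.K x s - 2) / 2 / 128)) (c.wl ((c.K x s - 2) / 2 / 128))
          ((c.K x s - 2) / 2 % 128) x s (c.F x s) (Nat.ble c.nrel ((c.K x s - 2) / 2 / 128)) = true) ∨
     (c.K x s ≠ 1 ∧ Nat.land (c.K x s) 1 ≠ 0 ∧ c.inhOK x s ((c.K x s - 3) / 2) = true)) := by
  have he := c.ok_entry h x hx s hs
  unfold entryOK at he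
  have h1 : Nat.beq (c.R x s) INF = false := by
    rw [Bool.eq_false_iff]; intro h2; exact hr (beq_iff.mp h2)
  rw [h1, cond_false, Bool.and_eq_true, blt_iff] at he
  refine ⟨he.1, ?_⟩
  have he2 := he.2
  by_cases k1 : c.K x s = 1
  · left
    rw [beq_iff.mpr k1, cond_true] at he2
    exact ⟨k1, he2⟩
  · have hk1 : Nat.beq (c.K x s) 1 = false := by
      rw [Bool.eq_false_iff]; intro h2; exact k1 (beq_iff.mp h2)
    rw [hk1, cond_false] at he2
    by_cases k2 : Nat.land (c.K x s) 1 = 0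
    · right; left
      rw [beq_iff.mpr k2, cond_true, Bool.and_eq_true, blt_iff] at he2
      exact ⟨k1, k2, he2.1, he2.2⟩
    · right; right
      have hk2 : Nat.beq (Nat.land (c.K x s) 1) 0 = false := by
        rw [Bool.eq_false_iff]; intro h2; exact k2 (beq_iff.mp h2)
      rw [hk2, cond_false] at he2
      exact ⟨k1, k2, he2⟩

theorem ok_F_lt (h : c.Ok) :
    ∀ x, x < c.N → ∀ s, s < c.k → c.R x s ≠ INF → c.F x s < c.N :=
  fun x hx s hs hr => (c.entry_cases h hx hs hr).1

theorem alias_cases (h : c.Ok) {v : ℕ} (hv : v < c.N) (hr : c.QR v ≠ INF) :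
    c.AL v < v ∧ c.QZ v < c.N ∧ c.QJ v / 128 < c.nrel + c.nsub ∧
      c.QJ v % 128 ≤ c.wl (c.QJ v / 128) ∧
    ((c.QJ v / 128 < c.nrel ∧
      c.pscan (c.QR v) (c.wt (c.QJ v / 128)) (c.wl (c.QJ v / 128) - c.QJ v % 128)
        (c.QJ v % 128) (c.QZ v) < INF ∧
      c.pscan (c.QR v) (c.wt (c.QJ v / 128)) (c.QJ v % 128) 0
        (c.pscan (c.QR v) (c.wt (c.QJ v / 128)) (c.wl (c.QJ v / 128) - c.QJ v % 128)
          (c.QJ v % 128) (c.QZ v)) < INF ∧
      c.endsOK v (c.resolve (c.QR v) c.fuel (c.QZ v))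
        (c.pscan (c.QR v) (c.wt (c.QJ v / 128)) (c.QJ v % 128) 0
          (c.pscan (c.QR v) (c.wt (c.QJ v / 128)) (c.wl (c.QJ v / 128) - c.QJ v % 128)
            (c.QJ v % 128) (c.QZ v))) = true) ∨
     (¬ c.QJ v / 128 < c.nrel ∧
      c.pscan (c.QR v) (c.wt (c.QJ v / 128)) (c.wl (c.QJ v / 128) - c.QJ v % 128)
        (c.QJ v % 128) (c.QZ v) = 0 ∧
      c.pscan (c.QR v) (c.wt (c.QJ v / 128)) (c.QJ v % 128) 0 0 < INF ∧
      c.endsOK v (c.resolve (c.QR v) c.fuel (c.QZ v))
        (c.pscan (c.QR v) (c.wt (c.QJ v / 128)) (c.QJ v % 128) 0 0) = true)) := by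
  have ha := c.ok_alias h v hv
  unfold aliasOK at ha
  have h1 : Nat.beq (c.QR v) INF = false := by
    rw [Bool.eq_false_iff]; intro h2; exact hr (beq_iff.mp h2)
  rw [h1, cond_false] at ha
  simp only [Bool.and_eq_true, blt_iff, ble_iff] at ha
  obtain ⟨⟨⟨⟨a1, a2⟩, a3⟩, a4⟩, a5⟩ := ha
  refine ⟨a1, a2, a3, a4, ?_⟩
  by_cases k1 : c.QJ v / 128 < c.nrel
  · left
    rw [blt_iff.mpr k1, cond_true] at a5
    simp only [Bool.and_eq_true, blt_iff] at a5
    exact ⟨k1, a5.1.1, a5.1.2, a5.2⟩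
  · right
    have hk : Nat.blt (c.QJ v / 128) c.nrel = false := by
      rw [Bool.eq_false_iff]; intro h2; exact k1 (blt_iff.mp h2)
    rw [hk, cond_false] at a5
    simp only [Bool.and_eq_true, blt_iff, beq_iff] at a5
    exact ⟨k1, a5.1.1, a5.1.2, a5.2⟩

theorem ok_AL_lt (h : c.Ok) :
    ∀ v, v < c.N → c.QR v ≠ INF → c.AL v < v :=
  fun _ hv hr => (c.alias_cases h hv hr).1

section sound
variable {G : Type*} [Group G] (g : ℕ → G)

noncomputable def rep : ℕ → G
  | 0 => 1
  | j+1 => if h : c.P (j+1) < j+1 then rep (c.P (j+1)) * g (c.S (j+1)) else 1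
termination_by j => j
decreasing_by exact h

theorem rep_zero : c.rep g 0 = 1 := by
  rw [rep]

theorem rep_pos {j : ℕ} (hj : j ≠ 0) (h : c.P j < j) :
    c.rep g j = c.rep g (c.P j) * g (c.S j) := by
  cases j with
  | zero => exact absurd rfl hj
  | succ j =>
    rw [rep]
    rw [dif_pos h]

variable {g}

/-- Facts of rank below `bound` are sound. -/
def Good (H : Subgroup G) (bound : ℕ) : Prop :=
  (∀ x, x < c.N → ∀ s, s < c.k → c.R x s < bound →
    c.rep g x * g s * (c.rep g (c.F x s))⁻¹ ∈ H) ∧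
  (∀ v, v < c.N → c.QR v < bound → c.rep g v * (c.rep g (c.AL v))⁻¹ ∈ H)

theorem resolve_sound (H : Subgroup G) (hok : c.Ok) {bound : ℕ} (hb : bound ≤ INF)
    (hG : c.Good (g := g) H bound) :
    ∀ (f x : ℕ), x < c.N → c.resolve bound f x < c.N ∧
      c.rep g x * (c.rep g (c.resolve bound f x))⁻¹ ∈ H := by
  intro f
  induction f with
  | zero =>
    intro x hx
    rw [resolve_zero]
    refine ⟨hx, ?_⟩
    rw [mul_inv_cancel]; exact Subgroup.one_mem _
  | succ f ih =>
    intro x hx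
    rw [resolve_succ]
    by_cases hq : c.QR x < bound
    · rw [blt_iff.mpr hq]
      have hne : c.QR x ≠ INF := by omega
      have hlt := c.ok_AL_lt hok x hx hne
      obtain ⟨h1, h2⟩ := ih (c.AL x) (lt_trans hlt hx)
      refine ⟨h1, ?_⟩
      have h3 := hG.2 x hx hq
      have : c.rep g x * (c.rep g (c.resolve bound f (c.AL x)))⁻¹ =
          (c.rep g x * (c.rep g (c.AL x))⁻¹) *
            (c.rep g (c.AL x) * (c.rep g (c.resolve bound f (c.AL x)))⁻¹) := by group
      rw [this]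
      exact Subgroup.mul_mem _ h3 h2
    · have hq' : Nat.blt (c.QR x) bound = false := by
        rw [Bool.eq_false_iff]; intro h2; exact hq (blt_iff.mp h2)
      rw [hq']
      refine ⟨hx, ?_⟩
      show c.rep g x * (c.rep g x)⁻¹ ∈ H
      rw [mul_inv_cancel]; exact Subgroup.one_mem _

theorem pscan_sound (H : Subgroup G) (hok : c.Ok) {bound : ℕ} (hb : bound ≤ INF)
    (hG : c.Good (g := g) H bound) (W : ℕ) :
    ∀ (cnt pos x : ℕ), x < c.N → c.pscan bound W cnt pos x < INF →
      c.pscan bound W cnt pos x < c.N ∧ (∀ u ∈ lettersFrom W pos cnt, u < c.k) ∧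
        c.rep g x * wd g (lettersFrom W pos cnt) * (c.rep g (c.pscan bound W cnt pos x))⁻¹ ∈ H := by
  intro cnt
  induction cnt with
  | zero =>
    intro pos x hx _
    rw [pscan_zero]
    refine ⟨hx, by simp [lettersFrom], ?_⟩
    simp [lettersFrom, wd_nil]
  | succ cnt ih =>
    intro pos x hx h
    rw [pscan_succ] at h ⊢
    by_cases hc : (Nat.blt (letter W pos) c.k && Nat.blt (c.R x (letter W pos)) bound) = true
    · rw [hc] at h ⊢
      rw [Bool.and_eq_true, blt_iff, blt_iff] at hc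
      obtain ⟨hu, hr⟩ := hc
      set u := letter W pos with hudef
      have hne : c.R x u ≠ INF := by omega
      have hF := c.ok_F_lt hok x hx u hu hne
      have h1 := hG.1 x hx u hu hr
      obtain ⟨hres, h3⟩ := c.resolve_sound H hok hb hG c.fuel (c.F x u) hF
      obtain ⟨he, hl, h2⟩ := ih (pos + 1) _ hres h
      refine ⟨he, ?_, ?_⟩
      · intro v hv
        rw [lettersFrom] at hv
        rcases List.mem_cons.mp hv with rfl | hv
        · exact hu
        · exact hl v hv
      · rw [lettersFrom]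
        set e := c.pscan bound W cnt (pos + 1) (c.resolve bound c.fuel (c.F x u)) with hedef
        have : c.rep g x * wd g (u :: lettersFrom W (pos + 1) cnt) * (c.rep g e)⁻¹ =
            (c.rep g x * g u * (c.rep g (c.F x u))⁻¹) *
            (c.rep g (c.F x u) * (c.rep g (c.resolve bound c.fuel (c.F x u)))⁻¹) *
              (c.rep g (c.resolve bound c.fuel (c.F x u)) *
                wd g (lettersFrom W (pos + 1) cnt) * (c.rep g e)⁻¹) := by
          rw [wd_cons]; group
        rw [this]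
        exact Subgroup.mul_mem _ (Subgroup.mul_mem _ h1 h3) h2
    · rw [Bool.not_eq_true] at hc
      rw [hc] at h
      exact absurd h (lt_irrefl _)

theorem word_rel (hok : c.Ok) (hrel : ∀ w ∈ c.rels, wd g w = 1) {i : ℕ} (hi : i < c.nrel) :
    wd g (lettersFrom (c.wt i) 0 (c.wl i)) = 1 := by
  obtain ⟨hl, _, h1, _, _⟩ := c.ok_words hok
  rw [h1 i hi]
  have hi' : i < c.rels.length := by omega
  rw [List.getD_eq_getElem _ _ hi']
  exact hrel _ (List.getElem_mem hi')

theorem word_sub (H : Subgroup G) (hok : c.Ok) (hsub : ∀ w ∈ c.subs, wd g w ∈ H) {i : ℕ}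
    (hi1 : ¬ i < c.nrel) (hi2 : i < c.nrel + c.nsub) :
    wd g (lettersFrom (c.wt i) 0 (c.wl i)) ∈ H := by
  obtain ⟨_, hl, _, h1, _⟩ := c.ok_words hok
  have hi3 : i = c.nrel + (i - c.nrel) := by omega
  have hi4 : i - c.nrel < c.nsub := by omega
  rw [hi3, h1 _ hi4]
  have hi' : i - c.nrel < c.subs.length := by omega
  rw [List.getD_eq_getElem _ _ hi']
  exact hsub _ (List.getElem_mem hi')

theorem gap_sound (H : Subgroup G) (hok : c.Ok)
    {bound : ℕ} (hb : bound ≤ INF) (hG : c.Good (g := g) H bound)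
    {W L p x s y : ℕ} {base : Bool} (hx : x < c.N) (hy : y < c.N)
    (hw : if base then wd g (lettersFrom W 0 L) ∈ H else wd g (lettersFrom W 0 L) = 1)
    (h : c.gapOK bound W L p x s y base = true) :
    c.rep g x * g s * (c.rep g y)⁻¹ ∈ H := by
  unfold gapOK at h
  simp only [Bool.and_eq_true, beq_iff, blt_iff] at h
  obtain ⟨⟨⟨hs, hp⟩, hmid⟩, hend⟩ := h
  have hN := (c.ok_base hok).2.2.2
  have hmidI : c.pscan bound W (L - p - 1) (p + 1) y < INF := by
    cases base with
    | false => exact blt_iff.mp hmid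
    | true =>
      have : c.pscan bound W (L - p - 1) (p + 1) y = 0 := beq_iff.mp hmid
      rw [this]; unfold INF; norm_num
  obtain ⟨hmidN, _, m2⟩ := c.pscan_sound H hok hb hG W _ _ y hy hmidI
  generalize hmiddef : c.pscan bound W (L - p - 1) (p + 1) y = mid at hmid hend hmidI hmidN m2
  have hxI : c.pscan bound W p 0 mid < INF := by rw [hend]; omega
  obtain ⟨_, _, m1⟩ := c.pscan_sound H hok hb hG W _ _ mid hmidN hxI
  rw [hend] at m1
  have hsplit := lettersFrom_split3 W hp
  rw [hs] at hsplit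
  set A := wd g (lettersFrom W 0 p) with hA
  set B := wd g (lettersFrom W (p + 1) (L - p - 1)) with hB
  have hwd : wd g (lettersFrom W 0 L) = A * (g s * B) := by
    rw [hsplit, wd_append, wd_cons]
  rw [hwd] at hw
  cases base with
  | false =>
    simp only [Bool.false_eq_true, if_false] at hw
    have hs' : g s = A⁻¹ * B⁻¹ := by
      have : g s * B = A⁻¹ := eq_inv_of_mul_eq_one_right hw
      rw [← this]; group
    have : c.rep g x * g s * (c.rep g y)⁻¹ =
        ((c.rep g y * B * (c.rep g mid)⁻¹) * (c.rep g mid * A * (c.rep g x)⁻¹))⁻¹ := by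
      rw [hs']; group
    rw [this]
    exact Subgroup.inv_mem _ (Subgroup.mul_mem _ m2 m1)
  | true =>
    simp only [if_true] at hw
    have hm0 : mid = 0 := beq_iff.mp hmid
    rw [hm0, c.rep_zero g] at m1 m2
    rw [inv_one, mul_one] at m2
    rw [one_mul] at m1
    have : c.rep g x * g s * (c.rep g y)⁻¹ =
        (A * (c.rep g x)⁻¹)⁻¹ * (A * (g s * B)) * (c.rep g y * B)⁻¹ := by
      group
    rw [this]
    exact Subgroup.mul_mem _ (Subgroup.mul_mem _ (Subgroup.inv_mem _ m1) hw) (Subgroup.inv_mem _ m2)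

theorem ends_sound (H : Subgroup G) {v z Z e : ℕ}
    (hZ : c.rep g z * (c.rep g Z)⁻¹ ∈ H) (he : c.rep g z * (c.rep g e)⁻¹ ∈ H)
    (h : c.endsOK v Z e = true) : c.rep g v * (c.rep g (c.AL v))⁻¹ ∈ H := by
  unfold endsOK at h
  simp only [Bool.or_eq_true, Bool.and_eq_true, beq_iff] at h
  rcases h with ⟨rfl, rfl⟩ | ⟨rfl, rfl⟩
  · have : c.rep g Z * (c.rep g (c.AL Z))⁻¹ =
        (c.rep g z * (c.rep g Z)⁻¹)⁻¹ * (c.rep g z * (c.rep g (c.AL Z))⁻¹) := by group
    rw [this]
    exact Subgroup.mul_mem _ (Subgroup.inv_mem _ hZ) he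
  · have : c.rep g e * (c.rep g (c.AL e))⁻¹ =
        (c.rep g z * (c.rep g e)⁻¹)⁻¹ * (c.rep g z * (c.rep g (c.AL e))⁻¹) := by group
    rw [this]
    exact Subgroup.mul_mem _ (Subgroup.inv_mem _ he) hZ

theorem sound_aux (H : Subgroup G) (hok : c.Ok)
    (hrel : ∀ w ∈ c.rels, wd g w = 1)
    (hsub : ∀ w ∈ c.subs, wd g w ∈ H) :
    ∀ M, M ≤ INF → c.Good (g := g) H M := by
  intro M
  induction M with
  | zero =>
    intro _
    exact ⟨fun x _ s _ h => absurd h (Nat.not_lt_zero _), fun v _ h => absurd h (Nat.not_lt_zero _)⟩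
  | succ M ih =>
    intro hM
    have hMI : M ≤ INF := by omega
    have hG := ih hMI
    refine ⟨?_, ?_⟩
    · intro x hx s hs hr
      by_cases hlt : c.R x s < M
      · exact hG.1 x hx s hs hlt
      have hrM : c.R x s = M := by omega
      have hne : c.R x s ≠ INF := by omega
      obtain ⟨hy, hcase⟩ := c.entry_cases hok hx hs hne
      rcases hcase with ⟨_, hdef⟩ | ⟨_, _, hwi, hgap⟩ | ⟨_, _, hinh⟩
      · -- definition
        unfold defOK at hdef
        simp only [Bool.and_eq_true, blt_iff, beq_iff] at hdef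
        obtain ⟨⟨hy0, hP⟩, hS⟩ := hdef
        have hy0' : c.F x s ≠ 0 := by omega
        have htree := c.ok_tree hok (c.F x s) hy hy0'
        rw [c.rep_pos g hy0' htree.1, hP, hS]
        have : c.rep g x * g s * (c.rep g x * g s)⁻¹ = 1 := by group
        rw [this]; exact Subgroup.one_mem _
      · -- word with one gap
        rw [hrM] at hgap
        set wi := (c.K x s - 2) / 2 / 128 with hwidef
        by_cases hrelw : wi < c.nrel
        · have hb : Nat.ble c.nrel wi = false := by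
            rw [Bool.eq_false_iff]; intro h2; exact absurd (ble_iff.mp h2) (by omega)
          rw [hb] at hgap
          exact c.gap_sound H hok hMI hG hx hy (base := false)
            (by simp only [Bool.false_eq_true, if_false]; exact c.word_rel hok hrel hrelw) hgap
        · have hb : Nat.ble c.nrel wi = true := ble_iff.mpr (by omega)
          rw [hb] at hgap
          exact c.gap_sound H hok hMI hG hx hy (base := true)
            (by simp only [if_true]; exact c.word_sub H hok hsub hrelw hwi) hgap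
      · -- inherited from a dead node
        unfold inhOK at hinh
        rw [hrM] at hinh
        simp only [Bool.and_eq_true, blt_iff, beq_iff] at hinh
        obtain ⟨⟨⟨hz, hzx⟩, hrz⟩, hFz⟩ := hinh
        set z := (c.K x s - 3) / 2 with hzdef
        have hnez : c.R z s ≠ INF := by omega
        have hFzN := c.ok_F_lt hok z hz s hs hnez
        obtain ⟨_, q1⟩ := c.resolve_sound H hok hMI hG c.fuel z hz
        obtain ⟨_, q2⟩ := c.resolve_sound H hok hMI hG c.fuel (c.F z s) hFzN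
        rw [hzx] at q1
        rw [hFz] at q2
        have e1 := hG.1 z hz s hs hrz
        have : c.rep g x * g s * (c.rep g (c.F x s))⁻¹ =
            (c.rep g z * (c.rep g x)⁻¹)⁻¹ * (c.rep g z * g s * (c.rep g (c.F z s))⁻¹) *
              (c.rep g (c.F z s) * (c.rep g (c.F x s))⁻¹) := by group
        rw [this]
        exact Subgroup.mul_mem _ (Subgroup.mul_mem _ (Subgroup.inv_mem _ q1) e1) q2
    · intro v hv hr
      by_cases hlt : c.QR v < M
      · exact hG.2 v hv hlt
      have hrM : c.QR v = M := by omega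
      have hne : c.QR v ≠ INF := by omega
      obtain ⟨_, hz, hwi, hpL, hcase⟩ := c.alias_cases hok hv hne
      rw [hrM] at hcase
      obtain ⟨_, qZ⟩ := c.resolve_sound H hok hMI hG c.fuel (c.QZ v) hz
      set wi := c.QJ v / 128 with hwidef
      set p := c.QJ v % 128 with hpdef
      set W := c.wt wi with hWdef
      set L := c.wl wi with hLdef
      have hsplit : lettersFrom W 0 L = lettersFrom W 0 p ++ lettersFrom W p (L - p) := by
        have : L = p + (L - p) := by omega
        conv_lhs => rw [this]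
        rw [lettersFrom_add, zero_add]
      rcases hcase with ⟨hrelw, hm1, hm2, hends⟩ | ⟨hrelw, hm1, hm2, hends⟩
      · -- relator closes with a mismatch
        set mid := c.pscan M W (L - p) p (c.QZ v) with hmid
        obtain ⟨hmidN, _, s1⟩ := c.pscan_sound H hok hMI hG W _ _ (c.QZ v) hz hm1
        obtain ⟨_, _, s2⟩ := c.pscan_sound H hok hMI hG W _ _ mid hmidN hm2
        set e := c.pscan M W p 0 mid with he
        have hw := c.word_rel hok hrel hrelw
        rw [← hWdef, ← hLdef, hsplit, wd_append] at hw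
        set A := wd g (lettersFrom W 0 p)
        set B := wd g (lettersFrom W p (L - p))
        have hBA : B * A = 1 := by
          have : A = B⁻¹ := eq_inv_of_mul_eq_one_left hw
          rw [this, mul_inv_cancel]
        have m3 : c.rep g (c.QZ v) * (c.rep g e)⁻¹ ∈ H := by
          have : c.rep g (c.QZ v) * (c.rep g e)⁻¹ =
              (c.rep g (c.QZ v) * B * (c.rep g mid)⁻¹) * (c.rep g mid * A * (c.rep g e)⁻¹) := by
            have : c.rep g (c.QZ v) * B * (c.rep g mid)⁻¹ * (c.rep g mid * A * (c.rep g e)⁻¹) =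
                c.rep g (c.QZ v) * (B * A) * (c.rep g e)⁻¹ := by group
            rw [this, hBA, mul_one]
          rw [this]
          exact Subgroup.mul_mem _ s1 s2
        exact c.ends_sound H qZ m3 hends
      · -- subgroup word closes with a mismatch
        have h0 : 0 < c.N := c.ok_N hok
        have hm1' : c.pscan M W (L - p) p (c.QZ v) < INF := by
          rw [hm1]; unfold INF; norm_num
        obtain ⟨_, _, s1⟩ := c.pscan_sound H hok hMI hG W _ _ (c.QZ v) hz hm1'
        obtain ⟨_, _, s2⟩ := c.pscan_sound H hok hMI hG W _ _ 0 h0 hm2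
        rw [hm1, c.rep_zero g, inv_one, mul_one] at s1
        rw [c.rep_zero g, one_mul] at s2
        set f := c.pscan M W p 0 0 with hf
        have hW := c.word_sub H hok hsub hrelw hwi
        rw [← hWdef, ← hLdef, hsplit, wd_append] at hW
        set A := wd g (lettersFrom W 0 p)
        set B := wd g (lettersFrom W p (L - p))
        have m3 : c.rep g (c.QZ v) * (c.rep g f)⁻¹ ∈ H := by
          have : c.rep g (c.QZ v) * (c.rep g f)⁻¹ =
              (c.rep g (c.QZ v) * B) * (A * B)⁻¹ * (A * (c.rep g f)⁻¹) := by group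
          rw [this]
          exact Subgroup.mul_mem _ (Subgroup.mul_mem _ s1 (Subgroup.inv_mem _ hW)) s2
        exact c.ends_sound H qZ m3 hends

def finOK : Bool :=
  Nat.beq (c.ND 0) 0 && Nat.beq (c.CI 0) 0 && Nat.blt 0 c.n &&
  ((List.range c.n).all fun i =>
     Nat.blt (c.ND i) c.N && Nat.beq (c.CI (c.ND i)) i &&
     (List.range c.k).all fun s => Nat.blt (c.R (c.ND i) s) INF && Nat.blt (c.T i s) c.n &&
        Nat.beq (c.resolve INF c.fuel (c.F (c.ND i) s)) (c.ND (c.T i s))) &&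
  ((List.range c.N).all fun v => Nat.beq v 0 ||
     (Nat.blt (c.CI v) c.n && Nat.blt (c.CI (c.P v)) c.n &&
       Nat.beq (c.T (c.CI (c.P v)) (c.S v)) (c.CI v)))

theorem finOK_base (h : c.finOK = true) : c.ND 0 = 0 ∧ c.CI 0 = 0 ∧ 0 < c.n := by
  unfold finOK at h
  simp only [Bool.and_eq_true, beq_iff, blt_iff] at h
  exact ⟨h.1.1.1.1, h.1.1.1.2, h.1.1.2⟩

theorem finOK_row (h : c.finOK = true) :
    ∀ i, i < c.n → c.ND i < c.N ∧ c.CI (c.ND i) = i ∧ ∀ s, s < c.k →
      c.R (c.ND i) s < INF ∧ c.T i s < c.n ∧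
        c.resolve INF c.fuel (c.F (c.ND i) s) = c.ND (c.T i s) := by
  intro i hi
  unfold finOK at h
  simp only [Bool.and_eq_true, List.all_eq_true, beq_iff, blt_iff, List.mem_range] at h
  obtain ⟨⟨h1, h2⟩, h3⟩ := h.1.2 i hi
  exact ⟨h1, h2, fun s hs => ⟨(h3 s hs).1.1, (h3 s hs).1.2, (h3 s hs).2⟩⟩

theorem finOK_node (h : c.finOK = true) :
    ∀ v, v < c.N → v ≠ 0 → c.CI v < c.n ∧ c.CI (c.P v) < c.n ∧
      c.T (c.CI (c.P v)) (c.S v) = c.CI v := by
  intro v hv hv0
  unfold finOK at h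
  simp only [Bool.and_eq_true, List.all_eq_true, beq_iff, blt_iff, List.mem_range,
    Bool.or_eq_true] at h
  rcases h.2 v hv with h1 | h1
  · exact absurd h1 hv0
  · exact ⟨h1.1.1, h1.1.2, h1.2⟩

theorem cover (H : Subgroup G) (hok : c.Ok) (hfin : c.finOK = true)
    (hsq : ∀ s, s < c.k → g s * g s = 1)
    (hrel : ∀ w ∈ c.rels, wd g w = 1)
    (hsub : ∀ w ∈ c.subs, wd g w ∈ H)
    (hgen : Subgroup.closure {y | ∃ s, s < c.k ∧ y = g s} = ⊤) :
    ∀ a : G, ∃ i, i < c.n ∧ ∃ h' ∈ H, a = h' * c.rep g (c.ND i) := by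
  intro a
  have ha : a ∈ Subgroup.closure {y | ∃ s, s < c.k ∧ y = g s} := by rw [hgen]; trivial
  have hG := c.sound_aux H hok hrel hsub INF le_rfl
  obtain ⟨hnd0, _, hn⟩ := c.finOK_base hfin
  have step : ∀ (x : G), (∃ i, i < c.n ∧ ∃ h' ∈ H, x = h' * c.rep g (c.ND i)) →
      ∀ s, s < c.k → ∃ i, i < c.n ∧ ∃ h' ∈ H, x * g s = h' * c.rep g (c.ND i) := by
    rintro x ⟨i, hi, h', hh', rfl⟩ s hs
    obtain ⟨hndi, _, hrow⟩ := c.finOK_row hfin i hi
    obtain ⟨hR, hT, hres⟩ := hrow s hs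
    have e1 := hG.1 (c.ND i) hndi s hs hR
    have hne : c.R (c.ND i) s ≠ INF := by omega
    have hF := c.ok_F_lt hok (c.ND i) hndi s hs hne
    obtain ⟨_, q1⟩ := c.resolve_sound H hok le_rfl hG c.fuel (c.F (c.ND i) s) hF
    rw [hres] at q1
    refine ⟨c.T i s, hT, h' * ((c.rep g (c.ND i) * g s * (c.rep g (c.F (c.ND i) s))⁻¹) *
      (c.rep g (c.F (c.ND i) s) * (c.rep g (c.ND (c.T i s)))⁻¹)),
      Subgroup.mul_mem _ hh' (Subgroup.mul_mem _ e1 q1), ?_⟩
    group
  induction ha using Subgroup.closure_induction_right with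
  | one => exact ⟨0, hn, 1, Subgroup.one_mem _, by rw [hnd0, c.rep_zero g, one_mul]⟩
  | mul_right x hx y hy ih =>
    obtain ⟨s, hs, rfl⟩ := hy
    exact step x ih s hs
  | mul_inv_cancel x hx y hy ih =>
    obtain ⟨s, hs, rfl⟩ := hy
    have hinv : (g s)⁻¹ = g s := inv_eq_of_mul_eq_one_right (hsq s hs)
    rw [hinv]
    exact step x ih s hs

end sound

end VCert

end Cfsg.Agent.Lib.Lead.VTC
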