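import Mathlib
import Cfsg.Agent.Lib.Lead.VTC1

set_option autoImplicit false

/-! The verified coset table as a permutation action; identification of `G ⧸ H` with `Fin n`;
index and suborbit lengths (certificates with virtual cosets). -/

namespace Cfsg.Agent.Lib.Lead.VTC

open Cfsg.Agent.Lib.Lead.WTC Cfsg.Agent.Lib.Lead.WTC.Cert

namespace VCert
variable (c : VCert)

def walk : List ℕ → ℕ → ℕ
  | [], x => x
  | u :: l, x => walk l (c.T x u)

def pwalk (W : ℕ) (cnt : ℕ) : ℕ → ℕ → ℕ :=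
  Nat.rec (fun _ x => x) (fun _ ih pos x => ih (Nat.succ pos) (c.T x (letter W pos))) cnt

theorem pwalk_zero (W pos x : ℕ) : c.pwalk W 0 pos x = x := rfl

theorem pwalk_succ (W cnt pos x : ℕ) :
    c.pwalk W (cnt + 1) pos x = c.pwalk W cnt (pos + 1) (c.T x (letter W pos)) := rfl

theorem pwalk_eq (W : ℕ) : ∀ cnt pos x, c.pwalk W cnt pos x = c.walk (lettersFrom W pos cnt) x := by
  intro cnt
  induction cnt with
  | zero => intro pos x; rw [pwalk_zero, lettersFrom, walk]
  | succ cnt ih => intro pos x; rw [pwalk_succ, lettersFrom, walk, ih]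

def actBase : Bool :=
  ((List.range c.nsub).all fun i =>
    Nat.beq (c.pwalk (c.wt (c.nrel + i)) (c.wl (c.nrel + i)) 0 0) 0) &&
  (c.subs.all fun w => w.all fun u => decide (u < c.k))

def actRow (x : ℕ) : Bool :=
  ((List.range c.k).all fun s => Nat.blt (c.T x s) c.n && Nat.beq (c.T (c.T x s) s) x) &&
    (List.range c.nrel).all fun i => Nat.beq (c.pwalk (c.wt i) (c.wl i) 0 x) x

/-- The compact table is a permutation action satisfying the relators. -/
def ActOk : Prop := c.Ok ∧ c.actBase = true ∧ ∀ x, x < c.n → c.actRow x = true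

theorem actOK_T (h : c.ActOk) :
    ∀ x, x < c.n → ∀ s, s < c.k → c.T x s < c.n ∧ c.T (c.T x s) s = x := by
  intro x hx s hs
  have h := h.2.2 x hx
  unfold actRow at h
  simp only [Bool.and_eq_true, List.all_eq_true, blt_iff, beq_iff, List.mem_range] at h
  exact h.1 s hs

theorem actOK_rel (h : c.ActOk) :
    ∀ x, x < c.n → ∀ w ∈ c.rels, c.walk w x = x := by
  intro x hx w hw
  obtain ⟨hl, _, h1, _, _⟩ := c.ok_words h.1
  have h2 := h.2.2 x hx
  unfold actRow at h2
  simp only [Bool.and_eq_true, List.all_eq_true, beq_iff, List.mem_range] at h2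
  obtain ⟨i, hi, rfl⟩ := List.mem_iff_getElem.mp hw
  have hi' : i < c.nrel := by omega
  have h3 := h2.2 i hi'
  rw [pwalk_eq, h1 i hi', List.getD_eq_getElem _ _ hi] at h3
  exact h3

theorem actOK_rel_lt (h : c.ActOk) :
    ∀ w ∈ c.rels, ∀ u ∈ w, u < c.k := (c.ok_words h.1).2.2.2.2

theorem actOK_sub (h : c.ActOk) :
    ∀ w ∈ c.subs, (∀ u ∈ w, u < c.k) ∧ c.walk w 0 = 0 := by
  intro w hw
  obtain ⟨_, hl, _, h1, _⟩ := c.ok_words h.1
  have h2 := h.2.1
  unfold actBase at h2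
  simp only [Bool.and_eq_true, List.all_eq_true, beq_iff, List.mem_range, decide_eq_true_eq] at h2
  refine ⟨h2.2 w hw, ?_⟩
  obtain ⟨i, hi, rfl⟩ := List.mem_iff_getElem.mp hw
  have hi' : i < c.nsub := by omega
  have h3 := h2.1 i hi'
  rw [pwalk_eq, h1 i hi', List.getD_eq_getElem _ _ hi] at h3
  exact h3

def permFun (s : ℕ) (x : Fin c.n) : Fin c.n :=
  if h : c.T x s < c.n then ⟨c.T x s, h⟩ else x

theorem permFun_val (hact : c.ActOk) {s : ℕ} (hs : s < c.k)
    (x : Fin c.n) : (c.permFun s x).val = c.T x s := by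
  unfold permFun
  rw [dif_pos (c.actOK_T hact x x.2 s hs).1]

theorem permFun_invol (hact : c.ActOk) {s : ℕ} (hs : s < c.k) :
    Function.Involutive (c.permFun s) := by
  intro x
  apply Fin.ext
  rw [c.permFun_val hact hs, c.permFun_val hact hs]
  exact (c.actOK_T hact x x.2 s hs).2

noncomputable def σ (hact : c.ActOk) (s : ℕ) : Equiv.Perm (Fin c.n) :=
  if hs : s < c.k then (c.permFun_invol hact hs).toPerm (c.permFun s) else 1

theorem σ_val (hact : c.ActOk) {s : ℕ} (hs : s < c.k) (x : Fin c.n) :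
    (c.σ hact s x).val = c.T x s := by
  unfold σ
  rw [dif_pos hs, Function.Involutive.coe_toPerm]
  exact c.permFun_val hact hs x

theorem σ_sq (hact : c.ActOk) {s : ℕ} (hs : s < c.k) :
    c.σ hact s * c.σ hact s = 1 := by
  ext x
  rw [Equiv.Perm.mul_apply, Equiv.Perm.one_apply, c.σ_val hact hs, c.σ_val hact hs]
  exact (c.actOK_T hact x x.2 s hs).2

/-- Tracing a word through the table is the action of the inverse of the word. -/
theorem walk_eq (τ : ℕ → Equiv.Perm (Fin c.n))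
    (hτ : ∀ s, s < c.k → ∀ x : Fin c.n, (τ s x).val = c.T x s)
    (hτ2 : ∀ s, s < c.k → τ s * τ s = 1) :
    ∀ (l : List ℕ), (∀ u ∈ l, u < c.k) → ∀ x : Fin c.n,
      ((wd τ l)⁻¹ x).val = c.walk l x.val := by
  intro l
  induction l with
  | nil => intro _ x; simp [wd_nil, walk]
  | cons u l ih =>
    intro hl x
    have hu : u < c.k := hl u List.mem_cons_self
    have hinv : (τ u)⁻¹ = τ u := inv_eq_of_mul_eq_one_right (hτ2 u hu)
    rw [wd_cons, mul_inv_rev, hinv, Equiv.Perm.mul_apply,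
      ih (fun v hv => hl v (List.mem_cons_of_mem _ hv)), hτ u hu, walk]

theorem σ_word (hact : c.ActOk) : ∀ w ∈ c.rels, wd (c.σ hact) w = 1 := by
  intro w hw
  rw [← inv_eq_one]
  ext x
  rw [c.walk_eq (c.σ hact) (fun s hs x => c.σ_val hact hs x) (fun s hs => c.σ_sq hact hs) w
    (c.actOK_rel_lt hact w hw) x, Equiv.Perm.one_apply]
  exact c.actOK_rel hact x x.2 w hw

end VCert

structure OrbCert where
  col : ℕ → ℕ
  opar : ℕ → ℕ
  ow : ℕ → ℕ
  odep : ℕ → ℕ

namespace OrbCert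
variable (o : OrbCert)

def C (x : ℕ) : ℕ := get16c o.col x
def OP (x : ℕ) : ℕ := get16c o.opar x
def OW (x : ℕ) : ℕ := get16c o.ow x
def OD (x : ℕ) : ℕ := get16c o.odep x

def colOK (c : VCert) : Bool :=
  (List.range c.n).all fun x => (List.range c.nsub).all fun i =>
    Nat.beq (o.C (c.pwalk (c.wt (c.nrel + i)) (c.wl (c.nrel + i)) 0 x)) (o.C x)

def treeOK (c : VCert) (r cl : ℕ) : Bool :=
  Nat.blt r c.n && Nat.beq (o.C r) cl &&
  ((List.range c.n).all fun x => !Nat.beq (o.C x) cl || Nat.beq x r ||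
     (Nat.blt (o.OP x) c.n && Nat.beq (o.C (o.OP x)) cl && Nat.blt (o.OD (o.OP x)) (o.OD x) &&
       Nat.beq (c.pwalk (c.wt (c.nrel + o.OW x)) (c.wl (c.nrel + o.OW x)) 0 (o.OP x)) x &&
       Nat.blt (o.OW x) c.nsub))

theorem colOK_spec {c : VCert} (hok : c.Ok) (h : o.colOK c = true) :
    ∀ x, x < c.n → ∀ w ∈ c.subs, o.C (c.walk w x) = o.C x := by
  intro x hx w hw
  obtain ⟨_, hl, _, h1, _⟩ := c.ok_words hok
  unfold colOK at h
  simp only [List.all_eq_true, VCert.beq_iff, List.mem_range] at h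
  obtain ⟨i, hi, rfl⟩ := List.mem_iff_getElem.mp hw
  have hi' : i < c.nsub := by omega
  have h3 := h x hx i hi'
  rw [VCert.pwalk_eq, h1 i hi', List.getD_eq_getElem _ _ hi] at h3
  exact h3

theorem treeOK_spec {c : VCert} {r cl : ℕ} (hok : c.Ok) (h : o.treeOK c r cl = true) :
    r < c.n ∧ o.C r = cl ∧ ∀ x, x < c.n → o.C x = cl → x ≠ r →
      (o.OP x < c.n ∧ o.C (o.OP x) = cl ∧ o.OD (o.OP x) < o.OD x ∧
        c.walk (c.subs.getD (o.OW x) []) (o.OP x) = x ∧ o.OW x < c.subs.length) := by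
  obtain ⟨_, hl, _, h1, _⟩ := c.ok_words hok
  unfold treeOK at h
  simp only [Bool.and_eq_true, List.all_eq_true, VCert.beq_iff, VCert.blt_iff, List.mem_range,
    Bool.or_eq_true, Bool.not_eq_true'] at h
  refine ⟨h.1.1, h.1.2, ?_⟩
  intro x hx hcx hxr
  rcases h.2 x hx with (h2 | h2) | h2
  · rw [Bool.eq_false_iff] at h2
    exact absurd (VCert.beq_iff.mpr hcx) h2
  · exact absurd h2 hxr
  · obtain ⟨⟨⟨⟨a1, a2⟩, a3⟩, a4⟩, a5⟩ := h2
    refine ⟨a1, a2, a3, ?_, by omega⟩
    rw [VCert.pwalk_eq, h1 _ a5] at a4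
    exact a4

end OrbCert

section main
open VCert
variable {G : Type*} [Group G] (c : VCert) (g : ℕ → G) (H : Subgroup G)
  (ρ : G →* Equiv.Perm (Fin c.n))

theorem wd_map (l : List ℕ) : wd (fun s => ρ (g s)) l = ρ (wd g l) := by
  induction l with
  | nil => simp [wd_nil]
  | cons u l ih => rw [wd_cons, wd_cons, map_mul, ih]

variable (hok : c.Ok) (hfin : c.finOK = true) (hact : c.ActOk) (hn : 0 < c.n)
  (hρ : ∀ s, s < c.k → ∀ x : Fin c.n, (ρ (g s) x).val = c.T x s)
  (hgen : Subgroup.closure {y | ∃ s, s < c.k ∧ y = g s} = ⊤)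
  (hsq : ∀ s, s < c.k → g s * g s = 1)
  (hrel : ∀ w ∈ c.rels, wd g w = 1)
  (hH : H = Subgroup.closure {y | ∃ w ∈ c.subs, y = wd g w})

include hρ hsq in
theorem walk_ρ (l : List ℕ) (hl : ∀ u ∈ l, u < c.k) (x : Fin c.n) :
    ((ρ (wd g l))⁻¹ x).val = c.walk l x.val := by
  rw [← wd_map]
  exact c.walk_eq (fun s => ρ (g s)) hρ
    (fun s hs => by rw [← map_mul, hsq s hs, map_one]) l hl x

include hok hfin hρ hsq in
theorem rep_act : ∀ v, v < c.N → ((ρ (c.rep g v))⁻¹ ⟨0, hn⟩).val = c.CI v := by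
  intro v
  induction v using Nat.strong_induction_on with
  | _ v ih =>
    intro hv
    by_cases hv0 : v = 0
    · subst hv0
      rw [c.rep_zero g, map_one, inv_one, Equiv.Perm.one_apply, (c.finOK_base hfin).2.1]
    · obtain ⟨hP, hS⟩ := c.ok_tree hok v hv hv0
      obtain ⟨_, hcp, hT⟩ := c.finOK_node hfin v hv hv0
      rw [c.rep_pos g hv0 hP, map_mul, mul_inv_rev, Equiv.Perm.mul_apply]
      have hinv : (ρ (g (c.S v)))⁻¹ = ρ (g (c.S v)) := by
        apply inv_eq_of_mul_eq_one_right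
        rw [← map_mul, hsq _ hS, map_one]
      rw [hinv, hρ _ hS, ih (c.P v) hP (lt_trans hP hv), hT]

include hok hfin hρ hsq in
theorem rep_act' : ∀ i, i < c.n → ((ρ (c.rep g (c.ND i)))⁻¹ ⟨0, hn⟩).val = i := by
  intro i hi
  obtain ⟨h1, h2, _⟩ := c.finOK_row hfin i hi
  rw [rep_act c g ρ hok hfin hn hρ hsq _ h1, h2]

include hact hρ hsq hH in
theorem fix_of_mem : ∀ h ∈ H, ρ h ⟨0, hn⟩ = ⟨0, hn⟩ := by
  intro h hh
  rw [hH] at hh
  induction hh using Subgroup.closure_induction with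
  | mem y hy =>
    obtain ⟨w, hw, rfl⟩ := hy
    obtain ⟨hl, hw0⟩ := c.actOK_sub hact w hw
    have h1 := walk_ρ c g ρ hρ hsq w hl ⟨0, hn⟩
    have h2 : (ρ (wd g w))⁻¹ ⟨0, hn⟩ = ⟨0, hn⟩ := by
      apply Fin.ext
      rw [h1]
      exact hw0
    rw [Equiv.Perm.inv_eq_iff_eq] at h2
    exact h2.symm
  | one => rw [map_one, Equiv.Perm.one_apply]
  | mul a b _ _ ha hb => rw [map_mul, Equiv.Perm.mul_apply, hb, ha]
  | inv a _ ha =>
    rw [map_inv, Equiv.Perm.inv_eq_iff_eq, ha]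

include hok hfin hact hρ hsq hrel hgen hH in
theorem mem_of_fix : ∀ a : G, ρ a ⟨0, hn⟩ = ⟨0, hn⟩ → a ∈ H := by
  intro a ha
  have hsub : ∀ w ∈ c.subs, wd g w ∈ H := by
    intro w hw
    rw [hH]
    exact Subgroup.subset_closure ⟨w, hw, rfl⟩
  obtain ⟨i, hi, h', hh', rfl⟩ := c.cover H hok hfin hsq hrel hsub hgen a
  have h1 := fix_of_mem c g H ρ hact hn hρ hsq hH h' hh'
  rw [map_mul, Equiv.Perm.mul_apply] at ha
  have h2 : ρ (c.rep g (c.ND i)) ⟨0, hn⟩ = ⟨0, hn⟩ := by
    have : ρ (c.rep g (c.ND i)) ⟨0, hn⟩ = (ρ h')⁻¹ ⟨0, hn⟩ := by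
      rw [Equiv.Perm.eq_inv_iff_eq]; exact ha
    rw [this, Equiv.Perm.inv_eq_iff_eq, h1]
  have h3 := rep_act' c g ρ hok hfin hn hρ hsq i hi
  have h4 : (ρ (c.rep g (c.ND i)))⁻¹ ⟨0, hn⟩ = ⟨0, hn⟩ := by
    rw [Equiv.Perm.inv_eq_iff_eq, h2]
  rw [h4] at h3
  have hi0 : i = 0 := h3.symm
  subst hi0
  rw [(c.finOK_base hfin).1, c.rep_zero g, mul_one]
  exact hh'

/-- The identification of `G ⧸ H` with the points of the table. -/
noncomputable def phi (hfix : ∀ h ∈ H, ρ h ⟨0, hn⟩ = ⟨0, hn⟩) : G ⧸ H → Fin c.n :=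
  fun q => Quotient.liftOn' q (fun a => ρ a ⟨0, hn⟩) (by
    intro a b hab
    rw [QuotientGroup.leftRel_apply] at hab
    have := hfix _ hab
    rw [map_mul, map_inv, Equiv.Perm.mul_apply, Equiv.Perm.inv_eq_iff_eq] at this
    exact this.symm)

theorem phi_mk (hfix : ∀ h ∈ H, ρ h ⟨0, hn⟩ = ⟨0, hn⟩) (a : G) :
    phi c H ρ hn hfix (QuotientGroup.mk a) = ρ a ⟨0, hn⟩ := rfl

theorem phi_smul (hfix : ∀ h ∈ H, ρ h ⟨0, hn⟩ = ⟨0, hn⟩) (a : G) (q : G ⧸ H) :
    phi c H ρ hn hfix (a • q) = ρ a (phi c H ρ hn hfix q) := by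
  induction q using QuotientGroup.induction_on with
  | H b =>
    rw [MulAction.Quotient.smul_mk, phi_mk, phi_mk, smul_eq_mul, map_mul, Equiv.Perm.mul_apply]

theorem phi_injective (hfix : ∀ h ∈ H, ρ h ⟨0, hn⟩ = ⟨0, hn⟩)
    (hmem : ∀ a : G, ρ a ⟨0, hn⟩ = ⟨0, hn⟩ → a ∈ H) :
    Function.Injective (phi c H ρ hn hfix) := by
  intro q q' h
  induction q using QuotientGroup.induction_on with
  | H a =>
    induction q' using QuotientGroup.induction_on with
    | H b =>
      rw [phi_mk, phi_mk] at h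
      rw [QuotientGroup.eq]
      apply hmem
      rw [map_mul, map_inv, Equiv.Perm.mul_apply, Equiv.Perm.inv_eq_iff_eq]
      exact h.symm

include hok hfin hρ hsq in
theorem phi_surjective (hfix : ∀ h ∈ H, ρ h ⟨0, hn⟩ = ⟨0, hn⟩) :
    Function.Surjective (phi c H ρ hn hfix) := by
  intro x
  refine ⟨QuotientGroup.mk (c.rep g (c.ND x.val))⁻¹, ?_⟩
  rw [phi_mk, map_inv]
  apply Fin.ext
  exact rep_act' c g ρ hok hfin hn hρ hsq x.val x.2

include hok hfin hact hn hρ hsq hrel hgen hH in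
theorem index_eq : H.index = c.n := by
  have hfix := fix_of_mem c g H ρ hact hn hρ hsq hH
  have hmem := mem_of_fix c g H ρ hok hfin hact hn hρ hgen hsq hrel hH
  rw [Subgroup.index_eq_card]
  have hb : Function.Bijective (phi c H ρ hn hfix) :=
    ⟨phi_injective c H ρ hn hfix hmem, phi_surjective c g H ρ hok hfin hn hρ hsq hfix⟩
  rw [Nat.card_congr (Equiv.ofBijective _ hb), Nat.card_fin]

include hok hfin hact hn hρ hsq hrel hgen hH in
theorem orbit_image (o : OrbCert) (r cl : ℕ) (hcol : o.colOK c = true)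
    (htree : o.treeOK c r cl = true) :
    ∃ q : G ⧸ H, (phi c H ρ hn (fix_of_mem c g H ρ hact hn hρ hsq hH)) '' (MulAction.orbit H q) =
      {x : Fin c.n | o.C x.val = cl} := by
  have hfix := fix_of_mem c g H ρ hact hn hρ hsq hH
  obtain ⟨hr, hcr, htr⟩ := o.treeOK_spec hok htree
  have hcs := o.colOK_spec hok hcol
  obtain ⟨q, hq⟩ := phi_surjective c g H ρ hok hfin hn hρ hsq hfix ⟨r, hr⟩
  refine ⟨q, ?_⟩
  -- colour invariance under H
  have hinv : ∀ h ∈ H, ∀ x : Fin c.n, o.C (ρ h x).val = o.C x.val := by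
    intro h hh
    rw [hH] at hh
    induction hh using Subgroup.closure_induction with
    | mem y hy =>
      obtain ⟨w, hw, rfl⟩ := hy
      intro x
      obtain ⟨hl, _⟩ := c.actOK_sub hact w hw
      have h1 := walk_ρ c g ρ hρ hsq w hl (ρ (wd g w) x)
      rw [show (ρ (wd g w))⁻¹ (ρ (wd g w) x) = x from Equiv.Perm.inv_eq_iff_eq.mpr rfl] at h1
      have h2 := hcs (ρ (wd g w) x).val (ρ (wd g w) x).2 w hw
      rw [← h1] at h2
      exact h2.symm
    | one => intro x; rw [map_one, Equiv.Perm.one_apply]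
    | mul a b _ _ ha hb => intro x; rw [map_mul, Equiv.Perm.mul_apply, ha, hb]
    | inv a _ ha =>
      intro x
      have := ha ((ρ a)⁻¹ x)
      rw [show ρ a ((ρ a)⁻¹ x) = x from Equiv.Perm.eq_inv_iff_eq.mp rfl] at this
      rw [map_inv, this]
  -- reachability
  have hreach : ∀ d x, x < c.n → o.C x = cl → o.OD x < d →
      ∃ h ∈ H, (ρ h ⟨r, hr⟩).val = x := by
    intro d
    induction d with
    | zero => intro x _ _ h; exact absurd h (Nat.not_lt_zero _)
    | succ d ih =>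
      intro x hx hcx hd
      by_cases hxr : x = r
      · exact ⟨1, Subgroup.one_mem _, by rw [map_one, Equiv.Perm.one_apply, hxr]⟩
      · obtain ⟨hp, hcp, hdp, hwalk, hwl⟩ := htr x hx hcx hxr
        obtain ⟨h, hh, hhx⟩ := ih (o.OP x) hp hcp (by omega)
        have hwmem : c.subs.getD (o.OW x) [] ∈ c.subs := by
          rw [List.getD_eq_getElem _ _ hwl]
          exact List.getElem_mem hwl
        set w := c.subs.getD (o.OW x) [] with hw
        obtain ⟨hl, _⟩ := c.actOK_sub hact w hwmem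
        have hwH : wd g w ∈ H := by
          rw [hH]; exact Subgroup.subset_closure ⟨w, hwmem, rfl⟩
        refine ⟨(wd g w)⁻¹ * h, Subgroup.mul_mem _ (Subgroup.inv_mem _ hwH) hh, ?_⟩
        rw [map_mul, map_inv, Equiv.Perm.mul_apply, walk_ρ c g ρ hρ hsq w hl, hhx, hwalk]
  have hsm : ∀ (h : H) (q' : G ⧸ H), h • q' = (h : G) • q' := by
    intro h q'
    induction q' using QuotientGroup.induction_on with
    | H b => rfl
  have himg : (phi c H ρ hn hfix) '' (MulAction.orbit H q) =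
      {x : Fin c.n | o.C x.val = cl} := by
    ext x
    constructor
    · rintro ⟨q', ⟨h, rfl⟩, rfl⟩
      show o.C (phi c H ρ hn hfix (h • q)).val = cl
      rw [hsm, phi_smul, hq, hinv h.1 h.2]
      exact hcr
    · intro hx
      obtain ⟨h, hh, hhx⟩ := hreach (o.OD x.val + 1) x.val x.2 hx (Nat.lt_succ_self _)
      refine ⟨(⟨h, hh⟩ : H) • q, ⟨⟨h, hh⟩, rfl⟩, ?_⟩
      rw [hsm, phi_smul, hq]
      exact Fin.ext hhx
  exact himg

include hok hfin hact hn hρ hsq hrel hgen hH in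
theorem orbit_card (o : OrbCert) (r cl : ℕ) (hcol : o.colOK c = true)
    (htree : o.treeOK c r cl = true) :
    ∃ q : G ⧸ H, (MulAction.orbit H q).ncard =
      ((Finset.range c.n).filter (fun x => o.C x = cl)).card := by
  have hfix := fix_of_mem c g H ρ hact hn hρ hsq hH
  have hmem := mem_of_fix c g H ρ hok hfin hact hn hρ hgen hsq hrel hH
  have hinj := phi_injective c H ρ hn hfix hmem
  obtain ⟨q, himg⟩ := orbit_image c g H ρ hok hfin hact hn hρ hgen hsq hrel hH o r cl hcol htree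
  refine ⟨q, ?_⟩
  rw [← Set.ncard_image_of_injective _ hinj, himg,
    ← Set.ncard_image_of_injective _ Fin.val_injective]
  have : Fin.val '' {x : Fin c.n | o.C x.val = cl} =
      ↑((Finset.range c.n).filter (fun x => o.C x = cl)) := by
    ext y
    simp only [Set.mem_image, Finset.coe_filter, Finset.mem_range]
    constructor
    · rintro ⟨x, hx, rfl⟩; exact ⟨x.2, hx⟩
    · rintro ⟨hy, hcy⟩; exact ⟨⟨y, hy⟩, hcy, rfl⟩
  rw [this, Set.ncard_coe_finset]

include hok hfin hact hn hρ hsq hrel hgen hH in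
/-- Two suborbits of different colours are different orbits. -/
theorem orbit_card2 (o : OrbCert) (r cl r' cl' : ℕ) (hcol : o.colOK c = true)
    (htree : o.treeOK c r cl = true) (htree' : o.treeOK c r' cl' = true) (hne : cl ≠ cl') :
    ∃ q q' : G ⧸ H, MulAction.orbit H q ≠ MulAction.orbit H q' ∧
      (MulAction.orbit H q).ncard = ((Finset.range c.n).filter (fun x => o.C x = cl)).card ∧
      (MulAction.orbit H q').ncard = ((Finset.range c.n).filter (fun x => o.C x = cl')).card := by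
  have hfix := fix_of_mem c g H ρ hact hn hρ hsq hH
  have hmem := mem_of_fix c g H ρ hok hfin hact hn hρ hgen hsq hrel hH
  have hinj := phi_injective c H ρ hn hfix hmem
  obtain ⟨q, himg⟩ := orbit_image c g H ρ hok hfin hact hn hρ hgen hsq hrel hH o r cl hcol htree
  obtain ⟨q', himg'⟩ := orbit_image c g H ρ hok hfin hact hn hρ hgen hsq hrel hH o r' cl' hcol htree'
  have hcount : ∀ (cl : ℕ), Set.ncard {x : Fin c.n | o.C x.val = cl} =
      ((Finset.range c.n).filter (fun x => o.C x = cl)).card := by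
    intro cl
    rw [← Set.ncard_image_of_injective _ Fin.val_injective]
    have : Fin.val '' {x : Fin c.n | o.C x.val = cl} =
        ↑((Finset.range c.n).filter (fun x => o.C x = cl)) := by
      ext y
      simp only [Set.mem_image, Finset.coe_filter, Finset.mem_range]
      constructor
      · rintro ⟨x, hx, rfl⟩; exact ⟨x.2, hx⟩
      · rintro ⟨hy, hcy⟩; exact ⟨⟨y, hy⟩, hcy, rfl⟩
    rw [this, Set.ncard_coe_finset]
  refine ⟨q, q', ?_, ?_, ?_⟩
  · intro heq
    rw [heq, himg'] at himg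
    obtain ⟨hr', hcr', _⟩ := o.treeOK_spec hok htree'
    have h1 : (⟨r', hr'⟩ : Fin c.n) ∈ {x : Fin c.n | o.C x.val = cl'} := hcr'
    rw [himg] at h1
    have h2 : o.C r' = cl := h1
    exact hne (h2.symm.trans hcr')
  · rw [← Set.ncard_image_of_injective _ hinj, himg, hcount]
  · rw [← Set.ncard_image_of_injective _ hinj, himg', hcount]

end main

end Cfsg.Agent.Lib.Lead.VTC
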