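import Cfsg.Agent.Lib.Lead.VTC2

/-!
Row-wise (chunkable) forms of the final checks of `VTC1`/`VTC2`: `finOK`, `colOK`, `treeOK`.
They let the kernel evaluate these checks in several small declarations.
-/

set_option autoImplicit false

namespace Cfsg.Agent.Lib.Lead.VTC

namespace VCert
variable (c : VCert)

def finBase : Bool :=
  Nat.beq (c.ND 0) 0 && Nat.beq (c.CI 0) 0 && Nat.blt 0 c.n

def finRow (i : ℕ) : Bool :=
  Nat.blt (c.ND i) c.N && Nat.beq (c.CI (c.ND i)) i &&
     (List.range c.k).all fun s => Nat.blt (c.R (c.ND i) s) INF && Nat.blt (c.T i s) c.n &&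
        Nat.beq (c.resolve INF c.fuel (c.F (c.ND i) s)) (c.ND (c.T i s))

def finNode (v : ℕ) : Bool :=
  Nat.beq v 0 ||
     (Nat.blt (c.CI v) c.n && Nat.blt (c.CI (c.P v)) c.n &&
       Nat.beq (c.T (c.CI (c.P v)) (c.S v)) (c.CI v))

theorem finOK_of (hb : c.finBase = true) (h1 : ∀ i, i < c.n → c.finRow i = true)
    (h2 : ∀ v, v < c.N → c.finNode v = true) : c.finOK = true := by
  unfold finOK
  rw [Bool.and_eq_true, Bool.and_eq_true]
  refine ⟨⟨hb, ?_⟩, ?_⟩
  · rw [List.all_eq_true]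
    intro i hi
    exact h1 i (List.mem_range.mp hi)
  · rw [List.all_eq_true]
    intro v hv
    exact h2 v (List.mem_range.mp hv)

end VCert

namespace OrbCert
variable (o : OrbCert)

def colRow (c : VCert) (x : ℕ) : Bool :=
  (List.range c.nsub).all fun i =>
    Nat.beq (o.C (c.pwalk (c.wt (c.nrel + i)) (c.wl (c.nrel + i)) 0 x)) (o.C x)

theorem colOK_of (c : VCert) (h : ∀ x, x < c.n → o.colRow c x = true) : o.colOK c = true := by
  unfold colOK
  rw [List.all_eq_true]
  intro x hx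
  exact h x (List.mem_range.mp hx)

def treeBase (c : VCert) (r cl : ℕ) : Bool :=
  Nat.blt r c.n && Nat.beq (o.C r) cl

def treeRow (c : VCert) (r cl : ℕ) (x : ℕ) : Bool :=
  !Nat.beq (o.C x) cl || Nat.beq x r ||
     (Nat.blt (o.OP x) c.n && Nat.beq (o.C (o.OP x)) cl && Nat.blt (o.OD (o.OP x)) (o.OD x) &&
       Nat.beq (c.pwalk (c.wt (c.nrel + o.OW x)) (c.wl (c.nrel + o.OW x)) 0 (o.OP x)) x &&
       Nat.blt (o.OW x) c.nsub)

theorem treeOK_of (c : VCert) (r cl : ℕ) (hb : o.treeBase c r cl = true)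
    (h : ∀ x, x < c.n → o.treeRow c r cl x = true) : o.treeOK c r cl = true := by
  unfold treeOK
  rw [Bool.and_eq_true]
  refine ⟨hb, ?_⟩
  rw [List.all_eq_true]
  intro x hx
  exact h x (List.mem_range.mp hx)

end OrbCert

end Cfsg.Agent.Lib.Lead.VTC
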