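import Cfsg.Agent.Lib.Lead.VTCGlue
import Cfsg.Prelude.Def_Spor_Fi22

set_option autoImplicit false

/-! Glue between the Prelude presentation `Fi22` and letter words. -/

namespace Cfsg.Agent.Lib.Lead.VTC

open Cfsg.Agent.Lib.Lead.WTC Cfsg.Agent.Lib.Lead.WTC.Cert Cfsg.Spor

def fivGen : ℕ → Fi22.Gen
  | 0 => .a | 1 => .b | 2 => .c | 3 => .d | 4 => .e | 5 => .f | 6 => .g | 7 => .h | _ => .i

def fivIdx : Fi22.Gen → ℕ
  | .a => 0 | .b => 1 | .c => 2 | .d => 3 | .e => 4 | .f => 5 | .g => 6 | .h => 7 | .i => 8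

def fivCoxSpec : List (List ℕ × ℕ) := [([0, 0], 1), ([1, 1], 1), ([2, 2], 1), ([3, 3], 1), ([4, 4], 1), ([5, 5], 1), ([6, 6], 1), ([7, 7], 1), ([8, 8], 1), ([0, 1], 3), ([0, 2], 2), ([0, 3], 2), ([0, 4], 2), ([0, 5], 2), ([0, 6], 2), ([0, 7], 2), ([0, 8], 2), ([1, 2], 3), ([1, 3], 2), ([1, 4], 2), ([1, 5], 2), ([1, 6], 2), ([1, 7], 2), ([1, 8], 2), ([2, 3], 3), ([2, 4], 2), ([2, 5], 2), ([2, 6], 2), ([2, 7], 2), ([2, 8], 2), ([3, 4], 3), ([3, 5], 2), ([3, 6], 2), ([3, 7], 3), ([3, 8], 2), ([4, 5], 3), ([4, 6], 2), ([4, 7], 2), ([4, 8], 2), ([5, 6], 3), ([5, 7], 2), ([5, 8], 2), ([6, 7], 2), ([6, 8], 2), ([7, 8], 3)]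

def fivExtraSpec : List (List ℕ × ℕ) := [([3, 2, 1, 3, 4, 5, 3, 7, 8], 10), ([0, 1, 2, 3, 4, 5, 7], 9), ([1, 2, 3, 4, 5, 6, 7], 9)]

theorem fivIdx_lt (x : Fi22.Gen) : fivIdx x < 9 := by cases x <;> decide

theorem fivGen_idx (x : Fi22.Gen) : fivGen (fivIdx x) = x := by cases x <;> rfl

theorem fivIdx_gen (s : ℕ) (hs : s < 9) : fivIdx (fivGen s) = s := by
  interval_cases s <;> rfl

theorem fiv_nodes (x : Fi22.Gen) : x ∈ coxNodes Fi22.edges := by cases x <;> decide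

theorem fiv_cox1 : ∀ p ∈ fivCoxSpec, ∃ s, s < 9 ∧ ∃ t, t < 9 ∧
    p = ([s, t], coxLabel Fi22.edges (fivGen s) (fivGen t)) := by
  decide

theorem fiv_cox2 (x y : Fi22.Gen) (h : fivIdx x ≤ fivIdx y) :
    ([fivIdx x, fivIdx y], coxLabel Fi22.edges x y) ∈ fivCoxSpec := by
  revert h
  cases x <;> cases y <;> decide

theorem fiv_symm (x y : Fi22.Gen) : coxLabel Fi22.edges y x = coxLabel Fi22.edges x y := by
  cases x <;> cases y <;> rfl

theorem fiv_extra {M : Type} [Group M] (f : Fi22.Gen → M) (hf : ∀ x, f x * f x = 1) :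
    Fi22.extra.map (FreeGroup.lift f) =
      fivExtraSpec.map (fun p => (wd (fun s => f (fivGen s)) p.1) ^ p.2) := by
  have hinv : ∀ x, (f x)⁻¹ = f x := fun x => inv_eq_of_mul_eq_one_right (hf x)
  simp only [Fi22.extra, fivExtraSpec, List.map_cons, List.map_nil, map_mul, map_pow, map_inv,
    FreeGroup.lift_apply_of, wd, List.prod_cons, List.prod_nil, fivGen, mul_one, mul_assoc]

end Cfsg.Agent.Lib.Lead.VTC
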