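import Cfsg.Agent.Lib.Lead.VTCGlue
import Cfsg.Prelude.Def_Spor_Fi23

set_option autoImplicit false

/-! Glue between the Prelude presentation `Fi23` and letter words. -/

namespace Cfsg.Agent.Lib.Lead.VTC

open Cfsg.Agent.Lib.Lead.WTC Cfsg.Agent.Lib.Lead.WTC.Cert Cfsg.Spor

def fwGen : ℕ → Fi23.Gen
  | 0 => .a | 1 => .b | 2 => .c | 3 => .d | 4 => .e | 5 => .f | 6 => .g | 7 => .j | 8 => .h | _ => .i

def fwIdx : Fi23.Gen → ℕ
  | .a => 0 | .b => 1 | .c => 2 | .d => 3 | .e => 4 | .f => 5 | .g => 6 | .j => 7 | .h => 8 | .i => 9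

def fwCoxSpec : List (List ℕ × ℕ) := [([0, 0], 1), ([1, 1], 1), ([2, 2], 1), ([3, 3], 1), ([4, 4], 1), ([5, 5], 1), ([6, 6], 1), ([7, 7], 1), ([8, 8], 1), ([9, 9], 1), ([0, 1], 3), ([0, 2], 2), ([0, 3], 2), ([0, 4], 2), ([0, 5], 2), ([0, 6], 2), ([0, 7], 2), ([0, 8], 2), ([0, 9], 2), ([1, 2], 3), ([1, 3], 2), ([1, 4], 2), ([1, 5], 2), ([1, 6], 2), ([1, 7], 2), ([1, 8], 2), ([1, 9], 2), ([2, 3], 3), ([2, 4], 2), ([2, 5], 2), ([2, 6], 2), ([2, 7], 2), ([2, 8], 2), ([2, 9], 2), ([3, 4], 3), ([3, 5], 2), ([3, 6], 2), ([3, 7], 2), ([3, 8], 3), ([3, 9], 2), ([4, 5], 3), ([4, 6], 2), ([4, 7], 2), ([4, 8], 2), ([4, 9], 2), ([5, 6], 3), ([5, 7], 2), ([5, 8], 2), ([5, 9], 2), ([6, 7], 3), ([6, 8], 2), ([6, 9], 2), ([7, 8], 2), ([7, 9], 2), ([8, 9], 3)]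

def fwExtraSpec : List (List ℕ × ℕ) := [([3, 2, 1, 3, 4, 5, 3, 8, 9], 10), ([0, 1, 2, 3, 4, 5, 8], 9)]

theorem fwIdx_lt (x : Fi23.Gen) : fwIdx x < 10 := by cases x <;> decide

theorem fwGen_idx (x : Fi23.Gen) : fwGen (fwIdx x) = x := by cases x <;> rfl

theorem fwIdx_gen (s : ℕ) (hs : s < 10) : fwIdx (fwGen s) = s := by
  interval_cases s <;> rfl

theorem fw_nodes (x : Fi23.Gen) : x ∈ coxNodes Fi23.edges := by cases x <;> decide

theorem fw_cox1 : ∀ p ∈ fwCoxSpec, ∃ s, s < 10 ∧ ∃ t, t < 10 ∧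
    p = ([s, t], coxLabel Fi23.edges (fwGen s) (fwGen t)) := by
  decide

theorem fw_cox2 (x y : Fi23.Gen) (h : fwIdx x ≤ fwIdx y) :
    ([fwIdx x, fwIdx y], coxLabel Fi23.edges x y) ∈ fwCoxSpec := by
  revert h
  cases x <;> cases y <;> decide

theorem fw_symm (x y : Fi23.Gen) : coxLabel Fi23.edges y x = coxLabel Fi23.edges x y := by
  cases x <;> cases y <;> rfl

theorem fw_extra {M : Type} [Group M] (f : Fi23.Gen → M) (hf : ∀ x, f x * f x = 1) :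
    Fi23.extra.map (FreeGroup.lift f) =
      fwExtraSpec.map (fun p => (wd (fun s => f (fwGen s)) p.1) ^ p.2) := by
  have hinv : ∀ x, (f x)⁻¹ = f x := fun x => inv_eq_of_mul_eq_one_right (hf x)
  simp only [Fi23.extra, fwExtraSpec, List.map_cons, List.map_nil, map_mul, map_pow, map_inv,
    FreeGroup.lift_apply_of, wd, List.prod_cons, List.prod_nil, fwGen, mul_one, mul_assoc]

end Cfsg.Agent.Lib.Lead.VTC
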