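import Cfsg.Agent.Lib.Lead.VTCFi23aD0
import Cfsg.Agent.Lib.Lead.VTCFi23aD1
import Cfsg.Agent.Lib.Lead.VTCFi23aD2
import Cfsg.Agent.Lib.Lead.VTCFi23aD3
import Cfsg.Agent.Lib.Lead.VTCFi23aD4
import Cfsg.Agent.Lib.Lead.VTC2

set_option autoImplicit false
set_option maxRecDepth 100000

namespace Cfsg.Agent.Lib.Lead.VTC

open Cfsg.Agent.Lib.Lead.WTC

def Fi23aRelSpec : List (List ℕ × ℕ) := [([0, 0], 1), ([1, 1], 1), ([2, 2], 1), ([3, 3], 1), ([4, 4], 1), ([5, 5], 1), ([6, 6], 1), ([7, 7], 1), ([8, 8], 1), ([9, 9], 1), ([0, 1], 3), ([0, 2], 2), ([0, 3], 2), ([0, 4], 2), ([0, 5], 2), ([0, 6], 2), ([0, 7], 2), ([0, 8], 2), ([0, 9], 2), ([1, 2], 3), ([1, 3], 2), ([1, 4], 2), ([1, 5], 2), ([1, 6], 2), ([1, 7], 2), ([1, 8], 2), ([1, 9], 2), ([2, 3], 3), ([2, 4], 2), ([2, 5], 2), ([2, 6],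 2), ([2, 7], 2), ([2, 8], 2), ([2, 9], 2), ([3, 4], 3), ([3, 5], 2), ([3, 6], 2), ([3, 7], 2), ([3, 8], 3), ([3, 9], 2), ([4, 5], 3), ([4, 6], 2), ([4, 7], 2), ([4, 8], 2), ([4, 9], 2), ([5, 6], 3), ([5, 7], 2), ([5, 8], 2), ([5, 9], 2), ([6, 7], 3), ([6, 8], 2), ([6, 9], 2), ([7, 8], 2), ([7, 9], 2), ([8, 9], 3), ([3, 2, 1, 3, 4, 5, 3, 8, 9], 10), ([0, 1, 2, 3, 4, 5, 8], 9)]

def Fi23aSubSpec : List (List ℕ × ℕ) := [([0], 1), ([1], 1), ([2], 1), ([3], 1), ([4], 1), ([5], 1), ([6], 1), ([8], 1), ([9], 1)]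

noncomputable def cFi23a : VCert where
  N := 64481
  n := 31671
  k := 10
  fuel := 4
  nrel := 57
  nsub := 9
  ft := fun s => (Bool.rec (Bool.rec (Bool.rec (Bool.rec (Bool.rec (Bool.rec (Bool.rec (Bool.rec (Bool.rec (Bool.rec (fun _ => 0) Fi23a_ft9 (Nat.beq s 9)) Fi23a_ft8 (Nat.beq s 8)) Fi23a_ft7 (Nat.beq s 7)) Fi23a_ft6 (Nat.beq s 6)) Fi23a_ft5 (Nat.beq s 5)) Fi23a_ft4 (Nat.beq s 4)) Fi23a_ft3 (Nat.beq s 3)) Fi23a_ft2 (Nat.beq s 2)) Fi23a_ft1 (Nat.beq s 1)) Fi23a_ft0 (Nat.beq s 0))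
  rk := fun s => (Bool.rec (Bool.rec (Bool.rec (Bool.rec (Bool.rec (Bool.rec (Bool.rec (Bool.rec (Bool.rec (Bool.rec (fun _ => 0) Fi23a_rk9 (Nat.beq s 9)) Fi23a_rk8 (Nat.beq s 8)) Fi23a_rk7 (Nat.beq s 7)) Fi23a_rk6 (Nat.beq s 6)) Fi23a_rk5 (Nat.beq s 5)) Fi23a_rk4 (Nat.beq s 4)) Fi23a_rk3 (Nat.beq s 3)) Fi23a_rk2 (Nat.beq s 2)) Fi23a_rk1 (Nat.beq s 1)) Fi23a_rk0 (Nat.beq s 0))
  js := fun s => (Bool.rec (Bool.rec (Bool.rec (Bool.rec (Bool.rec (Bool.rec (Bool.rec (Bool.rec (Bool.rec (Bool.rec (fun _ => 0) Fi23a_js9 (Nat.beq s 9)) Fi23a_js8 (Nat.beq s 8)) Fi23a_js7 (Nat.beq s 7)) Fi23a_js6 (Nat.beq s 6)) Fi23a_js5 (Nat.beq s 5)) Fi23a_js4 (Nat.beq s 4)) Fi23a_js3 (Nat.beq s 3)) Fi23a_js2 (Nat.beq s 2)) Fi23a_js1 (Nat.beq s 1)) Fi23a_js0 (Nat.beq s 0))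
  par := Fi23a_par
  sg := Fi23a_sg
  al := Fi23a_al
  qr := Fi23a_qr
  qz := Fi23a_qz
  qj := Fi23a_qj
  nd := Fi23a_nd
  ci := Fi23a_ci
  tab := fun s => (Bool.rec (Bool.rec (Bool.rec (Bool.rec (Bool.rec (Bool.rec (Bool.rec (Bool.rec (Bool.rec (Bool.rec (fun _ => 0) Fi23a_tab9 (Nat.beq s 9)) Fi23a_tab8 (Nat.beq s 8)) Fi23a_tab7 (Nat.beq s 7)) Fi23a_tab6 (Nat.beq s 6)) Fi23a_tab5 (Nat.beq s 5)) Fi23a_tab4 (Nat.beq s 4)) Fi23a_tab3 (Nat.beq s 3)) Fi23a_tab2 (Nat.beq s 2)) Fi23a_tab1 (Nat.beq s 1)) Fi23a_tab0 (Nat.beq s 0))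
  wt := fun j => (Bool.rec (Bool.rec (Bool.rec (Bool.rec (Bool.rec (Bool.rec 0x0 0x11 (Nat.ble 1 j)) (Bool.rec 0x22 0x33 (Nat.ble 3 j)) (Nat.ble 2 j)) (Bool.rec (Bool.rec 0x44 0x55 (Nat.ble 5 j)) (Bool.rec 0x66 0x77 (Nat.ble 7 j)) (Nat.ble 6 j)) (Nat.ble 4 j)) (Bool.rec (Bool.rec (Bool.rec 0x88 0x99 (Nat.ble 9 j)) (Bool.rec 0x101010 0x2020 (Nat.ble 11 j)) (Nat.ble 10 j)) (Bool.rec (Bool.rec 0x3030 0x4040 (Nat.ble 13 j)) (Bool.rec 0x5050 0x6060 (Nat.ble 15 j)) (Nat.ble 14 j)) (Nat.ble 12 j)) (Nat.ble 8 j)) (Bool.rec (Bool.rec (Bool.rec (Bool.rec 0x7070 0x8080 (Nat.ble 17 j)) (Bool.rec 0x9090 0x212121 (Nat.ble 19 j)) (Nat.ble 18 j)) (Bool.rec (Bool.rec 0x3131 0x4141 (Nat.ble 21 j)) (Bool.rec 0x5151 0x6161 (Nat.ble 23 j)) (Nat.ble 22 j)) (Nat.ble 20 j)) (Bool.rec (Bool.rec (Bool.rec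 0x7171 0x8181 (Nat.ble 25 j)) (Bool.rec 0x9191 0x323232 (Nat.ble 27 j)) (Nat.ble 26 j)) (Bool.rec (Bool.rec 0x4242 0x5252 (Nat.ble 29 j)) (Bool.rec 0x6262 (Bool.rec 0x7272 0x8282 (Nat.ble 32 j)) (Nat.ble 31 j)) (Nat.ble 30 j)) (Nat.ble 28 j)) (Nat.ble 24 j)) (Nat.ble 16 j)) (Bool.rec (Bool.rec (Bool.rec (Bool.rec (Bool.rec 0x9292 0x434343 (Nat.ble 34 j)) (Bool.rec 0x5353 0x6363 (Nat.ble 36 j)) (Nat.ble 35 j)) (Bool.rec (Bool.rec 0x7373 0x838383 (Nat.ble 38 j)) (Bool.rec 0x9393 0x545454 (Nat.ble 40 j)) (Nat.ble 39 j)) (Nat.ble 37 j)) (Bool.rec (Bool.rec (Bool.rec 0x6464 0x7474 (Nat.ble 42 j)) (Bool.rec 0x8484 0x9494 (Nat.ble 44 j)) (Nat.ble 43 j)) (Bool.rec (Bool.rec 0x656565 0x7575 (Nat.ble 46 j)) (Bool.rec 0x8585 0x9595 (Nat.ble 48 j)) (Nat.ble 47 j)) (Nat.ble 45 j)) (Nat.ble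 41 j)) (Bool.rec (Bool.rec (Bool.rec (Bool.rec 0x767676 0x8686 (Nat.ble 50 j)) (Bool.rec 0x9696 0x8787 (Nat.ble 52 j)) (Nat.ble 51 j)) (Bool.rec (Bool.rec 0x9797 0x989898 (Nat.ble 54 j)) (Bool.rec 0x983543123983543123983543123983543123983543123983543123983543123983543123983543123983543123 0x854321085432108543210854321085432108543210854321085432108543210 (Nat.ble 56 j)) (Nat.ble 55 j)) (Nat.ble 53 j)) (Bool.rec (Bool.rec (Bool.rec 0x0 0x1 (Nat.ble 58 j)) (Bool.rec 0x2 0x3 (Nat.ble 60 j)) (Nat.ble 59 j)) (Bool.rec (Bool.rec 0x4 0x5 (Nat.ble 62 j)) (Bool.rec 0x6 (Bool.rec 0x8 0x9 (Nat.ble 65 j)) (Nat.ble 64 j)) (Nat.ble 63 j)) (Nat.ble 61 j)) (Nat.ble 57 j)) (Nat.ble 49 j)) (Nat.ble 33 j))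
  wl := fun j => (Bool.rec (Bool.rec (Bool.rec (Bool.rec (Bool.rec (Bool.rec 2 2 (Nat.ble 1 j)) (Bool.rec 2 2 (Nat.ble 3 j)) (Nat.ble 2 j)) (Bool.rec (Bool.rec 2 2 (Nat.ble 5 j)) (Bool.rec 2 2 (Nat.ble 7 j)) (Nat.ble 6 j)) (Nat.ble 4 j)) (Bool.rec (Bool.rec (Bool.rec 2 2 (Nat.ble 9 j)) (Bool.rec 6 4 (Nat.ble 11 j)) (Nat.ble 10 j)) (Bool.rec (Bool.rec 4 4 (Nat.ble 13 j)) (Bool.rec 4 4 (Nat.ble 15 j)) (Nat.ble 14 j)) (Nat.ble 12 j)) (Nat.ble 8 j)) (Bool.rec (Bool.rec (Bool.rec (Bool.rec 4 4 (Nat.ble 17 j)) (Bool.rec 4 6 (Nat.ble 19 j)) (Nat.ble 18 j)) (Bool.rec (Bool.rec 4 4 (Nat.ble 21 j)) (Bool.rec 4 4 (Nat.ble 23 j)) (Nat.ble 22 j)) (Nat.ble 20 j)) (Bool.rec (Bool.rec (Bool.rec 4 4 (Nat.ble 25 j)) (Bool.rec 4 6 (Nat.ble 27 j)) (Nat.ble 26 j)) (Bool.rec (Bool.rec 4 4 (Nat.ble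 29 j)) (Bool.rec 4 (Bool.rec 4 4 (Nat.ble 32 j)) (Nat.ble 31 j)) (Nat.ble 30 j)) (Nat.ble 28 j)) (Nat.ble 24 j)) (Nat.ble 16 j)) (Bool.rec (Bool.rec (Bool.rec (Bool.rec (Bool.rec 4 6 (Nat.ble 34 j)) (Bool.rec 4 4 (Nat.ble 36 j)) (Nat.ble 35 j)) (Bool.rec (Bool.rec 4 6 (Nat.ble 38 j)) (Bool.rec 4 6 (Nat.ble 40 j)) (Nat.ble 39 j)) (Nat.ble 37 j)) (Bool.rec (Bool.rec (Bool.rec 4 4 (Nat.ble 42 j)) (Bool.rec 4 4 (Nat.ble 44 j)) (Nat.ble 43 j)) (Bool.rec (Bool.rec 6 4 (Nat.ble 46 j)) (Bool.rec 4 4 (Nat.ble 48 j)) (Nat.ble 47 j)) (Nat.ble 45 j)) (Nat.ble 41 j)) (Bool.rec (Bool.rec (Bool.rec (Bool.rec 6 4 (Nat.ble 50 j)) (Bool.rec 4 4 (Nat.ble 52 j)) (Nat.ble 51 j)) (Bool.rec (Bool.rec 4 6 (Nat.ble 54 j)) (Bool.rec 90 63 (Nat.ble 56 j)) (Nat.ble 55 j)) (Nat.ble 53 j)) (Bool.rec (Bool.rec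 (Bool.rec 1 1 (Nat.ble 58 j)) (Bool.rec 1 1 (Nat.ble 60 j)) (Nat.ble 59 j)) (Bool.rec (Bool.rec 1 1 (Nat.ble 62 j)) (Bool.rec 1 (Bool.rec 1 1 (Nat.ble 65 j)) (Nat.ble 64 j)) (Nat.ble 63 j)) (Nat.ble 61 j)) (Nat.ble 57 j)) (Nat.ble 49 j)) (Nat.ble 33 j))
  rels := Fi23aRelSpec.map expand
  subs := Fi23aSubSpec.map expand

noncomputable def oFi23a : OrbCert where
  col := Fi23a_col
  opar := Fi23a_opar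
  ow := Fi23a_ow
  odep := Fi23a_odep

end Cfsg.Agent.Lib.Lead.VTC
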