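import Cfsg.Agent.Lib.Lead.VTCFi23a
import Cfsg.Agent.Lib.Lead.VTC3

set_option autoImplicit false
set_option maxRecDepth 100000

namespace Cfsg.Agent.Lib.Lead.VTC

theorem cFi23a_finr10 : ∀ x, 1711 ≤ x → x < 1883 → cFi23a.finRow x = true :=
  VCert.of_range' _ 1711 1883 (by decide +kernel)

theorem cFi23a_finr149 : ∀ x, 25507 ≤ x → x < 25679 → cFi23a.finRow x = true :=
  VCert.of_range' _ 25507 25679 (by decide +kernel)

theorem cFi23a_ok45 : ∀ x, 4852 ≤ x → x < 4960 → cFi23a.rowOK x = true :=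
  VCert.of_range' _ 4852 4960 (by decide +kernel)

theorem cFi23a_ok78 : ∀ x, 8410 ≤ x → x < 8518 → cFi23a.rowOK x = true :=
  VCert.of_range' _ 8410 8518 (by decide +kernel)

theorem cFi23a_ok111 : ∀ x, 11968 ≤ x → x < 12076 → cFi23a.rowOK x = true :=
  VCert.of_range' _ 11968 12076 (by decide +kernel)

theorem cFi23a_ok143 : ∀ x, 15419 ≤ x → x < 15527 → cFi23a.rowOK x = true :=
  VCert.of_range' _ 15419 15527 (by decide +kernel)

theorem cFi23a_ok176 : ∀ x, 18977 ≤ x → x < 19085 → cFi23a.rowOK x = true :=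
  VCert.of_range' _ 18977 19085 (by decide +kernel)

theorem cFi23a_ok208 : ∀ x, 22428 ≤ x → x < 22536 → cFi23a.rowOK x = true :=
  VCert.of_range' _ 22428 22536 (by decide +kernel)

theorem cFi23a_ok241 : ∀ x, 25986 ≤ x → x < 26094 → cFi23a.rowOK x = true :=
  VCert.of_range' _ 25986 26094 (by decide +kernel)

theorem cFi23a_ok274 : ∀ x, 29544 ≤ x → x < 29652 → cFi23a.rowOK x = true :=
  VCert.of_range' _ 29544 29652 (by decide +kernel)

theorem cFi23a_ok306 : ∀ x, 32995 ≤ x → x < 33103 → cFi23a.rowOK x = true :=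
  VCert.of_range' _ 32995 33103 (by decide +kernel)

theorem cFi23a_ok339 : ∀ x, 36553 ≤ x → x < 36661 → cFi23a.rowOK x = true :=
  VCert.of_range' _ 36553 36661 (by decide +kernel)

theorem cFi23a_ok372 : ∀ x, 40111 ≤ x → x < 40219 → cFi23a.rowOK x = true :=
  VCert.of_range' _ 40111 40219 (by decide +kernel)

theorem cFi23a_ok404 : ∀ x, 43562 ≤ x → x < 43670 → cFi23a.rowOK x = true :=
  VCert.of_range' _ 43562 43670 (by decide +kernel)

theorem cFi23a_ok437 : ∀ x, 47120 ≤ x → x < 47228 → cFi23a.rowOK x = true :=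
  VCert.of_range' _ 47120 47228 (by decide +kernel)

theorem cFi23a_ok469 : ∀ x, 50571 ≤ x → x < 50679 → cFi23a.rowOK x = true :=
  VCert.of_range' _ 50571 50679 (by decide +kernel)

theorem cFi23a_ok502 : ∀ x, 54129 ≤ x → x < 54237 → cFi23a.rowOK x = true :=
  VCert.of_range' _ 54129 54237 (by decide +kernel)

theorem cFi23a_ok535 : ∀ x, 57687 ≤ x → x < 57795 → cFi23a.rowOK x = true :=
  VCert.of_range' _ 57687 57795 (by decide +kernel)

theorem cFi23a_ok567 : ∀ x, 61138 ≤ x → x < 61246 → cFi23a.rowOK x = true :=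
  VCert.of_range' _ 61138 61246 (by decide +kernel)

theorem cFi23a_finr1 : ∀ x, 171 ≤ x → x < 342 → cFi23a.finRow x = true :=
  VCert.of_range' _ 171 342 (by decide +kernel)

theorem cFi23a_finr34 : ∀ x, 5820 ≤ x → x < 5991 → cFi23a.finRow x = true :=
  VCert.of_range' _ 5820 5991 (by decide +kernel)

theorem cFi23a_finr68 : ∀ x, 11641 ≤ x → x < 11812 → cFi23a.finRow x = true :=
  VCert.of_range' _ 11641 11812 (by decide +kernel)

theorem cFi23a_finr101 : ∀ x, 17290 ≤ x → x < 17461 → cFi23a.finRow x = true :=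
  VCert.of_range' _ 17290 17461 (by decide +kernel)

theorem cFi23a_finr135 : ∀ x, 23111 ≤ x → x < 23282 → cFi23a.finRow x = true :=
  VCert.of_range' _ 23111 23282 (by decide +kernel)

theorem cFi23a_finr168 : ∀ x, 28760 ≤ x → x < 28931 → cFi23a.finRow x = true :=
  VCert.of_range' _ 28760 28931 (by decide +kernel)

theorem cFi23a_act15 : ∀ x, 674 ≤ x → x < 719 → cFi23a.actRow x = true :=
  VCert.of_range' _ 674 719 (by decide +kernel)

theorem cFi23a_act42 : ∀ x, 1889 ≤ x → x < 1934 → cFi23a.actRow x = true :=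
  VCert.of_range' _ 1889 1934 (by decide +kernel)

theorem cFi23a_act69 : ∀ x, 3104 ≤ x → x < 3149 → cFi23a.actRow x = true :=
  VCert.of_range' _ 3104 3149 (by decide +kernel)

theorem cFi23a_act97 : ∀ x, 4363 ≤ x → x < 4408 → cFi23a.actRow x = true :=
  VCert.of_range' _ 4363 4408 (by decide +kernel)

theorem cFi23a_act124 : ∀ x, 5578 ≤ x → x < 5623 → cFi23a.actRow x = true :=
  VCert.of_range' _ 5578 5623 (by decide +kernel)

theorem cFi23a_act151 : ∀ x, 6793 ≤ x → x < 6838 → cFi23a.actRow x = true :=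
  VCert.of_range' _ 6793 6838 (by decide +kernel)

theorem cFi23a_act179 : ∀ x, 8052 ≤ x → x < 8097 → cFi23a.actRow x = true :=
  VCert.of_range' _ 8052 8097 (by decide +kernel)

theorem cFi23a_act206 : ∀ x, 9267 ≤ x → x < 9312 → cFi23a.actRow x = true :=
  VCert.of_range' _ 9267 9312 (by decide +kernel)

theorem cFi23a_act233 : ∀ x, 10482 ≤ x → x < 10527 → cFi23a.actRow x = true :=
  VCert.of_range' _ 10482 10527 (by decide +kernel)

theorem cFi23a_act261 : ∀ x, 11741 ≤ x → x < 11786 → cFi23a.actRow x = true :=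
  VCert.of_range' _ 11741 11786 (by decide +kernel)

theorem cFi23a_act288 : ∀ x, 12956 ≤ x → x < 13001 → cFi23a.actRow x = true :=
  VCert.of_range' _ 12956 13001 (by decide +kernel)

theorem cFi23a_act316 : ∀ x, 14215 ≤ x → x < 14260 → cFi23a.actRow x = true :=
  VCert.of_range' _ 14215 14260 (by decide +kernel)

theorem cFi23a_act343 : ∀ x, 15430 ≤ x → x < 15475 → cFi23a.actRow x = true :=
  VCert.of_range' _ 15430 15475 (by decide +kernel)

theorem cFi23a_act370 : ∀ x, 16645 ≤ x → x < 16690 → cFi23a.actRow x = true :=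
  VCert.of_range' _ 16645 16690 (by decide +kernel)

theorem cFi23a_act398 : ∀ x, 17904 ≤ x → x < 17949 → cFi23a.actRow x = true :=
  VCert.of_range' _ 17904 17949 (by decide +kernel)

theorem cFi23a_act425 : ∀ x, 19119 ≤ x → x < 19164 → cFi23a.actRow x = true :=
  VCert.of_range' _ 19119 19164 (by decide +kernel)

theorem cFi23a_act452 : ∀ x, 20334 ≤ x → x < 20379 → cFi23a.actRow x = true :=
  VCert.of_range' _ 20334 20379 (by decide +kernel)

theorem cFi23a_act480 : ∀ x, 21593 ≤ x → x < 21638 → cFi23a.actRow x = true :=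
  VCert.of_range' _ 21593 21638 (by decide +kernel)

theorem cFi23a_act507 : ∀ x, 22808 ≤ x → x < 22853 → cFi23a.actRow x = true :=
  VCert.of_range' _ 22808 22853 (by decide +kernel)

theorem cFi23a_act534 : ∀ x, 24023 ≤ x → x < 24068 → cFi23a.actRow x = true :=
  VCert.of_range' _ 24023 24068 (by decide +kernel)

theorem cFi23a_act562 : ∀ x, 25282 ≤ x → x < 25327 → cFi23a.actRow x = true :=
  VCert.of_range' _ 25282 25327 (by decide +kernel)

theorem cFi23a_act589 : ∀ x, 26497 ≤ x → x < 26542 → cFi23a.actRow x = true :=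
  VCert.of_range' _ 26497 26542 (by decide +kernel)

theorem cFi23a_act616 : ∀ x, 27712 ≤ x → x < 27757 → cFi23a.actRow x = true :=
  VCert.of_range' _ 27712 27757 (by decide +kernel)

theorem cFi23a_act644 : ∀ x, 28971 ≤ x → x < 29016 → cFi23a.actRow x = true :=
  VCert.of_range' _ 28971 29016 (by decide +kernel)

theorem cFi23a_act671 : ∀ x, 30186 ≤ x → x < 30231 → cFi23a.actRow x = true :=
  VCert.of_range' _ 30186 30231 (by decide +kernel)

theorem cFi23a_act698 : ∀ x, 31401 ≤ x → x < 31446 → cFi23a.actRow x = true :=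
  VCert.of_range' _ 31401 31446 (by decide +kernel)

theorem oFi23a_tr1_12 : ∀ x, 23753 ≤ x → x < 25732 → oFi23a.treeRow cFi23a 1 1 x = true :=
  VCert.of_range' _ 23753 25732 (by decide +kernel)

theorem cFi23a_ok92 : ∀ x, 9920 ≤ x → x < 10027 → cFi23a.rowOK x = true :=
  VCert.of_range' _ 9920 10027 (by decide +kernel)

theorem cFi23a_ok232 : ∀ x, 25016 ≤ x → x < 25123 → cFi23a.rowOK x = true :=
  VCert.of_range' _ 25016 25123 (by decide +kernel)

theorem cFi23a_ok388 : ∀ x, 41837 ≤ x → x < 41944 → cFi23a.rowOK x = true :=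
  VCert.of_range' _ 41837 41944 (by decide +kernel)

theorem cFi23a_ok545 : ∀ x, 58766 ≤ x → x < 58873 → cFi23a.rowOK x = true :=
  VCert.of_range' _ 58766 58873 (by decide +kernel)

theorem oFi23a_colr24 : ∀ x, 19002 ≤ x → x < 19794 → oFi23a.colRow cFi23a x = true :=
  VCert.of_range' _ 19002 19794 (by decide +kernel)

theorem cFi23a_act391 : ∀ x, 17590 ≤ x → x < 17634 → cFi23a.actRow x = true :=
  VCert.of_range' _ 17590 17634 (by decide +kernel)

theorem cFi23a_finn15 : ∀ x, 48360 ≤ x → x < 51584 → cFi23a.finNode x = true :=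
  VCert.of_range' _ 48360 51584 (by decide +kernel)


end Cfsg.Agent.Lib.Lead.VTC
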