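import Cfsg.Agent.Lib.Lead.VTCFi23a
import Cfsg.Agent.Lib.Lead.VTC3

set_option autoImplicit false
set_option maxRecDepth 100000

namespace Cfsg.Agent.Lib.Lead.VTC

theorem cFi23a_finr56 : ∀ x, 9586 ≤ x → x < 9758 → cFi23a.finRow x = true :=
  VCert.of_range' _ 9586 9758 (by decide +kernel)

theorem cFi23a_ok2 : ∀ x, 215 ≤ x → x < 323 → cFi23a.rowOK x = true :=
  VCert.of_range' _ 215 323 (by decide +kernel)

theorem cFi23a_ok24 : ∀ x, 2587 ≤ x → x < 2695 → cFi23a.rowOK x = true :=
  VCert.of_range' _ 2587 2695 (by decide +kernel)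

theorem cFi23a_ok56 : ∀ x, 6038 ≤ x → x < 6146 → cFi23a.rowOK x = true :=
  VCert.of_range' _ 6038 6146 (by decide +kernel)

theorem cFi23a_ok89 : ∀ x, 9596 ≤ x → x < 9704 → cFi23a.rowOK x = true :=
  VCert.of_range' _ 9596 9704 (by decide +kernel)

theorem cFi23a_ok122 : ∀ x, 13154 ≤ x → x < 13262 → cFi23a.rowOK x = true :=
  VCert.of_range' _ 13154 13262 (by decide +kernel)

theorem cFi23a_ok154 : ∀ x, 16605 ≤ x → x < 16713 → cFi23a.rowOK x = true :=
  VCert.of_range' _ 16605 16713 (by decide +kernel)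

theorem cFi23a_ok187 : ∀ x, 20163 ≤ x → x < 20271 → cFi23a.rowOK x = true :=
  VCert.of_range' _ 20163 20271 (by decide +kernel)

theorem cFi23a_ok219 : ∀ x, 23614 ≤ x → x < 23722 → cFi23a.rowOK x = true :=
  VCert.of_range' _ 23614 23722 (by decide +kernel)

theorem cFi23a_ok252 : ∀ x, 27172 ≤ x → x < 27280 → cFi23a.rowOK x = true :=
  VCert.of_range' _ 27172 27280 (by decide +kernel)

theorem cFi23a_ok285 : ∀ x, 30730 ≤ x → x < 30838 → cFi23a.rowOK x = true :=
  VCert.of_range' _ 30730 30838 (by decide +kernel)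

theorem cFi23a_ok317 : ∀ x, 34181 ≤ x → x < 34289 → cFi23a.rowOK x = true :=
  VCert.of_range' _ 34181 34289 (by decide +kernel)

theorem cFi23a_ok350 : ∀ x, 37739 ≤ x → x < 37847 → cFi23a.rowOK x = true :=
  VCert.of_range' _ 37739 37847 (by decide +kernel)

theorem cFi23a_ok382 : ∀ x, 41190 ≤ x → x < 41298 → cFi23a.rowOK x = true :=
  VCert.of_range' _ 41190 41298 (by decide +kernel)

theorem cFi23a_ok415 : ∀ x, 44748 ≤ x → x < 44856 → cFi23a.rowOK x = true :=
  VCert.of_range' _ 44748 44856 (by decide +kernel)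

theorem cFi23a_ok448 : ∀ x, 48306 ≤ x → x < 48414 → cFi23a.rowOK x = true :=
  VCert.of_range' _ 48306 48414 (by decide +kernel)

theorem cFi23a_ok480 : ∀ x, 51757 ≤ x → x < 51865 → cFi23a.rowOK x = true :=
  VCert.of_range' _ 51757 51865 (by decide +kernel)

theorem cFi23a_ok513 : ∀ x, 55315 ≤ x → x < 55423 → cFi23a.rowOK x = true :=
  VCert.of_range' _ 55315 55423 (by decide +kernel)

theorem cFi23a_ok546 : ∀ x, 58873 ≤ x → x < 58981 → cFi23a.rowOK x = true :=
  VCert.of_range' _ 58873 58981 (by decide +kernel)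

theorem cFi23a_ok578 : ∀ x, 62324 ≤ x → x < 62432 → cFi23a.rowOK x = true :=
  VCert.of_range' _ 62324 62432 (by decide +kernel)

theorem cFi23a_finr12 : ∀ x, 2054 ≤ x → x < 2225 → cFi23a.finRow x = true :=
  VCert.of_range' _ 2054 2225 (by decide +kernel)

theorem cFi23a_finr45 : ∀ x, 7703 ≤ x → x < 7874 → cFi23a.finRow x = true :=
  VCert.of_range' _ 7703 7874 (by decide +kernel)

theorem cFi23a_finr79 : ∀ x, 13524 ≤ x → x < 13695 → cFi23a.finRow x = true :=
  VCert.of_range' _ 13524 13695 (by decide +kernel)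

theorem cFi23a_finr112 : ∀ x, 19173 ≤ x → x < 19344 → cFi23a.finRow x = true :=
  VCert.of_range' _ 19173 19344 (by decide +kernel)

theorem cFi23a_finr146 : ∀ x, 24994 ≤ x → x < 25165 → cFi23a.finRow x = true :=
  VCert.of_range' _ 24994 25165 (by decide +kernel)

theorem cFi23a_finr180 : ∀ x, 30815 ≤ x → x < 30986 → cFi23a.finRow x = true :=
  VCert.of_range' _ 30815 30986 (by decide +kernel)

theorem cFi23a_act37 : ∀ x, 1664 ≤ x → x < 1709 → cFi23a.actRow x = true :=
  VCert.of_range' _ 1664 1709 (by decide +kernel)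

theorem cFi23a_act64 : ∀ x, 2879 ≤ x → x < 2924 → cFi23a.actRow x = true :=
  VCert.of_range' _ 2879 2924 (by decide +kernel)

theorem cFi23a_act92 : ∀ x, 4138 ≤ x → x < 4183 → cFi23a.actRow x = true :=
  VCert.of_range' _ 4138 4183 (by decide +kernel)

theorem cFi23a_act119 : ∀ x, 5353 ≤ x → x < 5398 → cFi23a.actRow x = true :=
  VCert.of_range' _ 5353 5398 (by decide +kernel)

theorem cFi23a_act146 : ∀ x, 6568 ≤ x → x < 6613 → cFi23a.actRow x = true :=
  VCert.of_range' _ 6568 6613 (by decide +kernel)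

theorem cFi23a_act174 : ∀ x, 7827 ≤ x → x < 7872 → cFi23a.actRow x = true :=
  VCert.of_range' _ 7827 7872 (by decide +kernel)

theorem cFi23a_act201 : ∀ x, 9042 ≤ x → x < 9087 → cFi23a.actRow x = true :=
  VCert.of_range' _ 9042 9087 (by decide +kernel)

theorem cFi23a_act228 : ∀ x, 10257 ≤ x → x < 10302 → cFi23a.actRow x = true :=
  VCert.of_range' _ 10257 10302 (by decide +kernel)

theorem cFi23a_act256 : ∀ x, 11516 ≤ x → x < 11561 → cFi23a.actRow x = true :=
  VCert.of_range' _ 11516 11561 (by decide +kernel)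

theorem cFi23a_act283 : ∀ x, 12731 ≤ x → x < 12776 → cFi23a.actRow x = true :=
  VCert.of_range' _ 12731 12776 (by decide +kernel)

theorem cFi23a_act310 : ∀ x, 13946 ≤ x → x < 13991 → cFi23a.actRow x = true :=
  VCert.of_range' _ 13946 13991 (by decide +kernel)

theorem cFi23a_act338 : ∀ x, 15205 ≤ x → x < 15250 → cFi23a.actRow x = true :=
  VCert.of_range' _ 15205 15250 (by decide +kernel)

theorem cFi23a_act365 : ∀ x, 16420 ≤ x → x < 16465 → cFi23a.actRow x = true :=
  VCert.of_range' _ 16420 16465 (by decide +kernel)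

theorem cFi23a_act393 : ∀ x, 17679 ≤ x → x < 17724 → cFi23a.actRow x = true :=
  VCert.of_range' _ 17679 17724 (by decide +kernel)

theorem cFi23a_act420 : ∀ x, 18894 ≤ x → x < 18939 → cFi23a.actRow x = true :=
  VCert.of_range' _ 18894 18939 (by decide +kernel)

theorem cFi23a_act447 : ∀ x, 20109 ≤ x → x < 20154 → cFi23a.actRow x = true :=
  VCert.of_range' _ 20109 20154 (by decide +kernel)

theorem cFi23a_act475 : ∀ x, 21368 ≤ x → x < 21413 → cFi23a.actRow x = true :=
  VCert.of_range' _ 21368 21413 (by decide +kernel)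

theorem cFi23a_act502 : ∀ x, 22583 ≤ x → x < 22628 → cFi23a.actRow x = true :=
  VCert.of_range' _ 22583 22628 (by decide +kernel)

theorem cFi23a_act529 : ∀ x, 23798 ≤ x → x < 23843 → cFi23a.actRow x = true :=
  VCert.of_range' _ 23798 23843 (by decide +kernel)

theorem cFi23a_act557 : ∀ x, 25057 ≤ x → x < 25102 → cFi23a.actRow x = true :=
  VCert.of_range' _ 25057 25102 (by decide +kernel)

theorem cFi23a_act584 : ∀ x, 26272 ≤ x → x < 26317 → cFi23a.actRow x = true :=
  VCert.of_range' _ 26272 26317 (by decide +kernel)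

theorem cFi23a_act611 : ∀ x, 27487 ≤ x → x < 27532 → cFi23a.actRow x = true :=
  VCert.of_range' _ 27487 27532 (by decide +kernel)

theorem cFi23a_act639 : ∀ x, 28746 ≤ x → x < 28791 → cFi23a.actRow x = true :=
  VCert.of_range' _ 28746 28791 (by decide +kernel)

theorem cFi23a_act666 : ∀ x, 29961 ≤ x → x < 30006 → cFi23a.actRow x = true :=
  VCert.of_range' _ 29961 30006 (by decide +kernel)

theorem cFi23a_act693 : ∀ x, 31176 ≤ x → x < 31221 → cFi23a.actRow x = true :=
  VCert.of_range' _ 31176 31221 (by decide +kernel)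

theorem oFi23a_tr1_3 : ∀ x, 5938 ≤ x → x < 7917 → oFi23a.treeRow cFi23a 1 1 x = true :=
  VCert.of_range' _ 5938 7917 (by decide +kernel)

theorem cFi23a_ok63 : ∀ x, 6793 ≤ x → x < 6900 → cFi23a.rowOK x = true :=
  VCert.of_range' _ 6793 6900 (by decide +kernel)

theorem cFi23a_ok203 : ∀ x, 21889 ≤ x → x < 21996 → cFi23a.rowOK x = true :=
  VCert.of_range' _ 21889 21996 (by decide +kernel)

theorem cFi23a_ok359 : ∀ x, 38710 ≤ x → x < 38817 → cFi23a.rowOK x = true :=
  VCert.of_range' _ 38710 38817 (by decide +kernel)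

theorem cFi23a_ok516 : ∀ x, 55639 ≤ x → x < 55746 → cFi23a.rowOK x = true :=
  VCert.of_range' _ 55639 55746 (by decide +kernel)

theorem oFi23a_colr18 : ∀ x, 14251 ≤ x → x < 15043 → oFi23a.colRow cFi23a x = true :=
  VCert.of_range' _ 14251 15043 (by decide +kernel)

theorem cFi23a_act0 : ∀ x, 0 ≤ x → x < 44 → cFi23a.actRow x = true :=
  VCert.of_range' _ 0 44 (by decide +kernel)

theorem cFi23a_finn10 : ∀ x, 32240 ≤ x → x < 35464 → cFi23a.finNode x = true :=
  VCert.of_range' _ 32240 35464 (by decide +kernel)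


end Cfsg.Agent.Lib.Lead.VTC
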