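import Cfsg.Agent.Lib.Lead.VTCFi23a
import Cfsg.Agent.Lib.Lead.VTC3

set_option autoImplicit false
set_option maxRecDepth 100000

namespace Cfsg.Agent.Lib.Lead.VTC

theorem cFi23a_finr61 : ∀ x, 10442 ≤ x → x < 10614 → cFi23a.finRow x = true :=
  VCert.of_range' _ 10442 10614 (by decide +kernel)

theorem cFi23a_ok3 : ∀ x, 323 ≤ x → x < 431 → cFi23a.rowOK x = true :=
  VCert.of_range' _ 323 431 (by decide +kernel)

theorem cFi23a_ok25 : ∀ x, 2695 ≤ x → x < 2803 → cFi23a.rowOK x = true :=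
  VCert.of_range' _ 2695 2803 (by decide +kernel)

theorem cFi23a_ok57 : ∀ x, 6146 ≤ x → x < 6254 → cFi23a.rowOK x = true :=
  VCert.of_range' _ 6146 6254 (by decide +kernel)

theorem cFi23a_ok90 : ∀ x, 9704 ≤ x → x < 9812 → cFi23a.rowOK x = true :=
  VCert.of_range' _ 9704 9812 (by decide +kernel)

theorem cFi23a_ok123 : ∀ x, 13262 ≤ x → x < 13370 → cFi23a.rowOK x = true :=
  VCert.of_range' _ 13262 13370 (by decide +kernel)

theorem cFi23a_ok155 : ∀ x, 16713 ≤ x → x < 16821 → cFi23a.rowOK x = true :=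
  VCert.of_range' _ 16713 16821 (by decide +kernel)

theorem cFi23a_ok188 : ∀ x, 20271 ≤ x → x < 20379 → cFi23a.rowOK x = true :=
  VCert.of_range' _ 20271 20379 (by decide +kernel)

theorem cFi23a_ok221 : ∀ x, 23829 ≤ x → x < 23937 → cFi23a.rowOK x = true :=
  VCert.of_range' _ 23829 23937 (by decide +kernel)

theorem cFi23a_ok253 : ∀ x, 27280 ≤ x → x < 27388 → cFi23a.rowOK x = true :=
  VCert.of_range' _ 27280 27388 (by decide +kernel)

theorem cFi23a_ok286 : ∀ x, 30838 ≤ x → x < 30946 → cFi23a.rowOK x = true :=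
  VCert.of_range' _ 30838 30946 (by decide +kernel)

theorem cFi23a_ok318 : ∀ x, 34289 ≤ x → x < 34397 → cFi23a.rowOK x = true :=
  VCert.of_range' _ 34289 34397 (by decide +kernel)

theorem cFi23a_ok351 : ∀ x, 37847 ≤ x → x < 37955 → cFi23a.rowOK x = true :=
  VCert.of_range' _ 37847 37955 (by decide +kernel)

theorem cFi23a_ok384 : ∀ x, 41405 ≤ x → x < 41513 → cFi23a.rowOK x = true :=
  VCert.of_range' _ 41405 41513 (by decide +kernel)

theorem cFi23a_ok416 : ∀ x, 44856 ≤ x → x < 44964 → cFi23a.rowOK x = true :=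
  VCert.of_range' _ 44856 44964 (by decide +kernel)

theorem cFi23a_ok449 : ∀ x, 48414 ≤ x → x < 48522 → cFi23a.rowOK x = true :=
  VCert.of_range' _ 48414 48522 (by decide +kernel)

theorem cFi23a_ok482 : ∀ x, 51972 ≤ x → x < 52080 → cFi23a.rowOK x = true :=
  VCert.of_range' _ 51972 52080 (by decide +kernel)

theorem cFi23a_ok514 : ∀ x, 55423 ≤ x → x < 55531 → cFi23a.rowOK x = true :=
  VCert.of_range' _ 55423 55531 (by decide +kernel)

theorem cFi23a_ok547 : ∀ x, 58981 ≤ x → x < 59089 → cFi23a.rowOK x = true :=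
  VCert.of_range' _ 58981 59089 (by decide +kernel)

theorem cFi23a_ok579 : ∀ x, 62432 ≤ x → x < 62540 → cFi23a.rowOK x = true :=
  VCert.of_range' _ 62432 62540 (by decide +kernel)

theorem cFi23a_finr13 : ∀ x, 2225 ≤ x → x < 2396 → cFi23a.finRow x = true :=
  VCert.of_range' _ 2225 2396 (by decide +kernel)

theorem cFi23a_finr47 : ∀ x, 8046 ≤ x → x < 8217 → cFi23a.finRow x = true :=
  VCert.of_range' _ 8046 8217 (by decide +kernel)

theorem cFi23a_finr80 : ∀ x, 13695 ≤ x → x < 13866 → cFi23a.finRow x = true :=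
  VCert.of_range' _ 13695 13866 (by decide +kernel)

theorem cFi23a_finr114 : ∀ x, 19516 ≤ x → x < 19687 → cFi23a.finRow x = true :=
  VCert.of_range' _ 19516 19687 (by decide +kernel)

theorem cFi23a_finr147 : ∀ x, 25165 ≤ x → x < 25336 → cFi23a.finRow x = true :=
  VCert.of_range' _ 25165 25336 (by decide +kernel)

theorem cFi23a_finr181 : ∀ x, 30986 ≤ x → x < 31157 → cFi23a.finRow x = true :=
  VCert.of_range' _ 30986 31157 (by decide +kernel)

theorem cFi23a_act38 : ∀ x, 1709 ≤ x → x < 1754 → cFi23a.actRow x = true :=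
  VCert.of_range' _ 1709 1754 (by decide +kernel)

theorem cFi23a_act65 : ∀ x, 2924 ≤ x → x < 2969 → cFi23a.actRow x = true :=
  VCert.of_range' _ 2924 2969 (by decide +kernel)

theorem cFi23a_act93 : ∀ x, 4183 ≤ x → x < 4228 → cFi23a.actRow x = true :=
  VCert.of_range' _ 4183 4228 (by decide +kernel)

theorem cFi23a_act120 : ∀ x, 5398 ≤ x → x < 5443 → cFi23a.actRow x = true :=
  VCert.of_range' _ 5398 5443 (by decide +kernel)

theorem cFi23a_act147 : ∀ x, 6613 ≤ x → x < 6658 → cFi23a.actRow x = true :=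
  VCert.of_range' _ 6613 6658 (by decide +kernel)

theorem cFi23a_act175 : ∀ x, 7872 ≤ x → x < 7917 → cFi23a.actRow x = true :=
  VCert.of_range' _ 7872 7917 (by decide +kernel)

theorem cFi23a_act202 : ∀ x, 9087 ≤ x → x < 9132 → cFi23a.actRow x = true :=
  VCert.of_range' _ 9087 9132 (by decide +kernel)

theorem cFi23a_act229 : ∀ x, 10302 ≤ x → x < 10347 → cFi23a.actRow x = true :=
  VCert.of_range' _ 10302 10347 (by decide +kernel)

theorem cFi23a_act257 : ∀ x, 11561 ≤ x → x < 11606 → cFi23a.actRow x = true :=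
  VCert.of_range' _ 11561 11606 (by decide +kernel)

theorem cFi23a_act284 : ∀ x, 12776 ≤ x → x < 12821 → cFi23a.actRow x = true :=
  VCert.of_range' _ 12776 12821 (by decide +kernel)

theorem cFi23a_act311 : ∀ x, 13991 ≤ x → x < 14036 → cFi23a.actRow x = true :=
  VCert.of_range' _ 13991 14036 (by decide +kernel)

theorem cFi23a_act339 : ∀ x, 15250 ≤ x → x < 15295 → cFi23a.actRow x = true :=
  VCert.of_range' _ 15250 15295 (by decide +kernel)

theorem cFi23a_act366 : ∀ x, 16465 ≤ x → x < 16510 → cFi23a.actRow x = true :=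
  VCert.of_range' _ 16465 16510 (by decide +kernel)

theorem cFi23a_act394 : ∀ x, 17724 ≤ x → x < 17769 → cFi23a.actRow x = true :=
  VCert.of_range' _ 17724 17769 (by decide +kernel)

theorem cFi23a_act421 : ∀ x, 18939 ≤ x → x < 18984 → cFi23a.actRow x = true :=
  VCert.of_range' _ 18939 18984 (by decide +kernel)

theorem cFi23a_act448 : ∀ x, 20154 ≤ x → x < 20199 → cFi23a.actRow x = true :=
  VCert.of_range' _ 20154 20199 (by decide +kernel)

theorem cFi23a_act476 : ∀ x, 21413 ≤ x → x < 21458 → cFi23a.actRow x = true :=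
  VCert.of_range' _ 21413 21458 (by decide +kernel)

theorem cFi23a_act503 : ∀ x, 22628 ≤ x → x < 22673 → cFi23a.actRow x = true :=
  VCert.of_range' _ 22628 22673 (by decide +kernel)

theorem cFi23a_act530 : ∀ x, 23843 ≤ x → x < 23888 → cFi23a.actRow x = true :=
  VCert.of_range' _ 23843 23888 (by decide +kernel)

theorem cFi23a_act558 : ∀ x, 25102 ≤ x → x < 25147 → cFi23a.actRow x = true :=
  VCert.of_range' _ 25102 25147 (by decide +kernel)

theorem cFi23a_act585 : ∀ x, 26317 ≤ x → x < 26362 → cFi23a.actRow x = true :=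
  VCert.of_range' _ 26317 26362 (by decide +kernel)

theorem cFi23a_act612 : ∀ x, 27532 ≤ x → x < 27577 → cFi23a.actRow x = true :=
  VCert.of_range' _ 27532 27577 (by decide +kernel)

theorem cFi23a_act640 : ∀ x, 28791 ≤ x → x < 28836 → cFi23a.actRow x = true :=
  VCert.of_range' _ 28791 28836 (by decide +kernel)

theorem cFi23a_act667 : ∀ x, 30006 ≤ x → x < 30051 → cFi23a.actRow x = true :=
  VCert.of_range' _ 30006 30051 (by decide +kernel)

theorem cFi23a_act694 : ∀ x, 31221 ≤ x → x < 31266 → cFi23a.actRow x = true :=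
  VCert.of_range' _ 31221 31266 (by decide +kernel)

theorem oFi23a_tr1_5 : ∀ x, 9897 ≤ x → x < 11876 → oFi23a.treeRow cFi23a 1 1 x = true :=
  VCert.of_range' _ 9897 11876 (by decide +kernel)

theorem cFi23a_ok69 : ∀ x, 7440 ≤ x → x < 7547 → cFi23a.rowOK x = true :=
  VCert.of_range' _ 7440 7547 (by decide +kernel)

theorem cFi23a_ok209 : ∀ x, 22536 ≤ x → x < 22643 → cFi23a.rowOK x = true :=
  VCert.of_range' _ 22536 22643 (by decide +kernel)

theorem cFi23a_ok365 : ∀ x, 39357 ≤ x → x < 39464 → cFi23a.rowOK x = true :=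
  VCert.of_range' _ 39357 39464 (by decide +kernel)

theorem cFi23a_ok522 : ∀ x, 56286 ≤ x → x < 56393 → cFi23a.rowOK x = true :=
  VCert.of_range' _ 56286 56393 (by decide +kernel)

theorem oFi23a_colr19 : ∀ x, 15043 ≤ x → x < 15835 → oFi23a.colRow cFi23a x = true :=
  VCert.of_range' _ 15043 15835 (by decide +kernel)

theorem cFi23a_act78 : ∀ x, 3509 ≤ x → x < 3553 → cFi23a.actRow x = true :=
  VCert.of_range' _ 3509 3553 (by decide +kernel)

theorem cFi23a_finn11 : ∀ x, 35464 ≤ x → x < 38688 → cFi23a.finNode x = true :=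
  VCert.of_range' _ 35464 38688 (by decide +kernel)


end Cfsg.Agent.Lib.Lead.VTC
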