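import Cfsg.Agent.Lib.Lead.VTCFi23a
import Cfsg.Agent.Lib.Lead.VTC3

set_option autoImplicit false
set_option maxRecDepth 100000

namespace Cfsg.Agent.Lib.Lead.VTC

theorem cFi23a_finr66 : ∀ x, 11298 ≤ x → x < 11470 → cFi23a.finRow x = true :=
  VCert.of_range' _ 11298 11470 (by decide +kernel)

theorem cFi23a_ok4 : ∀ x, 431 ≤ x → x < 539 → cFi23a.rowOK x = true :=
  VCert.of_range' _ 431 539 (by decide +kernel)

theorem cFi23a_ok26 : ∀ x, 2803 ≤ x → x < 2911 → cFi23a.rowOK x = true :=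
  VCert.of_range' _ 2803 2911 (by decide +kernel)

theorem cFi23a_ok59 : ∀ x, 6361 ≤ x → x < 6469 → cFi23a.rowOK x = true :=
  VCert.of_range' _ 6361 6469 (by decide +kernel)

theorem cFi23a_ok91 : ∀ x, 9812 ≤ x → x < 9920 → cFi23a.rowOK x = true :=
  VCert.of_range' _ 9812 9920 (by decide +kernel)

theorem cFi23a_ok124 : ∀ x, 13370 ≤ x → x < 13478 → cFi23a.rowOK x = true :=
  VCert.of_range' _ 13370 13478 (by decide +kernel)

theorem cFi23a_ok157 : ∀ x, 16928 ≤ x → x < 17036 → cFi23a.rowOK x = true :=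
  VCert.of_range' _ 16928 17036 (by decide +kernel)

theorem cFi23a_ok189 : ∀ x, 20379 ≤ x → x < 20487 → cFi23a.rowOK x = true :=
  VCert.of_range' _ 20379 20487 (by decide +kernel)

theorem cFi23a_ok222 : ∀ x, 23937 ≤ x → x < 24045 → cFi23a.rowOK x = true :=
  VCert.of_range' _ 23937 24045 (by decide +kernel)

theorem cFi23a_ok254 : ∀ x, 27388 ≤ x → x < 27496 → cFi23a.rowOK x = true :=
  VCert.of_range' _ 27388 27496 (by decide +kernel)

theorem cFi23a_ok287 : ∀ x, 30946 ≤ x → x < 31054 → cFi23a.rowOK x = true :=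
  VCert.of_range' _ 30946 31054 (by decide +kernel)

theorem cFi23a_ok320 : ∀ x, 34504 ≤ x → x < 34612 → cFi23a.rowOK x = true :=
  VCert.of_range' _ 34504 34612 (by decide +kernel)

theorem cFi23a_ok352 : ∀ x, 37955 ≤ x → x < 38063 → cFi23a.rowOK x = true :=
  VCert.of_range' _ 37955 38063 (by decide +kernel)

theorem cFi23a_ok385 : ∀ x, 41513 ≤ x → x < 41621 → cFi23a.rowOK x = true :=
  VCert.of_range' _ 41513 41621 (by decide +kernel)

theorem cFi23a_ok417 : ∀ x, 44964 ≤ x → x < 45072 → cFi23a.rowOK x = true :=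
  VCert.of_range' _ 44964 45072 (by decide +kernel)

theorem cFi23a_ok450 : ∀ x, 48522 ≤ x → x < 48630 → cFi23a.rowOK x = true :=
  VCert.of_range' _ 48522 48630 (by decide +kernel)

theorem cFi23a_ok483 : ∀ x, 52080 ≤ x → x < 52188 → cFi23a.rowOK x = true :=
  VCert.of_range' _ 52080 52188 (by decide +kernel)

theorem cFi23a_ok515 : ∀ x, 55531 ≤ x → x < 55639 → cFi23a.rowOK x = true :=
  VCert.of_range' _ 55531 55639 (by decide +kernel)

theorem cFi23a_ok548 : ∀ x, 59089 ≤ x → x < 59197 → cFi23a.rowOK x = true :=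
  VCert.of_range' _ 59089 59197 (by decide +kernel)

theorem cFi23a_ok581 : ∀ x, 62647 ≤ x → x < 62755 → cFi23a.rowOK x = true :=
  VCert.of_range' _ 62647 62755 (by decide +kernel)

theorem cFi23a_finr14 : ∀ x, 2396 ≤ x → x < 2567 → cFi23a.finRow x = true :=
  VCert.of_range' _ 2396 2567 (by decide +kernel)

theorem cFi23a_finr48 : ∀ x, 8217 ≤ x → x < 8388 → cFi23a.finRow x = true :=
  VCert.of_range' _ 8217 8388 (by decide +kernel)

theorem cFi23a_finr81 : ∀ x, 13866 ≤ x → x < 14037 → cFi23a.finRow x = true :=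
  VCert.of_range' _ 13866 14037 (by decide +kernel)

theorem cFi23a_finr115 : ∀ x, 19687 ≤ x → x < 19858 → cFi23a.finRow x = true :=
  VCert.of_range' _ 19687 19858 (by decide +kernel)

theorem cFi23a_finr148 : ∀ x, 25336 ≤ x → x < 25507 → cFi23a.finRow x = true :=
  VCert.of_range' _ 25336 25507 (by decide +kernel)

theorem cFi23a_finr182 : ∀ x, 31157 ≤ x → x < 31328 → cFi23a.finRow x = true :=
  VCert.of_range' _ 31157 31328 (by decide +kernel)

theorem cFi23a_act39 : ∀ x, 1754 ≤ x → x < 1799 → cFi23a.actRow x = true :=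
  VCert.of_range' _ 1754 1799 (by decide +kernel)

theorem cFi23a_act66 : ∀ x, 2969 ≤ x → x < 3014 → cFi23a.actRow x = true :=
  VCert.of_range' _ 2969 3014 (by decide +kernel)

theorem cFi23a_act94 : ∀ x, 4228 ≤ x → x < 4273 → cFi23a.actRow x = true :=
  VCert.of_range' _ 4228 4273 (by decide +kernel)

theorem cFi23a_act121 : ∀ x, 5443 ≤ x → x < 5488 → cFi23a.actRow x = true :=
  VCert.of_range' _ 5443 5488 (by decide +kernel)

theorem cFi23a_act148 : ∀ x, 6658 ≤ x → x < 6703 → cFi23a.actRow x = true :=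
  VCert.of_range' _ 6658 6703 (by decide +kernel)

theorem cFi23a_act176 : ∀ x, 7917 ≤ x → x < 7962 → cFi23a.actRow x = true :=
  VCert.of_range' _ 7917 7962 (by decide +kernel)

theorem cFi23a_act203 : ∀ x, 9132 ≤ x → x < 9177 → cFi23a.actRow x = true :=
  VCert.of_range' _ 9132 9177 (by decide +kernel)

theorem cFi23a_act230 : ∀ x, 10347 ≤ x → x < 10392 → cFi23a.actRow x = true :=
  VCert.of_range' _ 10347 10392 (by decide +kernel)

theorem cFi23a_act258 : ∀ x, 11606 ≤ x → x < 11651 → cFi23a.actRow x = true :=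
  VCert.of_range' _ 11606 11651 (by decide +kernel)

theorem cFi23a_act285 : ∀ x, 12821 ≤ x → x < 12866 → cFi23a.actRow x = true :=
  VCert.of_range' _ 12821 12866 (by decide +kernel)

theorem cFi23a_act313 : ∀ x, 14080 ≤ x → x < 14125 → cFi23a.actRow x = true :=
  VCert.of_range' _ 14080 14125 (by decide +kernel)

theorem cFi23a_act340 : ∀ x, 15295 ≤ x → x < 15340 → cFi23a.actRow x = true :=
  VCert.of_range' _ 15295 15340 (by decide +kernel)

theorem cFi23a_act367 : ∀ x, 16510 ≤ x → x < 16555 → cFi23a.actRow x = true :=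
  VCert.of_range' _ 16510 16555 (by decide +kernel)

theorem cFi23a_act395 : ∀ x, 17769 ≤ x → x < 17814 → cFi23a.actRow x = true :=
  VCert.of_range' _ 17769 17814 (by decide +kernel)

theorem cFi23a_act422 : ∀ x, 18984 ≤ x → x < 19029 → cFi23a.actRow x = true :=
  VCert.of_range' _ 18984 19029 (by decide +kernel)

theorem cFi23a_act449 : ∀ x, 20199 ≤ x → x < 20244 → cFi23a.actRow x = true :=
  VCert.of_range' _ 20199 20244 (by decide +kernel)

theorem cFi23a_act477 : ∀ x, 21458 ≤ x → x < 21503 → cFi23a.actRow x = true :=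
  VCert.of_range' _ 21458 21503 (by decide +kernel)

theorem cFi23a_act504 : ∀ x, 22673 ≤ x → x < 22718 → cFi23a.actRow x = true :=
  VCert.of_range' _ 22673 22718 (by decide +kernel)

theorem cFi23a_act531 : ∀ x, 23888 ≤ x → x < 23933 → cFi23a.actRow x = true :=
  VCert.of_range' _ 23888 23933 (by decide +kernel)

theorem cFi23a_act559 : ∀ x, 25147 ≤ x → x < 25192 → cFi23a.actRow x = true :=
  VCert.of_range' _ 25147 25192 (by decide +kernel)

theorem cFi23a_act586 : ∀ x, 26362 ≤ x → x < 26407 → cFi23a.actRow x = true :=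
  VCert.of_range' _ 26362 26407 (by decide +kernel)

theorem cFi23a_act613 : ∀ x, 27577 ≤ x → x < 27622 → cFi23a.actRow x = true :=
  VCert.of_range' _ 27577 27622 (by decide +kernel)

theorem cFi23a_act641 : ∀ x, 28836 ≤ x → x < 28881 → cFi23a.actRow x = true :=
  VCert.of_range' _ 28836 28881 (by decide +kernel)

theorem cFi23a_act668 : ∀ x, 30051 ≤ x → x < 30096 → cFi23a.actRow x = true :=
  VCert.of_range' _ 30051 30096 (by decide +kernel)

theorem cFi23a_act695 : ∀ x, 31266 ≤ x → x < 31311 → cFi23a.actRow x = true :=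
  VCert.of_range' _ 31266 31311 (by decide +kernel)

theorem oFi23a_tr1_7 : ∀ x, 13856 ≤ x → x < 15835 → oFi23a.treeRow cFi23a 1 1 x = true :=
  VCert.of_range' _ 13856 15835 (by decide +kernel)

theorem cFi23a_ok75 : ∀ x, 8087 ≤ x → x < 8194 → cFi23a.rowOK x = true :=
  VCert.of_range' _ 8087 8194 (by decide +kernel)

theorem cFi23a_ok214 : ∀ x, 23075 ≤ x → x < 23182 → cFi23a.rowOK x = true :=
  VCert.of_range' _ 23075 23182 (by decide +kernel)

theorem cFi23a_ok371 : ∀ x, 40004 ≤ x → x < 40111 → cFi23a.rowOK x = true :=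
  VCert.of_range' _ 40004 40111 (by decide +kernel)

theorem cFi23a_ok528 : ∀ x, 56933 ≤ x → x < 57040 → cFi23a.rowOK x = true :=
  VCert.of_range' _ 56933 57040 (by decide +kernel)

theorem oFi23a_colr20 : ∀ x, 15835 ≤ x → x < 16627 → oFi23a.colRow cFi23a x = true :=
  VCert.of_range' _ 15835 16627 (by decide +kernel)

theorem cFi23a_act156 : ∀ x, 7018 ≤ x → x < 7062 → cFi23a.actRow x = true :=
  VCert.of_range' _ 7018 7062 (by decide +kernel)

theorem cFi23a_finn12 : ∀ x, 38688 ≤ x → x < 41912 → cFi23a.finNode x = true :=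
  VCert.of_range' _ 38688 41912 (by decide +kernel)


end Cfsg.Agent.Lib.Lead.VTC
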