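import Cfsg.Agent.Lib.Lead.VTCFi23a
import Cfsg.Agent.Lib.Lead.VTC3

set_option autoImplicit false
set_option maxRecDepth 100000

namespace Cfsg.Agent.Lib.Lead.VTC

theorem cFi23a_finr77 : ∀ x, 13181 ≤ x → x < 13353 → cFi23a.finRow x = true :=
  VCert.of_range' _ 13181 13353 (by decide +kernel)

theorem cFi23a_ok7 : ∀ x, 754 ≤ x → x < 862 → cFi23a.rowOK x = true :=
  VCert.of_range' _ 754 862 (by decide +kernel)

theorem cFi23a_ok28 : ∀ x, 3019 ≤ x → x < 3127 → cFi23a.rowOK x = true :=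
  VCert.of_range' _ 3019 3127 (by decide +kernel)

theorem cFi23a_ok61 : ∀ x, 6577 ≤ x → x < 6685 → cFi23a.rowOK x = true :=
  VCert.of_range' _ 6577 6685 (by decide +kernel)

theorem cFi23a_ok94 : ∀ x, 10135 ≤ x → x < 10243 → cFi23a.rowOK x = true :=
  VCert.of_range' _ 10135 10243 (by decide +kernel)

theorem cFi23a_ok126 : ∀ x, 13586 ≤ x → x < 13694 → cFi23a.rowOK x = true :=
  VCert.of_range' _ 13586 13694 (by decide +kernel)

theorem cFi23a_ok159 : ∀ x, 17144 ≤ x → x < 17252 → cFi23a.rowOK x = true :=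
  VCert.of_range' _ 17144 17252 (by decide +kernel)

theorem cFi23a_ok192 : ∀ x, 20702 ≤ x → x < 20810 → cFi23a.rowOK x = true :=
  VCert.of_range' _ 20702 20810 (by decide +kernel)

theorem cFi23a_ok224 : ∀ x, 24153 ≤ x → x < 24261 → cFi23a.rowOK x = true :=
  VCert.of_range' _ 24153 24261 (by decide +kernel)

theorem cFi23a_ok257 : ∀ x, 27711 ≤ x → x < 27819 → cFi23a.rowOK x = true :=
  VCert.of_range' _ 27711 27819 (by decide +kernel)

theorem cFi23a_ok289 : ∀ x, 31162 ≤ x → x < 31270 → cFi23a.rowOK x = true :=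
  VCert.of_range' _ 31162 31270 (by decide +kernel)

theorem cFi23a_ok322 : ∀ x, 34720 ≤ x → x < 34828 → cFi23a.rowOK x = true :=
  VCert.of_range' _ 34720 34828 (by decide +kernel)

theorem cFi23a_ok355 : ∀ x, 38278 ≤ x → x < 38386 → cFi23a.rowOK x = true :=
  VCert.of_range' _ 38278 38386 (by decide +kernel)

theorem cFi23a_ok387 : ∀ x, 41729 ≤ x → x < 41837 → cFi23a.rowOK x = true :=
  VCert.of_range' _ 41729 41837 (by decide +kernel)

theorem cFi23a_ok420 : ∀ x, 45287 ≤ x → x < 45395 → cFi23a.rowOK x = true :=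
  VCert.of_range' _ 45287 45395 (by decide +kernel)

theorem cFi23a_ok453 : ∀ x, 48845 ≤ x → x < 48953 → cFi23a.rowOK x = true :=
  VCert.of_range' _ 48845 48953 (by decide +kernel)

theorem cFi23a_ok485 : ∀ x, 52296 ≤ x → x < 52404 → cFi23a.rowOK x = true :=
  VCert.of_range' _ 52296 52404 (by decide +kernel)

theorem cFi23a_ok518 : ∀ x, 55854 ≤ x → x < 55962 → cFi23a.rowOK x = true :=
  VCert.of_range' _ 55854 55962 (by decide +kernel)

theorem cFi23a_ok550 : ∀ x, 59305 ≤ x → x < 59413 → cFi23a.rowOK x = true :=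
  VCert.of_range' _ 59305 59413 (by decide +kernel)

theorem cFi23a_ok583 : ∀ x, 62863 ≤ x → x < 62971 → cFi23a.rowOK x = true :=
  VCert.of_range' _ 62863 62971 (by decide +kernel)

theorem cFi23a_finr17 : ∀ x, 2910 ≤ x → x < 3081 → cFi23a.finRow x = true :=
  VCert.of_range' _ 2910 3081 (by decide +kernel)

theorem cFi23a_finr50 : ∀ x, 8559 ≤ x → x < 8730 → cFi23a.finRow x = true :=
  VCert.of_range' _ 8559 8730 (by decide +kernel)

theorem cFi23a_finr84 : ∀ x, 14380 ≤ x → x < 14551 → cFi23a.finRow x = true :=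
  VCert.of_range' _ 14380 14551 (by decide +kernel)

theorem cFi23a_finr117 : ∀ x, 20029 ≤ x → x < 20200 → cFi23a.finRow x = true :=
  VCert.of_range' _ 20029 20200 (by decide +kernel)

theorem cFi23a_finr151 : ∀ x, 25850 ≤ x → x < 26021 → cFi23a.finRow x = true :=
  VCert.of_range' _ 25850 26021 (by decide +kernel)

theorem cFi23a_act1 : ∀ x, 44 ≤ x → x < 89 → cFi23a.actRow x = true :=
  VCert.of_range' _ 44 89 (by decide +kernel)

theorem cFi23a_act23 : ∀ x, 1034 ≤ x → x < 1079 → cFi23a.actRow x = true :=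
  VCert.of_range' _ 1034 1079 (by decide +kernel)

theorem cFi23a_act50 : ∀ x, 2249 ≤ x → x < 2294 → cFi23a.actRow x = true :=
  VCert.of_range' _ 2249 2294 (by decide +kernel)

theorem cFi23a_act77 : ∀ x, 3464 ≤ x → x < 3509 → cFi23a.actRow x = true :=
  VCert.of_range' _ 3464 3509 (by decide +kernel)

theorem cFi23a_act105 : ∀ x, 4723 ≤ x → x < 4768 → cFi23a.actRow x = true :=
  VCert.of_range' _ 4723 4768 (by decide +kernel)

theorem cFi23a_act132 : ∀ x, 5938 ≤ x → x < 5983 → cFi23a.actRow x = true :=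
  VCert.of_range' _ 5938 5983 (by decide +kernel)

theorem cFi23a_act160 : ∀ x, 7197 ≤ x → x < 7242 → cFi23a.actRow x = true :=
  VCert.of_range' _ 7197 7242 (by decide +kernel)

theorem cFi23a_act187 : ∀ x, 8412 ≤ x → x < 8457 → cFi23a.actRow x = true :=
  VCert.of_range' _ 8412 8457 (by decide +kernel)

theorem cFi23a_act214 : ∀ x, 9627 ≤ x → x < 9672 → cFi23a.actRow x = true :=
  VCert.of_range' _ 9627 9672 (by decide +kernel)

theorem cFi23a_act242 : ∀ x, 10886 ≤ x → x < 10931 → cFi23a.actRow x = true :=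
  VCert.of_range' _ 10886 10931 (by decide +kernel)

theorem cFi23a_act269 : ∀ x, 12101 ≤ x → x < 12146 → cFi23a.actRow x = true :=
  VCert.of_range' _ 12101 12146 (by decide +kernel)

theorem cFi23a_act296 : ∀ x, 13316 ≤ x → x < 13361 → cFi23a.actRow x = true :=
  VCert.of_range' _ 13316 13361 (by decide +kernel)

theorem cFi23a_act324 : ∀ x, 14575 ≤ x → x < 14620 → cFi23a.actRow x = true :=
  VCert.of_range' _ 14575 14620 (by decide +kernel)

theorem cFi23a_act351 : ∀ x, 15790 ≤ x → x < 15835 → cFi23a.actRow x = true :=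
  VCert.of_range' _ 15790 15835 (by decide +kernel)

theorem cFi23a_act378 : ∀ x, 17005 ≤ x → x < 17050 → cFi23a.actRow x = true :=
  VCert.of_range' _ 17005 17050 (by decide +kernel)

theorem cFi23a_act406 : ∀ x, 18264 ≤ x → x < 18309 → cFi23a.actRow x = true :=
  VCert.of_range' _ 18264 18309 (by decide +kernel)

theorem cFi23a_act433 : ∀ x, 19479 ≤ x → x < 19524 → cFi23a.actRow x = true :=
  VCert.of_range' _ 19479 19524 (by decide +kernel)

theorem cFi23a_act460 : ∀ x, 20694 ≤ x → x < 20739 → cFi23a.actRow x = true :=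
  VCert.of_range' _ 20694 20739 (by decide +kernel)

theorem cFi23a_act488 : ∀ x, 21953 ≤ x → x < 21998 → cFi23a.actRow x = true :=
  VCert.of_range' _ 21953 21998 (by decide +kernel)

theorem cFi23a_act515 : ∀ x, 23168 ≤ x → x < 23213 → cFi23a.actRow x = true :=
  VCert.of_range' _ 23168 23213 (by decide +kernel)

theorem cFi23a_act542 : ∀ x, 24383 ≤ x → x < 24428 → cFi23a.actRow x = true :=
  VCert.of_range' _ 24383 24428 (by decide +kernel)

theorem cFi23a_act570 : ∀ x, 25642 ≤ x → x < 25687 → cFi23a.actRow x = true :=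
  VCert.of_range' _ 25642 25687 (by decide +kernel)

theorem cFi23a_act597 : ∀ x, 26857 ≤ x → x < 26902 → cFi23a.actRow x = true :=
  VCert.of_range' _ 26857 26902 (by decide +kernel)

theorem cFi23a_act624 : ∀ x, 28072 ≤ x → x < 28117 → cFi23a.actRow x = true :=
  VCert.of_range' _ 28072 28117 (by decide +kernel)

theorem cFi23a_act652 : ∀ x, 29331 ≤ x → x < 29376 → cFi23a.actRow x = true :=
  VCert.of_range' _ 29331 29376 (by decide +kernel)

theorem cFi23a_act679 : ∀ x, 30546 ≤ x → x < 30591 → cFi23a.actRow x = true :=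
  VCert.of_range' _ 30546 30591 (by decide +kernel)

theorem oFi23a_tr1_6 : ∀ x, 11876 ≤ x → x < 13856 → oFi23a.treeRow cFi23a 1 1 x = true :=
  VCert.of_range' _ 11876 13856 (by decide +kernel)

theorem oFi23a_tr2_12 : ∀ x, 23753 ≤ x → x < 25732 → oFi23a.treeRow cFi23a 52 2 x = true :=
  VCert.of_range' _ 23753 25732 (by decide +kernel)

theorem cFi23a_ok284 : ∀ x, 30623 ≤ x → x < 30730 → cFi23a.rowOK x = true :=
  VCert.of_range' _ 30623 30730 (by decide +kernel)

theorem cFi23a_ok441 : ∀ x, 47552 ≤ x → x < 47659 → cFi23a.rowOK x = true :=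
  VCert.of_range' _ 47552 47659 (by decide +kernel)

theorem oFi23a_colr1 : ∀ x, 791 ≤ x → x < 1583 → oFi23a.colRow cFi23a x = true :=
  VCert.of_range' _ 791 1583 (by decide +kernel)

theorem oFi23a_colr34 : ∀ x, 26920 ≤ x → x < 27712 → oFi23a.colRow cFi23a x = true :=
  VCert.of_range' _ 26920 27712 (by decide +kernel)

theorem cFi23a_finn3 : ∀ x, 9672 ≤ x → x < 12896 → cFi23a.finNode x = true :=
  VCert.of_range' _ 9672 12896 (by decide +kernel)


end Cfsg.Agent.Lib.Lead.VTC
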