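import Cfsg.Agent.Lib.Lead.VTCFi23a
import Cfsg.Agent.Lib.Lead.VTC3

set_option autoImplicit false
set_option maxRecDepth 100000

namespace Cfsg.Agent.Lib.Lead.VTC

theorem cFi23a_finr82 : ∀ x, 14037 ≤ x → x < 14209 → cFi23a.finRow x = true :=
  VCert.of_range' _ 14037 14209 (by decide +kernel)

theorem cFi23a_ok8 : ∀ x, 862 ≤ x → x < 970 → cFi23a.rowOK x = true :=
  VCert.of_range' _ 862 970 (by decide +kernel)

theorem cFi23a_ok30 : ∀ x, 3234 ≤ x → x < 3342 → cFi23a.rowOK x = true :=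
  VCert.of_range' _ 3234 3342 (by decide +kernel)

theorem cFi23a_ok62 : ∀ x, 6685 ≤ x → x < 6793 → cFi23a.rowOK x = true :=
  VCert.of_range' _ 6685 6793 (by decide +kernel)

theorem cFi23a_ok95 : ∀ x, 10243 ≤ x → x < 10351 → cFi23a.rowOK x = true :=
  VCert.of_range' _ 10243 10351 (by decide +kernel)

theorem cFi23a_ok128 : ∀ x, 13801 ≤ x → x < 13909 → cFi23a.rowOK x = true :=
  VCert.of_range' _ 13801 13909 (by decide +kernel)

theorem cFi23a_ok160 : ∀ x, 17252 ≤ x → x < 17360 → cFi23a.rowOK x = true :=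
  VCert.of_range' _ 17252 17360 (by decide +kernel)

theorem cFi23a_ok193 : ∀ x, 20810 ≤ x → x < 20918 → cFi23a.rowOK x = true :=
  VCert.of_range' _ 20810 20918 (by decide +kernel)

theorem cFi23a_ok225 : ∀ x, 24261 ≤ x → x < 24369 → cFi23a.rowOK x = true :=
  VCert.of_range' _ 24261 24369 (by decide +kernel)

theorem cFi23a_ok258 : ∀ x, 27819 ≤ x → x < 27927 → cFi23a.rowOK x = true :=
  VCert.of_range' _ 27819 27927 (by decide +kernel)

theorem cFi23a_ok291 : ∀ x, 31377 ≤ x → x < 31485 → cFi23a.rowOK x = true :=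
  VCert.of_range' _ 31377 31485 (by decide +kernel)

theorem cFi23a_ok323 : ∀ x, 34828 ≤ x → x < 34936 → cFi23a.rowOK x = true :=
  VCert.of_range' _ 34828 34936 (by decide +kernel)

theorem cFi23a_ok356 : ∀ x, 38386 ≤ x → x < 38494 → cFi23a.rowOK x = true :=
  VCert.of_range' _ 38386 38494 (by decide +kernel)

theorem cFi23a_ok389 : ∀ x, 41944 ≤ x → x < 42052 → cFi23a.rowOK x = true :=
  VCert.of_range' _ 41944 42052 (by decide +kernel)

theorem cFi23a_ok421 : ∀ x, 45395 ≤ x → x < 45503 → cFi23a.rowOK x = true :=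
  VCert.of_range' _ 45395 45503 (by decide +kernel)

theorem cFi23a_ok454 : ∀ x, 48953 ≤ x → x < 49061 → cFi23a.rowOK x = true :=
  VCert.of_range' _ 48953 49061 (by decide +kernel)

theorem cFi23a_ok486 : ∀ x, 52404 ≤ x → x < 52512 → cFi23a.rowOK x = true :=
  VCert.of_range' _ 52404 52512 (by decide +kernel)

theorem cFi23a_ok519 : ∀ x, 55962 ≤ x → x < 56070 → cFi23a.rowOK x = true :=
  VCert.of_range' _ 55962 56070 (by decide +kernel)

theorem cFi23a_ok552 : ∀ x, 59520 ≤ x → x < 59628 → cFi23a.rowOK x = true :=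
  VCert.of_range' _ 59520 59628 (by decide +kernel)

theorem cFi23a_ok584 : ∀ x, 62971 ≤ x → x < 63079 → cFi23a.rowOK x = true :=
  VCert.of_range' _ 62971 63079 (by decide +kernel)

theorem cFi23a_finr18 : ∀ x, 3081 ≤ x → x < 3252 → cFi23a.finRow x = true :=
  VCert.of_range' _ 3081 3252 (by decide +kernel)

theorem cFi23a_finr52 : ∀ x, 8902 ≤ x → x < 9073 → cFi23a.finRow x = true :=
  VCert.of_range' _ 8902 9073 (by decide +kernel)

theorem cFi23a_finr85 : ∀ x, 14551 ≤ x → x < 14722 → cFi23a.finRow x = true :=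
  VCert.of_range' _ 14551 14722 (by decide +kernel)

theorem cFi23a_finr119 : ∀ x, 20372 ≤ x → x < 20543 → cFi23a.finRow x = true :=
  VCert.of_range' _ 20372 20543 (by decide +kernel)

theorem cFi23a_finr152 : ∀ x, 26021 ≤ x → x < 26192 → cFi23a.finRow x = true :=
  VCert.of_range' _ 26021 26192 (by decide +kernel)

theorem cFi23a_act2 : ∀ x, 89 ≤ x → x < 134 → cFi23a.actRow x = true :=
  VCert.of_range' _ 89 134 (by decide +kernel)

theorem cFi23a_act24 : ∀ x, 1079 ≤ x → x < 1124 → cFi23a.actRow x = true :=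
  VCert.of_range' _ 1079 1124 (by decide +kernel)

theorem cFi23a_act51 : ∀ x, 2294 ≤ x → x < 2339 → cFi23a.actRow x = true :=
  VCert.of_range' _ 2294 2339 (by decide +kernel)

theorem cFi23a_act79 : ∀ x, 3553 ≤ x → x < 3598 → cFi23a.actRow x = true :=
  VCert.of_range' _ 3553 3598 (by decide +kernel)

theorem cFi23a_act106 : ∀ x, 4768 ≤ x → x < 4813 → cFi23a.actRow x = true :=
  VCert.of_range' _ 4768 4813 (by decide +kernel)

theorem cFi23a_act133 : ∀ x, 5983 ≤ x → x < 6028 → cFi23a.actRow x = true :=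
  VCert.of_range' _ 5983 6028 (by decide +kernel)

theorem cFi23a_act161 : ∀ x, 7242 ≤ x → x < 7287 → cFi23a.actRow x = true :=
  VCert.of_range' _ 7242 7287 (by decide +kernel)

theorem cFi23a_act188 : ∀ x, 8457 ≤ x → x < 8502 → cFi23a.actRow x = true :=
  VCert.of_range' _ 8457 8502 (by decide +kernel)

theorem cFi23a_act215 : ∀ x, 9672 ≤ x → x < 9717 → cFi23a.actRow x = true :=
  VCert.of_range' _ 9672 9717 (by decide +kernel)

theorem cFi23a_act243 : ∀ x, 10931 ≤ x → x < 10976 → cFi23a.actRow x = true :=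
  VCert.of_range' _ 10931 10976 (by decide +kernel)

theorem cFi23a_act270 : ∀ x, 12146 ≤ x → x < 12191 → cFi23a.actRow x = true :=
  VCert.of_range' _ 12146 12191 (by decide +kernel)

theorem cFi23a_act297 : ∀ x, 13361 ≤ x → x < 13406 → cFi23a.actRow x = true :=
  VCert.of_range' _ 13361 13406 (by decide +kernel)

theorem cFi23a_act325 : ∀ x, 14620 ≤ x → x < 14665 → cFi23a.actRow x = true :=
  VCert.of_range' _ 14620 14665 (by decide +kernel)

theorem cFi23a_act352 : ∀ x, 15835 ≤ x → x < 15880 → cFi23a.actRow x = true :=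
  VCert.of_range' _ 15835 15880 (by decide +kernel)

theorem cFi23a_act379 : ∀ x, 17050 ≤ x → x < 17095 → cFi23a.actRow x = true :=
  VCert.of_range' _ 17050 17095 (by decide +kernel)

theorem cFi23a_act407 : ∀ x, 18309 ≤ x → x < 18354 → cFi23a.actRow x = true :=
  VCert.of_range' _ 18309 18354 (by decide +kernel)

theorem cFi23a_act434 : ∀ x, 19524 ≤ x → x < 19569 → cFi23a.actRow x = true :=
  VCert.of_range' _ 19524 19569 (by decide +kernel)

theorem cFi23a_act461 : ∀ x, 20739 ≤ x → x < 20784 → cFi23a.actRow x = true :=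
  VCert.of_range' _ 20739 20784 (by decide +kernel)

theorem cFi23a_act489 : ∀ x, 21998 ≤ x → x < 22043 → cFi23a.actRow x = true :=
  VCert.of_range' _ 21998 22043 (by decide +kernel)

theorem cFi23a_act516 : ∀ x, 23213 ≤ x → x < 23258 → cFi23a.actRow x = true :=
  VCert.of_range' _ 23213 23258 (by decide +kernel)

theorem cFi23a_act543 : ∀ x, 24428 ≤ x → x < 24473 → cFi23a.actRow x = true :=
  VCert.of_range' _ 24428 24473 (by decide +kernel)

theorem cFi23a_act571 : ∀ x, 25687 ≤ x → x < 25732 → cFi23a.actRow x = true :=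
  VCert.of_range' _ 25687 25732 (by decide +kernel)

theorem cFi23a_act598 : ∀ x, 26902 ≤ x → x < 26947 → cFi23a.actRow x = true :=
  VCert.of_range' _ 26902 26947 (by decide +kernel)

theorem cFi23a_act626 : ∀ x, 28161 ≤ x → x < 28206 → cFi23a.actRow x = true :=
  VCert.of_range' _ 28161 28206 (by decide +kernel)

theorem cFi23a_act653 : ∀ x, 29376 ≤ x → x < 29421 → cFi23a.actRow x = true :=
  VCert.of_range' _ 29376 29421 (by decide +kernel)

theorem cFi23a_act680 : ∀ x, 30591 ≤ x → x < 30636 → cFi23a.actRow x = true :=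
  VCert.of_range' _ 30591 30636 (by decide +kernel)

theorem oFi23a_tr1_9 : ∀ x, 17814 ≤ x → x < 19794 → oFi23a.treeRow cFi23a 1 1 x = true :=
  VCert.of_range' _ 17814 19794 (by decide +kernel)

theorem oFi23a_tr2_14 : ∀ x, 27712 ≤ x → x < 29691 → oFi23a.treeRow cFi23a 52 2 x = true :=
  VCert.of_range' _ 27712 29691 (by decide +kernel)

theorem cFi23a_ok290 : ∀ x, 31270 ≤ x → x < 31377 → cFi23a.rowOK x = true :=
  VCert.of_range' _ 31270 31377 (by decide +kernel)

theorem cFi23a_ok447 : ∀ x, 48199 ≤ x → x < 48306 → cFi23a.rowOK x = true :=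
  VCert.of_range' _ 48199 48306 (by decide +kernel)

theorem oFi23a_colr2 : ∀ x, 1583 ≤ x → x < 2375 → oFi23a.colRow cFi23a x = true :=
  VCert.of_range' _ 1583 2375 (by decide +kernel)

theorem oFi23a_colr36 : ∀ x, 28503 ≤ x → x < 29295 → oFi23a.colRow cFi23a x = true :=
  VCert.of_range' _ 28503 29295 (by decide +kernel)

theorem cFi23a_finn4 : ∀ x, 12896 ≤ x → x < 16120 → cFi23a.finNode x = true :=
  VCert.of_range' _ 12896 16120 (by decide +kernel)


end Cfsg.Agent.Lib.Lead.VTC
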