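import Cfsg.Agent.Lib.Lead.VTCFi23a
import Cfsg.Agent.Lib.Lead.VTC3

set_option autoImplicit false
set_option maxRecDepth 100000

namespace Cfsg.Agent.Lib.Lead.VTC

theorem cFi23a_finr87 : ∀ x, 14893 ≤ x → x < 15065 → cFi23a.finRow x = true :=
  VCert.of_range' _ 14893 15065 (by decide +kernel)

theorem cFi23a_ok9 : ∀ x, 970 ≤ x → x < 1078 → cFi23a.rowOK x = true :=
  VCert.of_range' _ 970 1078 (by decide +kernel)

theorem cFi23a_ok31 : ∀ x, 3342 ≤ x → x < 3450 → cFi23a.rowOK x = true :=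
  VCert.of_range' _ 3342 3450 (by decide +kernel)

theorem cFi23a_ok64 : ∀ x, 6900 ≤ x → x < 7008 → cFi23a.rowOK x = true :=
  VCert.of_range' _ 6900 7008 (by decide +kernel)

theorem cFi23a_ok96 : ∀ x, 10351 ≤ x → x < 10459 → cFi23a.rowOK x = true :=
  VCert.of_range' _ 10351 10459 (by decide +kernel)

theorem cFi23a_ok129 : ∀ x, 13909 ≤ x → x < 14017 → cFi23a.rowOK x = true :=
  VCert.of_range' _ 13909 14017 (by decide +kernel)

theorem cFi23a_ok161 : ∀ x, 17360 ≤ x → x < 17468 → cFi23a.rowOK x = true :=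
  VCert.of_range' _ 17360 17468 (by decide +kernel)

theorem cFi23a_ok194 : ∀ x, 20918 ≤ x → x < 21026 → cFi23a.rowOK x = true :=
  VCert.of_range' _ 20918 21026 (by decide +kernel)

theorem cFi23a_ok227 : ∀ x, 24476 ≤ x → x < 24584 → cFi23a.rowOK x = true :=
  VCert.of_range' _ 24476 24584 (by decide +kernel)

theorem cFi23a_ok259 : ∀ x, 27927 ≤ x → x < 28035 → cFi23a.rowOK x = true :=
  VCert.of_range' _ 27927 28035 (by decide +kernel)

theorem cFi23a_ok292 : ∀ x, 31485 ≤ x → x < 31593 → cFi23a.rowOK x = true :=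
  VCert.of_range' _ 31485 31593 (by decide +kernel)

theorem cFi23a_ok324 : ∀ x, 34936 ≤ x → x < 35044 → cFi23a.rowOK x = true :=
  VCert.of_range' _ 34936 35044 (by decide +kernel)

theorem cFi23a_ok357 : ∀ x, 38494 ≤ x → x < 38602 → cFi23a.rowOK x = true :=
  VCert.of_range' _ 38494 38602 (by decide +kernel)

theorem cFi23a_ok390 : ∀ x, 42052 ≤ x → x < 42160 → cFi23a.rowOK x = true :=
  VCert.of_range' _ 42052 42160 (by decide +kernel)

theorem cFi23a_ok422 : ∀ x, 45503 ≤ x → x < 45611 → cFi23a.rowOK x = true :=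
  VCert.of_range' _ 45503 45611 (by decide +kernel)

theorem cFi23a_ok455 : ∀ x, 49061 ≤ x → x < 49169 → cFi23a.rowOK x = true :=
  VCert.of_range' _ 49061 49169 (by decide +kernel)

theorem cFi23a_ok488 : ∀ x, 52619 ≤ x → x < 52727 → cFi23a.rowOK x = true :=
  VCert.of_range' _ 52619 52727 (by decide +kernel)

theorem cFi23a_ok520 : ∀ x, 56070 ≤ x → x < 56178 → cFi23a.rowOK x = true :=
  VCert.of_range' _ 56070 56178 (by decide +kernel)

theorem cFi23a_ok553 : ∀ x, 59628 ≤ x → x < 59736 → cFi23a.rowOK x = true :=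
  VCert.of_range' _ 59628 59736 (by decide +kernel)

theorem cFi23a_ok585 : ∀ x, 63079 ≤ x → x < 63187 → cFi23a.rowOK x = true :=
  VCert.of_range' _ 63079 63187 (by decide +kernel)

theorem cFi23a_finr19 : ∀ x, 3252 ≤ x → x < 3423 → cFi23a.finRow x = true :=
  VCert.of_range' _ 3252 3423 (by decide +kernel)

theorem cFi23a_finr53 : ∀ x, 9073 ≤ x → x < 9244 → cFi23a.finRow x = true :=
  VCert.of_range' _ 9073 9244 (by decide +kernel)

theorem cFi23a_finr86 : ∀ x, 14722 ≤ x → x < 14893 → cFi23a.finRow x = true :=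
  VCert.of_range' _ 14722 14893 (by decide +kernel)

theorem cFi23a_finr120 : ∀ x, 20543 ≤ x → x < 20714 → cFi23a.finRow x = true :=
  VCert.of_range' _ 20543 20714 (by decide +kernel)

theorem cFi23a_finr153 : ∀ x, 26192 ≤ x → x < 26363 → cFi23a.finRow x = true :=
  VCert.of_range' _ 26192 26363 (by decide +kernel)

theorem cFi23a_act3 : ∀ x, 134 ≤ x → x < 179 → cFi23a.actRow x = true :=
  VCert.of_range' _ 134 179 (by decide +kernel)

theorem cFi23a_act25 : ∀ x, 1124 ≤ x → x < 1169 → cFi23a.actRow x = true :=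
  VCert.of_range' _ 1124 1169 (by decide +kernel)

theorem cFi23a_act52 : ∀ x, 2339 ≤ x → x < 2384 → cFi23a.actRow x = true :=
  VCert.of_range' _ 2339 2384 (by decide +kernel)

theorem cFi23a_act80 : ∀ x, 3598 ≤ x → x < 3643 → cFi23a.actRow x = true :=
  VCert.of_range' _ 3598 3643 (by decide +kernel)

theorem cFi23a_act107 : ∀ x, 4813 ≤ x → x < 4858 → cFi23a.actRow x = true :=
  VCert.of_range' _ 4813 4858 (by decide +kernel)

theorem cFi23a_act134 : ∀ x, 6028 ≤ x → x < 6073 → cFi23a.actRow x = true :=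
  VCert.of_range' _ 6028 6073 (by decide +kernel)

theorem cFi23a_act162 : ∀ x, 7287 ≤ x → x < 7332 → cFi23a.actRow x = true :=
  VCert.of_range' _ 7287 7332 (by decide +kernel)

theorem cFi23a_act189 : ∀ x, 8502 ≤ x → x < 8547 → cFi23a.actRow x = true :=
  VCert.of_range' _ 8502 8547 (by decide +kernel)

theorem cFi23a_act216 : ∀ x, 9717 ≤ x → x < 9762 → cFi23a.actRow x = true :=
  VCert.of_range' _ 9717 9762 (by decide +kernel)

theorem cFi23a_act244 : ∀ x, 10976 ≤ x → x < 11021 → cFi23a.actRow x = true :=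
  VCert.of_range' _ 10976 11021 (by decide +kernel)

theorem cFi23a_act271 : ∀ x, 12191 ≤ x → x < 12236 → cFi23a.actRow x = true :=
  VCert.of_range' _ 12191 12236 (by decide +kernel)

theorem cFi23a_act298 : ∀ x, 13406 ≤ x → x < 13451 → cFi23a.actRow x = true :=
  VCert.of_range' _ 13406 13451 (by decide +kernel)

theorem cFi23a_act326 : ∀ x, 14665 ≤ x → x < 14710 → cFi23a.actRow x = true :=
  VCert.of_range' _ 14665 14710 (by decide +kernel)

theorem cFi23a_act353 : ∀ x, 15880 ≤ x → x < 15925 → cFi23a.actRow x = true :=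
  VCert.of_range' _ 15880 15925 (by decide +kernel)

theorem cFi23a_act380 : ∀ x, 17095 ≤ x → x < 17140 → cFi23a.actRow x = true :=
  VCert.of_range' _ 17095 17140 (by decide +kernel)

theorem cFi23a_act408 : ∀ x, 18354 ≤ x → x < 18399 → cFi23a.actRow x = true :=
  VCert.of_range' _ 18354 18399 (by decide +kernel)

theorem cFi23a_act435 : ∀ x, 19569 ≤ x → x < 19614 → cFi23a.actRow x = true :=
  VCert.of_range' _ 19569 19614 (by decide +kernel)

theorem cFi23a_act462 : ∀ x, 20784 ≤ x → x < 20829 → cFi23a.actRow x = true :=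
  VCert.of_range' _ 20784 20829 (by decide +kernel)

theorem cFi23a_act490 : ∀ x, 22043 ≤ x → x < 22088 → cFi23a.actRow x = true :=
  VCert.of_range' _ 22043 22088 (by decide +kernel)

theorem cFi23a_act517 : ∀ x, 23258 ≤ x → x < 23303 → cFi23a.actRow x = true :=
  VCert.of_range' _ 23258 23303 (by decide +kernel)

theorem cFi23a_act544 : ∀ x, 24473 ≤ x → x < 24518 → cFi23a.actRow x = true :=
  VCert.of_range' _ 24473 24518 (by decide +kernel)

theorem cFi23a_act572 : ∀ x, 25732 ≤ x → x < 25777 → cFi23a.actRow x = true :=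
  VCert.of_range' _ 25732 25777 (by decide +kernel)

theorem cFi23a_act599 : ∀ x, 26947 ≤ x → x < 26992 → cFi23a.actRow x = true :=
  VCert.of_range' _ 26947 26992 (by decide +kernel)

theorem cFi23a_act627 : ∀ x, 28206 ≤ x → x < 28251 → cFi23a.actRow x = true :=
  VCert.of_range' _ 28206 28251 (by decide +kernel)

theorem cFi23a_act654 : ∀ x, 29421 ≤ x → x < 29466 → cFi23a.actRow x = true :=
  VCert.of_range' _ 29421 29466 (by decide +kernel)

theorem cFi23a_act681 : ∀ x, 30636 ≤ x → x < 30681 → cFi23a.actRow x = true :=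
  VCert.of_range' _ 30636 30681 (by decide +kernel)

theorem oFi23a_tr1_11 : ∀ x, 21773 ≤ x → x < 23753 → oFi23a.treeRow cFi23a 1 1 x = true :=
  VCert.of_range' _ 21773 23753 (by decide +kernel)

theorem cFi23a_ok0 : ∀ x, 0 ≤ x → x < 107 → cFi23a.rowOK x = true :=
  VCert.of_range' _ 0 107 (by decide +kernel)

theorem cFi23a_ok139 : ∀ x, 14988 ≤ x → x < 15095 → cFi23a.rowOK x = true :=
  VCert.of_range' _ 14988 15095 (by decide +kernel)

theorem cFi23a_ok296 : ∀ x, 31917 ≤ x → x < 32024 → cFi23a.rowOK x = true :=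
  VCert.of_range' _ 31917 32024 (by decide +kernel)

theorem cFi23a_ok452 : ∀ x, 48738 ≤ x → x < 48845 → cFi23a.rowOK x = true :=
  VCert.of_range' _ 48738 48845 (by decide +kernel)

theorem oFi23a_colr3 : ∀ x, 2375 ≤ x → x < 3167 → oFi23a.colRow cFi23a x = true :=
  VCert.of_range' _ 2375 3167 (by decide +kernel)

theorem oFi23a_colr38 : ∀ x, 30087 ≤ x → x < 30879 → oFi23a.colRow cFi23a x = true :=
  VCert.of_range' _ 30087 30879 (by decide +kernel)


end Cfsg.Agent.Lib.Lead.VTC
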