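import Cfsg.Agent.Lib.Lead.VTCFi23a
import Cfsg.Agent.Lib.Lead.VTC3

set_option autoImplicit false
set_option maxRecDepth 100000

namespace Cfsg.Agent.Lib.Lead.VTC

theorem cFi23a_finr92 : ∀ x, 15749 ≤ x → x < 15921 → cFi23a.finRow x = true :=
  VCert.of_range' _ 15749 15921 (by decide +kernel)

theorem cFi23a_ok10 : ∀ x, 1078 ≤ x → x < 1186 → cFi23a.rowOK x = true :=
  VCert.of_range' _ 1078 1186 (by decide +kernel)

theorem cFi23a_ok32 : ∀ x, 3450 ≤ x → x < 3558 → cFi23a.rowOK x = true :=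
  VCert.of_range' _ 3450 3558 (by decide +kernel)

theorem cFi23a_ok65 : ∀ x, 7008 ≤ x → x < 7116 → cFi23a.rowOK x = true :=
  VCert.of_range' _ 7008 7116 (by decide +kernel)

theorem cFi23a_ok97 : ∀ x, 10459 ≤ x → x < 10567 → cFi23a.rowOK x = true :=
  VCert.of_range' _ 10459 10567 (by decide +kernel)

theorem cFi23a_ok130 : ∀ x, 14017 ≤ x → x < 14125 → cFi23a.rowOK x = true :=
  VCert.of_range' _ 14017 14125 (by decide +kernel)

theorem cFi23a_ok163 : ∀ x, 17575 ≤ x → x < 17683 → cFi23a.rowOK x = true :=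
  VCert.of_range' _ 17575 17683 (by decide +kernel)

theorem cFi23a_ok195 : ∀ x, 21026 ≤ x → x < 21134 → cFi23a.rowOK x = true :=
  VCert.of_range' _ 21026 21134 (by decide +kernel)

theorem cFi23a_ok228 : ∀ x, 24584 ≤ x → x < 24692 → cFi23a.rowOK x = true :=
  VCert.of_range' _ 24584 24692 (by decide +kernel)

theorem cFi23a_ok260 : ∀ x, 28035 ≤ x → x < 28143 → cFi23a.rowOK x = true :=
  VCert.of_range' _ 28035 28143 (by decide +kernel)

theorem cFi23a_ok293 : ∀ x, 31593 ≤ x → x < 31701 → cFi23a.rowOK x = true :=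
  VCert.of_range' _ 31593 31701 (by decide +kernel)

theorem cFi23a_ok326 : ∀ x, 35151 ≤ x → x < 35259 → cFi23a.rowOK x = true :=
  VCert.of_range' _ 35151 35259 (by decide +kernel)

theorem cFi23a_ok358 : ∀ x, 38602 ≤ x → x < 38710 → cFi23a.rowOK x = true :=
  VCert.of_range' _ 38602 38710 (by decide +kernel)

theorem cFi23a_ok391 : ∀ x, 42160 ≤ x → x < 42268 → cFi23a.rowOK x = true :=
  VCert.of_range' _ 42160 42268 (by decide +kernel)

theorem cFi23a_ok424 : ∀ x, 45718 ≤ x → x < 45826 → cFi23a.rowOK x = true :=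
  VCert.of_range' _ 45718 45826 (by decide +kernel)

theorem cFi23a_ok456 : ∀ x, 49169 ≤ x → x < 49277 → cFi23a.rowOK x = true :=
  VCert.of_range' _ 49169 49277 (by decide +kernel)

theorem cFi23a_ok489 : ∀ x, 52727 ≤ x → x < 52835 → cFi23a.rowOK x = true :=
  VCert.of_range' _ 52727 52835 (by decide +kernel)

theorem cFi23a_ok521 : ∀ x, 56178 ≤ x → x < 56286 → cFi23a.rowOK x = true :=
  VCert.of_range' _ 56178 56286 (by decide +kernel)

theorem cFi23a_ok554 : ∀ x, 59736 ≤ x → x < 59844 → cFi23a.rowOK x = true :=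
  VCert.of_range' _ 59736 59844 (by decide +kernel)

theorem cFi23a_ok587 : ∀ x, 63294 ≤ x → x < 63402 → cFi23a.rowOK x = true :=
  VCert.of_range' _ 63294 63402 (by decide +kernel)

theorem cFi23a_finr21 : ∀ x, 3595 ≤ x → x < 3766 → cFi23a.finRow x = true :=
  VCert.of_range' _ 3595 3766 (by decide +kernel)

theorem cFi23a_finr54 : ∀ x, 9244 ≤ x → x < 9415 → cFi23a.finRow x = true :=
  VCert.of_range' _ 9244 9415 (by decide +kernel)

theorem cFi23a_finr88 : ∀ x, 15065 ≤ x → x < 15236 → cFi23a.finRow x = true :=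
  VCert.of_range' _ 15065 15236 (by decide +kernel)

theorem cFi23a_finr121 : ∀ x, 20714 ≤ x → x < 20885 → cFi23a.finRow x = true :=
  VCert.of_range' _ 20714 20885 (by decide +kernel)

theorem cFi23a_finr155 : ∀ x, 26535 ≤ x → x < 26706 → cFi23a.finRow x = true :=
  VCert.of_range' _ 26535 26706 (by decide +kernel)

theorem cFi23a_act4 : ∀ x, 179 ≤ x → x < 224 → cFi23a.actRow x = true :=
  VCert.of_range' _ 179 224 (by decide +kernel)

theorem cFi23a_act26 : ∀ x, 1169 ≤ x → x < 1214 → cFi23a.actRow x = true :=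
  VCert.of_range' _ 1169 1214 (by decide +kernel)

theorem cFi23a_act53 : ∀ x, 2384 ≤ x → x < 2429 → cFi23a.actRow x = true :=
  VCert.of_range' _ 2384 2429 (by decide +kernel)

theorem cFi23a_act81 : ∀ x, 3643 ≤ x → x < 3688 → cFi23a.actRow x = true :=
  VCert.of_range' _ 3643 3688 (by decide +kernel)

theorem cFi23a_act108 : ∀ x, 4858 ≤ x → x < 4903 → cFi23a.actRow x = true :=
  VCert.of_range' _ 4858 4903 (by decide +kernel)

theorem cFi23a_act135 : ∀ x, 6073 ≤ x → x < 6118 → cFi23a.actRow x = true :=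
  VCert.of_range' _ 6073 6118 (by decide +kernel)

theorem cFi23a_act163 : ∀ x, 7332 ≤ x → x < 7377 → cFi23a.actRow x = true :=
  VCert.of_range' _ 7332 7377 (by decide +kernel)

theorem cFi23a_act190 : ∀ x, 8547 ≤ x → x < 8592 → cFi23a.actRow x = true :=
  VCert.of_range' _ 8547 8592 (by decide +kernel)

theorem cFi23a_act217 : ∀ x, 9762 ≤ x → x < 9807 → cFi23a.actRow x = true :=
  VCert.of_range' _ 9762 9807 (by decide +kernel)

theorem cFi23a_act245 : ∀ x, 11021 ≤ x → x < 11066 → cFi23a.actRow x = true :=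
  VCert.of_range' _ 11021 11066 (by decide +kernel)

theorem cFi23a_act272 : ∀ x, 12236 ≤ x → x < 12281 → cFi23a.actRow x = true :=
  VCert.of_range' _ 12236 12281 (by decide +kernel)

theorem cFi23a_act299 : ∀ x, 13451 ≤ x → x < 13496 → cFi23a.actRow x = true :=
  VCert.of_range' _ 13451 13496 (by decide +kernel)

theorem cFi23a_act327 : ∀ x, 14710 ≤ x → x < 14755 → cFi23a.actRow x = true :=
  VCert.of_range' _ 14710 14755 (by decide +kernel)

theorem cFi23a_act354 : ∀ x, 15925 ≤ x → x < 15970 → cFi23a.actRow x = true :=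
  VCert.of_range' _ 15925 15970 (by decide +kernel)

theorem cFi23a_act381 : ∀ x, 17140 ≤ x → x < 17185 → cFi23a.actRow x = true :=
  VCert.of_range' _ 17140 17185 (by decide +kernel)

theorem cFi23a_act409 : ∀ x, 18399 ≤ x → x < 18444 → cFi23a.actRow x = true :=
  VCert.of_range' _ 18399 18444 (by decide +kernel)

theorem cFi23a_act436 : ∀ x, 19614 ≤ x → x < 19659 → cFi23a.actRow x = true :=
  VCert.of_range' _ 19614 19659 (by decide +kernel)

theorem cFi23a_act463 : ∀ x, 20829 ≤ x → x < 20874 → cFi23a.actRow x = true :=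
  VCert.of_range' _ 20829 20874 (by decide +kernel)

theorem cFi23a_act491 : ∀ x, 22088 ≤ x → x < 22133 → cFi23a.actRow x = true :=
  VCert.of_range' _ 22088 22133 (by decide +kernel)

theorem cFi23a_act518 : ∀ x, 23303 ≤ x → x < 23348 → cFi23a.actRow x = true :=
  VCert.of_range' _ 23303 23348 (by decide +kernel)

theorem cFi23a_act545 : ∀ x, 24518 ≤ x → x < 24563 → cFi23a.actRow x = true :=
  VCert.of_range' _ 24518 24563 (by decide +kernel)

theorem cFi23a_act573 : ∀ x, 25777 ≤ x → x < 25822 → cFi23a.actRow x = true :=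
  VCert.of_range' _ 25777 25822 (by decide +kernel)

theorem cFi23a_act600 : ∀ x, 26992 ≤ x → x < 27037 → cFi23a.actRow x = true :=
  VCert.of_range' _ 26992 27037 (by decide +kernel)

theorem cFi23a_act628 : ∀ x, 28251 ≤ x → x < 28296 → cFi23a.actRow x = true :=
  VCert.of_range' _ 28251 28296 (by decide +kernel)

theorem cFi23a_act655 : ∀ x, 29466 ≤ x → x < 29511 → cFi23a.actRow x = true :=
  VCert.of_range' _ 29466 29511 (by decide +kernel)

theorem cFi23a_act682 : ∀ x, 30681 ≤ x → x < 30726 → cFi23a.actRow x = true :=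
  VCert.of_range' _ 30681 30726 (by decide +kernel)

theorem oFi23a_tr1_13 : ∀ x, 25732 ≤ x → x < 27712 → oFi23a.treeRow cFi23a 1 1 x = true :=
  VCert.of_range' _ 25732 27712 (by decide +kernel)

theorem cFi23a_ok5 : ∀ x, 539 ≤ x → x < 646 → cFi23a.rowOK x = true :=
  VCert.of_range' _ 539 646 (by decide +kernel)

theorem cFi23a_ok145 : ∀ x, 15635 ≤ x → x < 15742 → cFi23a.rowOK x = true :=
  VCert.of_range' _ 15635 15742 (by decide +kernel)

theorem cFi23a_ok301 : ∀ x, 32456 ≤ x → x < 32563 → cFi23a.rowOK x = true :=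
  VCert.of_range' _ 32456 32563 (by decide +kernel)

theorem cFi23a_ok458 : ∀ x, 49385 ≤ x → x < 49492 → cFi23a.rowOK x = true :=
  VCert.of_range' _ 49385 49492 (by decide +kernel)

theorem oFi23a_colr5 : ∀ x, 3958 ≤ x → x < 4750 → oFi23a.colRow cFi23a x = true :=
  VCert.of_range' _ 3958 4750 (by decide +kernel)

theorem oFi23a_colr39 : ∀ x, 30879 ≤ x → x < 31671 → oFi23a.colRow cFi23a x = true :=
  VCert.of_range' _ 30879 31671 (by decide +kernel)


end Cfsg.Agent.Lib.Lead.VTC
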