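import Cfsg.Agent.Lib.Lead.VTCFi23a
import Cfsg.Agent.Lib.Lead.VTC3

set_option autoImplicit false
set_option maxRecDepth 100000

namespace Cfsg.Agent.Lib.Lead.VTC

theorem cFi23a_finr97 : ∀ x, 16605 ≤ x → x < 16777 → cFi23a.finRow x = true :=
  VCert.of_range' _ 16605 16777 (by decide +kernel)

theorem cFi23a_ok12 : ∀ x, 1293 ≤ x → x < 1401 → cFi23a.rowOK x = true :=
  VCert.of_range' _ 1293 1401 (by decide +kernel)

theorem cFi23a_ok33 : ∀ x, 3558 ≤ x → x < 3666 → cFi23a.rowOK x = true :=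
  VCert.of_range' _ 3558 3666 (by decide +kernel)

theorem cFi23a_ok66 : ∀ x, 7116 ≤ x → x < 7224 → cFi23a.rowOK x = true :=
  VCert.of_range' _ 7116 7224 (by decide +kernel)

theorem cFi23a_ok99 : ∀ x, 10674 ≤ x → x < 10782 → cFi23a.rowOK x = true :=
  VCert.of_range' _ 10674 10782 (by decide +kernel)

theorem cFi23a_ok131 : ∀ x, 14125 ≤ x → x < 14233 → cFi23a.rowOK x = true :=
  VCert.of_range' _ 14125 14233 (by decide +kernel)

theorem cFi23a_ok164 : ∀ x, 17683 ≤ x → x < 17791 → cFi23a.rowOK x = true :=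
  VCert.of_range' _ 17683 17791 (by decide +kernel)

theorem cFi23a_ok196 : ∀ x, 21134 ≤ x → x < 21242 → cFi23a.rowOK x = true :=
  VCert.of_range' _ 21134 21242 (by decide +kernel)

theorem cFi23a_ok229 : ∀ x, 24692 ≤ x → x < 24800 → cFi23a.rowOK x = true :=
  VCert.of_range' _ 24692 24800 (by decide +kernel)

theorem cFi23a_ok262 : ∀ x, 28250 ≤ x → x < 28358 → cFi23a.rowOK x = true :=
  VCert.of_range' _ 28250 28358 (by decide +kernel)

theorem cFi23a_ok294 : ∀ x, 31701 ≤ x → x < 31809 → cFi23a.rowOK x = true :=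
  VCert.of_range' _ 31701 31809 (by decide +kernel)

theorem cFi23a_ok327 : ∀ x, 35259 ≤ x → x < 35367 → cFi23a.rowOK x = true :=
  VCert.of_range' _ 35259 35367 (by decide +kernel)

theorem cFi23a_ok360 : ∀ x, 38817 ≤ x → x < 38925 → cFi23a.rowOK x = true :=
  VCert.of_range' _ 38817 38925 (by decide +kernel)

theorem cFi23a_ok392 : ∀ x, 42268 ≤ x → x < 42376 → cFi23a.rowOK x = true :=
  VCert.of_range' _ 42268 42376 (by decide +kernel)

theorem cFi23a_ok425 : ∀ x, 45826 ≤ x → x < 45934 → cFi23a.rowOK x = true :=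
  VCert.of_range' _ 45826 45934 (by decide +kernel)

theorem cFi23a_ok457 : ∀ x, 49277 ≤ x → x < 49385 → cFi23a.rowOK x = true :=
  VCert.of_range' _ 49277 49385 (by decide +kernel)

theorem cFi23a_ok490 : ∀ x, 52835 ≤ x → x < 52943 → cFi23a.rowOK x = true :=
  VCert.of_range' _ 52835 52943 (by decide +kernel)

theorem cFi23a_ok523 : ∀ x, 56393 ≤ x → x < 56501 → cFi23a.rowOK x = true :=
  VCert.of_range' _ 56393 56501 (by decide +kernel)

theorem cFi23a_ok555 : ∀ x, 59844 ≤ x → x < 59952 → cFi23a.rowOK x = true :=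
  VCert.of_range' _ 59844 59952 (by decide +kernel)

theorem cFi23a_ok588 : ∀ x, 63402 ≤ x → x < 63510 → cFi23a.rowOK x = true :=
  VCert.of_range' _ 63402 63510 (by decide +kernel)

theorem cFi23a_finr22 : ∀ x, 3766 ≤ x → x < 3937 → cFi23a.finRow x = true :=
  VCert.of_range' _ 3766 3937 (by decide +kernel)

theorem cFi23a_finr55 : ∀ x, 9415 ≤ x → x < 9586 → cFi23a.finRow x = true :=
  VCert.of_range' _ 9415 9586 (by decide +kernel)

theorem cFi23a_finr89 : ∀ x, 15236 ≤ x → x < 15407 → cFi23a.finRow x = true :=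
  VCert.of_range' _ 15236 15407 (by decide +kernel)

theorem cFi23a_finr122 : ∀ x, 20885 ≤ x → x < 21056 → cFi23a.finRow x = true :=
  VCert.of_range' _ 20885 21056 (by decide +kernel)

theorem cFi23a_finr156 : ∀ x, 26706 ≤ x → x < 26877 → cFi23a.finRow x = true :=
  VCert.of_range' _ 26706 26877 (by decide +kernel)

theorem cFi23a_act5 : ∀ x, 224 ≤ x → x < 269 → cFi23a.actRow x = true :=
  VCert.of_range' _ 224 269 (by decide +kernel)

theorem cFi23a_act27 : ∀ x, 1214 ≤ x → x < 1259 → cFi23a.actRow x = true :=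
  VCert.of_range' _ 1214 1259 (by decide +kernel)

theorem cFi23a_act54 : ∀ x, 2429 ≤ x → x < 2474 → cFi23a.actRow x = true :=
  VCert.of_range' _ 2429 2474 (by decide +kernel)

theorem cFi23a_act82 : ∀ x, 3688 ≤ x → x < 3733 → cFi23a.actRow x = true :=
  VCert.of_range' _ 3688 3733 (by decide +kernel)

theorem cFi23a_act109 : ∀ x, 4903 ≤ x → x < 4948 → cFi23a.actRow x = true :=
  VCert.of_range' _ 4903 4948 (by decide +kernel)

theorem cFi23a_act136 : ∀ x, 6118 ≤ x → x < 6163 → cFi23a.actRow x = true :=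
  VCert.of_range' _ 6118 6163 (by decide +kernel)

theorem cFi23a_act164 : ∀ x, 7377 ≤ x → x < 7422 → cFi23a.actRow x = true :=
  VCert.of_range' _ 7377 7422 (by decide +kernel)

theorem cFi23a_act191 : ∀ x, 8592 ≤ x → x < 8637 → cFi23a.actRow x = true :=
  VCert.of_range' _ 8592 8637 (by decide +kernel)

theorem cFi23a_act218 : ∀ x, 9807 ≤ x → x < 9852 → cFi23a.actRow x = true :=
  VCert.of_range' _ 9807 9852 (by decide +kernel)

theorem cFi23a_act246 : ∀ x, 11066 ≤ x → x < 11111 → cFi23a.actRow x = true :=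
  VCert.of_range' _ 11066 11111 (by decide +kernel)

theorem cFi23a_act273 : ∀ x, 12281 ≤ x → x < 12326 → cFi23a.actRow x = true :=
  VCert.of_range' _ 12281 12326 (by decide +kernel)

theorem cFi23a_act300 : ∀ x, 13496 ≤ x → x < 13541 → cFi23a.actRow x = true :=
  VCert.of_range' _ 13496 13541 (by decide +kernel)

theorem cFi23a_act328 : ∀ x, 14755 ≤ x → x < 14800 → cFi23a.actRow x = true :=
  VCert.of_range' _ 14755 14800 (by decide +kernel)

theorem cFi23a_act355 : ∀ x, 15970 ≤ x → x < 16015 → cFi23a.actRow x = true :=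
  VCert.of_range' _ 15970 16015 (by decide +kernel)

theorem cFi23a_act382 : ∀ x, 17185 ≤ x → x < 17230 → cFi23a.actRow x = true :=
  VCert.of_range' _ 17185 17230 (by decide +kernel)

theorem cFi23a_act410 : ∀ x, 18444 ≤ x → x < 18489 → cFi23a.actRow x = true :=
  VCert.of_range' _ 18444 18489 (by decide +kernel)

theorem cFi23a_act437 : ∀ x, 19659 ≤ x → x < 19704 → cFi23a.actRow x = true :=
  VCert.of_range' _ 19659 19704 (by decide +kernel)

theorem cFi23a_act464 : ∀ x, 20874 ≤ x → x < 20919 → cFi23a.actRow x = true :=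
  VCert.of_range' _ 20874 20919 (by decide +kernel)

theorem cFi23a_act492 : ∀ x, 22133 ≤ x → x < 22178 → cFi23a.actRow x = true :=
  VCert.of_range' _ 22133 22178 (by decide +kernel)

theorem cFi23a_act519 : ∀ x, 23348 ≤ x → x < 23393 → cFi23a.actRow x = true :=
  VCert.of_range' _ 23348 23393 (by decide +kernel)

theorem cFi23a_act546 : ∀ x, 24563 ≤ x → x < 24608 → cFi23a.actRow x = true :=
  VCert.of_range' _ 24563 24608 (by decide +kernel)

theorem cFi23a_act574 : ∀ x, 25822 ≤ x → x < 25867 → cFi23a.actRow x = true :=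
  VCert.of_range' _ 25822 25867 (by decide +kernel)

theorem cFi23a_act601 : ∀ x, 27037 ≤ x → x < 27082 → cFi23a.actRow x = true :=
  VCert.of_range' _ 27037 27082 (by decide +kernel)

theorem cFi23a_act629 : ∀ x, 28296 ≤ x → x < 28341 → cFi23a.actRow x = true :=
  VCert.of_range' _ 28296 28341 (by decide +kernel)

theorem cFi23a_act656 : ∀ x, 29511 ≤ x → x < 29556 → cFi23a.actRow x = true :=
  VCert.of_range' _ 29511 29556 (by decide +kernel)

theorem cFi23a_act683 : ∀ x, 30726 ≤ x → x < 30771 → cFi23a.actRow x = true :=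
  VCert.of_range' _ 30726 30771 (by decide +kernel)

theorem oFi23a_tr1_15 : ∀ x, 29691 ≤ x → x < 31671 → oFi23a.treeRow cFi23a 1 1 x = true :=
  VCert.of_range' _ 29691 31671 (by decide +kernel)

theorem cFi23a_ok11 : ∀ x, 1186 ≤ x → x < 1293 → cFi23a.rowOK x = true :=
  VCert.of_range' _ 1186 1293 (by decide +kernel)

theorem cFi23a_ok150 : ∀ x, 16174 ≤ x → x < 16281 → cFi23a.rowOK x = true :=
  VCert.of_range' _ 16174 16281 (by decide +kernel)

theorem cFi23a_ok307 : ∀ x, 33103 ≤ x → x < 33210 → cFi23a.rowOK x = true :=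
  VCert.of_range' _ 33103 33210 (by decide +kernel)

theorem cFi23a_ok464 : ∀ x, 50032 ≤ x → x < 50139 → cFi23a.rowOK x = true :=
  VCert.of_range' _ 50032 50139 (by decide +kernel)

theorem oFi23a_colr6 : ∀ x, 4750 ≤ x → x < 5542 → oFi23a.colRow cFi23a x = true :=
  VCert.of_range' _ 4750 5542 (by decide +kernel)

theorem oFi23a_colr0 : ∀ x, 0 ≤ x → x < 791 → oFi23a.colRow cFi23a x = true :=
  VCert.of_range' _ 0 791 (by decide +kernel)


end Cfsg.Agent.Lib.Lead.VTC
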