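import Cfsg.Agent.Lib.Lead.VTCFi23a
import Cfsg.Agent.Lib.Lead.VTC3

set_option autoImplicit false
set_option maxRecDepth 100000

namespace Cfsg.Agent.Lib.Lead.VTC

theorem cFi23a_finr102 : ∀ x, 17461 ≤ x → x < 17633 → cFi23a.finRow x = true :=
  VCert.of_range' _ 17461 17633 (by decide +kernel)

theorem cFi23a_ok13 : ∀ x, 1401 ≤ x → x < 1509 → cFi23a.rowOK x = true :=
  VCert.of_range' _ 1401 1509 (by decide +kernel)

theorem cFi23a_ok35 : ∀ x, 3773 ≤ x → x < 3881 → cFi23a.rowOK x = true :=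
  VCert.of_range' _ 3773 3881 (by decide +kernel)

theorem cFi23a_ok67 : ∀ x, 7224 ≤ x → x < 7332 → cFi23a.rowOK x = true :=
  VCert.of_range' _ 7224 7332 (by decide +kernel)

theorem cFi23a_ok100 : ∀ x, 10782 ≤ x → x < 10890 → cFi23a.rowOK x = true :=
  VCert.of_range' _ 10782 10890 (by decide +kernel)

theorem cFi23a_ok132 : ∀ x, 14233 ≤ x → x < 14341 → cFi23a.rowOK x = true :=
  VCert.of_range' _ 14233 14341 (by decide +kernel)

theorem cFi23a_ok165 : ∀ x, 17791 ≤ x → x < 17899 → cFi23a.rowOK x = true :=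
  VCert.of_range' _ 17791 17899 (by decide +kernel)

theorem cFi23a_ok198 : ∀ x, 21349 ≤ x → x < 21457 → cFi23a.rowOK x = true :=
  VCert.of_range' _ 21349 21457 (by decide +kernel)

theorem cFi23a_ok230 : ∀ x, 24800 ≤ x → x < 24908 → cFi23a.rowOK x = true :=
  VCert.of_range' _ 24800 24908 (by decide +kernel)

theorem cFi23a_ok263 : ∀ x, 28358 ≤ x → x < 28466 → cFi23a.rowOK x = true :=
  VCert.of_range' _ 28358 28466 (by decide +kernel)

theorem cFi23a_ok295 : ∀ x, 31809 ≤ x → x < 31917 → cFi23a.rowOK x = true :=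
  VCert.of_range' _ 31809 31917 (by decide +kernel)

theorem cFi23a_ok328 : ∀ x, 35367 ≤ x → x < 35475 → cFi23a.rowOK x = true :=
  VCert.of_range' _ 35367 35475 (by decide +kernel)

theorem cFi23a_ok361 : ∀ x, 38925 ≤ x → x < 39033 → cFi23a.rowOK x = true :=
  VCert.of_range' _ 38925 39033 (by decide +kernel)

theorem cFi23a_ok393 : ∀ x, 42376 ≤ x → x < 42484 → cFi23a.rowOK x = true :=
  VCert.of_range' _ 42376 42484 (by decide +kernel)

theorem cFi23a_ok426 : ∀ x, 45934 ≤ x → x < 46042 → cFi23a.rowOK x = true :=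
  VCert.of_range' _ 45934 46042 (by decide +kernel)

theorem cFi23a_ok459 : ∀ x, 49492 ≤ x → x < 49600 → cFi23a.rowOK x = true :=
  VCert.of_range' _ 49492 49600 (by decide +kernel)

theorem cFi23a_ok491 : ∀ x, 52943 ≤ x → x < 53051 → cFi23a.rowOK x = true :=
  VCert.of_range' _ 52943 53051 (by decide +kernel)

theorem cFi23a_ok524 : ∀ x, 56501 ≤ x → x < 56609 → cFi23a.rowOK x = true :=
  VCert.of_range' _ 56501 56609 (by decide +kernel)

theorem cFi23a_ok556 : ∀ x, 59952 ≤ x → x < 60060 → cFi23a.rowOK x = true :=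
  VCert.of_range' _ 59952 60060 (by decide +kernel)

theorem cFi23a_ok589 : ∀ x, 63510 ≤ x → x < 63618 → cFi23a.rowOK x = true :=
  VCert.of_range' _ 63510 63618 (by decide +kernel)

theorem cFi23a_finr23 : ∀ x, 3937 ≤ x → x < 4108 → cFi23a.finRow x = true :=
  VCert.of_range' _ 3937 4108 (by decide +kernel)

theorem cFi23a_finr57 : ∀ x, 9758 ≤ x → x < 9929 → cFi23a.finRow x = true :=
  VCert.of_range' _ 9758 9929 (by decide +kernel)

theorem cFi23a_finr90 : ∀ x, 15407 ≤ x → x < 15578 → cFi23a.finRow x = true :=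
  VCert.of_range' _ 15407 15578 (by decide +kernel)

theorem cFi23a_finr124 : ∀ x, 21228 ≤ x → x < 21399 → cFi23a.finRow x = true :=
  VCert.of_range' _ 21228 21399 (by decide +kernel)

theorem cFi23a_finr157 : ∀ x, 26877 ≤ x → x < 27048 → cFi23a.finRow x = true :=
  VCert.of_range' _ 26877 27048 (by decide +kernel)

theorem cFi23a_act6 : ∀ x, 269 ≤ x → x < 314 → cFi23a.actRow x = true :=
  VCert.of_range' _ 269 314 (by decide +kernel)

theorem cFi23a_act28 : ∀ x, 1259 ≤ x → x < 1304 → cFi23a.actRow x = true :=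
  VCert.of_range' _ 1259 1304 (by decide +kernel)

theorem cFi23a_act55 : ∀ x, 2474 ≤ x → x < 2519 → cFi23a.actRow x = true :=
  VCert.of_range' _ 2474 2519 (by decide +kernel)

theorem cFi23a_act83 : ∀ x, 3733 ≤ x → x < 3778 → cFi23a.actRow x = true :=
  VCert.of_range' _ 3733 3778 (by decide +kernel)

theorem cFi23a_act110 : ∀ x, 4948 ≤ x → x < 4993 → cFi23a.actRow x = true :=
  VCert.of_range' _ 4948 4993 (by decide +kernel)

theorem cFi23a_act137 : ∀ x, 6163 ≤ x → x < 6208 → cFi23a.actRow x = true :=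
  VCert.of_range' _ 6163 6208 (by decide +kernel)

theorem cFi23a_act165 : ∀ x, 7422 ≤ x → x < 7467 → cFi23a.actRow x = true :=
  VCert.of_range' _ 7422 7467 (by decide +kernel)

theorem cFi23a_act192 : ∀ x, 8637 ≤ x → x < 8682 → cFi23a.actRow x = true :=
  VCert.of_range' _ 8637 8682 (by decide +kernel)

theorem cFi23a_act219 : ∀ x, 9852 ≤ x → x < 9897 → cFi23a.actRow x = true :=
  VCert.of_range' _ 9852 9897 (by decide +kernel)

theorem cFi23a_act247 : ∀ x, 11111 ≤ x → x < 11156 → cFi23a.actRow x = true :=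
  VCert.of_range' _ 11111 11156 (by decide +kernel)

theorem cFi23a_act274 : ∀ x, 12326 ≤ x → x < 12371 → cFi23a.actRow x = true :=
  VCert.of_range' _ 12326 12371 (by decide +kernel)

theorem cFi23a_act301 : ∀ x, 13541 ≤ x → x < 13586 → cFi23a.actRow x = true :=
  VCert.of_range' _ 13541 13586 (by decide +kernel)

theorem cFi23a_act329 : ∀ x, 14800 ≤ x → x < 14845 → cFi23a.actRow x = true :=
  VCert.of_range' _ 14800 14845 (by decide +kernel)

theorem cFi23a_act356 : ∀ x, 16015 ≤ x → x < 16060 → cFi23a.actRow x = true :=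
  VCert.of_range' _ 16015 16060 (by decide +kernel)

theorem cFi23a_act383 : ∀ x, 17230 ≤ x → x < 17275 → cFi23a.actRow x = true :=
  VCert.of_range' _ 17230 17275 (by decide +kernel)

theorem cFi23a_act411 : ∀ x, 18489 ≤ x → x < 18534 → cFi23a.actRow x = true :=
  VCert.of_range' _ 18489 18534 (by decide +kernel)

theorem cFi23a_act438 : ∀ x, 19704 ≤ x → x < 19749 → cFi23a.actRow x = true :=
  VCert.of_range' _ 19704 19749 (by decide +kernel)

theorem cFi23a_act465 : ∀ x, 20919 ≤ x → x < 20964 → cFi23a.actRow x = true :=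
  VCert.of_range' _ 20919 20964 (by decide +kernel)

theorem cFi23a_act493 : ∀ x, 22178 ≤ x → x < 22223 → cFi23a.actRow x = true :=
  VCert.of_range' _ 22178 22223 (by decide +kernel)

theorem cFi23a_act520 : ∀ x, 23393 ≤ x → x < 23438 → cFi23a.actRow x = true :=
  VCert.of_range' _ 23393 23438 (by decide +kernel)

theorem cFi23a_act548 : ∀ x, 24652 ≤ x → x < 24697 → cFi23a.actRow x = true :=
  VCert.of_range' _ 24652 24697 (by decide +kernel)

theorem cFi23a_act575 : ∀ x, 25867 ≤ x → x < 25912 → cFi23a.actRow x = true :=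
  VCert.of_range' _ 25867 25912 (by decide +kernel)

theorem cFi23a_act602 : ∀ x, 27082 ≤ x → x < 27127 → cFi23a.actRow x = true :=
  VCert.of_range' _ 27082 27127 (by decide +kernel)

theorem cFi23a_act630 : ∀ x, 28341 ≤ x → x < 28386 → cFi23a.actRow x = true :=
  VCert.of_range' _ 28341 28386 (by decide +kernel)

theorem cFi23a_act657 : ∀ x, 29556 ≤ x → x < 29601 → cFi23a.actRow x = true :=
  VCert.of_range' _ 29556 29601 (by decide +kernel)

theorem cFi23a_act684 : ∀ x, 30771 ≤ x → x < 30816 → cFi23a.actRow x = true :=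
  VCert.of_range' _ 30771 30816 (by decide +kernel)

theorem oFi23a_tr2_2 : ∀ x, 3958 ≤ x → x < 5938 → oFi23a.treeRow cFi23a 52 2 x = true :=
  VCert.of_range' _ 3958 5938 (by decide +kernel)

theorem cFi23a_ok17 : ∀ x, 1833 ≤ x → x < 1940 → cFi23a.rowOK x = true :=
  VCert.of_range' _ 1833 1940 (by decide +kernel)

theorem cFi23a_ok156 : ∀ x, 16821 ≤ x → x < 16928 → cFi23a.rowOK x = true :=
  VCert.of_range' _ 16821 16928 (by decide +kernel)

theorem cFi23a_ok313 : ∀ x, 33750 ≤ x → x < 33857 → cFi23a.rowOK x = true :=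
  VCert.of_range' _ 33750 33857 (by decide +kernel)

theorem cFi23a_ok470 : ∀ x, 50679 ≤ x → x < 50786 → cFi23a.rowOK x = true :=
  VCert.of_range' _ 50679 50786 (by decide +kernel)

theorem oFi23a_colr7 : ∀ x, 5542 ≤ x → x < 6334 → oFi23a.colRow cFi23a x = true :=
  VCert.of_range' _ 5542 6334 (by decide +kernel)

theorem oFi23a_colr4 : ∀ x, 3167 ≤ x → x < 3958 → oFi23a.colRow cFi23a x = true :=
  VCert.of_range' _ 3167 3958 (by decide +kernel)


end Cfsg.Agent.Lib.Lead.VTC
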