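import Cfsg.Agent.Lib.Lead.VTCFi23a
import Cfsg.Agent.Lib.Lead.VTC3

set_option autoImplicit false
set_option maxRecDepth 100000

namespace Cfsg.Agent.Lib.Lead.VTC

theorem cFi23a_finr15 : ∀ x, 2567 ≤ x → x < 2739 → cFi23a.finRow x = true :=
  VCert.of_range' _ 2567 2739 (by decide +kernel)

theorem cFi23a_finr154 : ∀ x, 26363 ≤ x → x < 26535 → cFi23a.finRow x = true :=
  VCert.of_range' _ 26363 26535 (by decide +kernel)

theorem cFi23a_ok47 : ∀ x, 5067 ≤ x → x < 5175 → cFi23a.rowOK x = true :=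
  VCert.of_range' _ 5067 5175 (by decide +kernel)

theorem cFi23a_ok79 : ∀ x, 8518 ≤ x → x < 8626 → cFi23a.rowOK x = true :=
  VCert.of_range' _ 8518 8626 (by decide +kernel)

theorem cFi23a_ok112 : ∀ x, 12076 ≤ x → x < 12184 → cFi23a.rowOK x = true :=
  VCert.of_range' _ 12076 12184 (by decide +kernel)

theorem cFi23a_ok144 : ∀ x, 15527 ≤ x → x < 15635 → cFi23a.rowOK x = true :=
  VCert.of_range' _ 15527 15635 (by decide +kernel)

theorem cFi23a_ok177 : ∀ x, 19085 ≤ x → x < 19193 → cFi23a.rowOK x = true :=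
  VCert.of_range' _ 19085 19193 (by decide +kernel)

theorem cFi23a_ok210 : ∀ x, 22643 ≤ x → x < 22751 → cFi23a.rowOK x = true :=
  VCert.of_range' _ 22643 22751 (by decide +kernel)

theorem cFi23a_ok242 : ∀ x, 26094 ≤ x → x < 26202 → cFi23a.rowOK x = true :=
  VCert.of_range' _ 26094 26202 (by decide +kernel)

theorem cFi23a_ok275 : ∀ x, 29652 ≤ x → x < 29760 → cFi23a.rowOK x = true :=
  VCert.of_range' _ 29652 29760 (by decide +kernel)

theorem cFi23a_ok308 : ∀ x, 33210 ≤ x → x < 33318 → cFi23a.rowOK x = true :=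
  VCert.of_range' _ 33210 33318 (by decide +kernel)

theorem cFi23a_ok340 : ∀ x, 36661 ≤ x → x < 36769 → cFi23a.rowOK x = true :=
  VCert.of_range' _ 36661 36769 (by decide +kernel)

theorem cFi23a_ok373 : ∀ x, 40219 ≤ x → x < 40327 → cFi23a.rowOK x = true :=
  VCert.of_range' _ 40219 40327 (by decide +kernel)

theorem cFi23a_ok405 : ∀ x, 43670 ≤ x → x < 43778 → cFi23a.rowOK x = true :=
  VCert.of_range' _ 43670 43778 (by decide +kernel)

theorem cFi23a_ok438 : ∀ x, 47228 ≤ x → x < 47336 → cFi23a.rowOK x = true :=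
  VCert.of_range' _ 47228 47336 (by decide +kernel)

theorem cFi23a_ok471 : ∀ x, 50786 ≤ x → x < 50894 → cFi23a.rowOK x = true :=
  VCert.of_range' _ 50786 50894 (by decide +kernel)

theorem cFi23a_ok503 : ∀ x, 54237 ≤ x → x < 54345 → cFi23a.rowOK x = true :=
  VCert.of_range' _ 54237 54345 (by decide +kernel)

theorem cFi23a_ok536 : ∀ x, 57795 ≤ x → x < 57903 → cFi23a.rowOK x = true :=
  VCert.of_range' _ 57795 57903 (by decide +kernel)

theorem cFi23a_ok569 : ∀ x, 61353 ≤ x → x < 61461 → cFi23a.rowOK x = true :=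
  VCert.of_range' _ 61353 61461 (by decide +kernel)

theorem cFi23a_finr2 : ∀ x, 342 ≤ x → x < 513 → cFi23a.finRow x = true :=
  VCert.of_range' _ 342 513 (by decide +kernel)

theorem cFi23a_finr36 : ∀ x, 6163 ≤ x → x < 6334 → cFi23a.finRow x = true :=
  VCert.of_range' _ 6163 6334 (by decide +kernel)

theorem cFi23a_finr69 : ∀ x, 11812 ≤ x → x < 11983 → cFi23a.finRow x = true :=
  VCert.of_range' _ 11812 11983 (by decide +kernel)

theorem cFi23a_finr103 : ∀ x, 17633 ≤ x → x < 17804 → cFi23a.finRow x = true :=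
  VCert.of_range' _ 17633 17804 (by decide +kernel)

theorem cFi23a_finr136 : ∀ x, 23282 ≤ x → x < 23453 → cFi23a.finRow x = true :=
  VCert.of_range' _ 23282 23453 (by decide +kernel)

theorem cFi23a_finr170 : ∀ x, 29103 ≤ x → x < 29274 → cFi23a.finRow x = true :=
  VCert.of_range' _ 29103 29274 (by decide +kernel)

theorem cFi23a_act16 : ∀ x, 719 ≤ x → x < 764 → cFi23a.actRow x = true :=
  VCert.of_range' _ 719 764 (by decide +kernel)

theorem cFi23a_act43 : ∀ x, 1934 ≤ x → x < 1979 → cFi23a.actRow x = true :=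
  VCert.of_range' _ 1934 1979 (by decide +kernel)

theorem cFi23a_act70 : ∀ x, 3149 ≤ x → x < 3194 → cFi23a.actRow x = true :=
  VCert.of_range' _ 3149 3194 (by decide +kernel)

theorem cFi23a_act98 : ∀ x, 4408 ≤ x → x < 4453 → cFi23a.actRow x = true :=
  VCert.of_range' _ 4408 4453 (by decide +kernel)

theorem cFi23a_act125 : ∀ x, 5623 ≤ x → x < 5668 → cFi23a.actRow x = true :=
  VCert.of_range' _ 5623 5668 (by decide +kernel)

theorem cFi23a_act152 : ∀ x, 6838 ≤ x → x < 6883 → cFi23a.actRow x = true :=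
  VCert.of_range' _ 6838 6883 (by decide +kernel)

theorem cFi23a_act180 : ∀ x, 8097 ≤ x → x < 8142 → cFi23a.actRow x = true :=
  VCert.of_range' _ 8097 8142 (by decide +kernel)

theorem cFi23a_act207 : ∀ x, 9312 ≤ x → x < 9357 → cFi23a.actRow x = true :=
  VCert.of_range' _ 9312 9357 (by decide +kernel)

theorem cFi23a_act235 : ∀ x, 10571 ≤ x → x < 10616 → cFi23a.actRow x = true :=
  VCert.of_range' _ 10571 10616 (by decide +kernel)

theorem cFi23a_act262 : ∀ x, 11786 ≤ x → x < 11831 → cFi23a.actRow x = true :=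
  VCert.of_range' _ 11786 11831 (by decide +kernel)

theorem cFi23a_act289 : ∀ x, 13001 ≤ x → x < 13046 → cFi23a.actRow x = true :=
  VCert.of_range' _ 13001 13046 (by decide +kernel)

theorem cFi23a_act317 : ∀ x, 14260 ≤ x → x < 14305 → cFi23a.actRow x = true :=
  VCert.of_range' _ 14260 14305 (by decide +kernel)

theorem cFi23a_act344 : ∀ x, 15475 ≤ x → x < 15520 → cFi23a.actRow x = true :=
  VCert.of_range' _ 15475 15520 (by decide +kernel)

theorem cFi23a_act371 : ∀ x, 16690 ≤ x → x < 16735 → cFi23a.actRow x = true :=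
  VCert.of_range' _ 16690 16735 (by decide +kernel)

theorem cFi23a_act399 : ∀ x, 17949 ≤ x → x < 17994 → cFi23a.actRow x = true :=
  VCert.of_range' _ 17949 17994 (by decide +kernel)

theorem cFi23a_act426 : ∀ x, 19164 ≤ x → x < 19209 → cFi23a.actRow x = true :=
  VCert.of_range' _ 19164 19209 (by decide +kernel)

theorem cFi23a_act453 : ∀ x, 20379 ≤ x → x < 20424 → cFi23a.actRow x = true :=
  VCert.of_range' _ 20379 20424 (by decide +kernel)

theorem cFi23a_act481 : ∀ x, 21638 ≤ x → x < 21683 → cFi23a.actRow x = true :=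
  VCert.of_range' _ 21638 21683 (by decide +kernel)

theorem cFi23a_act508 : ∀ x, 22853 ≤ x → x < 22898 → cFi23a.actRow x = true :=
  VCert.of_range' _ 22853 22898 (by decide +kernel)

theorem cFi23a_act535 : ∀ x, 24068 ≤ x → x < 24113 → cFi23a.actRow x = true :=
  VCert.of_range' _ 24068 24113 (by decide +kernel)

theorem cFi23a_act563 : ∀ x, 25327 ≤ x → x < 25372 → cFi23a.actRow x = true :=
  VCert.of_range' _ 25327 25372 (by decide +kernel)

theorem cFi23a_act590 : ∀ x, 26542 ≤ x → x < 26587 → cFi23a.actRow x = true :=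
  VCert.of_range' _ 26542 26587 (by decide +kernel)

theorem cFi23a_act617 : ∀ x, 27757 ≤ x → x < 27802 → cFi23a.actRow x = true :=
  VCert.of_range' _ 27757 27802 (by decide +kernel)

theorem cFi23a_act645 : ∀ x, 29016 ≤ x → x < 29061 → cFi23a.actRow x = true :=
  VCert.of_range' _ 29016 29061 (by decide +kernel)

theorem cFi23a_act672 : ∀ x, 30231 ≤ x → x < 30276 → cFi23a.actRow x = true :=
  VCert.of_range' _ 30231 30276 (by decide +kernel)

theorem cFi23a_act699 : ∀ x, 31446 ≤ x → x < 31491 → cFi23a.actRow x = true :=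
  VCert.of_range' _ 31446 31491 (by decide +kernel)

theorem oFi23a_tr1_14 : ∀ x, 27712 ≤ x → x < 29691 → oFi23a.treeRow cFi23a 1 1 x = true :=
  VCert.of_range' _ 27712 29691 (by decide +kernel)

theorem cFi23a_ok98 : ∀ x, 10567 ≤ x → x < 10674 → cFi23a.rowOK x = true :=
  VCert.of_range' _ 10567 10674 (by decide +kernel)

theorem cFi23a_ok238 : ∀ x, 25663 ≤ x → x < 25770 → cFi23a.rowOK x = true :=
  VCert.of_range' _ 25663 25770 (by decide +kernel)

theorem cFi23a_ok394 : ∀ x, 42484 ≤ x → x < 42591 → cFi23a.rowOK x = true :=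
  VCert.of_range' _ 42484 42591 (by decide +kernel)

theorem cFi23a_ok551 : ∀ x, 59413 ≤ x → x < 59520 → cFi23a.rowOK x = true :=
  VCert.of_range' _ 59413 59520 (by decide +kernel)

theorem oFi23a_colr25 : ∀ x, 19794 ≤ x → x < 20586 → oFi23a.colRow cFi23a x = true :=
  VCert.of_range' _ 19794 20586 (by decide +kernel)

theorem cFi23a_act469 : ∀ x, 21099 ≤ x → x < 21143 → cFi23a.actRow x = true :=
  VCert.of_range' _ 21099 21143 (by decide +kernel)

theorem cFi23a_finn16 : ∀ x, 51584 ≤ x → x < 54808 → cFi23a.finNode x = true :=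
  VCert.of_range' _ 51584 54808 (by decide +kernel)


end Cfsg.Agent.Lib.Lead.VTC
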