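import Cfsg.Agent.Lib.Lead.VTCFi23a
import Cfsg.Agent.Lib.Lead.VTC3

set_option autoImplicit false
set_option maxRecDepth 100000

namespace Cfsg.Agent.Lib.Lead.VTC

theorem cFi23a_finr107 : ∀ x, 18317 ≤ x → x < 18489 → cFi23a.finRow x = true :=
  VCert.of_range' _ 18317 18489 (by decide +kernel)

theorem cFi23a_ok14 : ∀ x, 1509 ≤ x → x < 1617 → cFi23a.rowOK x = true :=
  VCert.of_range' _ 1509 1617 (by decide +kernel)

theorem cFi23a_ok36 : ∀ x, 3881 ≤ x → x < 3989 → cFi23a.rowOK x = true :=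
  VCert.of_range' _ 3881 3989 (by decide +kernel)

theorem cFi23a_ok68 : ∀ x, 7332 ≤ x → x < 7440 → cFi23a.rowOK x = true :=
  VCert.of_range' _ 7332 7440 (by decide +kernel)

theorem cFi23a_ok101 : ∀ x, 10890 ≤ x → x < 10998 → cFi23a.rowOK x = true :=
  VCert.of_range' _ 10890 10998 (by decide +kernel)

theorem cFi23a_ok134 : ∀ x, 14448 ≤ x → x < 14556 → cFi23a.rowOK x = true :=
  VCert.of_range' _ 14448 14556 (by decide +kernel)

theorem cFi23a_ok166 : ∀ x, 17899 ≤ x → x < 18007 → cFi23a.rowOK x = true :=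
  VCert.of_range' _ 17899 18007 (by decide +kernel)

theorem cFi23a_ok199 : ∀ x, 21457 ≤ x → x < 21565 → cFi23a.rowOK x = true :=
  VCert.of_range' _ 21457 21565 (by decide +kernel)

theorem cFi23a_ok231 : ∀ x, 24908 ≤ x → x < 25016 → cFi23a.rowOK x = true :=
  VCert.of_range' _ 24908 25016 (by decide +kernel)

theorem cFi23a_ok264 : ∀ x, 28466 ≤ x → x < 28574 → cFi23a.rowOK x = true :=
  VCert.of_range' _ 28466 28574 (by decide +kernel)

theorem cFi23a_ok297 : ∀ x, 32024 ≤ x → x < 32132 → cFi23a.rowOK x = true :=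
  VCert.of_range' _ 32024 32132 (by decide +kernel)

theorem cFi23a_ok329 : ∀ x, 35475 ≤ x → x < 35583 → cFi23a.rowOK x = true :=
  VCert.of_range' _ 35475 35583 (by decide +kernel)

theorem cFi23a_ok362 : ∀ x, 39033 ≤ x → x < 39141 → cFi23a.rowOK x = true :=
  VCert.of_range' _ 39033 39141 (by decide +kernel)

theorem cFi23a_ok395 : ∀ x, 42591 ≤ x → x < 42699 → cFi23a.rowOK x = true :=
  VCert.of_range' _ 42591 42699 (by decide +kernel)

theorem cFi23a_ok427 : ∀ x, 46042 ≤ x → x < 46150 → cFi23a.rowOK x = true :=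
  VCert.of_range' _ 46042 46150 (by decide +kernel)

theorem cFi23a_ok460 : ∀ x, 49600 ≤ x → x < 49708 → cFi23a.rowOK x = true :=
  VCert.of_range' _ 49600 49708 (by decide +kernel)

theorem cFi23a_ok492 : ∀ x, 53051 ≤ x → x < 53159 → cFi23a.rowOK x = true :=
  VCert.of_range' _ 53051 53159 (by decide +kernel)

theorem cFi23a_ok525 : ∀ x, 56609 ≤ x → x < 56717 → cFi23a.rowOK x = true :=
  VCert.of_range' _ 56609 56717 (by decide +kernel)

theorem cFi23a_ok558 : ∀ x, 60167 ≤ x → x < 60275 → cFi23a.rowOK x = true :=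
  VCert.of_range' _ 60167 60275 (by decide +kernel)

theorem cFi23a_ok590 : ∀ x, 63618 ≤ x → x < 63726 → cFi23a.rowOK x = true :=
  VCert.of_range' _ 63618 63726 (by decide +kernel)

theorem cFi23a_finr24 : ∀ x, 4108 ≤ x → x < 4279 → cFi23a.finRow x = true :=
  VCert.of_range' _ 4108 4279 (by decide +kernel)

theorem cFi23a_finr58 : ∀ x, 9929 ≤ x → x < 10100 → cFi23a.finRow x = true :=
  VCert.of_range' _ 9929 10100 (by decide +kernel)

theorem cFi23a_finr91 : ∀ x, 15578 ≤ x → x < 15749 → cFi23a.finRow x = true :=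
  VCert.of_range' _ 15578 15749 (by decide +kernel)

theorem cFi23a_finr125 : ∀ x, 21399 ≤ x → x < 21570 → cFi23a.finRow x = true :=
  VCert.of_range' _ 21399 21570 (by decide +kernel)

theorem cFi23a_finr158 : ∀ x, 27048 ≤ x → x < 27219 → cFi23a.finRow x = true :=
  VCert.of_range' _ 27048 27219 (by decide +kernel)

theorem cFi23a_act7 : ∀ x, 314 ≤ x → x < 359 → cFi23a.actRow x = true :=
  VCert.of_range' _ 314 359 (by decide +kernel)

theorem cFi23a_act29 : ∀ x, 1304 ≤ x → x < 1349 → cFi23a.actRow x = true :=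
  VCert.of_range' _ 1304 1349 (by decide +kernel)

theorem cFi23a_act56 : ∀ x, 2519 ≤ x → x < 2564 → cFi23a.actRow x = true :=
  VCert.of_range' _ 2519 2564 (by decide +kernel)

theorem cFi23a_act84 : ∀ x, 3778 ≤ x → x < 3823 → cFi23a.actRow x = true :=
  VCert.of_range' _ 3778 3823 (by decide +kernel)

theorem cFi23a_act111 : ∀ x, 4993 ≤ x → x < 5038 → cFi23a.actRow x = true :=
  VCert.of_range' _ 4993 5038 (by decide +kernel)

theorem cFi23a_act138 : ∀ x, 6208 ≤ x → x < 6253 → cFi23a.actRow x = true :=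
  VCert.of_range' _ 6208 6253 (by decide +kernel)

theorem cFi23a_act166 : ∀ x, 7467 ≤ x → x < 7512 → cFi23a.actRow x = true :=
  VCert.of_range' _ 7467 7512 (by decide +kernel)

theorem cFi23a_act193 : ∀ x, 8682 ≤ x → x < 8727 → cFi23a.actRow x = true :=
  VCert.of_range' _ 8682 8727 (by decide +kernel)

theorem cFi23a_act220 : ∀ x, 9897 ≤ x → x < 9942 → cFi23a.actRow x = true :=
  VCert.of_range' _ 9897 9942 (by decide +kernel)

theorem cFi23a_act248 : ∀ x, 11156 ≤ x → x < 11201 → cFi23a.actRow x = true :=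
  VCert.of_range' _ 11156 11201 (by decide +kernel)

theorem cFi23a_act275 : ∀ x, 12371 ≤ x → x < 12416 → cFi23a.actRow x = true :=
  VCert.of_range' _ 12371 12416 (by decide +kernel)

theorem cFi23a_act302 : ∀ x, 13586 ≤ x → x < 13631 → cFi23a.actRow x = true :=
  VCert.of_range' _ 13586 13631 (by decide +kernel)

theorem cFi23a_act330 : ∀ x, 14845 ≤ x → x < 14890 → cFi23a.actRow x = true :=
  VCert.of_range' _ 14845 14890 (by decide +kernel)

theorem cFi23a_act357 : ∀ x, 16060 ≤ x → x < 16105 → cFi23a.actRow x = true :=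
  VCert.of_range' _ 16060 16105 (by decide +kernel)

theorem cFi23a_act384 : ∀ x, 17275 ≤ x → x < 17320 → cFi23a.actRow x = true :=
  VCert.of_range' _ 17275 17320 (by decide +kernel)

theorem cFi23a_act412 : ∀ x, 18534 ≤ x → x < 18579 → cFi23a.actRow x = true :=
  VCert.of_range' _ 18534 18579 (by decide +kernel)

theorem cFi23a_act439 : ∀ x, 19749 ≤ x → x < 19794 → cFi23a.actRow x = true :=
  VCert.of_range' _ 19749 19794 (by decide +kernel)

theorem cFi23a_act466 : ∀ x, 20964 ≤ x → x < 21009 → cFi23a.actRow x = true :=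
  VCert.of_range' _ 20964 21009 (by decide +kernel)

theorem cFi23a_act494 : ∀ x, 22223 ≤ x → x < 22268 → cFi23a.actRow x = true :=
  VCert.of_range' _ 22223 22268 (by decide +kernel)

theorem cFi23a_act521 : ∀ x, 23438 ≤ x → x < 23483 → cFi23a.actRow x = true :=
  VCert.of_range' _ 23438 23483 (by decide +kernel)

theorem cFi23a_act549 : ∀ x, 24697 ≤ x → x < 24742 → cFi23a.actRow x = true :=
  VCert.of_range' _ 24697 24742 (by decide +kernel)

theorem cFi23a_act576 : ∀ x, 25912 ≤ x → x < 25957 → cFi23a.actRow x = true :=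
  VCert.of_range' _ 25912 25957 (by decide +kernel)

theorem cFi23a_act603 : ∀ x, 27127 ≤ x → x < 27172 → cFi23a.actRow x = true :=
  VCert.of_range' _ 27127 27172 (by decide +kernel)

theorem cFi23a_act631 : ∀ x, 28386 ≤ x → x < 28431 → cFi23a.actRow x = true :=
  VCert.of_range' _ 28386 28431 (by decide +kernel)

theorem cFi23a_act658 : ∀ x, 29601 ≤ x → x < 29646 → cFi23a.actRow x = true :=
  VCert.of_range' _ 29601 29646 (by decide +kernel)

theorem cFi23a_act685 : ∀ x, 30816 ≤ x → x < 30861 → cFi23a.actRow x = true :=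
  VCert.of_range' _ 30816 30861 (by decide +kernel)

theorem oFi23a_tr2_4 : ∀ x, 7917 ≤ x → x < 9897 → oFi23a.treeRow cFi23a 52 2 x = true :=
  VCert.of_range' _ 7917 9897 (by decide +kernel)

theorem cFi23a_ok23 : ∀ x, 2480 ≤ x → x < 2587 → cFi23a.rowOK x = true :=
  VCert.of_range' _ 2480 2587 (by decide +kernel)

theorem cFi23a_ok162 : ∀ x, 17468 ≤ x → x < 17575 → cFi23a.rowOK x = true :=
  VCert.of_range' _ 17468 17575 (by decide +kernel)

theorem cFi23a_ok319 : ∀ x, 34397 ≤ x → x < 34504 → cFi23a.rowOK x = true :=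
  VCert.of_range' _ 34397 34504 (by decide +kernel)

theorem cFi23a_ok476 : ∀ x, 51326 ≤ x → x < 51433 → cFi23a.rowOK x = true :=
  VCert.of_range' _ 51326 51433 (by decide +kernel)

theorem oFi23a_colr9 : ∀ x, 7125 ≤ x → x < 7917 → oFi23a.colRow cFi23a x = true :=
  VCert.of_range' _ 7125 7917 (by decide +kernel)

theorem oFi23a_colr8 : ∀ x, 6334 ≤ x → x < 7125 → oFi23a.colRow cFi23a x = true :=
  VCert.of_range' _ 6334 7125 (by decide +kernel)


end Cfsg.Agent.Lib.Lead.VTC
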