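import Cfsg.Agent.Lib.Lead.VTCFi23a
import Cfsg.Agent.Lib.Lead.VTC3

set_option autoImplicit false
set_option maxRecDepth 100000

namespace Cfsg.Agent.Lib.Lead.VTC

theorem cFi23a_finr113 : ∀ x, 19344 ≤ x → x < 19516 → cFi23a.finRow x = true :=
  VCert.of_range' _ 19344 19516 (by decide +kernel)

theorem cFi23a_ok15 : ∀ x, 1617 ≤ x → x < 1725 → cFi23a.rowOK x = true :=
  VCert.of_range' _ 1617 1725 (by decide +kernel)

theorem cFi23a_ok37 : ∀ x, 3989 ≤ x → x < 4097 → cFi23a.rowOK x = true :=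
  VCert.of_range' _ 3989 4097 (by decide +kernel)

theorem cFi23a_ok70 : ∀ x, 7547 ≤ x → x < 7655 → cFi23a.rowOK x = true :=
  VCert.of_range' _ 7547 7655 (by decide +kernel)

theorem cFi23a_ok102 : ∀ x, 10998 ≤ x → x < 11106 → cFi23a.rowOK x = true :=
  VCert.of_range' _ 10998 11106 (by decide +kernel)

theorem cFi23a_ok135 : ∀ x, 14556 ≤ x → x < 14664 → cFi23a.rowOK x = true :=
  VCert.of_range' _ 14556 14664 (by decide +kernel)

theorem cFi23a_ok167 : ∀ x, 18007 ≤ x → x < 18115 → cFi23a.rowOK x = true :=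
  VCert.of_range' _ 18007 18115 (by decide +kernel)

theorem cFi23a_ok200 : ∀ x, 21565 ≤ x → x < 21673 → cFi23a.rowOK x = true :=
  VCert.of_range' _ 21565 21673 (by decide +kernel)

theorem cFi23a_ok233 : ∀ x, 25123 ≤ x → x < 25231 → cFi23a.rowOK x = true :=
  VCert.of_range' _ 25123 25231 (by decide +kernel)

theorem cFi23a_ok265 : ∀ x, 28574 ≤ x → x < 28682 → cFi23a.rowOK x = true :=
  VCert.of_range' _ 28574 28682 (by decide +kernel)

theorem cFi23a_ok298 : ∀ x, 32132 ≤ x → x < 32240 → cFi23a.rowOK x = true :=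
  VCert.of_range' _ 32132 32240 (by decide +kernel)

theorem cFi23a_ok331 : ∀ x, 35690 ≤ x → x < 35798 → cFi23a.rowOK x = true :=
  VCert.of_range' _ 35690 35798 (by decide +kernel)

theorem cFi23a_ok363 : ∀ x, 39141 ≤ x → x < 39249 → cFi23a.rowOK x = true :=
  VCert.of_range' _ 39141 39249 (by decide +kernel)

theorem cFi23a_ok396 : ∀ x, 42699 ≤ x → x < 42807 → cFi23a.rowOK x = true :=
  VCert.of_range' _ 42699 42807 (by decide +kernel)

theorem cFi23a_ok428 : ∀ x, 46150 ≤ x → x < 46258 → cFi23a.rowOK x = true :=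
  VCert.of_range' _ 46150 46258 (by decide +kernel)

theorem cFi23a_ok461 : ∀ x, 49708 ≤ x → x < 49816 → cFi23a.rowOK x = true :=
  VCert.of_range' _ 49708 49816 (by decide +kernel)

theorem cFi23a_ok494 : ∀ x, 53266 ≤ x → x < 53374 → cFi23a.rowOK x = true :=
  VCert.of_range' _ 53266 53374 (by decide +kernel)

theorem cFi23a_ok526 : ∀ x, 56717 ≤ x → x < 56825 → cFi23a.rowOK x = true :=
  VCert.of_range' _ 56717 56825 (by decide +kernel)

theorem cFi23a_ok559 : ∀ x, 60275 ≤ x → x < 60383 → cFi23a.rowOK x = true :=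
  VCert.of_range' _ 60275 60383 (by decide +kernel)

theorem cFi23a_ok591 : ∀ x, 63726 ≤ x → x < 63834 → cFi23a.rowOK x = true :=
  VCert.of_range' _ 63726 63834 (by decide +kernel)

theorem cFi23a_finr26 : ∀ x, 4451 ≤ x → x < 4622 → cFi23a.finRow x = true :=
  VCert.of_range' _ 4451 4622 (by decide +kernel)

theorem cFi23a_finr59 : ∀ x, 10100 ≤ x → x < 10271 → cFi23a.finRow x = true :=
  VCert.of_range' _ 10100 10271 (by decide +kernel)

theorem cFi23a_finr93 : ∀ x, 15921 ≤ x → x < 16092 → cFi23a.finRow x = true :=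
  VCert.of_range' _ 15921 16092 (by decide +kernel)

theorem cFi23a_finr126 : ∀ x, 21570 ≤ x → x < 21741 → cFi23a.finRow x = true :=
  VCert.of_range' _ 21570 21741 (by decide +kernel)

theorem cFi23a_finr160 : ∀ x, 27391 ≤ x → x < 27562 → cFi23a.finRow x = true :=
  VCert.of_range' _ 27391 27562 (by decide +kernel)

theorem cFi23a_act8 : ∀ x, 359 ≤ x → x < 404 → cFi23a.actRow x = true :=
  VCert.of_range' _ 359 404 (by decide +kernel)

theorem cFi23a_act30 : ∀ x, 1349 ≤ x → x < 1394 → cFi23a.actRow x = true :=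
  VCert.of_range' _ 1349 1394 (by decide +kernel)

theorem cFi23a_act57 : ∀ x, 2564 ≤ x → x < 2609 → cFi23a.actRow x = true :=
  VCert.of_range' _ 2564 2609 (by decide +kernel)

theorem cFi23a_act85 : ∀ x, 3823 ≤ x → x < 3868 → cFi23a.actRow x = true :=
  VCert.of_range' _ 3823 3868 (by decide +kernel)

theorem cFi23a_act112 : ∀ x, 5038 ≤ x → x < 5083 → cFi23a.actRow x = true :=
  VCert.of_range' _ 5038 5083 (by decide +kernel)

theorem cFi23a_act139 : ∀ x, 6253 ≤ x → x < 6298 → cFi23a.actRow x = true :=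
  VCert.of_range' _ 6253 6298 (by decide +kernel)

theorem cFi23a_act167 : ∀ x, 7512 ≤ x → x < 7557 → cFi23a.actRow x = true :=
  VCert.of_range' _ 7512 7557 (by decide +kernel)

theorem cFi23a_act194 : ∀ x, 8727 ≤ x → x < 8772 → cFi23a.actRow x = true :=
  VCert.of_range' _ 8727 8772 (by decide +kernel)

theorem cFi23a_act221 : ∀ x, 9942 ≤ x → x < 9987 → cFi23a.actRow x = true :=
  VCert.of_range' _ 9942 9987 (by decide +kernel)

theorem cFi23a_act249 : ∀ x, 11201 ≤ x → x < 11246 → cFi23a.actRow x = true :=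
  VCert.of_range' _ 11201 11246 (by decide +kernel)

theorem cFi23a_act276 : ∀ x, 12416 ≤ x → x < 12461 → cFi23a.actRow x = true :=
  VCert.of_range' _ 12416 12461 (by decide +kernel)

theorem cFi23a_act303 : ∀ x, 13631 ≤ x → x < 13676 → cFi23a.actRow x = true :=
  VCert.of_range' _ 13631 13676 (by decide +kernel)

theorem cFi23a_act331 : ∀ x, 14890 ≤ x → x < 14935 → cFi23a.actRow x = true :=
  VCert.of_range' _ 14890 14935 (by decide +kernel)

theorem cFi23a_act358 : ∀ x, 16105 ≤ x → x < 16150 → cFi23a.actRow x = true :=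
  VCert.of_range' _ 16105 16150 (by decide +kernel)

theorem cFi23a_act385 : ∀ x, 17320 ≤ x → x < 17365 → cFi23a.actRow x = true :=
  VCert.of_range' _ 17320 17365 (by decide +kernel)

theorem cFi23a_act413 : ∀ x, 18579 ≤ x → x < 18624 → cFi23a.actRow x = true :=
  VCert.of_range' _ 18579 18624 (by decide +kernel)

theorem cFi23a_act440 : ∀ x, 19794 ≤ x → x < 19839 → cFi23a.actRow x = true :=
  VCert.of_range' _ 19794 19839 (by decide +kernel)

theorem cFi23a_act467 : ∀ x, 21009 ≤ x → x < 21054 → cFi23a.actRow x = true :=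
  VCert.of_range' _ 21009 21054 (by decide +kernel)

theorem cFi23a_act495 : ∀ x, 22268 ≤ x → x < 22313 → cFi23a.actRow x = true :=
  VCert.of_range' _ 22268 22313 (by decide +kernel)

theorem cFi23a_act522 : ∀ x, 23483 ≤ x → x < 23528 → cFi23a.actRow x = true :=
  VCert.of_range' _ 23483 23528 (by decide +kernel)

theorem cFi23a_act550 : ∀ x, 24742 ≤ x → x < 24787 → cFi23a.actRow x = true :=
  VCert.of_range' _ 24742 24787 (by decide +kernel)

theorem cFi23a_act577 : ∀ x, 25957 ≤ x → x < 26002 → cFi23a.actRow x = true :=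
  VCert.of_range' _ 25957 26002 (by decide +kernel)

theorem cFi23a_act604 : ∀ x, 27172 ≤ x → x < 27217 → cFi23a.actRow x = true :=
  VCert.of_range' _ 27172 27217 (by decide +kernel)

theorem cFi23a_act632 : ∀ x, 28431 ≤ x → x < 28476 → cFi23a.actRow x = true :=
  VCert.of_range' _ 28431 28476 (by decide +kernel)

theorem cFi23a_act659 : ∀ x, 29646 ≤ x → x < 29691 → cFi23a.actRow x = true :=
  VCert.of_range' _ 29646 29691 (by decide +kernel)

theorem cFi23a_act686 : ∀ x, 30861 ≤ x → x < 30906 → cFi23a.actRow x = true :=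
  VCert.of_range' _ 30861 30906 (by decide +kernel)

theorem oFi23a_tr2_6 : ∀ x, 11876 ≤ x → x < 13856 → oFi23a.treeRow cFi23a 52 2 x = true :=
  VCert.of_range' _ 11876 13856 (by decide +kernel)

theorem cFi23a_ok29 : ∀ x, 3127 ≤ x → x < 3234 → cFi23a.rowOK x = true :=
  VCert.of_range' _ 3127 3234 (by decide +kernel)

theorem cFi23a_ok168 : ∀ x, 18115 ≤ x → x < 18222 → cFi23a.rowOK x = true :=
  VCert.of_range' _ 18115 18222 (by decide +kernel)

theorem cFi23a_ok325 : ∀ x, 35044 ≤ x → x < 35151 → cFi23a.rowOK x = true :=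
  VCert.of_range' _ 35044 35151 (by decide +kernel)

theorem cFi23a_ok481 : ∀ x, 51865 ≤ x → x < 51972 → cFi23a.rowOK x = true :=
  VCert.of_range' _ 51865 51972 (by decide +kernel)

theorem oFi23a_colr10 : ∀ x, 7917 ≤ x → x < 8709 → oFi23a.colRow cFi23a x = true :=
  VCert.of_range' _ 7917 8709 (by decide +kernel)

theorem oFi23a_colr13 : ∀ x, 10293 ≤ x → x < 11084 → oFi23a.colRow cFi23a x = true :=
  VCert.of_range' _ 10293 11084 (by decide +kernel)


end Cfsg.Agent.Lib.Lead.VTC
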