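import Cfsg.Agent.Lib.Lead.VTCFi23a
import Cfsg.Agent.Lib.Lead.VTC3

set_option autoImplicit false
set_option maxRecDepth 100000

namespace Cfsg.Agent.Lib.Lead.VTC

theorem cFi23a_finr118 : ∀ x, 20200 ≤ x → x < 20372 → cFi23a.finRow x = true :=
  VCert.of_range' _ 20200 20372 (by decide +kernel)

theorem cFi23a_ok16 : ∀ x, 1725 ≤ x → x < 1833 → cFi23a.rowOK x = true :=
  VCert.of_range' _ 1725 1833 (by decide +kernel)

theorem cFi23a_ok38 : ∀ x, 4097 ≤ x → x < 4205 → cFi23a.rowOK x = true :=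
  VCert.of_range' _ 4097 4205 (by decide +kernel)

theorem cFi23a_ok71 : ∀ x, 7655 ≤ x → x < 7763 → cFi23a.rowOK x = true :=
  VCert.of_range' _ 7655 7763 (by decide +kernel)

theorem cFi23a_ok103 : ∀ x, 11106 ≤ x → x < 11214 → cFi23a.rowOK x = true :=
  VCert.of_range' _ 11106 11214 (by decide +kernel)

theorem cFi23a_ok136 : ∀ x, 14664 ≤ x → x < 14772 → cFi23a.rowOK x = true :=
  VCert.of_range' _ 14664 14772 (by decide +kernel)

theorem cFi23a_ok169 : ∀ x, 18222 ≤ x → x < 18330 → cFi23a.rowOK x = true :=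
  VCert.of_range' _ 18222 18330 (by decide +kernel)

theorem cFi23a_ok201 : ∀ x, 21673 ≤ x → x < 21781 → cFi23a.rowOK x = true :=
  VCert.of_range' _ 21673 21781 (by decide +kernel)

theorem cFi23a_ok234 : ∀ x, 25231 ≤ x → x < 25339 → cFi23a.rowOK x = true :=
  VCert.of_range' _ 25231 25339 (by decide +kernel)

theorem cFi23a_ok266 : ∀ x, 28682 ≤ x → x < 28790 → cFi23a.rowOK x = true :=
  VCert.of_range' _ 28682 28790 (by decide +kernel)

theorem cFi23a_ok299 : ∀ x, 32240 ≤ x → x < 32348 → cFi23a.rowOK x = true :=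
  VCert.of_range' _ 32240 32348 (by decide +kernel)

theorem cFi23a_ok332 : ∀ x, 35798 ≤ x → x < 35906 → cFi23a.rowOK x = true :=
  VCert.of_range' _ 35798 35906 (by decide +kernel)

theorem cFi23a_ok364 : ∀ x, 39249 ≤ x → x < 39357 → cFi23a.rowOK x = true :=
  VCert.of_range' _ 39249 39357 (by decide +kernel)

theorem cFi23a_ok397 : ∀ x, 42807 ≤ x → x < 42915 → cFi23a.rowOK x = true :=
  VCert.of_range' _ 42807 42915 (by decide +kernel)

theorem cFi23a_ok430 : ∀ x, 46365 ≤ x → x < 46473 → cFi23a.rowOK x = true :=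
  VCert.of_range' _ 46365 46473 (by decide +kernel)

theorem cFi23a_ok462 : ∀ x, 49816 ≤ x → x < 49924 → cFi23a.rowOK x = true :=
  VCert.of_range' _ 49816 49924 (by decide +kernel)

theorem cFi23a_ok495 : ∀ x, 53374 ≤ x → x < 53482 → cFi23a.rowOK x = true :=
  VCert.of_range' _ 53374 53482 (by decide +kernel)

theorem cFi23a_ok527 : ∀ x, 56825 ≤ x → x < 56933 → cFi23a.rowOK x = true :=
  VCert.of_range' _ 56825 56933 (by decide +kernel)

theorem cFi23a_ok560 : ∀ x, 60383 ≤ x → x < 60491 → cFi23a.rowOK x = true :=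
  VCert.of_range' _ 60383 60491 (by decide +kernel)

theorem cFi23a_ok593 : ∀ x, 63941 ≤ x → x < 64049 → cFi23a.rowOK x = true :=
  VCert.of_range' _ 63941 64049 (by decide +kernel)

theorem cFi23a_finr27 : ∀ x, 4622 ≤ x → x < 4793 → cFi23a.finRow x = true :=
  VCert.of_range' _ 4622 4793 (by decide +kernel)

theorem cFi23a_finr60 : ∀ x, 10271 ≤ x → x < 10442 → cFi23a.finRow x = true :=
  VCert.of_range' _ 10271 10442 (by decide +kernel)

theorem cFi23a_finr94 : ∀ x, 16092 ≤ x → x < 16263 → cFi23a.finRow x = true :=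
  VCert.of_range' _ 16092 16263 (by decide +kernel)

theorem cFi23a_finr127 : ∀ x, 21741 ≤ x → x < 21912 → cFi23a.finRow x = true :=
  VCert.of_range' _ 21741 21912 (by decide +kernel)

theorem cFi23a_finr161 : ∀ x, 27562 ≤ x → x < 27733 → cFi23a.finRow x = true :=
  VCert.of_range' _ 27562 27733 (by decide +kernel)

theorem cFi23a_act9 : ∀ x, 404 ≤ x → x < 449 → cFi23a.actRow x = true :=
  VCert.of_range' _ 404 449 (by decide +kernel)

theorem cFi23a_act31 : ∀ x, 1394 ≤ x → x < 1439 → cFi23a.actRow x = true :=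
  VCert.of_range' _ 1394 1439 (by decide +kernel)

theorem cFi23a_act58 : ∀ x, 2609 ≤ x → x < 2654 → cFi23a.actRow x = true :=
  VCert.of_range' _ 2609 2654 (by decide +kernel)

theorem cFi23a_act86 : ∀ x, 3868 ≤ x → x < 3913 → cFi23a.actRow x = true :=
  VCert.of_range' _ 3868 3913 (by decide +kernel)

theorem cFi23a_act113 : ∀ x, 5083 ≤ x → x < 5128 → cFi23a.actRow x = true :=
  VCert.of_range' _ 5083 5128 (by decide +kernel)

theorem cFi23a_act140 : ∀ x, 6298 ≤ x → x < 6343 → cFi23a.actRow x = true :=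
  VCert.of_range' _ 6298 6343 (by decide +kernel)

theorem cFi23a_act168 : ∀ x, 7557 ≤ x → x < 7602 → cFi23a.actRow x = true :=
  VCert.of_range' _ 7557 7602 (by decide +kernel)

theorem cFi23a_act195 : ∀ x, 8772 ≤ x → x < 8817 → cFi23a.actRow x = true :=
  VCert.of_range' _ 8772 8817 (by decide +kernel)

theorem cFi23a_act222 : ∀ x, 9987 ≤ x → x < 10032 → cFi23a.actRow x = true :=
  VCert.of_range' _ 9987 10032 (by decide +kernel)

theorem cFi23a_act250 : ∀ x, 11246 ≤ x → x < 11291 → cFi23a.actRow x = true :=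
  VCert.of_range' _ 11246 11291 (by decide +kernel)

theorem cFi23a_act277 : ∀ x, 12461 ≤ x → x < 12506 → cFi23a.actRow x = true :=
  VCert.of_range' _ 12461 12506 (by decide +kernel)

theorem cFi23a_act304 : ∀ x, 13676 ≤ x → x < 13721 → cFi23a.actRow x = true :=
  VCert.of_range' _ 13676 13721 (by decide +kernel)

theorem cFi23a_act332 : ∀ x, 14935 ≤ x → x < 14980 → cFi23a.actRow x = true :=
  VCert.of_range' _ 14935 14980 (by decide +kernel)

theorem cFi23a_act359 : ∀ x, 16150 ≤ x → x < 16195 → cFi23a.actRow x = true :=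
  VCert.of_range' _ 16150 16195 (by decide +kernel)

theorem cFi23a_act386 : ∀ x, 17365 ≤ x → x < 17410 → cFi23a.actRow x = true :=
  VCert.of_range' _ 17365 17410 (by decide +kernel)

theorem cFi23a_act414 : ∀ x, 18624 ≤ x → x < 18669 → cFi23a.actRow x = true :=
  VCert.of_range' _ 18624 18669 (by decide +kernel)

theorem cFi23a_act441 : ∀ x, 19839 ≤ x → x < 19884 → cFi23a.actRow x = true :=
  VCert.of_range' _ 19839 19884 (by decide +kernel)

theorem cFi23a_act468 : ∀ x, 21054 ≤ x → x < 21099 → cFi23a.actRow x = true :=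
  VCert.of_range' _ 21054 21099 (by decide +kernel)

theorem cFi23a_act496 : ∀ x, 22313 ≤ x → x < 22358 → cFi23a.actRow x = true :=
  VCert.of_range' _ 22313 22358 (by decide +kernel)

theorem cFi23a_act523 : ∀ x, 23528 ≤ x → x < 23573 → cFi23a.actRow x = true :=
  VCert.of_range' _ 23528 23573 (by decide +kernel)

theorem cFi23a_act551 : ∀ x, 24787 ≤ x → x < 24832 → cFi23a.actRow x = true :=
  VCert.of_range' _ 24787 24832 (by decide +kernel)

theorem cFi23a_act578 : ∀ x, 26002 ≤ x → x < 26047 → cFi23a.actRow x = true :=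
  VCert.of_range' _ 26002 26047 (by decide +kernel)

theorem cFi23a_act605 : ∀ x, 27217 ≤ x → x < 27262 → cFi23a.actRow x = true :=
  VCert.of_range' _ 27217 27262 (by decide +kernel)

theorem cFi23a_act633 : ∀ x, 28476 ≤ x → x < 28521 → cFi23a.actRow x = true :=
  VCert.of_range' _ 28476 28521 (by decide +kernel)

theorem cFi23a_act660 : ∀ x, 29691 ≤ x → x < 29736 → cFi23a.actRow x = true :=
  VCert.of_range' _ 29691 29736 (by decide +kernel)

theorem cFi23a_act687 : ∀ x, 30906 ≤ x → x < 30951 → cFi23a.actRow x = true :=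
  VCert.of_range' _ 30906 30951 (by decide +kernel)

theorem oFi23a_tr2_9 : ∀ x, 17814 ≤ x → x < 19794 → oFi23a.treeRow cFi23a 52 2 x = true :=
  VCert.of_range' _ 17814 19794 (by decide +kernel)

theorem cFi23a_ok34 : ∀ x, 3666 ≤ x → x < 3773 → cFi23a.rowOK x = true :=
  VCert.of_range' _ 3666 3773 (by decide +kernel)

theorem cFi23a_ok174 : ∀ x, 18762 ≤ x → x < 18869 → cFi23a.rowOK x = true :=
  VCert.of_range' _ 18762 18869 (by decide +kernel)

theorem cFi23a_ok330 : ∀ x, 35583 ≤ x → x < 35690 → cFi23a.rowOK x = true :=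
  VCert.of_range' _ 35583 35690 (by decide +kernel)

theorem cFi23a_ok487 : ∀ x, 52512 ≤ x → x < 52619 → cFi23a.rowOK x = true :=
  VCert.of_range' _ 52512 52619 (by decide +kernel)

theorem oFi23a_colr11 : ∀ x, 8709 ≤ x → x < 9501 → oFi23a.colRow cFi23a x = true :=
  VCert.of_range' _ 8709 9501 (by decide +kernel)

theorem oFi23a_colr17 : ∀ x, 13460 ≤ x → x < 14251 → oFi23a.colRow cFi23a x = true :=
  VCert.of_range' _ 13460 14251 (by decide +kernel)


end Cfsg.Agent.Lib.Lead.VTC
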