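import Cfsg.Agent.Lib.Lead.VTCFi23a
import Cfsg.Agent.Lib.Lead.VTC3

set_option autoImplicit false
set_option maxRecDepth 100000

namespace Cfsg.Agent.Lib.Lead.VTC

theorem cFi23a_finr123 : ∀ x, 21056 ≤ x → x < 21228 → cFi23a.finRow x = true :=
  VCert.of_range' _ 21056 21228 (by decide +kernel)

theorem cFi23a_ok18 : ∀ x, 1940 ≤ x → x < 2048 → cFi23a.rowOK x = true :=
  VCert.of_range' _ 1940 2048 (by decide +kernel)

theorem cFi23a_ok39 : ∀ x, 4205 ≤ x → x < 4313 → cFi23a.rowOK x = true :=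
  VCert.of_range' _ 4205 4313 (by decide +kernel)

theorem cFi23a_ok72 : ∀ x, 7763 ≤ x → x < 7871 → cFi23a.rowOK x = true :=
  VCert.of_range' _ 7763 7871 (by decide +kernel)

theorem cFi23a_ok105 : ∀ x, 11321 ≤ x → x < 11429 → cFi23a.rowOK x = true :=
  VCert.of_range' _ 11321 11429 (by decide +kernel)

theorem cFi23a_ok137 : ∀ x, 14772 ≤ x → x < 14880 → cFi23a.rowOK x = true :=
  VCert.of_range' _ 14772 14880 (by decide +kernel)

theorem cFi23a_ok170 : ∀ x, 18330 ≤ x → x < 18438 → cFi23a.rowOK x = true :=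
  VCert.of_range' _ 18330 18438 (by decide +kernel)

theorem cFi23a_ok202 : ∀ x, 21781 ≤ x → x < 21889 → cFi23a.rowOK x = true :=
  VCert.of_range' _ 21781 21889 (by decide +kernel)

theorem cFi23a_ok235 : ∀ x, 25339 ≤ x → x < 25447 → cFi23a.rowOK x = true :=
  VCert.of_range' _ 25339 25447 (by decide +kernel)

theorem cFi23a_ok268 : ∀ x, 28897 ≤ x → x < 29005 → cFi23a.rowOK x = true :=
  VCert.of_range' _ 28897 29005 (by decide +kernel)

theorem cFi23a_ok300 : ∀ x, 32348 ≤ x → x < 32456 → cFi23a.rowOK x = true :=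
  VCert.of_range' _ 32348 32456 (by decide +kernel)

theorem cFi23a_ok333 : ∀ x, 35906 ≤ x → x < 36014 → cFi23a.rowOK x = true :=
  VCert.of_range' _ 35906 36014 (by decide +kernel)

theorem cFi23a_ok366 : ∀ x, 39464 ≤ x → x < 39572 → cFi23a.rowOK x = true :=
  VCert.of_range' _ 39464 39572 (by decide +kernel)

theorem cFi23a_ok398 : ∀ x, 42915 ≤ x → x < 43023 → cFi23a.rowOK x = true :=
  VCert.of_range' _ 42915 43023 (by decide +kernel)

theorem cFi23a_ok431 : ∀ x, 46473 ≤ x → x < 46581 → cFi23a.rowOK x = true :=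
  VCert.of_range' _ 46473 46581 (by decide +kernel)

theorem cFi23a_ok463 : ∀ x, 49924 ≤ x → x < 50032 → cFi23a.rowOK x = true :=
  VCert.of_range' _ 49924 50032 (by decide +kernel)

theorem cFi23a_ok496 : ∀ x, 53482 ≤ x → x < 53590 → cFi23a.rowOK x = true :=
  VCert.of_range' _ 53482 53590 (by decide +kernel)

theorem cFi23a_ok529 : ∀ x, 57040 ≤ x → x < 57148 → cFi23a.rowOK x = true :=
  VCert.of_range' _ 57040 57148 (by decide +kernel)

theorem cFi23a_ok561 : ∀ x, 60491 ≤ x → x < 60599 → cFi23a.rowOK x = true :=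
  VCert.of_range' _ 60491 60599 (by decide +kernel)

theorem cFi23a_ok594 : ∀ x, 64049 ≤ x → x < 64157 → cFi23a.rowOK x = true :=
  VCert.of_range' _ 64049 64157 (by decide +kernel)

theorem cFi23a_finr28 : ∀ x, 4793 ≤ x → x < 4964 → cFi23a.finRow x = true :=
  VCert.of_range' _ 4793 4964 (by decide +kernel)

theorem cFi23a_finr62 : ∀ x, 10614 ≤ x → x < 10785 → cFi23a.finRow x = true :=
  VCert.of_range' _ 10614 10785 (by decide +kernel)

theorem cFi23a_finr95 : ∀ x, 16263 ≤ x → x < 16434 → cFi23a.finRow x = true :=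
  VCert.of_range' _ 16263 16434 (by decide +kernel)

theorem cFi23a_finr129 : ∀ x, 22084 ≤ x → x < 22255 → cFi23a.finRow x = true :=
  VCert.of_range' _ 22084 22255 (by decide +kernel)

theorem cFi23a_finr162 : ∀ x, 27733 ≤ x → x < 27904 → cFi23a.finRow x = true :=
  VCert.of_range' _ 27733 27904 (by decide +kernel)

theorem cFi23a_act10 : ∀ x, 449 ≤ x → x < 494 → cFi23a.actRow x = true :=
  VCert.of_range' _ 449 494 (by decide +kernel)

theorem cFi23a_act32 : ∀ x, 1439 ≤ x → x < 1484 → cFi23a.actRow x = true :=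
  VCert.of_range' _ 1439 1484 (by decide +kernel)

theorem cFi23a_act59 : ∀ x, 2654 ≤ x → x < 2699 → cFi23a.actRow x = true :=
  VCert.of_range' _ 2654 2699 (by decide +kernel)

theorem cFi23a_act87 : ∀ x, 3913 ≤ x → x < 3958 → cFi23a.actRow x = true :=
  VCert.of_range' _ 3913 3958 (by decide +kernel)

theorem cFi23a_act114 : ∀ x, 5128 ≤ x → x < 5173 → cFi23a.actRow x = true :=
  VCert.of_range' _ 5128 5173 (by decide +kernel)

theorem cFi23a_act141 : ∀ x, 6343 ≤ x → x < 6388 → cFi23a.actRow x = true :=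
  VCert.of_range' _ 6343 6388 (by decide +kernel)

theorem cFi23a_act169 : ∀ x, 7602 ≤ x → x < 7647 → cFi23a.actRow x = true :=
  VCert.of_range' _ 7602 7647 (by decide +kernel)

theorem cFi23a_act196 : ∀ x, 8817 ≤ x → x < 8862 → cFi23a.actRow x = true :=
  VCert.of_range' _ 8817 8862 (by decide +kernel)

theorem cFi23a_act223 : ∀ x, 10032 ≤ x → x < 10077 → cFi23a.actRow x = true :=
  VCert.of_range' _ 10032 10077 (by decide +kernel)

theorem cFi23a_act251 : ∀ x, 11291 ≤ x → x < 11336 → cFi23a.actRow x = true :=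
  VCert.of_range' _ 11291 11336 (by decide +kernel)

theorem cFi23a_act278 : ∀ x, 12506 ≤ x → x < 12551 → cFi23a.actRow x = true :=
  VCert.of_range' _ 12506 12551 (by decide +kernel)

theorem cFi23a_act305 : ∀ x, 13721 ≤ x → x < 13766 → cFi23a.actRow x = true :=
  VCert.of_range' _ 13721 13766 (by decide +kernel)

theorem cFi23a_act333 : ∀ x, 14980 ≤ x → x < 15025 → cFi23a.actRow x = true :=
  VCert.of_range' _ 14980 15025 (by decide +kernel)

theorem cFi23a_act360 : ∀ x, 16195 ≤ x → x < 16240 → cFi23a.actRow x = true :=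
  VCert.of_range' _ 16195 16240 (by decide +kernel)

theorem cFi23a_act387 : ∀ x, 17410 ≤ x → x < 17455 → cFi23a.actRow x = true :=
  VCert.of_range' _ 17410 17455 (by decide +kernel)

theorem cFi23a_act415 : ∀ x, 18669 ≤ x → x < 18714 → cFi23a.actRow x = true :=
  VCert.of_range' _ 18669 18714 (by decide +kernel)

theorem cFi23a_act442 : ∀ x, 19884 ≤ x → x < 19929 → cFi23a.actRow x = true :=
  VCert.of_range' _ 19884 19929 (by decide +kernel)

theorem cFi23a_act470 : ∀ x, 21143 ≤ x → x < 21188 → cFi23a.actRow x = true :=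
  VCert.of_range' _ 21143 21188 (by decide +kernel)

theorem cFi23a_act497 : ∀ x, 22358 ≤ x → x < 22403 → cFi23a.actRow x = true :=
  VCert.of_range' _ 22358 22403 (by decide +kernel)

theorem cFi23a_act524 : ∀ x, 23573 ≤ x → x < 23618 → cFi23a.actRow x = true :=
  VCert.of_range' _ 23573 23618 (by decide +kernel)

theorem cFi23a_act552 : ∀ x, 24832 ≤ x → x < 24877 → cFi23a.actRow x = true :=
  VCert.of_range' _ 24832 24877 (by decide +kernel)

theorem cFi23a_act579 : ∀ x, 26047 ≤ x → x < 26092 → cFi23a.actRow x = true :=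
  VCert.of_range' _ 26047 26092 (by decide +kernel)

theorem cFi23a_act606 : ∀ x, 27262 ≤ x → x < 27307 → cFi23a.actRow x = true :=
  VCert.of_range' _ 27262 27307 (by decide +kernel)

theorem cFi23a_act634 : ∀ x, 28521 ≤ x → x < 28566 → cFi23a.actRow x = true :=
  VCert.of_range' _ 28521 28566 (by decide +kernel)

theorem cFi23a_act661 : ∀ x, 29736 ≤ x → x < 29781 → cFi23a.actRow x = true :=
  VCert.of_range' _ 29736 29781 (by decide +kernel)

theorem cFi23a_act688 : ∀ x, 30951 ≤ x → x < 30996 → cFi23a.actRow x = true :=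
  VCert.of_range' _ 30951 30996 (by decide +kernel)

theorem oFi23a_tr2_11 : ∀ x, 21773 ≤ x → x < 23753 → oFi23a.treeRow cFi23a 52 2 x = true :=
  VCert.of_range' _ 21773 23753 (by decide +kernel)

theorem cFi23a_ok40 : ∀ x, 4313 ≤ x → x < 4420 → cFi23a.rowOK x = true :=
  VCert.of_range' _ 4313 4420 (by decide +kernel)

theorem cFi23a_ok179 : ∀ x, 19301 ≤ x → x < 19408 → cFi23a.rowOK x = true :=
  VCert.of_range' _ 19301 19408 (by decide +kernel)

theorem cFi23a_ok336 : ∀ x, 36230 ≤ x → x < 36337 → cFi23a.rowOK x = true :=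
  VCert.of_range' _ 36230 36337 (by decide +kernel)

theorem cFi23a_ok493 : ∀ x, 53159 ≤ x → x < 53266 → cFi23a.rowOK x = true :=
  VCert.of_range' _ 53159 53266 (by decide +kernel)

theorem oFi23a_colr12 : ∀ x, 9501 ≤ x → x < 10293 → oFi23a.colRow cFi23a x = true :=
  VCert.of_range' _ 9501 10293 (by decide +kernel)

theorem oFi23a_colr22 : ∀ x, 17419 ≤ x → x < 18210 → oFi23a.colRow cFi23a x = true :=
  VCert.of_range' _ 17419 18210 (by decide +kernel)


end Cfsg.Agent.Lib.Lead.VTC
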