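import Cfsg.Agent.Lib.Lead.VTCFi23a
import Cfsg.Agent.Lib.Lead.VTC3

set_option autoImplicit false
set_option maxRecDepth 100000

namespace Cfsg.Agent.Lib.Lead.VTC

theorem cFi23a_finr128 : ∀ x, 21912 ≤ x → x < 22084 → cFi23a.finRow x = true :=
  VCert.of_range' _ 21912 22084 (by decide +kernel)

theorem cFi23a_ok19 : ∀ x, 2048 ≤ x → x < 2156 → cFi23a.rowOK x = true :=
  VCert.of_range' _ 2048 2156 (by decide +kernel)

theorem cFi23a_ok41 : ∀ x, 4420 ≤ x → x < 4528 → cFi23a.rowOK x = true :=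
  VCert.of_range' _ 4420 4528 (by decide +kernel)

theorem cFi23a_ok73 : ∀ x, 7871 ≤ x → x < 7979 → cFi23a.rowOK x = true :=
  VCert.of_range' _ 7871 7979 (by decide +kernel)

theorem cFi23a_ok106 : ∀ x, 11429 ≤ x → x < 11537 → cFi23a.rowOK x = true :=
  VCert.of_range' _ 11429 11537 (by decide +kernel)

theorem cFi23a_ok138 : ∀ x, 14880 ≤ x → x < 14988 → cFi23a.rowOK x = true :=
  VCert.of_range' _ 14880 14988 (by decide +kernel)

theorem cFi23a_ok171 : ∀ x, 18438 ≤ x → x < 18546 → cFi23a.rowOK x = true :=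
  VCert.of_range' _ 18438 18546 (by decide +kernel)

theorem cFi23a_ok204 : ∀ x, 21996 ≤ x → x < 22104 → cFi23a.rowOK x = true :=
  VCert.of_range' _ 21996 22104 (by decide +kernel)

theorem cFi23a_ok236 : ∀ x, 25447 ≤ x → x < 25555 → cFi23a.rowOK x = true :=
  VCert.of_range' _ 25447 25555 (by decide +kernel)

theorem cFi23a_ok269 : ∀ x, 29005 ≤ x → x < 29113 → cFi23a.rowOK x = true :=
  VCert.of_range' _ 29005 29113 (by decide +kernel)

theorem cFi23a_ok302 : ∀ x, 32563 ≤ x → x < 32671 → cFi23a.rowOK x = true :=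
  VCert.of_range' _ 32563 32671 (by decide +kernel)

theorem cFi23a_ok334 : ∀ x, 36014 ≤ x → x < 36122 → cFi23a.rowOK x = true :=
  VCert.of_range' _ 36014 36122 (by decide +kernel)

theorem cFi23a_ok367 : ∀ x, 39572 ≤ x → x < 39680 → cFi23a.rowOK x = true :=
  VCert.of_range' _ 39572 39680 (by decide +kernel)

theorem cFi23a_ok399 : ∀ x, 43023 ≤ x → x < 43131 → cFi23a.rowOK x = true :=
  VCert.of_range' _ 43023 43131 (by decide +kernel)

theorem cFi23a_ok432 : ∀ x, 46581 ≤ x → x < 46689 → cFi23a.rowOK x = true :=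
  VCert.of_range' _ 46581 46689 (by decide +kernel)

theorem cFi23a_ok465 : ∀ x, 50139 ≤ x → x < 50247 → cFi23a.rowOK x = true :=
  VCert.of_range' _ 50139 50247 (by decide +kernel)

theorem cFi23a_ok497 : ∀ x, 53590 ≤ x → x < 53698 → cFi23a.rowOK x = true :=
  VCert.of_range' _ 53590 53698 (by decide +kernel)

theorem cFi23a_ok530 : ∀ x, 57148 ≤ x → x < 57256 → cFi23a.rowOK x = true :=
  VCert.of_range' _ 57148 57256 (by decide +kernel)

theorem cFi23a_ok562 : ∀ x, 60599 ≤ x → x < 60707 → cFi23a.rowOK x = true :=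
  VCert.of_range' _ 60599 60707 (by decide +kernel)

theorem cFi23a_ok595 : ∀ x, 64157 ≤ x → x < 64265 → cFi23a.rowOK x = true :=
  VCert.of_range' _ 64157 64265 (by decide +kernel)

theorem cFi23a_finr29 : ∀ x, 4964 ≤ x → x < 5135 → cFi23a.finRow x = true :=
  VCert.of_range' _ 4964 5135 (by decide +kernel)

theorem cFi23a_finr63 : ∀ x, 10785 ≤ x → x < 10956 → cFi23a.finRow x = true :=
  VCert.of_range' _ 10785 10956 (by decide +kernel)

theorem cFi23a_finr96 : ∀ x, 16434 ≤ x → x < 16605 → cFi23a.finRow x = true :=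
  VCert.of_range' _ 16434 16605 (by decide +kernel)

theorem cFi23a_finr130 : ∀ x, 22255 ≤ x → x < 22426 → cFi23a.finRow x = true :=
  VCert.of_range' _ 22255 22426 (by decide +kernel)

theorem cFi23a_finr163 : ∀ x, 27904 ≤ x → x < 28075 → cFi23a.finRow x = true :=
  VCert.of_range' _ 27904 28075 (by decide +kernel)

theorem cFi23a_act11 : ∀ x, 494 ≤ x → x < 539 → cFi23a.actRow x = true :=
  VCert.of_range' _ 494 539 (by decide +kernel)

theorem cFi23a_act33 : ∀ x, 1484 ≤ x → x < 1529 → cFi23a.actRow x = true :=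
  VCert.of_range' _ 1484 1529 (by decide +kernel)

theorem cFi23a_act60 : ∀ x, 2699 ≤ x → x < 2744 → cFi23a.actRow x = true :=
  VCert.of_range' _ 2699 2744 (by decide +kernel)

theorem cFi23a_act88 : ∀ x, 3958 ≤ x → x < 4003 → cFi23a.actRow x = true :=
  VCert.of_range' _ 3958 4003 (by decide +kernel)

theorem cFi23a_act115 : ∀ x, 5173 ≤ x → x < 5218 → cFi23a.actRow x = true :=
  VCert.of_range' _ 5173 5218 (by decide +kernel)

theorem cFi23a_act142 : ∀ x, 6388 ≤ x → x < 6433 → cFi23a.actRow x = true :=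
  VCert.of_range' _ 6388 6433 (by decide +kernel)

theorem cFi23a_act170 : ∀ x, 7647 ≤ x → x < 7692 → cFi23a.actRow x = true :=
  VCert.of_range' _ 7647 7692 (by decide +kernel)

theorem cFi23a_act197 : ∀ x, 8862 ≤ x → x < 8907 → cFi23a.actRow x = true :=
  VCert.of_range' _ 8862 8907 (by decide +kernel)

theorem cFi23a_act224 : ∀ x, 10077 ≤ x → x < 10122 → cFi23a.actRow x = true :=
  VCert.of_range' _ 10077 10122 (by decide +kernel)

theorem cFi23a_act252 : ∀ x, 11336 ≤ x → x < 11381 → cFi23a.actRow x = true :=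
  VCert.of_range' _ 11336 11381 (by decide +kernel)

theorem cFi23a_act279 : ∀ x, 12551 ≤ x → x < 12596 → cFi23a.actRow x = true :=
  VCert.of_range' _ 12551 12596 (by decide +kernel)

theorem cFi23a_act306 : ∀ x, 13766 ≤ x → x < 13811 → cFi23a.actRow x = true :=
  VCert.of_range' _ 13766 13811 (by decide +kernel)

theorem cFi23a_act334 : ∀ x, 15025 ≤ x → x < 15070 → cFi23a.actRow x = true :=
  VCert.of_range' _ 15025 15070 (by decide +kernel)

theorem cFi23a_act361 : ∀ x, 16240 ≤ x → x < 16285 → cFi23a.actRow x = true :=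
  VCert.of_range' _ 16240 16285 (by decide +kernel)

theorem cFi23a_act388 : ∀ x, 17455 ≤ x → x < 17500 → cFi23a.actRow x = true :=
  VCert.of_range' _ 17455 17500 (by decide +kernel)

theorem cFi23a_act416 : ∀ x, 18714 ≤ x → x < 18759 → cFi23a.actRow x = true :=
  VCert.of_range' _ 18714 18759 (by decide +kernel)

theorem cFi23a_act443 : ∀ x, 19929 ≤ x → x < 19974 → cFi23a.actRow x = true :=
  VCert.of_range' _ 19929 19974 (by decide +kernel)

theorem cFi23a_act471 : ∀ x, 21188 ≤ x → x < 21233 → cFi23a.actRow x = true :=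
  VCert.of_range' _ 21188 21233 (by decide +kernel)

theorem cFi23a_act498 : ∀ x, 22403 ≤ x → x < 22448 → cFi23a.actRow x = true :=
  VCert.of_range' _ 22403 22448 (by decide +kernel)

theorem cFi23a_act525 : ∀ x, 23618 ≤ x → x < 23663 → cFi23a.actRow x = true :=
  VCert.of_range' _ 23618 23663 (by decide +kernel)

theorem cFi23a_act553 : ∀ x, 24877 ≤ x → x < 24922 → cFi23a.actRow x = true :=
  VCert.of_range' _ 24877 24922 (by decide +kernel)

theorem cFi23a_act580 : ∀ x, 26092 ≤ x → x < 26137 → cFi23a.actRow x = true :=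
  VCert.of_range' _ 26092 26137 (by decide +kernel)

theorem cFi23a_act607 : ∀ x, 27307 ≤ x → x < 27352 → cFi23a.actRow x = true :=
  VCert.of_range' _ 27307 27352 (by decide +kernel)

theorem cFi23a_act635 : ∀ x, 28566 ≤ x → x < 28611 → cFi23a.actRow x = true :=
  VCert.of_range' _ 28566 28611 (by decide +kernel)

theorem cFi23a_act662 : ∀ x, 29781 ≤ x → x < 29826 → cFi23a.actRow x = true :=
  VCert.of_range' _ 29781 29826 (by decide +kernel)

theorem cFi23a_act689 : ∀ x, 30996 ≤ x → x < 31041 → cFi23a.actRow x = true :=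
  VCert.of_range' _ 30996 31041 (by decide +kernel)

theorem oFi23a_tr2_13 : ∀ x, 25732 ≤ x → x < 27712 → oFi23a.treeRow cFi23a 52 2 x = true :=
  VCert.of_range' _ 25732 27712 (by decide +kernel)

theorem cFi23a_ok46 : ∀ x, 4960 ≤ x → x < 5067 → cFi23a.rowOK x = true :=
  VCert.of_range' _ 4960 5067 (by decide +kernel)

theorem cFi23a_ok185 : ∀ x, 19948 ≤ x → x < 20055 → cFi23a.rowOK x = true :=
  VCert.of_range' _ 19948 20055 (by decide +kernel)

theorem cFi23a_ok342 : ∀ x, 36877 ≤ x → x < 36984 → cFi23a.rowOK x = true :=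
  VCert.of_range' _ 36877 36984 (by decide +kernel)

theorem cFi23a_ok499 : ∀ x, 53806 ≤ x → x < 53913 → cFi23a.rowOK x = true :=
  VCert.of_range' _ 53806 53913 (by decide +kernel)

theorem oFi23a_colr14 : ∀ x, 11084 ≤ x → x < 11876 → oFi23a.colRow cFi23a x = true :=
  VCert.of_range' _ 11084 11876 (by decide +kernel)

theorem oFi23a_colr26 : ∀ x, 20586 ≤ x → x < 21377 → oFi23a.colRow cFi23a x = true :=
  VCert.of_range' _ 20586 21377 (by decide +kernel)


end Cfsg.Agent.Lib.Lead.VTC
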