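import Cfsg.Agent.Lib.Lead.VTCFi23a
import Cfsg.Agent.Lib.Lead.VTC3

set_option autoImplicit false
set_option maxRecDepth 100000

namespace Cfsg.Agent.Lib.Lead.VTC

theorem cFi23a_finr133 : ∀ x, 22768 ≤ x → x < 22940 → cFi23a.finRow x = true :=
  VCert.of_range' _ 22768 22940 (by decide +kernel)

theorem cFi23a_ok20 : ∀ x, 2156 ≤ x → x < 2264 → cFi23a.rowOK x = true :=
  VCert.of_range' _ 2156 2264 (by decide +kernel)

theorem cFi23a_ok42 : ∀ x, 4528 ≤ x → x < 4636 → cFi23a.rowOK x = true :=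
  VCert.of_range' _ 4528 4636 (by decide +kernel)

theorem cFi23a_ok74 : ∀ x, 7979 ≤ x → x < 8087 → cFi23a.rowOK x = true :=
  VCert.of_range' _ 7979 8087 (by decide +kernel)

theorem cFi23a_ok107 : ∀ x, 11537 ≤ x → x < 11645 → cFi23a.rowOK x = true :=
  VCert.of_range' _ 11537 11645 (by decide +kernel)

theorem cFi23a_ok140 : ∀ x, 15095 ≤ x → x < 15203 → cFi23a.rowOK x = true :=
  VCert.of_range' _ 15095 15203 (by decide +kernel)

theorem cFi23a_ok172 : ∀ x, 18546 ≤ x → x < 18654 → cFi23a.rowOK x = true :=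
  VCert.of_range' _ 18546 18654 (by decide +kernel)

theorem cFi23a_ok205 : ∀ x, 22104 ≤ x → x < 22212 → cFi23a.rowOK x = true :=
  VCert.of_range' _ 22104 22212 (by decide +kernel)

theorem cFi23a_ok237 : ∀ x, 25555 ≤ x → x < 25663 → cFi23a.rowOK x = true :=
  VCert.of_range' _ 25555 25663 (by decide +kernel)

theorem cFi23a_ok270 : ∀ x, 29113 ≤ x → x < 29221 → cFi23a.rowOK x = true :=
  VCert.of_range' _ 29113 29221 (by decide +kernel)

theorem cFi23a_ok303 : ∀ x, 32671 ≤ x → x < 32779 → cFi23a.rowOK x = true :=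
  VCert.of_range' _ 32671 32779 (by decide +kernel)

theorem cFi23a_ok335 : ∀ x, 36122 ≤ x → x < 36230 → cFi23a.rowOK x = true :=
  VCert.of_range' _ 36122 36230 (by decide +kernel)

theorem cFi23a_ok368 : ∀ x, 39680 ≤ x → x < 39788 → cFi23a.rowOK x = true :=
  VCert.of_range' _ 39680 39788 (by decide +kernel)

theorem cFi23a_ok401 : ∀ x, 43238 ≤ x → x < 43346 → cFi23a.rowOK x = true :=
  VCert.of_range' _ 43238 43346 (by decide +kernel)

theorem cFi23a_ok433 : ∀ x, 46689 ≤ x → x < 46797 → cFi23a.rowOK x = true :=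
  VCert.of_range' _ 46689 46797 (by decide +kernel)

theorem cFi23a_ok466 : ∀ x, 50247 ≤ x → x < 50355 → cFi23a.rowOK x = true :=
  VCert.of_range' _ 50247 50355 (by decide +kernel)

theorem cFi23a_ok498 : ∀ x, 53698 ≤ x → x < 53806 → cFi23a.rowOK x = true :=
  VCert.of_range' _ 53698 53806 (by decide +kernel)

theorem cFi23a_ok531 : ∀ x, 57256 ≤ x → x < 57364 → cFi23a.rowOK x = true :=
  VCert.of_range' _ 57256 57364 (by decide +kernel)

theorem cFi23a_ok564 : ∀ x, 60814 ≤ x → x < 60922 → cFi23a.rowOK x = true :=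
  VCert.of_range' _ 60814 60922 (by decide +kernel)

theorem cFi23a_ok596 : ∀ x, 64265 ≤ x → x < 64373 → cFi23a.rowOK x = true :=
  VCert.of_range' _ 64265 64373 (by decide +kernel)

theorem cFi23a_finr31 : ∀ x, 5307 ≤ x → x < 5478 → cFi23a.finRow x = true :=
  VCert.of_range' _ 5307 5478 (by decide +kernel)

theorem cFi23a_finr64 : ∀ x, 10956 ≤ x → x < 11127 → cFi23a.finRow x = true :=
  VCert.of_range' _ 10956 11127 (by decide +kernel)

theorem cFi23a_finr98 : ∀ x, 16777 ≤ x → x < 16948 → cFi23a.finRow x = true :=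
  VCert.of_range' _ 16777 16948 (by decide +kernel)

theorem cFi23a_finr131 : ∀ x, 22426 ≤ x → x < 22597 → cFi23a.finRow x = true :=
  VCert.of_range' _ 22426 22597 (by decide +kernel)

theorem cFi23a_finr165 : ∀ x, 28247 ≤ x → x < 28418 → cFi23a.finRow x = true :=
  VCert.of_range' _ 28247 28418 (by decide +kernel)

theorem cFi23a_act12 : ∀ x, 539 ≤ x → x < 584 → cFi23a.actRow x = true :=
  VCert.of_range' _ 539 584 (by decide +kernel)

theorem cFi23a_act34 : ∀ x, 1529 ≤ x → x < 1574 → cFi23a.actRow x = true :=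
  VCert.of_range' _ 1529 1574 (by decide +kernel)

theorem cFi23a_act61 : ∀ x, 2744 ≤ x → x < 2789 → cFi23a.actRow x = true :=
  VCert.of_range' _ 2744 2789 (by decide +kernel)

theorem cFi23a_act89 : ∀ x, 4003 ≤ x → x < 4048 → cFi23a.actRow x = true :=
  VCert.of_range' _ 4003 4048 (by decide +kernel)

theorem cFi23a_act116 : ∀ x, 5218 ≤ x → x < 5263 → cFi23a.actRow x = true :=
  VCert.of_range' _ 5218 5263 (by decide +kernel)

theorem cFi23a_act143 : ∀ x, 6433 ≤ x → x < 6478 → cFi23a.actRow x = true :=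
  VCert.of_range' _ 6433 6478 (by decide +kernel)

theorem cFi23a_act171 : ∀ x, 7692 ≤ x → x < 7737 → cFi23a.actRow x = true :=
  VCert.of_range' _ 7692 7737 (by decide +kernel)

theorem cFi23a_act198 : ∀ x, 8907 ≤ x → x < 8952 → cFi23a.actRow x = true :=
  VCert.of_range' _ 8907 8952 (by decide +kernel)

theorem cFi23a_act225 : ∀ x, 10122 ≤ x → x < 10167 → cFi23a.actRow x = true :=
  VCert.of_range' _ 10122 10167 (by decide +kernel)

theorem cFi23a_act253 : ∀ x, 11381 ≤ x → x < 11426 → cFi23a.actRow x = true :=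
  VCert.of_range' _ 11381 11426 (by decide +kernel)

theorem cFi23a_act280 : ∀ x, 12596 ≤ x → x < 12641 → cFi23a.actRow x = true :=
  VCert.of_range' _ 12596 12641 (by decide +kernel)

theorem cFi23a_act307 : ∀ x, 13811 ≤ x → x < 13856 → cFi23a.actRow x = true :=
  VCert.of_range' _ 13811 13856 (by decide +kernel)

theorem cFi23a_act335 : ∀ x, 15070 ≤ x → x < 15115 → cFi23a.actRow x = true :=
  VCert.of_range' _ 15070 15115 (by decide +kernel)

theorem cFi23a_act362 : ∀ x, 16285 ≤ x → x < 16330 → cFi23a.actRow x = true :=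
  VCert.of_range' _ 16285 16330 (by decide +kernel)

theorem cFi23a_act389 : ∀ x, 17500 ≤ x → x < 17545 → cFi23a.actRow x = true :=
  VCert.of_range' _ 17500 17545 (by decide +kernel)

theorem cFi23a_act417 : ∀ x, 18759 ≤ x → x < 18804 → cFi23a.actRow x = true :=
  VCert.of_range' _ 18759 18804 (by decide +kernel)

theorem cFi23a_act444 : ∀ x, 19974 ≤ x → x < 20019 → cFi23a.actRow x = true :=
  VCert.of_range' _ 19974 20019 (by decide +kernel)

theorem cFi23a_act472 : ∀ x, 21233 ≤ x → x < 21278 → cFi23a.actRow x = true :=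
  VCert.of_range' _ 21233 21278 (by decide +kernel)

theorem cFi23a_act499 : ∀ x, 22448 ≤ x → x < 22493 → cFi23a.actRow x = true :=
  VCert.of_range' _ 22448 22493 (by decide +kernel)

theorem cFi23a_act526 : ∀ x, 23663 ≤ x → x < 23708 → cFi23a.actRow x = true :=
  VCert.of_range' _ 23663 23708 (by decide +kernel)

theorem cFi23a_act554 : ∀ x, 24922 ≤ x → x < 24967 → cFi23a.actRow x = true :=
  VCert.of_range' _ 24922 24967 (by decide +kernel)

theorem cFi23a_act581 : ∀ x, 26137 ≤ x → x < 26182 → cFi23a.actRow x = true :=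
  VCert.of_range' _ 26137 26182 (by decide +kernel)

theorem cFi23a_act608 : ∀ x, 27352 ≤ x → x < 27397 → cFi23a.actRow x = true :=
  VCert.of_range' _ 27352 27397 (by decide +kernel)

theorem cFi23a_act636 : ∀ x, 28611 ≤ x → x < 28656 → cFi23a.actRow x = true :=
  VCert.of_range' _ 28611 28656 (by decide +kernel)

theorem cFi23a_act663 : ∀ x, 29826 ≤ x → x < 29871 → cFi23a.actRow x = true :=
  VCert.of_range' _ 29826 29871 (by decide +kernel)

theorem cFi23a_act690 : ∀ x, 31041 ≤ x → x < 31086 → cFi23a.actRow x = true :=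
  VCert.of_range' _ 31041 31086 (by decide +kernel)

theorem oFi23a_tr2_15 : ∀ x, 29691 ≤ x → x < 31671 → oFi23a.treeRow cFi23a 52 2 x = true :=
  VCert.of_range' _ 29691 31671 (by decide +kernel)

theorem cFi23a_ok52 : ∀ x, 5607 ≤ x → x < 5714 → cFi23a.rowOK x = true :=
  VCert.of_range' _ 5607 5714 (by decide +kernel)

theorem cFi23a_ok191 : ∀ x, 20595 ≤ x → x < 20702 → cFi23a.rowOK x = true :=
  VCert.of_range' _ 20595 20702 (by decide +kernel)

theorem cFi23a_ok348 : ∀ x, 37524 ≤ x → x < 37631 → cFi23a.rowOK x = true :=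
  VCert.of_range' _ 37524 37631 (by decide +kernel)

theorem cFi23a_ok505 : ∀ x, 54453 ≤ x → x < 54560 → cFi23a.rowOK x = true :=
  VCert.of_range' _ 54453 54560 (by decide +kernel)

theorem oFi23a_colr15 : ∀ x, 11876 ≤ x → x < 12668 → oFi23a.colRow cFi23a x = true :=
  VCert.of_range' _ 11876 12668 (by decide +kernel)

theorem oFi23a_colr31 : ∀ x, 24545 ≤ x → x < 25336 → oFi23a.colRow cFi23a x = true :=
  VCert.of_range' _ 24545 25336 (by decide +kernel)


end Cfsg.Agent.Lib.Lead.VTC
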