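import Cfsg.Agent.Lib.Lead.VTCFi23a
import Cfsg.Agent.Lib.Lead.VTC3

set_option autoImplicit false
set_option maxRecDepth 100000

namespace Cfsg.Agent.Lib.Lead.VTC

theorem cFi23a_finr138 : ∀ x, 23624 ≤ x → x < 23796 → cFi23a.finRow x = true :=
  VCert.of_range' _ 23624 23796 (by decide +kernel)

theorem cFi23a_ok21 : ∀ x, 2264 ≤ x → x < 2372 → cFi23a.rowOK x = true :=
  VCert.of_range' _ 2264 2372 (by decide +kernel)

theorem cFi23a_ok43 : ∀ x, 4636 ≤ x → x < 4744 → cFi23a.rowOK x = true :=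
  VCert.of_range' _ 4636 4744 (by decide +kernel)

theorem cFi23a_ok76 : ∀ x, 8194 ≤ x → x < 8302 → cFi23a.rowOK x = true :=
  VCert.of_range' _ 8194 8302 (by decide +kernel)

theorem cFi23a_ok108 : ∀ x, 11645 ≤ x → x < 11753 → cFi23a.rowOK x = true :=
  VCert.of_range' _ 11645 11753 (by decide +kernel)

theorem cFi23a_ok141 : ∀ x, 15203 ≤ x → x < 15311 → cFi23a.rowOK x = true :=
  VCert.of_range' _ 15203 15311 (by decide +kernel)

theorem cFi23a_ok173 : ∀ x, 18654 ≤ x → x < 18762 → cFi23a.rowOK x = true :=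
  VCert.of_range' _ 18654 18762 (by decide +kernel)

theorem cFi23a_ok206 : ∀ x, 22212 ≤ x → x < 22320 → cFi23a.rowOK x = true :=
  VCert.of_range' _ 22212 22320 (by decide +kernel)

theorem cFi23a_ok239 : ∀ x, 25770 ≤ x → x < 25878 → cFi23a.rowOK x = true :=
  VCert.of_range' _ 25770 25878 (by decide +kernel)

theorem cFi23a_ok271 : ∀ x, 29221 ≤ x → x < 29329 → cFi23a.rowOK x = true :=
  VCert.of_range' _ 29221 29329 (by decide +kernel)

theorem cFi23a_ok304 : ∀ x, 32779 ≤ x → x < 32887 → cFi23a.rowOK x = true :=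
  VCert.of_range' _ 32779 32887 (by decide +kernel)

theorem cFi23a_ok337 : ∀ x, 36337 ≤ x → x < 36445 → cFi23a.rowOK x = true :=
  VCert.of_range' _ 36337 36445 (by decide +kernel)

theorem cFi23a_ok369 : ∀ x, 39788 ≤ x → x < 39896 → cFi23a.rowOK x = true :=
  VCert.of_range' _ 39788 39896 (by decide +kernel)

theorem cFi23a_ok402 : ∀ x, 43346 ≤ x → x < 43454 → cFi23a.rowOK x = true :=
  VCert.of_range' _ 43346 43454 (by decide +kernel)

theorem cFi23a_ok434 : ∀ x, 46797 ≤ x → x < 46905 → cFi23a.rowOK x = true :=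
  VCert.of_range' _ 46797 46905 (by decide +kernel)

theorem cFi23a_ok467 : ∀ x, 50355 ≤ x → x < 50463 → cFi23a.rowOK x = true :=
  VCert.of_range' _ 50355 50463 (by decide +kernel)

theorem cFi23a_ok500 : ∀ x, 53913 ≤ x → x < 54021 → cFi23a.rowOK x = true :=
  VCert.of_range' _ 53913 54021 (by decide +kernel)

theorem cFi23a_ok532 : ∀ x, 57364 ≤ x → x < 57472 → cFi23a.rowOK x = true :=
  VCert.of_range' _ 57364 57472 (by decide +kernel)

theorem cFi23a_ok565 : ∀ x, 60922 ≤ x → x < 61030 → cFi23a.rowOK x = true :=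
  VCert.of_range' _ 60922 61030 (by decide +kernel)

theorem cFi23a_ok597 : ∀ x, 64373 ≤ x → x < 64481 → cFi23a.rowOK x = true :=
  VCert.of_range' _ 64373 64481 (by decide +kernel)

theorem cFi23a_finr32 : ∀ x, 5478 ≤ x → x < 5649 → cFi23a.finRow x = true :=
  VCert.of_range' _ 5478 5649 (by decide +kernel)

theorem cFi23a_finr65 : ∀ x, 11127 ≤ x → x < 11298 → cFi23a.finRow x = true :=
  VCert.of_range' _ 11127 11298 (by decide +kernel)

theorem cFi23a_finr99 : ∀ x, 16948 ≤ x → x < 17119 → cFi23a.finRow x = true :=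
  VCert.of_range' _ 16948 17119 (by decide +kernel)

theorem cFi23a_finr132 : ∀ x, 22597 ≤ x → x < 22768 → cFi23a.finRow x = true :=
  VCert.of_range' _ 22597 22768 (by decide +kernel)

theorem cFi23a_finr166 : ∀ x, 28418 ≤ x → x < 28589 → cFi23a.finRow x = true :=
  VCert.of_range' _ 28418 28589 (by decide +kernel)

theorem cFi23a_act13 : ∀ x, 584 ≤ x → x < 629 → cFi23a.actRow x = true :=
  VCert.of_range' _ 584 629 (by decide +kernel)

theorem cFi23a_act35 : ∀ x, 1574 ≤ x → x < 1619 → cFi23a.actRow x = true :=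
  VCert.of_range' _ 1574 1619 (by decide +kernel)

theorem cFi23a_act62 : ∀ x, 2789 ≤ x → x < 2834 → cFi23a.actRow x = true :=
  VCert.of_range' _ 2789 2834 (by decide +kernel)

theorem cFi23a_act90 : ∀ x, 4048 ≤ x → x < 4093 → cFi23a.actRow x = true :=
  VCert.of_range' _ 4048 4093 (by decide +kernel)

theorem cFi23a_act117 : ∀ x, 5263 ≤ x → x < 5308 → cFi23a.actRow x = true :=
  VCert.of_range' _ 5263 5308 (by decide +kernel)

theorem cFi23a_act144 : ∀ x, 6478 ≤ x → x < 6523 → cFi23a.actRow x = true :=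
  VCert.of_range' _ 6478 6523 (by decide +kernel)

theorem cFi23a_act172 : ∀ x, 7737 ≤ x → x < 7782 → cFi23a.actRow x = true :=
  VCert.of_range' _ 7737 7782 (by decide +kernel)

theorem cFi23a_act199 : ∀ x, 8952 ≤ x → x < 8997 → cFi23a.actRow x = true :=
  VCert.of_range' _ 8952 8997 (by decide +kernel)

theorem cFi23a_act226 : ∀ x, 10167 ≤ x → x < 10212 → cFi23a.actRow x = true :=
  VCert.of_range' _ 10167 10212 (by decide +kernel)

theorem cFi23a_act254 : ∀ x, 11426 ≤ x → x < 11471 → cFi23a.actRow x = true :=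
  VCert.of_range' _ 11426 11471 (by decide +kernel)

theorem cFi23a_act281 : ∀ x, 12641 ≤ x → x < 12686 → cFi23a.actRow x = true :=
  VCert.of_range' _ 12641 12686 (by decide +kernel)

theorem cFi23a_act308 : ∀ x, 13856 ≤ x → x < 13901 → cFi23a.actRow x = true :=
  VCert.of_range' _ 13856 13901 (by decide +kernel)

theorem cFi23a_act336 : ∀ x, 15115 ≤ x → x < 15160 → cFi23a.actRow x = true :=
  VCert.of_range' _ 15115 15160 (by decide +kernel)

theorem cFi23a_act363 : ∀ x, 16330 ≤ x → x < 16375 → cFi23a.actRow x = true :=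
  VCert.of_range' _ 16330 16375 (by decide +kernel)

theorem cFi23a_act390 : ∀ x, 17545 ≤ x → x < 17590 → cFi23a.actRow x = true :=
  VCert.of_range' _ 17545 17590 (by decide +kernel)

theorem cFi23a_act418 : ∀ x, 18804 ≤ x → x < 18849 → cFi23a.actRow x = true :=
  VCert.of_range' _ 18804 18849 (by decide +kernel)

theorem cFi23a_act445 : ∀ x, 20019 ≤ x → x < 20064 → cFi23a.actRow x = true :=
  VCert.of_range' _ 20019 20064 (by decide +kernel)

theorem cFi23a_act473 : ∀ x, 21278 ≤ x → x < 21323 → cFi23a.actRow x = true :=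
  VCert.of_range' _ 21278 21323 (by decide +kernel)

theorem cFi23a_act500 : ∀ x, 22493 ≤ x → x < 22538 → cFi23a.actRow x = true :=
  VCert.of_range' _ 22493 22538 (by decide +kernel)

theorem cFi23a_act527 : ∀ x, 23708 ≤ x → x < 23753 → cFi23a.actRow x = true :=
  VCert.of_range' _ 23708 23753 (by decide +kernel)

theorem cFi23a_act555 : ∀ x, 24967 ≤ x → x < 25012 → cFi23a.actRow x = true :=
  VCert.of_range' _ 24967 25012 (by decide +kernel)

theorem cFi23a_act582 : ∀ x, 26182 ≤ x → x < 26227 → cFi23a.actRow x = true :=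
  VCert.of_range' _ 26182 26227 (by decide +kernel)

theorem cFi23a_act609 : ∀ x, 27397 ≤ x → x < 27442 → cFi23a.actRow x = true :=
  VCert.of_range' _ 27397 27442 (by decide +kernel)

theorem cFi23a_act637 : ∀ x, 28656 ≤ x → x < 28701 → cFi23a.actRow x = true :=
  VCert.of_range' _ 28656 28701 (by decide +kernel)

theorem cFi23a_act664 : ∀ x, 29871 ≤ x → x < 29916 → cFi23a.actRow x = true :=
  VCert.of_range' _ 29871 29916 (by decide +kernel)

theorem cFi23a_act691 : ∀ x, 31086 ≤ x → x < 31131 → cFi23a.actRow x = true :=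
  VCert.of_range' _ 31086 31131 (by decide +kernel)

theorem oFi23a_tr1_0 : ∀ x, 0 ≤ x → x < 1979 → oFi23a.treeRow cFi23a 1 1 x = true :=
  VCert.of_range' _ 0 1979 (by decide +kernel)

theorem oFi23a_tr2_10 : ∀ x, 19794 ≤ x → x < 21773 → oFi23a.treeRow cFi23a 52 2 x = true :=
  VCert.of_range' _ 19794 21773 (by decide +kernel)

theorem cFi23a_ok278 : ∀ x, 29976 ≤ x → x < 30083 → cFi23a.rowOK x = true :=
  VCert.of_range' _ 29976 30083 (by decide +kernel)

theorem cFi23a_ok435 : ∀ x, 46905 ≤ x → x < 47012 → cFi23a.rowOK x = true :=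
  VCert.of_range' _ 46905 47012 (by decide +kernel)

theorem cFi23a_ok592 : ∀ x, 63834 ≤ x → x < 63941 → cFi23a.rowOK x = true :=
  VCert.of_range' _ 63834 63941 (by decide +kernel)

theorem oFi23a_colr37 : ∀ x, 29295 ≤ x → x < 30087 → oFi23a.colRow cFi23a x = true :=
  VCert.of_range' _ 29295 30087 (by decide +kernel)

theorem cFi23a_finn5 : ∀ x, 16120 ≤ x → x < 19344 → cFi23a.finNode x = true :=
  VCert.of_range' _ 16120 19344 (by decide +kernel)


end Cfsg.Agent.Lib.Lead.VTC
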