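import Cfsg.Agent.Lib.Lead.VTCFi23a
import Cfsg.Agent.Lib.Lead.VTC3

set_option autoImplicit false
set_option maxRecDepth 100000

namespace Cfsg.Agent.Lib.Lead.VTC

theorem cFi23a_finr20 : ∀ x, 3423 ≤ x → x < 3595 → cFi23a.finRow x = true :=
  VCert.of_range' _ 3423 3595 (by decide +kernel)

theorem cFi23a_finr159 : ∀ x, 27219 ≤ x → x < 27391 → cFi23a.finRow x = true :=
  VCert.of_range' _ 27219 27391 (by decide +kernel)

theorem cFi23a_ok48 : ∀ x, 5175 ≤ x → x < 5283 → cFi23a.rowOK x = true :=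
  VCert.of_range' _ 5175 5283 (by decide +kernel)

theorem cFi23a_ok80 : ∀ x, 8626 ≤ x → x < 8734 → cFi23a.rowOK x = true :=
  VCert.of_range' _ 8626 8734 (by decide +kernel)

theorem cFi23a_ok113 : ∀ x, 12184 ≤ x → x < 12292 → cFi23a.rowOK x = true :=
  VCert.of_range' _ 12184 12292 (by decide +kernel)

theorem cFi23a_ok146 : ∀ x, 15742 ≤ x → x < 15850 → cFi23a.rowOK x = true :=
  VCert.of_range' _ 15742 15850 (by decide +kernel)

theorem cFi23a_ok178 : ∀ x, 19193 ≤ x → x < 19301 → cFi23a.rowOK x = true :=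
  VCert.of_range' _ 19193 19301 (by decide +kernel)

theorem cFi23a_ok211 : ∀ x, 22751 ≤ x → x < 22859 → cFi23a.rowOK x = true :=
  VCert.of_range' _ 22751 22859 (by decide +kernel)

theorem cFi23a_ok244 : ∀ x, 26309 ≤ x → x < 26417 → cFi23a.rowOK x = true :=
  VCert.of_range' _ 26309 26417 (by decide +kernel)

theorem cFi23a_ok276 : ∀ x, 29760 ≤ x → x < 29868 → cFi23a.rowOK x = true :=
  VCert.of_range' _ 29760 29868 (by decide +kernel)

theorem cFi23a_ok309 : ∀ x, 33318 ≤ x → x < 33426 → cFi23a.rowOK x = true :=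
  VCert.of_range' _ 33318 33426 (by decide +kernel)

theorem cFi23a_ok341 : ∀ x, 36769 ≤ x → x < 36877 → cFi23a.rowOK x = true :=
  VCert.of_range' _ 36769 36877 (by decide +kernel)

theorem cFi23a_ok374 : ∀ x, 40327 ≤ x → x < 40435 → cFi23a.rowOK x = true :=
  VCert.of_range' _ 40327 40435 (by decide +kernel)

theorem cFi23a_ok407 : ∀ x, 43885 ≤ x → x < 43993 → cFi23a.rowOK x = true :=
  VCert.of_range' _ 43885 43993 (by decide +kernel)

theorem cFi23a_ok439 : ∀ x, 47336 ≤ x → x < 47444 → cFi23a.rowOK x = true :=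
  VCert.of_range' _ 47336 47444 (by decide +kernel)

theorem cFi23a_ok472 : ∀ x, 50894 ≤ x → x < 51002 → cFi23a.rowOK x = true :=
  VCert.of_range' _ 50894 51002 (by decide +kernel)

theorem cFi23a_ok504 : ∀ x, 54345 ≤ x → x < 54453 → cFi23a.rowOK x = true :=
  VCert.of_range' _ 54345 54453 (by decide +kernel)

theorem cFi23a_ok537 : ∀ x, 57903 ≤ x → x < 58011 → cFi23a.rowOK x = true :=
  VCert.of_range' _ 57903 58011 (by decide +kernel)

theorem cFi23a_ok570 : ∀ x, 61461 ≤ x → x < 61569 → cFi23a.rowOK x = true :=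
  VCert.of_range' _ 61461 61569 (by decide +kernel)

theorem cFi23a_finr3 : ∀ x, 513 ≤ x → x < 684 → cFi23a.finRow x = true :=
  VCert.of_range' _ 513 684 (by decide +kernel)

theorem cFi23a_finr37 : ∀ x, 6334 ≤ x → x < 6505 → cFi23a.finRow x = true :=
  VCert.of_range' _ 6334 6505 (by decide +kernel)

theorem cFi23a_finr70 : ∀ x, 11983 ≤ x → x < 12154 → cFi23a.finRow x = true :=
  VCert.of_range' _ 11983 12154 (by decide +kernel)

theorem cFi23a_finr104 : ∀ x, 17804 ≤ x → x < 17975 → cFi23a.finRow x = true :=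
  VCert.of_range' _ 17804 17975 (by decide +kernel)

theorem cFi23a_finr137 : ∀ x, 23453 ≤ x → x < 23624 → cFi23a.finRow x = true :=
  VCert.of_range' _ 23453 23624 (by decide +kernel)

theorem cFi23a_finr171 : ∀ x, 29274 ≤ x → x < 29445 → cFi23a.finRow x = true :=
  VCert.of_range' _ 29274 29445 (by decide +kernel)

theorem cFi23a_act17 : ∀ x, 764 ≤ x → x < 809 → cFi23a.actRow x = true :=
  VCert.of_range' _ 764 809 (by decide +kernel)

theorem cFi23a_act44 : ∀ x, 1979 ≤ x → x < 2024 → cFi23a.actRow x = true :=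
  VCert.of_range' _ 1979 2024 (by decide +kernel)

theorem cFi23a_act71 : ∀ x, 3194 ≤ x → x < 3239 → cFi23a.actRow x = true :=
  VCert.of_range' _ 3194 3239 (by decide +kernel)

theorem cFi23a_act99 : ∀ x, 4453 ≤ x → x < 4498 → cFi23a.actRow x = true :=
  VCert.of_range' _ 4453 4498 (by decide +kernel)

theorem cFi23a_act126 : ∀ x, 5668 ≤ x → x < 5713 → cFi23a.actRow x = true :=
  VCert.of_range' _ 5668 5713 (by decide +kernel)

theorem cFi23a_act153 : ∀ x, 6883 ≤ x → x < 6928 → cFi23a.actRow x = true :=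
  VCert.of_range' _ 6883 6928 (by decide +kernel)

theorem cFi23a_act181 : ∀ x, 8142 ≤ x → x < 8187 → cFi23a.actRow x = true :=
  VCert.of_range' _ 8142 8187 (by decide +kernel)

theorem cFi23a_act208 : ∀ x, 9357 ≤ x → x < 9402 → cFi23a.actRow x = true :=
  VCert.of_range' _ 9357 9402 (by decide +kernel)

theorem cFi23a_act236 : ∀ x, 10616 ≤ x → x < 10661 → cFi23a.actRow x = true :=
  VCert.of_range' _ 10616 10661 (by decide +kernel)

theorem cFi23a_act263 : ∀ x, 11831 ≤ x → x < 11876 → cFi23a.actRow x = true :=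
  VCert.of_range' _ 11831 11876 (by decide +kernel)

theorem cFi23a_act290 : ∀ x, 13046 ≤ x → x < 13091 → cFi23a.actRow x = true :=
  VCert.of_range' _ 13046 13091 (by decide +kernel)

theorem cFi23a_act318 : ∀ x, 14305 ≤ x → x < 14350 → cFi23a.actRow x = true :=
  VCert.of_range' _ 14305 14350 (by decide +kernel)

theorem cFi23a_act345 : ∀ x, 15520 ≤ x → x < 15565 → cFi23a.actRow x = true :=
  VCert.of_range' _ 15520 15565 (by decide +kernel)

theorem cFi23a_act372 : ∀ x, 16735 ≤ x → x < 16780 → cFi23a.actRow x = true :=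
  VCert.of_range' _ 16735 16780 (by decide +kernel)

theorem cFi23a_act400 : ∀ x, 17994 ≤ x → x < 18039 → cFi23a.actRow x = true :=
  VCert.of_range' _ 17994 18039 (by decide +kernel)

theorem cFi23a_act427 : ∀ x, 19209 ≤ x → x < 19254 → cFi23a.actRow x = true :=
  VCert.of_range' _ 19209 19254 (by decide +kernel)

theorem cFi23a_act454 : ∀ x, 20424 ≤ x → x < 20469 → cFi23a.actRow x = true :=
  VCert.of_range' _ 20424 20469 (by decide +kernel)

theorem cFi23a_act482 : ∀ x, 21683 ≤ x → x < 21728 → cFi23a.actRow x = true :=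
  VCert.of_range' _ 21683 21728 (by decide +kernel)

theorem cFi23a_act509 : ∀ x, 22898 ≤ x → x < 22943 → cFi23a.actRow x = true :=
  VCert.of_range' _ 22898 22943 (by decide +kernel)

theorem cFi23a_act536 : ∀ x, 24113 ≤ x → x < 24158 → cFi23a.actRow x = true :=
  VCert.of_range' _ 24113 24158 (by decide +kernel)

theorem cFi23a_act564 : ∀ x, 25372 ≤ x → x < 25417 → cFi23a.actRow x = true :=
  VCert.of_range' _ 25372 25417 (by decide +kernel)

theorem cFi23a_act591 : ∀ x, 26587 ≤ x → x < 26632 → cFi23a.actRow x = true :=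
  VCert.of_range' _ 26587 26632 (by decide +kernel)

theorem cFi23a_act618 : ∀ x, 27802 ≤ x → x < 27847 → cFi23a.actRow x = true :=
  VCert.of_range' _ 27802 27847 (by decide +kernel)

theorem cFi23a_act646 : ∀ x, 29061 ≤ x → x < 29106 → cFi23a.actRow x = true :=
  VCert.of_range' _ 29061 29106 (by decide +kernel)

theorem cFi23a_act673 : ∀ x, 30276 ≤ x → x < 30321 → cFi23a.actRow x = true :=
  VCert.of_range' _ 30276 30321 (by decide +kernel)

theorem cFi23a_act700 : ∀ x, 31491 ≤ x → x < 31536 → cFi23a.actRow x = true :=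
  VCert.of_range' _ 31491 31536 (by decide +kernel)

theorem oFi23a_tr2_0 : ∀ x, 0 ≤ x → x < 1979 → oFi23a.treeRow cFi23a 52 2 x = true :=
  VCert.of_range' _ 0 1979 (by decide +kernel)

theorem cFi23a_ok104 : ∀ x, 11214 ≤ x → x < 11321 → cFi23a.rowOK x = true :=
  VCert.of_range' _ 11214 11321 (by decide +kernel)

theorem cFi23a_ok243 : ∀ x, 26202 ≤ x → x < 26309 → cFi23a.rowOK x = true :=
  VCert.of_range' _ 26202 26309 (by decide +kernel)

theorem cFi23a_ok400 : ∀ x, 43131 ≤ x → x < 43238 → cFi23a.rowOK x = true :=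
  VCert.of_range' _ 43131 43238 (by decide +kernel)

theorem cFi23a_ok557 : ∀ x, 60060 ≤ x → x < 60167 → cFi23a.rowOK x = true :=
  VCert.of_range' _ 60060 60167 (by decide +kernel)

theorem oFi23a_colr27 : ∀ x, 21377 ≤ x → x < 22169 → oFi23a.colRow cFi23a x = true :=
  VCert.of_range' _ 21377 22169 (by decide +kernel)

theorem cFi23a_act547 : ∀ x, 24608 ≤ x → x < 24652 → cFi23a.actRow x = true :=
  VCert.of_range' _ 24608 24652 (by decide +kernel)

theorem cFi23a_finn17 : ∀ x, 54808 ≤ x → x < 58032 → cFi23a.finNode x = true :=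
  VCert.of_range' _ 54808 58032 (by decide +kernel)


end Cfsg.Agent.Lib.Lead.VTC
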