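import Cfsg.Agent.Lib.Lead.VTCFi23a
import Cfsg.Agent.Lib.Lead.VTC3

set_option autoImplicit false
set_option maxRecDepth 100000

namespace Cfsg.Agent.Lib.Lead.VTC

theorem cFi23a_finr25 : ∀ x, 4279 ≤ x → x < 4451 → cFi23a.finRow x = true :=
  VCert.of_range' _ 4279 4451 (by decide +kernel)

theorem cFi23a_finr164 : ∀ x, 28075 ≤ x → x < 28247 → cFi23a.finRow x = true :=
  VCert.of_range' _ 28075 28247 (by decide +kernel)

theorem cFi23a_ok49 : ∀ x, 5283 ≤ x → x < 5391 → cFi23a.rowOK x = true :=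
  VCert.of_range' _ 5283 5391 (by decide +kernel)

theorem cFi23a_ok82 : ∀ x, 8841 ≤ x → x < 8949 → cFi23a.rowOK x = true :=
  VCert.of_range' _ 8841 8949 (by decide +kernel)

theorem cFi23a_ok114 : ∀ x, 12292 ≤ x → x < 12400 → cFi23a.rowOK x = true :=
  VCert.of_range' _ 12292 12400 (by decide +kernel)

theorem cFi23a_ok147 : ∀ x, 15850 ≤ x → x < 15958 → cFi23a.rowOK x = true :=
  VCert.of_range' _ 15850 15958 (by decide +kernel)

theorem cFi23a_ok180 : ∀ x, 19408 ≤ x → x < 19516 → cFi23a.rowOK x = true :=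
  VCert.of_range' _ 19408 19516 (by decide +kernel)

theorem cFi23a_ok212 : ∀ x, 22859 ≤ x → x < 22967 → cFi23a.rowOK x = true :=
  VCert.of_range' _ 22859 22967 (by decide +kernel)

theorem cFi23a_ok245 : ∀ x, 26417 ≤ x → x < 26525 → cFi23a.rowOK x = true :=
  VCert.of_range' _ 26417 26525 (by decide +kernel)

theorem cFi23a_ok277 : ∀ x, 29868 ≤ x → x < 29976 → cFi23a.rowOK x = true :=
  VCert.of_range' _ 29868 29976 (by decide +kernel)

theorem cFi23a_ok310 : ∀ x, 33426 ≤ x → x < 33534 → cFi23a.rowOK x = true :=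
  VCert.of_range' _ 33426 33534 (by decide +kernel)

theorem cFi23a_ok343 : ∀ x, 36984 ≤ x → x < 37092 → cFi23a.rowOK x = true :=
  VCert.of_range' _ 36984 37092 (by decide +kernel)

theorem cFi23a_ok375 : ∀ x, 40435 ≤ x → x < 40543 → cFi23a.rowOK x = true :=
  VCert.of_range' _ 40435 40543 (by decide +kernel)

theorem cFi23a_ok408 : ∀ x, 43993 ≤ x → x < 44101 → cFi23a.rowOK x = true :=
  VCert.of_range' _ 43993 44101 (by decide +kernel)

theorem cFi23a_ok440 : ∀ x, 47444 ≤ x → x < 47552 → cFi23a.rowOK x = true :=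
  VCert.of_range' _ 47444 47552 (by decide +kernel)

theorem cFi23a_ok473 : ∀ x, 51002 ≤ x → x < 51110 → cFi23a.rowOK x = true :=
  VCert.of_range' _ 51002 51110 (by decide +kernel)

theorem cFi23a_ok506 : ∀ x, 54560 ≤ x → x < 54668 → cFi23a.rowOK x = true :=
  VCert.of_range' _ 54560 54668 (by decide +kernel)

theorem cFi23a_ok538 : ∀ x, 58011 ≤ x → x < 58119 → cFi23a.rowOK x = true :=
  VCert.of_range' _ 58011 58119 (by decide +kernel)

theorem cFi23a_ok571 : ∀ x, 61569 ≤ x → x < 61677 → cFi23a.rowOK x = true :=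
  VCert.of_range' _ 61569 61677 (by decide +kernel)

theorem cFi23a_finr4 : ∀ x, 684 ≤ x → x < 855 → cFi23a.finRow x = true :=
  VCert.of_range' _ 684 855 (by decide +kernel)

theorem cFi23a_finr38 : ∀ x, 6505 ≤ x → x < 6676 → cFi23a.finRow x = true :=
  VCert.of_range' _ 6505 6676 (by decide +kernel)

theorem cFi23a_finr72 : ∀ x, 12326 ≤ x → x < 12497 → cFi23a.finRow x = true :=
  VCert.of_range' _ 12326 12497 (by decide +kernel)

theorem cFi23a_finr105 : ∀ x, 17975 ≤ x → x < 18146 → cFi23a.finRow x = true :=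
  VCert.of_range' _ 17975 18146 (by decide +kernel)

theorem cFi23a_finr139 : ∀ x, 23796 ≤ x → x < 23967 → cFi23a.finRow x = true :=
  VCert.of_range' _ 23796 23967 (by decide +kernel)

theorem cFi23a_finr172 : ∀ x, 29445 ≤ x → x < 29616 → cFi23a.finRow x = true :=
  VCert.of_range' _ 29445 29616 (by decide +kernel)

theorem cFi23a_act18 : ∀ x, 809 ≤ x → x < 854 → cFi23a.actRow x = true :=
  VCert.of_range' _ 809 854 (by decide +kernel)

theorem cFi23a_act45 : ∀ x, 2024 ≤ x → x < 2069 → cFi23a.actRow x = true :=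
  VCert.of_range' _ 2024 2069 (by decide +kernel)

theorem cFi23a_act72 : ∀ x, 3239 ≤ x → x < 3284 → cFi23a.actRow x = true :=
  VCert.of_range' _ 3239 3284 (by decide +kernel)

theorem cFi23a_act100 : ∀ x, 4498 ≤ x → x < 4543 → cFi23a.actRow x = true :=
  VCert.of_range' _ 4498 4543 (by decide +kernel)

theorem cFi23a_act127 : ∀ x, 5713 ≤ x → x < 5758 → cFi23a.actRow x = true :=
  VCert.of_range' _ 5713 5758 (by decide +kernel)

theorem cFi23a_act154 : ∀ x, 6928 ≤ x → x < 6973 → cFi23a.actRow x = true :=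
  VCert.of_range' _ 6928 6973 (by decide +kernel)

theorem cFi23a_act182 : ∀ x, 8187 ≤ x → x < 8232 → cFi23a.actRow x = true :=
  VCert.of_range' _ 8187 8232 (by decide +kernel)

theorem cFi23a_act209 : ∀ x, 9402 ≤ x → x < 9447 → cFi23a.actRow x = true :=
  VCert.of_range' _ 9402 9447 (by decide +kernel)

theorem cFi23a_act237 : ∀ x, 10661 ≤ x → x < 10706 → cFi23a.actRow x = true :=
  VCert.of_range' _ 10661 10706 (by decide +kernel)

theorem cFi23a_act264 : ∀ x, 11876 ≤ x → x < 11921 → cFi23a.actRow x = true :=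
  VCert.of_range' _ 11876 11921 (by decide +kernel)

theorem cFi23a_act291 : ∀ x, 13091 ≤ x → x < 13136 → cFi23a.actRow x = true :=
  VCert.of_range' _ 13091 13136 (by decide +kernel)

theorem cFi23a_act319 : ∀ x, 14350 ≤ x → x < 14395 → cFi23a.actRow x = true :=
  VCert.of_range' _ 14350 14395 (by decide +kernel)

theorem cFi23a_act346 : ∀ x, 15565 ≤ x → x < 15610 → cFi23a.actRow x = true :=
  VCert.of_range' _ 15565 15610 (by decide +kernel)

theorem cFi23a_act373 : ∀ x, 16780 ≤ x → x < 16825 → cFi23a.actRow x = true :=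
  VCert.of_range' _ 16780 16825 (by decide +kernel)

theorem cFi23a_act401 : ∀ x, 18039 ≤ x → x < 18084 → cFi23a.actRow x = true :=
  VCert.of_range' _ 18039 18084 (by decide +kernel)

theorem cFi23a_act428 : ∀ x, 19254 ≤ x → x < 19299 → cFi23a.actRow x = true :=
  VCert.of_range' _ 19254 19299 (by decide +kernel)

theorem cFi23a_act455 : ∀ x, 20469 ≤ x → x < 20514 → cFi23a.actRow x = true :=
  VCert.of_range' _ 20469 20514 (by decide +kernel)

theorem cFi23a_act483 : ∀ x, 21728 ≤ x → x < 21773 → cFi23a.actRow x = true :=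
  VCert.of_range' _ 21728 21773 (by decide +kernel)

theorem cFi23a_act510 : ∀ x, 22943 ≤ x → x < 22988 → cFi23a.actRow x = true :=
  VCert.of_range' _ 22943 22988 (by decide +kernel)

theorem cFi23a_act537 : ∀ x, 24158 ≤ x → x < 24203 → cFi23a.actRow x = true :=
  VCert.of_range' _ 24158 24203 (by decide +kernel)

theorem cFi23a_act565 : ∀ x, 25417 ≤ x → x < 25462 → cFi23a.actRow x = true :=
  VCert.of_range' _ 25417 25462 (by decide +kernel)

theorem cFi23a_act592 : ∀ x, 26632 ≤ x → x < 26677 → cFi23a.actRow x = true :=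
  VCert.of_range' _ 26632 26677 (by decide +kernel)

theorem cFi23a_act619 : ∀ x, 27847 ≤ x → x < 27892 → cFi23a.actRow x = true :=
  VCert.of_range' _ 27847 27892 (by decide +kernel)

theorem cFi23a_act647 : ∀ x, 29106 ≤ x → x < 29151 → cFi23a.actRow x = true :=
  VCert.of_range' _ 29106 29151 (by decide +kernel)

theorem cFi23a_act674 : ∀ x, 30321 ≤ x → x < 30366 → cFi23a.actRow x = true :=
  VCert.of_range' _ 30321 30366 (by decide +kernel)

theorem cFi23a_act701 : ∀ x, 31536 ≤ x → x < 31581 → cFi23a.actRow x = true :=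
  VCert.of_range' _ 31536 31581 (by decide +kernel)

theorem oFi23a_tr2_1 : ∀ x, 1979 ≤ x → x < 3958 → oFi23a.treeRow cFi23a 52 2 x = true :=
  VCert.of_range' _ 1979 3958 (by decide +kernel)

theorem cFi23a_ok110 : ∀ x, 11861 ≤ x → x < 11968 → cFi23a.rowOK x = true :=
  VCert.of_range' _ 11861 11968 (by decide +kernel)

theorem cFi23a_ok249 : ∀ x, 26849 ≤ x → x < 26956 → cFi23a.rowOK x = true :=
  VCert.of_range' _ 26849 26956 (by decide +kernel)

theorem cFi23a_ok406 : ∀ x, 43778 ≤ x → x < 43885 → cFi23a.rowOK x = true :=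
  VCert.of_range' _ 43778 43885 (by decide +kernel)

theorem cFi23a_ok563 : ∀ x, 60707 ≤ x → x < 60814 → cFi23a.rowOK x = true :=
  VCert.of_range' _ 60707 60814 (by decide +kernel)

theorem oFi23a_colr28 : ∀ x, 22169 ≤ x → x < 22961 → oFi23a.colRow cFi23a x = true :=
  VCert.of_range' _ 22169 22961 (by decide +kernel)

theorem cFi23a_act625 : ∀ x, 28117 ≤ x → x < 28161 → cFi23a.actRow x = true :=
  VCert.of_range' _ 28117 28161 (by decide +kernel)

theorem cFi23a_finn18 : ∀ x, 58032 ≤ x → x < 61256 → cFi23a.finNode x = true :=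
  VCert.of_range' _ 58032 61256 (by decide +kernel)


end Cfsg.Agent.Lib.Lead.VTC
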