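import Cfsg.Agent.Lib.Lead.VTCFi23a
import Cfsg.Agent.Lib.Lead.VTC3

set_option autoImplicit false
set_option maxRecDepth 100000

namespace Cfsg.Agent.Lib.Lead.VTC

theorem cFi23a_finr30 : ∀ x, 5135 ≤ x → x < 5307 → cFi23a.finRow x = true :=
  VCert.of_range' _ 5135 5307 (by decide +kernel)

theorem cFi23a_finr169 : ∀ x, 28931 ≤ x → x < 29103 → cFi23a.finRow x = true :=
  VCert.of_range' _ 28931 29103 (by decide +kernel)

theorem cFi23a_ok50 : ∀ x, 5391 ≤ x → x < 5499 → cFi23a.rowOK x = true :=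
  VCert.of_range' _ 5391 5499 (by decide +kernel)

theorem cFi23a_ok83 : ∀ x, 8949 ≤ x → x < 9057 → cFi23a.rowOK x = true :=
  VCert.of_range' _ 8949 9057 (by decide +kernel)

theorem cFi23a_ok115 : ∀ x, 12400 ≤ x → x < 12508 → cFi23a.rowOK x = true :=
  VCert.of_range' _ 12400 12508 (by decide +kernel)

theorem cFi23a_ok148 : ∀ x, 15958 ≤ x → x < 16066 → cFi23a.rowOK x = true :=
  VCert.of_range' _ 15958 16066 (by decide +kernel)

theorem cFi23a_ok181 : ∀ x, 19516 ≤ x → x < 19624 → cFi23a.rowOK x = true :=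
  VCert.of_range' _ 19516 19624 (by decide +kernel)

theorem cFi23a_ok213 : ∀ x, 22967 ≤ x → x < 23075 → cFi23a.rowOK x = true :=
  VCert.of_range' _ 22967 23075 (by decide +kernel)

theorem cFi23a_ok246 : ∀ x, 26525 ≤ x → x < 26633 → cFi23a.rowOK x = true :=
  VCert.of_range' _ 26525 26633 (by decide +kernel)

theorem cFi23a_ok279 : ∀ x, 30083 ≤ x → x < 30191 → cFi23a.rowOK x = true :=
  VCert.of_range' _ 30083 30191 (by decide +kernel)

theorem cFi23a_ok311 : ∀ x, 33534 ≤ x → x < 33642 → cFi23a.rowOK x = true :=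
  VCert.of_range' _ 33534 33642 (by decide +kernel)

theorem cFi23a_ok344 : ∀ x, 37092 ≤ x → x < 37200 → cFi23a.rowOK x = true :=
  VCert.of_range' _ 37092 37200 (by decide +kernel)

theorem cFi23a_ok376 : ∀ x, 40543 ≤ x → x < 40651 → cFi23a.rowOK x = true :=
  VCert.of_range' _ 40543 40651 (by decide +kernel)

theorem cFi23a_ok409 : ∀ x, 44101 ≤ x → x < 44209 → cFi23a.rowOK x = true :=
  VCert.of_range' _ 44101 44209 (by decide +kernel)

theorem cFi23a_ok442 : ∀ x, 47659 ≤ x → x < 47767 → cFi23a.rowOK x = true :=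
  VCert.of_range' _ 47659 47767 (by decide +kernel)

theorem cFi23a_ok474 : ∀ x, 51110 ≤ x → x < 51218 → cFi23a.rowOK x = true :=
  VCert.of_range' _ 51110 51218 (by decide +kernel)

theorem cFi23a_ok507 : ∀ x, 54668 ≤ x → x < 54776 → cFi23a.rowOK x = true :=
  VCert.of_range' _ 54668 54776 (by decide +kernel)

theorem cFi23a_ok540 : ∀ x, 58226 ≤ x → x < 58334 → cFi23a.rowOK x = true :=
  VCert.of_range' _ 58226 58334 (by decide +kernel)

theorem cFi23a_ok572 : ∀ x, 61677 ≤ x → x < 61785 → cFi23a.rowOK x = true :=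
  VCert.of_range' _ 61677 61785 (by decide +kernel)

theorem cFi23a_finr6 : ∀ x, 1027 ≤ x → x < 1198 → cFi23a.finRow x = true :=
  VCert.of_range' _ 1027 1198 (by decide +kernel)

theorem cFi23a_finr39 : ∀ x, 6676 ≤ x → x < 6847 → cFi23a.finRow x = true :=
  VCert.of_range' _ 6676 6847 (by decide +kernel)

theorem cFi23a_finr73 : ∀ x, 12497 ≤ x → x < 12668 → cFi23a.finRow x = true :=
  VCert.of_range' _ 12497 12668 (by decide +kernel)

theorem cFi23a_finr106 : ∀ x, 18146 ≤ x → x < 18317 → cFi23a.finRow x = true :=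
  VCert.of_range' _ 18146 18317 (by decide +kernel)

theorem cFi23a_finr140 : ∀ x, 23967 ≤ x → x < 24138 → cFi23a.finRow x = true :=
  VCert.of_range' _ 23967 24138 (by decide +kernel)

theorem cFi23a_finr173 : ∀ x, 29616 ≤ x → x < 29787 → cFi23a.finRow x = true :=
  VCert.of_range' _ 29616 29787 (by decide +kernel)

theorem cFi23a_act19 : ∀ x, 854 ≤ x → x < 899 → cFi23a.actRow x = true :=
  VCert.of_range' _ 854 899 (by decide +kernel)

theorem cFi23a_act46 : ∀ x, 2069 ≤ x → x < 2114 → cFi23a.actRow x = true :=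
  VCert.of_range' _ 2069 2114 (by decide +kernel)

theorem cFi23a_act73 : ∀ x, 3284 ≤ x → x < 3329 → cFi23a.actRow x = true :=
  VCert.of_range' _ 3284 3329 (by decide +kernel)

theorem cFi23a_act101 : ∀ x, 4543 ≤ x → x < 4588 → cFi23a.actRow x = true :=
  VCert.of_range' _ 4543 4588 (by decide +kernel)

theorem cFi23a_act128 : ∀ x, 5758 ≤ x → x < 5803 → cFi23a.actRow x = true :=
  VCert.of_range' _ 5758 5803 (by decide +kernel)

theorem cFi23a_act155 : ∀ x, 6973 ≤ x → x < 7018 → cFi23a.actRow x = true :=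
  VCert.of_range' _ 6973 7018 (by decide +kernel)

theorem cFi23a_act183 : ∀ x, 8232 ≤ x → x < 8277 → cFi23a.actRow x = true :=
  VCert.of_range' _ 8232 8277 (by decide +kernel)

theorem cFi23a_act210 : ∀ x, 9447 ≤ x → x < 9492 → cFi23a.actRow x = true :=
  VCert.of_range' _ 9447 9492 (by decide +kernel)

theorem cFi23a_act238 : ∀ x, 10706 ≤ x → x < 10751 → cFi23a.actRow x = true :=
  VCert.of_range' _ 10706 10751 (by decide +kernel)

theorem cFi23a_act265 : ∀ x, 11921 ≤ x → x < 11966 → cFi23a.actRow x = true :=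
  VCert.of_range' _ 11921 11966 (by decide +kernel)

theorem cFi23a_act292 : ∀ x, 13136 ≤ x → x < 13181 → cFi23a.actRow x = true :=
  VCert.of_range' _ 13136 13181 (by decide +kernel)

theorem cFi23a_act320 : ∀ x, 14395 ≤ x → x < 14440 → cFi23a.actRow x = true :=
  VCert.of_range' _ 14395 14440 (by decide +kernel)

theorem cFi23a_act347 : ∀ x, 15610 ≤ x → x < 15655 → cFi23a.actRow x = true :=
  VCert.of_range' _ 15610 15655 (by decide +kernel)

theorem cFi23a_act374 : ∀ x, 16825 ≤ x → x < 16870 → cFi23a.actRow x = true :=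
  VCert.of_range' _ 16825 16870 (by decide +kernel)

theorem cFi23a_act402 : ∀ x, 18084 ≤ x → x < 18129 → cFi23a.actRow x = true :=
  VCert.of_range' _ 18084 18129 (by decide +kernel)

theorem cFi23a_act429 : ∀ x, 19299 ≤ x → x < 19344 → cFi23a.actRow x = true :=
  VCert.of_range' _ 19299 19344 (by decide +kernel)

theorem cFi23a_act456 : ∀ x, 20514 ≤ x → x < 20559 → cFi23a.actRow x = true :=
  VCert.of_range' _ 20514 20559 (by decide +kernel)

theorem cFi23a_act484 : ∀ x, 21773 ≤ x → x < 21818 → cFi23a.actRow x = true :=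
  VCert.of_range' _ 21773 21818 (by decide +kernel)

theorem cFi23a_act511 : ∀ x, 22988 ≤ x → x < 23033 → cFi23a.actRow x = true :=
  VCert.of_range' _ 22988 23033 (by decide +kernel)

theorem cFi23a_act538 : ∀ x, 24203 ≤ x → x < 24248 → cFi23a.actRow x = true :=
  VCert.of_range' _ 24203 24248 (by decide +kernel)

theorem cFi23a_act566 : ∀ x, 25462 ≤ x → x < 25507 → cFi23a.actRow x = true :=
  VCert.of_range' _ 25462 25507 (by decide +kernel)

theorem cFi23a_act593 : ∀ x, 26677 ≤ x → x < 26722 → cFi23a.actRow x = true :=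
  VCert.of_range' _ 26677 26722 (by decide +kernel)

theorem cFi23a_act620 : ∀ x, 27892 ≤ x → x < 27937 → cFi23a.actRow x = true :=
  VCert.of_range' _ 27892 27937 (by decide +kernel)

theorem cFi23a_act648 : ∀ x, 29151 ≤ x → x < 29196 → cFi23a.actRow x = true :=
  VCert.of_range' _ 29151 29196 (by decide +kernel)

theorem cFi23a_act675 : ∀ x, 30366 ≤ x → x < 30411 → cFi23a.actRow x = true :=
  VCert.of_range' _ 30366 30411 (by decide +kernel)

theorem cFi23a_act702 : ∀ x, 31581 ≤ x → x < 31626 → cFi23a.actRow x = true :=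
  VCert.of_range' _ 31581 31626 (by decide +kernel)

theorem oFi23a_tr2_3 : ∀ x, 5938 ≤ x → x < 7917 → oFi23a.treeRow cFi23a 52 2 x = true :=
  VCert.of_range' _ 5938 7917 (by decide +kernel)

theorem cFi23a_ok116 : ∀ x, 12508 ≤ x → x < 12615 → cFi23a.rowOK x = true :=
  VCert.of_range' _ 12508 12615 (by decide +kernel)

theorem cFi23a_ok255 : ∀ x, 27496 ≤ x → x < 27603 → cFi23a.rowOK x = true :=
  VCert.of_range' _ 27496 27603 (by decide +kernel)

theorem cFi23a_ok412 : ∀ x, 44425 ≤ x → x < 44532 → cFi23a.rowOK x = true :=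
  VCert.of_range' _ 44425 44532 (by decide +kernel)

theorem cFi23a_ok568 : ∀ x, 61246 ≤ x → x < 61353 → cFi23a.rowOK x = true :=
  VCert.of_range' _ 61246 61353 (by decide +kernel)

theorem oFi23a_colr29 : ∀ x, 22961 ≤ x → x < 23753 → oFi23a.colRow cFi23a x = true :=
  VCert.of_range' _ 22961 23753 (by decide +kernel)

theorem cFi23a_finn19 : ∀ x, 61256 ≤ x → x < 64481 → cFi23a.finNode x = true :=
  VCert.of_range' _ 61256 64481 (by decide +kernel)

theorem cFi23a_finn9 : ∀ x, 29016 ≤ x → x < 32240 → cFi23a.finNode x = true :=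
  VCert.of_range' _ 29016 32240 (by decide +kernel)


end Cfsg.Agent.Lib.Lead.VTC
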