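import Cfsg.Agent.Lib.Lead.VTCFi23a
import Cfsg.Agent.Lib.Lead.VTC3

set_option autoImplicit false
set_option maxRecDepth 100000

namespace Cfsg.Agent.Lib.Lead.VTC

theorem cFi23a_finr35 : ∀ x, 5991 ≤ x → x < 6163 → cFi23a.finRow x = true :=
  VCert.of_range' _ 5991 6163 (by decide +kernel)

theorem cFi23a_finr174 : ∀ x, 29787 ≤ x → x < 29959 → cFi23a.finRow x = true :=
  VCert.of_range' _ 29787 29959 (by decide +kernel)

theorem cFi23a_ok51 : ∀ x, 5499 ≤ x → x < 5607 → cFi23a.rowOK x = true :=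
  VCert.of_range' _ 5499 5607 (by decide +kernel)

theorem cFi23a_ok84 : ∀ x, 9057 ≤ x → x < 9165 → cFi23a.rowOK x = true :=
  VCert.of_range' _ 9057 9165 (by decide +kernel)

theorem cFi23a_ok117 : ∀ x, 12615 ≤ x → x < 12723 → cFi23a.rowOK x = true :=
  VCert.of_range' _ 12615 12723 (by decide +kernel)

theorem cFi23a_ok149 : ∀ x, 16066 ≤ x → x < 16174 → cFi23a.rowOK x = true :=
  VCert.of_range' _ 16066 16174 (by decide +kernel)

theorem cFi23a_ok182 : ∀ x, 19624 ≤ x → x < 19732 → cFi23a.rowOK x = true :=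
  VCert.of_range' _ 19624 19732 (by decide +kernel)

theorem cFi23a_ok215 : ∀ x, 23182 ≤ x → x < 23290 → cFi23a.rowOK x = true :=
  VCert.of_range' _ 23182 23290 (by decide +kernel)

theorem cFi23a_ok247 : ∀ x, 26633 ≤ x → x < 26741 → cFi23a.rowOK x = true :=
  VCert.of_range' _ 26633 26741 (by decide +kernel)

theorem cFi23a_ok280 : ∀ x, 30191 ≤ x → x < 30299 → cFi23a.rowOK x = true :=
  VCert.of_range' _ 30191 30299 (by decide +kernel)

theorem cFi23a_ok312 : ∀ x, 33642 ≤ x → x < 33750 → cFi23a.rowOK x = true :=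
  VCert.of_range' _ 33642 33750 (by decide +kernel)

theorem cFi23a_ok345 : ∀ x, 37200 ≤ x → x < 37308 → cFi23a.rowOK x = true :=
  VCert.of_range' _ 37200 37308 (by decide +kernel)

theorem cFi23a_ok378 : ∀ x, 40758 ≤ x → x < 40866 → cFi23a.rowOK x = true :=
  VCert.of_range' _ 40758 40866 (by decide +kernel)

theorem cFi23a_ok410 : ∀ x, 44209 ≤ x → x < 44317 → cFi23a.rowOK x = true :=
  VCert.of_range' _ 44209 44317 (by decide +kernel)

theorem cFi23a_ok443 : ∀ x, 47767 ≤ x → x < 47875 → cFi23a.rowOK x = true :=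
  VCert.of_range' _ 47767 47875 (by decide +kernel)

theorem cFi23a_ok475 : ∀ x, 51218 ≤ x → x < 51326 → cFi23a.rowOK x = true :=
  VCert.of_range' _ 51218 51326 (by decide +kernel)

theorem cFi23a_ok508 : ∀ x, 54776 ≤ x → x < 54884 → cFi23a.rowOK x = true :=
  VCert.of_range' _ 54776 54884 (by decide +kernel)

theorem cFi23a_ok541 : ∀ x, 58334 ≤ x → x < 58442 → cFi23a.rowOK x = true :=
  VCert.of_range' _ 58334 58442 (by decide +kernel)

theorem cFi23a_ok573 : ∀ x, 61785 ≤ x → x < 61893 → cFi23a.rowOK x = true :=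
  VCert.of_range' _ 61785 61893 (by decide +kernel)

theorem cFi23a_finr7 : ∀ x, 1198 ≤ x → x < 1369 → cFi23a.finRow x = true :=
  VCert.of_range' _ 1198 1369 (by decide +kernel)

theorem cFi23a_finr40 : ∀ x, 6847 ≤ x → x < 7018 → cFi23a.finRow x = true :=
  VCert.of_range' _ 6847 7018 (by decide +kernel)

theorem cFi23a_finr74 : ∀ x, 12668 ≤ x → x < 12839 → cFi23a.finRow x = true :=
  VCert.of_range' _ 12668 12839 (by decide +kernel)

theorem cFi23a_finr108 : ∀ x, 18489 ≤ x → x < 18660 → cFi23a.finRow x = true :=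
  VCert.of_range' _ 18489 18660 (by decide +kernel)

theorem cFi23a_finr141 : ∀ x, 24138 ≤ x → x < 24309 → cFi23a.finRow x = true :=
  VCert.of_range' _ 24138 24309 (by decide +kernel)

theorem cFi23a_finr175 : ∀ x, 29959 ≤ x → x < 30130 → cFi23a.finRow x = true :=
  VCert.of_range' _ 29959 30130 (by decide +kernel)

theorem cFi23a_act20 : ∀ x, 899 ≤ x → x < 944 → cFi23a.actRow x = true :=
  VCert.of_range' _ 899 944 (by decide +kernel)

theorem cFi23a_act47 : ∀ x, 2114 ≤ x → x < 2159 → cFi23a.actRow x = true :=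
  VCert.of_range' _ 2114 2159 (by decide +kernel)

theorem cFi23a_act74 : ∀ x, 3329 ≤ x → x < 3374 → cFi23a.actRow x = true :=
  VCert.of_range' _ 3329 3374 (by decide +kernel)

theorem cFi23a_act102 : ∀ x, 4588 ≤ x → x < 4633 → cFi23a.actRow x = true :=
  VCert.of_range' _ 4588 4633 (by decide +kernel)

theorem cFi23a_act129 : ∀ x, 5803 ≤ x → x < 5848 → cFi23a.actRow x = true :=
  VCert.of_range' _ 5803 5848 (by decide +kernel)

theorem cFi23a_act157 : ∀ x, 7062 ≤ x → x < 7107 → cFi23a.actRow x = true :=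
  VCert.of_range' _ 7062 7107 (by decide +kernel)

theorem cFi23a_act184 : ∀ x, 8277 ≤ x → x < 8322 → cFi23a.actRow x = true :=
  VCert.of_range' _ 8277 8322 (by decide +kernel)

theorem cFi23a_act211 : ∀ x, 9492 ≤ x → x < 9537 → cFi23a.actRow x = true :=
  VCert.of_range' _ 9492 9537 (by decide +kernel)

theorem cFi23a_act239 : ∀ x, 10751 ≤ x → x < 10796 → cFi23a.actRow x = true :=
  VCert.of_range' _ 10751 10796 (by decide +kernel)

theorem cFi23a_act266 : ∀ x, 11966 ≤ x → x < 12011 → cFi23a.actRow x = true :=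
  VCert.of_range' _ 11966 12011 (by decide +kernel)

theorem cFi23a_act293 : ∀ x, 13181 ≤ x → x < 13226 → cFi23a.actRow x = true :=
  VCert.of_range' _ 13181 13226 (by decide +kernel)

theorem cFi23a_act321 : ∀ x, 14440 ≤ x → x < 14485 → cFi23a.actRow x = true :=
  VCert.of_range' _ 14440 14485 (by decide +kernel)

theorem cFi23a_act348 : ∀ x, 15655 ≤ x → x < 15700 → cFi23a.actRow x = true :=
  VCert.of_range' _ 15655 15700 (by decide +kernel)

theorem cFi23a_act375 : ∀ x, 16870 ≤ x → x < 16915 → cFi23a.actRow x = true :=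
  VCert.of_range' _ 16870 16915 (by decide +kernel)

theorem cFi23a_act403 : ∀ x, 18129 ≤ x → x < 18174 → cFi23a.actRow x = true :=
  VCert.of_range' _ 18129 18174 (by decide +kernel)

theorem cFi23a_act430 : ∀ x, 19344 ≤ x → x < 19389 → cFi23a.actRow x = true :=
  VCert.of_range' _ 19344 19389 (by decide +kernel)

theorem cFi23a_act457 : ∀ x, 20559 ≤ x → x < 20604 → cFi23a.actRow x = true :=
  VCert.of_range' _ 20559 20604 (by decide +kernel)

theorem cFi23a_act485 : ∀ x, 21818 ≤ x → x < 21863 → cFi23a.actRow x = true :=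
  VCert.of_range' _ 21818 21863 (by decide +kernel)

theorem cFi23a_act512 : ∀ x, 23033 ≤ x → x < 23078 → cFi23a.actRow x = true :=
  VCert.of_range' _ 23033 23078 (by decide +kernel)

theorem cFi23a_act539 : ∀ x, 24248 ≤ x → x < 24293 → cFi23a.actRow x = true :=
  VCert.of_range' _ 24248 24293 (by decide +kernel)

theorem cFi23a_act567 : ∀ x, 25507 ≤ x → x < 25552 → cFi23a.actRow x = true :=
  VCert.of_range' _ 25507 25552 (by decide +kernel)

theorem cFi23a_act594 : ∀ x, 26722 ≤ x → x < 26767 → cFi23a.actRow x = true :=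
  VCert.of_range' _ 26722 26767 (by decide +kernel)

theorem cFi23a_act621 : ∀ x, 27937 ≤ x → x < 27982 → cFi23a.actRow x = true :=
  VCert.of_range' _ 27937 27982 (by decide +kernel)

theorem cFi23a_act649 : ∀ x, 29196 ≤ x → x < 29241 → cFi23a.actRow x = true :=
  VCert.of_range' _ 29196 29241 (by decide +kernel)

theorem cFi23a_act676 : ∀ x, 30411 ≤ x → x < 30456 → cFi23a.actRow x = true :=
  VCert.of_range' _ 30411 30456 (by decide +kernel)

theorem cFi23a_act703 : ∀ x, 31626 ≤ x → x < 31671 → cFi23a.actRow x = true :=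
  VCert.of_range' _ 31626 31671 (by decide +kernel)

theorem oFi23a_tr2_5 : ∀ x, 9897 ≤ x → x < 11876 → oFi23a.treeRow cFi23a 52 2 x = true :=
  VCert.of_range' _ 9897 11876 (by decide +kernel)

theorem cFi23a_ok121 : ∀ x, 13047 ≤ x → x < 13154 → cFi23a.rowOK x = true :=
  VCert.of_range' _ 13047 13154 (by decide +kernel)

theorem cFi23a_ok261 : ∀ x, 28143 ≤ x → x < 28250 → cFi23a.rowOK x = true :=
  VCert.of_range' _ 28143 28250 (by decide +kernel)

theorem cFi23a_ok418 : ∀ x, 45072 ≤ x → x < 45179 → cFi23a.rowOK x = true :=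
  VCert.of_range' _ 45072 45179 (by decide +kernel)

theorem cFi23a_ok574 : ∀ x, 61893 ≤ x → x < 62000 → cFi23a.rowOK x = true :=
  VCert.of_range' _ 61893 62000 (by decide +kernel)

theorem oFi23a_colr30 : ∀ x, 23753 ≤ x → x < 24545 → oFi23a.colRow cFi23a x = true :=
  VCert.of_range' _ 23753 24545 (by decide +kernel)

theorem cFi23a_finn0 : ∀ x, 0 ≤ x → x < 3224 → cFi23a.finNode x = true :=
  VCert.of_range' _ 0 3224 (by decide +kernel)

theorem cFi23a_finn6 : ∀ x, 19344 ≤ x → x < 22568 → cFi23a.finNode x = true :=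
  VCert.of_range' _ 19344 22568 (by decide +kernel)


end Cfsg.Agent.Lib.Lead.VTC
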