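import Cfsg.Agent.Lib.Lead.VTCFi23a
import Cfsg.Agent.Lib.Lead.VTC3

set_option autoImplicit false
set_option maxRecDepth 100000

namespace Cfsg.Agent.Lib.Lead.VTC

theorem cFi23a_finr41 : ∀ x, 7018 ≤ x → x < 7190 → cFi23a.finRow x = true :=
  VCert.of_range' _ 7018 7190 (by decide +kernel)

theorem cFi23a_finr179 : ∀ x, 30643 ≤ x → x < 30815 → cFi23a.finRow x = true :=
  VCert.of_range' _ 30643 30815 (by decide +kernel)

theorem cFi23a_ok53 : ∀ x, 5714 ≤ x → x < 5822 → cFi23a.rowOK x = true :=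
  VCert.of_range' _ 5714 5822 (by decide +kernel)

theorem cFi23a_ok85 : ∀ x, 9165 ≤ x → x < 9273 → cFi23a.rowOK x = true :=
  VCert.of_range' _ 9165 9273 (by decide +kernel)

theorem cFi23a_ok118 : ∀ x, 12723 ≤ x → x < 12831 → cFi23a.rowOK x = true :=
  VCert.of_range' _ 12723 12831 (by decide +kernel)

theorem cFi23a_ok151 : ∀ x, 16281 ≤ x → x < 16389 → cFi23a.rowOK x = true :=
  VCert.of_range' _ 16281 16389 (by decide +kernel)

theorem cFi23a_ok183 : ∀ x, 19732 ≤ x → x < 19840 → cFi23a.rowOK x = true :=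
  VCert.of_range' _ 19732 19840 (by decide +kernel)

theorem cFi23a_ok216 : ∀ x, 23290 ≤ x → x < 23398 → cFi23a.rowOK x = true :=
  VCert.of_range' _ 23290 23398 (by decide +kernel)

theorem cFi23a_ok248 : ∀ x, 26741 ≤ x → x < 26849 → cFi23a.rowOK x = true :=
  VCert.of_range' _ 26741 26849 (by decide +kernel)

theorem cFi23a_ok281 : ∀ x, 30299 ≤ x → x < 30407 → cFi23a.rowOK x = true :=
  VCert.of_range' _ 30299 30407 (by decide +kernel)

theorem cFi23a_ok314 : ∀ x, 33857 ≤ x → x < 33965 → cFi23a.rowOK x = true :=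
  VCert.of_range' _ 33857 33965 (by decide +kernel)

theorem cFi23a_ok346 : ∀ x, 37308 ≤ x → x < 37416 → cFi23a.rowOK x = true :=
  VCert.of_range' _ 37308 37416 (by decide +kernel)

theorem cFi23a_ok379 : ∀ x, 40866 ≤ x → x < 40974 → cFi23a.rowOK x = true :=
  VCert.of_range' _ 40866 40974 (by decide +kernel)

theorem cFi23a_ok411 : ∀ x, 44317 ≤ x → x < 44425 → cFi23a.rowOK x = true :=
  VCert.of_range' _ 44317 44425 (by decide +kernel)

theorem cFi23a_ok444 : ∀ x, 47875 ≤ x → x < 47983 → cFi23a.rowOK x = true :=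
  VCert.of_range' _ 47875 47983 (by decide +kernel)

theorem cFi23a_ok477 : ∀ x, 51433 ≤ x → x < 51541 → cFi23a.rowOK x = true :=
  VCert.of_range' _ 51433 51541 (by decide +kernel)

theorem cFi23a_ok509 : ∀ x, 54884 ≤ x → x < 54992 → cFi23a.rowOK x = true :=
  VCert.of_range' _ 54884 54992 (by decide +kernel)

theorem cFi23a_ok542 : ∀ x, 58442 ≤ x → x < 58550 → cFi23a.rowOK x = true :=
  VCert.of_range' _ 58442 58550 (by decide +kernel)

theorem cFi23a_ok575 : ∀ x, 62000 ≤ x → x < 62108 → cFi23a.rowOK x = true :=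
  VCert.of_range' _ 62000 62108 (by decide +kernel)

theorem cFi23a_finr8 : ∀ x, 1369 ≤ x → x < 1540 → cFi23a.finRow x = true :=
  VCert.of_range' _ 1369 1540 (by decide +kernel)

theorem cFi23a_finr42 : ∀ x, 7190 ≤ x → x < 7361 → cFi23a.finRow x = true :=
  VCert.of_range' _ 7190 7361 (by decide +kernel)

theorem cFi23a_finr75 : ∀ x, 12839 ≤ x → x < 13010 → cFi23a.finRow x = true :=
  VCert.of_range' _ 12839 13010 (by decide +kernel)

theorem cFi23a_finr109 : ∀ x, 18660 ≤ x → x < 18831 → cFi23a.finRow x = true :=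
  VCert.of_range' _ 18660 18831 (by decide +kernel)

theorem cFi23a_finr142 : ∀ x, 24309 ≤ x → x < 24480 → cFi23a.finRow x = true :=
  VCert.of_range' _ 24309 24480 (by decide +kernel)

theorem cFi23a_finr176 : ∀ x, 30130 ≤ x → x < 30301 → cFi23a.finRow x = true :=
  VCert.of_range' _ 30130 30301 (by decide +kernel)

theorem cFi23a_act21 : ∀ x, 944 ≤ x → x < 989 → cFi23a.actRow x = true :=
  VCert.of_range' _ 944 989 (by decide +kernel)

theorem cFi23a_act48 : ∀ x, 2159 ≤ x → x < 2204 → cFi23a.actRow x = true :=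
  VCert.of_range' _ 2159 2204 (by decide +kernel)

theorem cFi23a_act75 : ∀ x, 3374 ≤ x → x < 3419 → cFi23a.actRow x = true :=
  VCert.of_range' _ 3374 3419 (by decide +kernel)

theorem cFi23a_act103 : ∀ x, 4633 ≤ x → x < 4678 → cFi23a.actRow x = true :=
  VCert.of_range' _ 4633 4678 (by decide +kernel)

theorem cFi23a_act130 : ∀ x, 5848 ≤ x → x < 5893 → cFi23a.actRow x = true :=
  VCert.of_range' _ 5848 5893 (by decide +kernel)

theorem cFi23a_act158 : ∀ x, 7107 ≤ x → x < 7152 → cFi23a.actRow x = true :=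
  VCert.of_range' _ 7107 7152 (by decide +kernel)

theorem cFi23a_act185 : ∀ x, 8322 ≤ x → x < 8367 → cFi23a.actRow x = true :=
  VCert.of_range' _ 8322 8367 (by decide +kernel)

theorem cFi23a_act212 : ∀ x, 9537 ≤ x → x < 9582 → cFi23a.actRow x = true :=
  VCert.of_range' _ 9537 9582 (by decide +kernel)

theorem cFi23a_act240 : ∀ x, 10796 ≤ x → x < 10841 → cFi23a.actRow x = true :=
  VCert.of_range' _ 10796 10841 (by decide +kernel)

theorem cFi23a_act267 : ∀ x, 12011 ≤ x → x < 12056 → cFi23a.actRow x = true :=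
  VCert.of_range' _ 12011 12056 (by decide +kernel)

theorem cFi23a_act294 : ∀ x, 13226 ≤ x → x < 13271 → cFi23a.actRow x = true :=
  VCert.of_range' _ 13226 13271 (by decide +kernel)

theorem cFi23a_act322 : ∀ x, 14485 ≤ x → x < 14530 → cFi23a.actRow x = true :=
  VCert.of_range' _ 14485 14530 (by decide +kernel)

theorem cFi23a_act349 : ∀ x, 15700 ≤ x → x < 15745 → cFi23a.actRow x = true :=
  VCert.of_range' _ 15700 15745 (by decide +kernel)

theorem cFi23a_act376 : ∀ x, 16915 ≤ x → x < 16960 → cFi23a.actRow x = true :=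
  VCert.of_range' _ 16915 16960 (by decide +kernel)

theorem cFi23a_act404 : ∀ x, 18174 ≤ x → x < 18219 → cFi23a.actRow x = true :=
  VCert.of_range' _ 18174 18219 (by decide +kernel)

theorem cFi23a_act431 : ∀ x, 19389 ≤ x → x < 19434 → cFi23a.actRow x = true :=
  VCert.of_range' _ 19389 19434 (by decide +kernel)

theorem cFi23a_act458 : ∀ x, 20604 ≤ x → x < 20649 → cFi23a.actRow x = true :=
  VCert.of_range' _ 20604 20649 (by decide +kernel)

theorem cFi23a_act486 : ∀ x, 21863 ≤ x → x < 21908 → cFi23a.actRow x = true :=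
  VCert.of_range' _ 21863 21908 (by decide +kernel)

theorem cFi23a_act513 : ∀ x, 23078 ≤ x → x < 23123 → cFi23a.actRow x = true :=
  VCert.of_range' _ 23078 23123 (by decide +kernel)

theorem cFi23a_act540 : ∀ x, 24293 ≤ x → x < 24338 → cFi23a.actRow x = true :=
  VCert.of_range' _ 24293 24338 (by decide +kernel)

theorem cFi23a_act568 : ∀ x, 25552 ≤ x → x < 25597 → cFi23a.actRow x = true :=
  VCert.of_range' _ 25552 25597 (by decide +kernel)

theorem cFi23a_act595 : ∀ x, 26767 ≤ x → x < 26812 → cFi23a.actRow x = true :=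
  VCert.of_range' _ 26767 26812 (by decide +kernel)

theorem cFi23a_act622 : ∀ x, 27982 ≤ x → x < 28027 → cFi23a.actRow x = true :=
  VCert.of_range' _ 27982 28027 (by decide +kernel)

theorem cFi23a_act650 : ∀ x, 29241 ≤ x → x < 29286 → cFi23a.actRow x = true :=
  VCert.of_range' _ 29241 29286 (by decide +kernel)

theorem cFi23a_act677 : ∀ x, 30456 ≤ x → x < 30501 → cFi23a.actRow x = true :=
  VCert.of_range' _ 30456 30501 (by decide +kernel)

theorem oFi23a_tr1_2 : ∀ x, 3958 ≤ x → x < 5938 → oFi23a.treeRow cFi23a 1 1 x = true :=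
  VCert.of_range' _ 3958 5938 (by decide +kernel)

theorem oFi23a_tr2_7 : ∀ x, 13856 ≤ x → x < 15835 → oFi23a.treeRow cFi23a 52 2 x = true :=
  VCert.of_range' _ 13856 15835 (by decide +kernel)

theorem cFi23a_ok127 : ∀ x, 13694 ≤ x → x < 13801 → cFi23a.rowOK x = true :=
  VCert.of_range' _ 13694 13801 (by decide +kernel)

theorem cFi23a_ok267 : ∀ x, 28790 ≤ x → x < 28897 → cFi23a.rowOK x = true :=
  VCert.of_range' _ 28790 28897 (by decide +kernel)

theorem cFi23a_ok423 : ∀ x, 45611 ≤ x → x < 45718 → cFi23a.rowOK x = true :=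
  VCert.of_range' _ 45611 45718 (by decide +kernel)

theorem cFi23a_ok580 : ∀ x, 62540 ≤ x → x < 62647 → cFi23a.rowOK x = true :=
  VCert.of_range' _ 62540 62647 (by decide +kernel)

theorem oFi23a_colr32 : ∀ x, 25336 ≤ x → x < 26128 → oFi23a.colRow cFi23a x = true :=
  VCert.of_range' _ 25336 26128 (by decide +kernel)

theorem cFi23a_finn1 : ∀ x, 3224 ≤ x → x < 6448 → cFi23a.finNode x = true :=
  VCert.of_range' _ 3224 6448 (by decide +kernel)

theorem cFi23a_finn7 : ∀ x, 22568 ≤ x → x < 25792 → cFi23a.finNode x = true :=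
  VCert.of_range' _ 22568 25792 (by decide +kernel)


end Cfsg.Agent.Lib.Lead.VTC
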