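import Cfsg.Agent.Lib.Lead.VTCFi23a
import Cfsg.Agent.Lib.Lead.VTC3

set_option autoImplicit false
set_option maxRecDepth 100000

namespace Cfsg.Agent.Lib.Lead.VTC

theorem cFi23a_finr46 : ∀ x, 7874 ≤ x → x < 8046 → cFi23a.finRow x = true :=
  VCert.of_range' _ 7874 8046 (by decide +kernel)

theorem cFi23a_finr184 : ∀ x, 31499 ≤ x → x < 31671 → cFi23a.finRow x = true :=
  VCert.of_range' _ 31499 31671 (by decide +kernel)

theorem cFi23a_ok54 : ∀ x, 5822 ≤ x → x < 5930 → cFi23a.rowOK x = true :=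
  VCert.of_range' _ 5822 5930 (by decide +kernel)

theorem cFi23a_ok86 : ∀ x, 9273 ≤ x → x < 9381 → cFi23a.rowOK x = true :=
  VCert.of_range' _ 9273 9381 (by decide +kernel)

theorem cFi23a_ok119 : ∀ x, 12831 ≤ x → x < 12939 → cFi23a.rowOK x = true :=
  VCert.of_range' _ 12831 12939 (by decide +kernel)

theorem cFi23a_ok152 : ∀ x, 16389 ≤ x → x < 16497 → cFi23a.rowOK x = true :=
  VCert.of_range' _ 16389 16497 (by decide +kernel)

theorem cFi23a_ok184 : ∀ x, 19840 ≤ x → x < 19948 → cFi23a.rowOK x = true :=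
  VCert.of_range' _ 19840 19948 (by decide +kernel)

theorem cFi23a_ok217 : ∀ x, 23398 ≤ x → x < 23506 → cFi23a.rowOK x = true :=
  VCert.of_range' _ 23398 23506 (by decide +kernel)

theorem cFi23a_ok250 : ∀ x, 26956 ≤ x → x < 27064 → cFi23a.rowOK x = true :=
  VCert.of_range' _ 26956 27064 (by decide +kernel)

theorem cFi23a_ok282 : ∀ x, 30407 ≤ x → x < 30515 → cFi23a.rowOK x = true :=
  VCert.of_range' _ 30407 30515 (by decide +kernel)

theorem cFi23a_ok315 : ∀ x, 33965 ≤ x → x < 34073 → cFi23a.rowOK x = true :=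
  VCert.of_range' _ 33965 34073 (by decide +kernel)

theorem cFi23a_ok347 : ∀ x, 37416 ≤ x → x < 37524 → cFi23a.rowOK x = true :=
  VCert.of_range' _ 37416 37524 (by decide +kernel)

theorem cFi23a_ok380 : ∀ x, 40974 ≤ x → x < 41082 → cFi23a.rowOK x = true :=
  VCert.of_range' _ 40974 41082 (by decide +kernel)

theorem cFi23a_ok413 : ∀ x, 44532 ≤ x → x < 44640 → cFi23a.rowOK x = true :=
  VCert.of_range' _ 44532 44640 (by decide +kernel)

theorem cFi23a_ok445 : ∀ x, 47983 ≤ x → x < 48091 → cFi23a.rowOK x = true :=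
  VCert.of_range' _ 47983 48091 (by decide +kernel)

theorem cFi23a_ok478 : ∀ x, 51541 ≤ x → x < 51649 → cFi23a.rowOK x = true :=
  VCert.of_range' _ 51541 51649 (by decide +kernel)

theorem cFi23a_ok511 : ∀ x, 55099 ≤ x → x < 55207 → cFi23a.rowOK x = true :=
  VCert.of_range' _ 55099 55207 (by decide +kernel)

theorem cFi23a_ok543 : ∀ x, 58550 ≤ x → x < 58658 → cFi23a.rowOK x = true :=
  VCert.of_range' _ 58550 58658 (by decide +kernel)

theorem cFi23a_ok576 : ∀ x, 62108 ≤ x → x < 62216 → cFi23a.rowOK x = true :=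
  VCert.of_range' _ 62108 62216 (by decide +kernel)

theorem cFi23a_finr9 : ∀ x, 1540 ≤ x → x < 1711 → cFi23a.finRow x = true :=
  VCert.of_range' _ 1540 1711 (by decide +kernel)

theorem cFi23a_finr43 : ∀ x, 7361 ≤ x → x < 7532 → cFi23a.finRow x = true :=
  VCert.of_range' _ 7361 7532 (by decide +kernel)

theorem cFi23a_finr76 : ∀ x, 13010 ≤ x → x < 13181 → cFi23a.finRow x = true :=
  VCert.of_range' _ 13010 13181 (by decide +kernel)

theorem cFi23a_finr110 : ∀ x, 18831 ≤ x → x < 19002 → cFi23a.finRow x = true :=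
  VCert.of_range' _ 18831 19002 (by decide +kernel)

theorem cFi23a_finr144 : ∀ x, 24652 ≤ x → x < 24823 → cFi23a.finRow x = true :=
  VCert.of_range' _ 24652 24823 (by decide +kernel)

theorem cFi23a_finr177 : ∀ x, 30301 ≤ x → x < 30472 → cFi23a.finRow x = true :=
  VCert.of_range' _ 30301 30472 (by decide +kernel)

theorem cFi23a_act22 : ∀ x, 989 ≤ x → x < 1034 → cFi23a.actRow x = true :=
  VCert.of_range' _ 989 1034 (by decide +kernel)

theorem cFi23a_act49 : ∀ x, 2204 ≤ x → x < 2249 → cFi23a.actRow x = true :=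
  VCert.of_range' _ 2204 2249 (by decide +kernel)

theorem cFi23a_act76 : ∀ x, 3419 ≤ x → x < 3464 → cFi23a.actRow x = true :=
  VCert.of_range' _ 3419 3464 (by decide +kernel)

theorem cFi23a_act104 : ∀ x, 4678 ≤ x → x < 4723 → cFi23a.actRow x = true :=
  VCert.of_range' _ 4678 4723 (by decide +kernel)

theorem cFi23a_act131 : ∀ x, 5893 ≤ x → x < 5938 → cFi23a.actRow x = true :=
  VCert.of_range' _ 5893 5938 (by decide +kernel)

theorem cFi23a_act159 : ∀ x, 7152 ≤ x → x < 7197 → cFi23a.actRow x = true :=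
  VCert.of_range' _ 7152 7197 (by decide +kernel)

theorem cFi23a_act186 : ∀ x, 8367 ≤ x → x < 8412 → cFi23a.actRow x = true :=
  VCert.of_range' _ 8367 8412 (by decide +kernel)

theorem cFi23a_act213 : ∀ x, 9582 ≤ x → x < 9627 → cFi23a.actRow x = true :=
  VCert.of_range' _ 9582 9627 (by decide +kernel)

theorem cFi23a_act241 : ∀ x, 10841 ≤ x → x < 10886 → cFi23a.actRow x = true :=
  VCert.of_range' _ 10841 10886 (by decide +kernel)

theorem cFi23a_act268 : ∀ x, 12056 ≤ x → x < 12101 → cFi23a.actRow x = true :=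
  VCert.of_range' _ 12056 12101 (by decide +kernel)

theorem cFi23a_act295 : ∀ x, 13271 ≤ x → x < 13316 → cFi23a.actRow x = true :=
  VCert.of_range' _ 13271 13316 (by decide +kernel)

theorem cFi23a_act323 : ∀ x, 14530 ≤ x → x < 14575 → cFi23a.actRow x = true :=
  VCert.of_range' _ 14530 14575 (by decide +kernel)

theorem cFi23a_act350 : ∀ x, 15745 ≤ x → x < 15790 → cFi23a.actRow x = true :=
  VCert.of_range' _ 15745 15790 (by decide +kernel)

theorem cFi23a_act377 : ∀ x, 16960 ≤ x → x < 17005 → cFi23a.actRow x = true :=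
  VCert.of_range' _ 16960 17005 (by decide +kernel)

theorem cFi23a_act405 : ∀ x, 18219 ≤ x → x < 18264 → cFi23a.actRow x = true :=
  VCert.of_range' _ 18219 18264 (by decide +kernel)

theorem cFi23a_act432 : ∀ x, 19434 ≤ x → x < 19479 → cFi23a.actRow x = true :=
  VCert.of_range' _ 19434 19479 (by decide +kernel)

theorem cFi23a_act459 : ∀ x, 20649 ≤ x → x < 20694 → cFi23a.actRow x = true :=
  VCert.of_range' _ 20649 20694 (by decide +kernel)

theorem cFi23a_act487 : ∀ x, 21908 ≤ x → x < 21953 → cFi23a.actRow x = true :=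
  VCert.of_range' _ 21908 21953 (by decide +kernel)

theorem cFi23a_act514 : ∀ x, 23123 ≤ x → x < 23168 → cFi23a.actRow x = true :=
  VCert.of_range' _ 23123 23168 (by decide +kernel)

theorem cFi23a_act541 : ∀ x, 24338 ≤ x → x < 24383 → cFi23a.actRow x = true :=
  VCert.of_range' _ 24338 24383 (by decide +kernel)

theorem cFi23a_act569 : ∀ x, 25597 ≤ x → x < 25642 → cFi23a.actRow x = true :=
  VCert.of_range' _ 25597 25642 (by decide +kernel)

theorem cFi23a_act596 : ∀ x, 26812 ≤ x → x < 26857 → cFi23a.actRow x = true :=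
  VCert.of_range' _ 26812 26857 (by decide +kernel)

theorem cFi23a_act623 : ∀ x, 28027 ≤ x → x < 28072 → cFi23a.actRow x = true :=
  VCert.of_range' _ 28027 28072 (by decide +kernel)

theorem cFi23a_act651 : ∀ x, 29286 ≤ x → x < 29331 → cFi23a.actRow x = true :=
  VCert.of_range' _ 29286 29331 (by decide +kernel)

theorem cFi23a_act678 : ∀ x, 30501 ≤ x → x < 30546 → cFi23a.actRow x = true :=
  VCert.of_range' _ 30501 30546 (by decide +kernel)

theorem oFi23a_tr1_4 : ∀ x, 7917 ≤ x → x < 9897 → oFi23a.treeRow cFi23a 1 1 x = true :=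
  VCert.of_range' _ 7917 9897 (by decide +kernel)

theorem oFi23a_tr2_8 : ∀ x, 15835 ≤ x → x < 17814 → oFi23a.treeRow cFi23a 52 2 x = true :=
  VCert.of_range' _ 15835 17814 (by decide +kernel)

theorem cFi23a_ok133 : ∀ x, 14341 ≤ x → x < 14448 → cFi23a.rowOK x = true :=
  VCert.of_range' _ 14341 14448 (by decide +kernel)

theorem cFi23a_ok272 : ∀ x, 29329 ≤ x → x < 29436 → cFi23a.rowOK x = true :=
  VCert.of_range' _ 29329 29436 (by decide +kernel)

theorem cFi23a_ok429 : ∀ x, 46258 ≤ x → x < 46365 → cFi23a.rowOK x = true :=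
  VCert.of_range' _ 46258 46365 (by decide +kernel)

theorem cFi23a_ok586 : ∀ x, 63187 ≤ x → x < 63294 → cFi23a.rowOK x = true :=
  VCert.of_range' _ 63187 63294 (by decide +kernel)

theorem oFi23a_colr33 : ∀ x, 26128 ≤ x → x < 26920 → oFi23a.colRow cFi23a x = true :=
  VCert.of_range' _ 26128 26920 (by decide +kernel)

theorem cFi23a_finn2 : ∀ x, 6448 ≤ x → x < 9672 → cFi23a.finNode x = true :=
  VCert.of_range' _ 6448 9672 (by decide +kernel)

theorem cFi23a_finn8 : ∀ x, 25792 ≤ x → x < 29016 → cFi23a.finNode x = true :=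
  VCert.of_range' _ 25792 29016 (by decide +kernel)


end Cfsg.Agent.Lib.Lead.VTC
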