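import Cfsg.Agent.Lib.Lead.VTCFi23a
import Cfsg.Agent.Lib.Lead.VTC3

set_option autoImplicit false
set_option maxRecDepth 100000

namespace Cfsg.Agent.Lib.Lead.VTC

theorem cFi23a_finr51 : ∀ x, 8730 ≤ x → x < 8902 → cFi23a.finRow x = true :=
  VCert.of_range' _ 8730 8902 (by decide +kernel)

theorem cFi23a_ok1 : ∀ x, 107 ≤ x → x < 215 → cFi23a.rowOK x = true :=
  VCert.of_range' _ 107 215 (by decide +kernel)

theorem cFi23a_ok22 : ∀ x, 2372 ≤ x → x < 2480 → cFi23a.rowOK x = true :=
  VCert.of_range' _ 2372 2480 (by decide +kernel)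

theorem cFi23a_ok55 : ∀ x, 5930 ≤ x → x < 6038 → cFi23a.rowOK x = true :=
  VCert.of_range' _ 5930 6038 (by decide +kernel)

theorem cFi23a_ok88 : ∀ x, 9488 ≤ x → x < 9596 → cFi23a.rowOK x = true :=
  VCert.of_range' _ 9488 9596 (by decide +kernel)

theorem cFi23a_ok120 : ∀ x, 12939 ≤ x → x < 13047 → cFi23a.rowOK x = true :=
  VCert.of_range' _ 12939 13047 (by decide +kernel)

theorem cFi23a_ok153 : ∀ x, 16497 ≤ x → x < 16605 → cFi23a.rowOK x = true :=
  VCert.of_range' _ 16497 16605 (by decide +kernel)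

theorem cFi23a_ok186 : ∀ x, 20055 ≤ x → x < 20163 → cFi23a.rowOK x = true :=
  VCert.of_range' _ 20055 20163 (by decide +kernel)

theorem cFi23a_ok218 : ∀ x, 23506 ≤ x → x < 23614 → cFi23a.rowOK x = true :=
  VCert.of_range' _ 23506 23614 (by decide +kernel)

theorem cFi23a_ok251 : ∀ x, 27064 ≤ x → x < 27172 → cFi23a.rowOK x = true :=
  VCert.of_range' _ 27064 27172 (by decide +kernel)

theorem cFi23a_ok283 : ∀ x, 30515 ≤ x → x < 30623 → cFi23a.rowOK x = true :=
  VCert.of_range' _ 30515 30623 (by decide +kernel)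

theorem cFi23a_ok316 : ∀ x, 34073 ≤ x → x < 34181 → cFi23a.rowOK x = true :=
  VCert.of_range' _ 34073 34181 (by decide +kernel)

theorem cFi23a_ok349 : ∀ x, 37631 ≤ x → x < 37739 → cFi23a.rowOK x = true :=
  VCert.of_range' _ 37631 37739 (by decide +kernel)

theorem cFi23a_ok381 : ∀ x, 41082 ≤ x → x < 41190 → cFi23a.rowOK x = true :=
  VCert.of_range' _ 41082 41190 (by decide +kernel)

theorem cFi23a_ok414 : ∀ x, 44640 ≤ x → x < 44748 → cFi23a.rowOK x = true :=
  VCert.of_range' _ 44640 44748 (by decide +kernel)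

theorem cFi23a_ok446 : ∀ x, 48091 ≤ x → x < 48199 → cFi23a.rowOK x = true :=
  VCert.of_range' _ 48091 48199 (by decide +kernel)

theorem cFi23a_ok479 : ∀ x, 51649 ≤ x → x < 51757 → cFi23a.rowOK x = true :=
  VCert.of_range' _ 51649 51757 (by decide +kernel)

theorem cFi23a_ok512 : ∀ x, 55207 ≤ x → x < 55315 → cFi23a.rowOK x = true :=
  VCert.of_range' _ 55207 55315 (by decide +kernel)

theorem cFi23a_ok544 : ∀ x, 58658 ≤ x → x < 58766 → cFi23a.rowOK x = true :=
  VCert.of_range' _ 58658 58766 (by decide +kernel)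

theorem cFi23a_ok577 : ∀ x, 62216 ≤ x → x < 62324 → cFi23a.rowOK x = true :=
  VCert.of_range' _ 62216 62324 (by decide +kernel)

theorem cFi23a_finr11 : ∀ x, 1883 ≤ x → x < 2054 → cFi23a.finRow x = true :=
  VCert.of_range' _ 1883 2054 (by decide +kernel)

theorem cFi23a_finr44 : ∀ x, 7532 ≤ x → x < 7703 → cFi23a.finRow x = true :=
  VCert.of_range' _ 7532 7703 (by decide +kernel)

theorem cFi23a_finr78 : ∀ x, 13353 ≤ x → x < 13524 → cFi23a.finRow x = true :=
  VCert.of_range' _ 13353 13524 (by decide +kernel)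

theorem cFi23a_finr111 : ∀ x, 19002 ≤ x → x < 19173 → cFi23a.finRow x = true :=
  VCert.of_range' _ 19002 19173 (by decide +kernel)

theorem cFi23a_finr145 : ∀ x, 24823 ≤ x → x < 24994 → cFi23a.finRow x = true :=
  VCert.of_range' _ 24823 24994 (by decide +kernel)

theorem cFi23a_finr178 : ∀ x, 30472 ≤ x → x < 30643 → cFi23a.finRow x = true :=
  VCert.of_range' _ 30472 30643 (by decide +kernel)

theorem cFi23a_act36 : ∀ x, 1619 ≤ x → x < 1664 → cFi23a.actRow x = true :=
  VCert.of_range' _ 1619 1664 (by decide +kernel)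

theorem cFi23a_act63 : ∀ x, 2834 ≤ x → x < 2879 → cFi23a.actRow x = true :=
  VCert.of_range' _ 2834 2879 (by decide +kernel)

theorem cFi23a_act91 : ∀ x, 4093 ≤ x → x < 4138 → cFi23a.actRow x = true :=
  VCert.of_range' _ 4093 4138 (by decide +kernel)

theorem cFi23a_act118 : ∀ x, 5308 ≤ x → x < 5353 → cFi23a.actRow x = true :=
  VCert.of_range' _ 5308 5353 (by decide +kernel)

theorem cFi23a_act145 : ∀ x, 6523 ≤ x → x < 6568 → cFi23a.actRow x = true :=
  VCert.of_range' _ 6523 6568 (by decide +kernel)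

theorem cFi23a_act173 : ∀ x, 7782 ≤ x → x < 7827 → cFi23a.actRow x = true :=
  VCert.of_range' _ 7782 7827 (by decide +kernel)

theorem cFi23a_act200 : ∀ x, 8997 ≤ x → x < 9042 → cFi23a.actRow x = true :=
  VCert.of_range' _ 8997 9042 (by decide +kernel)

theorem cFi23a_act227 : ∀ x, 10212 ≤ x → x < 10257 → cFi23a.actRow x = true :=
  VCert.of_range' _ 10212 10257 (by decide +kernel)

theorem cFi23a_act255 : ∀ x, 11471 ≤ x → x < 11516 → cFi23a.actRow x = true :=
  VCert.of_range' _ 11471 11516 (by decide +kernel)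

theorem cFi23a_act282 : ∀ x, 12686 ≤ x → x < 12731 → cFi23a.actRow x = true :=
  VCert.of_range' _ 12686 12731 (by decide +kernel)

theorem cFi23a_act309 : ∀ x, 13901 ≤ x → x < 13946 → cFi23a.actRow x = true :=
  VCert.of_range' _ 13901 13946 (by decide +kernel)

theorem cFi23a_act337 : ∀ x, 15160 ≤ x → x < 15205 → cFi23a.actRow x = true :=
  VCert.of_range' _ 15160 15205 (by decide +kernel)

theorem cFi23a_act364 : ∀ x, 16375 ≤ x → x < 16420 → cFi23a.actRow x = true :=
  VCert.of_range' _ 16375 16420 (by decide +kernel)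

theorem cFi23a_act392 : ∀ x, 17634 ≤ x → x < 17679 → cFi23a.actRow x = true :=
  VCert.of_range' _ 17634 17679 (by decide +kernel)

theorem cFi23a_act419 : ∀ x, 18849 ≤ x → x < 18894 → cFi23a.actRow x = true :=
  VCert.of_range' _ 18849 18894 (by decide +kernel)

theorem cFi23a_act446 : ∀ x, 20064 ≤ x → x < 20109 → cFi23a.actRow x = true :=
  VCert.of_range' _ 20064 20109 (by decide +kernel)

theorem cFi23a_act474 : ∀ x, 21323 ≤ x → x < 21368 → cFi23a.actRow x = true :=
  VCert.of_range' _ 21323 21368 (by decide +kernel)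

theorem cFi23a_act501 : ∀ x, 22538 ≤ x → x < 22583 → cFi23a.actRow x = true :=
  VCert.of_range' _ 22538 22583 (by decide +kernel)

theorem cFi23a_act528 : ∀ x, 23753 ≤ x → x < 23798 → cFi23a.actRow x = true :=
  VCert.of_range' _ 23753 23798 (by decide +kernel)

theorem cFi23a_act556 : ∀ x, 25012 ≤ x → x < 25057 → cFi23a.actRow x = true :=
  VCert.of_range' _ 25012 25057 (by decide +kernel)

theorem cFi23a_act583 : ∀ x, 26227 ≤ x → x < 26272 → cFi23a.actRow x = true :=
  VCert.of_range' _ 26227 26272 (by decide +kernel)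

theorem cFi23a_act610 : ∀ x, 27442 ≤ x → x < 27487 → cFi23a.actRow x = true :=
  VCert.of_range' _ 27442 27487 (by decide +kernel)

theorem cFi23a_act638 : ∀ x, 28701 ≤ x → x < 28746 → cFi23a.actRow x = true :=
  VCert.of_range' _ 28701 28746 (by decide +kernel)

theorem cFi23a_act665 : ∀ x, 29916 ≤ x → x < 29961 → cFi23a.actRow x = true :=
  VCert.of_range' _ 29916 29961 (by decide +kernel)

theorem cFi23a_act692 : ∀ x, 31131 ≤ x → x < 31176 → cFi23a.actRow x = true :=
  VCert.of_range' _ 31131 31176 (by decide +kernel)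

theorem oFi23a_tr1_1 : ∀ x, 1979 ≤ x → x < 3958 → oFi23a.treeRow cFi23a 1 1 x = true :=
  VCert.of_range' _ 1979 3958 (by decide +kernel)

theorem cFi23a_ok58 : ∀ x, 6254 ≤ x → x < 6361 → cFi23a.rowOK x = true :=
  VCert.of_range' _ 6254 6361 (by decide +kernel)

theorem cFi23a_ok197 : ∀ x, 21242 ≤ x → x < 21349 → cFi23a.rowOK x = true :=
  VCert.of_range' _ 21242 21349 (by decide +kernel)

theorem cFi23a_ok354 : ∀ x, 38171 ≤ x → x < 38278 → cFi23a.rowOK x = true :=
  VCert.of_range' _ 38171 38278 (by decide +kernel)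

theorem cFi23a_ok510 : ∀ x, 54992 ≤ x → x < 55099 → cFi23a.rowOK x = true :=
  VCert.of_range' _ 54992 55099 (by decide +kernel)

theorem oFi23a_colr16 : ∀ x, 12668 ≤ x → x < 13460 → oFi23a.colRow cFi23a x = true :=
  VCert.of_range' _ 12668 13460 (by decide +kernel)

theorem oFi23a_colr35 : ∀ x, 27712 ≤ x → x < 28503 → oFi23a.colRow cFi23a x = true :=
  VCert.of_range' _ 27712 28503 (by decide +kernel)


end Cfsg.Agent.Lib.Lead.VTC
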