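import Cfsg.Agent.Lib.Lead.VTCFi23aQ0
import Cfsg.Agent.Lib.Lead.VTCFi23aQ1
import Cfsg.Agent.Lib.Lead.VTCFi23aQ2
import Cfsg.Agent.Lib.Lead.VTCFi23aQ3
import Cfsg.Agent.Lib.Lead.VTCFi23aQ4
import Cfsg.Agent.Lib.Lead.VTCFi23aQ5
import Cfsg.Agent.Lib.Lead.VTCFi23aQ6
import Cfsg.Agent.Lib.Lead.VTCFi23aQ7
import Cfsg.Agent.Lib.Lead.VTCFi23aQ8
import Cfsg.Agent.Lib.Lead.VTCFi23aQ9
import Cfsg.Agent.Lib.Lead.VTCFi23aQ10
import Cfsg.Agent.Lib.Lead.VTCFi23aQ11
import Cfsg.Agent.Lib.Lead.VTCFi23aQ12
import Cfsg.Agent.Lib.Lead.VTCFi23aQ13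
import Cfsg.Agent.Lib.Lead.VTCFi23aQ14
import Cfsg.Agent.Lib.Lead.VTCFi23aQ15
import Cfsg.Agent.Lib.Lead.VTCFi23aQ16
import Cfsg.Agent.Lib.Lead.VTCFi23aQ17
import Cfsg.Agent.Lib.Lead.VTCFi23aQ18
import Cfsg.Agent.Lib.Lead.VTCFi23aQ19
import Cfsg.Agent.Lib.Lead.VTCFi23aQ20
import Cfsg.Agent.Lib.Lead.VTCFi23aQ21
import Cfsg.Agent.Lib.Lead.VTCFi23aQ22
import Cfsg.Agent.Lib.Lead.VTCFi23aQ23
import Cfsg.Agent.Lib.Lead.VTCFi23aQ24
import Cfsg.Agent.Lib.Lead.VTCFi23aQ25
import Cfsg.Agent.Lib.Lead.VTCFi23aQ26

set_option autoImplicit false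
set_option maxRecDepth 100000

namespace Cfsg.Agent.Lib.Lead.VTC

theorem cFi23a_base : cFi23a.baseOK = true := by decide +kernel

theorem cFi23a_okG0 : ∀ x, 0 ≤ x → x < 1725 → cFi23a.rowOK x = true := by
  intro x hlo hhi
  by_cases h0 : x < 107
  · exact cFi23a_ok0 x (by omega) h0
  by_cases h1 : x < 215
  · exact cFi23a_ok1 x (by omega) h1
  by_cases h2 : x < 323
  · exact cFi23a_ok2 x (by omega) h2
  by_cases h3 : x < 431
  · exact cFi23a_ok3 x (by omega) h3
  by_cases h4 : x < 539
  · exact cFi23a_ok4 x (by omega) h4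
  by_cases h5 : x < 646
  · exact cFi23a_ok5 x (by omega) h5
  by_cases h6 : x < 754
  · exact cFi23a_ok6 x (by omega) h6
  by_cases h7 : x < 862
  · exact cFi23a_ok7 x (by omega) h7
  by_cases h8 : x < 970
  · exact cFi23a_ok8 x (by omega) h8
  by_cases h9 : x < 1078
  · exact cFi23a_ok9 x (by omega) h9
  by_cases h10 : x < 1186
  · exact cFi23a_ok10 x (by omega) h10
  by_cases h11 : x < 1293
  · exact cFi23a_ok11 x (by omega) h11
  by_cases h12 : x < 1401
  · exact cFi23a_ok12 x (by omega) h12
  by_cases h13 : x < 1509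
  · exact cFi23a_ok13 x (by omega) h13
  by_cases h14 : x < 1617
  · exact cFi23a_ok14 x (by omega) h14
  exact cFi23a_ok15 x (by omega) hhi

theorem cFi23a_okG1 : ∀ x, 1725 ≤ x → x < 3450 → cFi23a.rowOK x = true := by
  intro x hlo hhi
  by_cases h0 : x < 1833
  · exact cFi23a_ok16 x (by omega) h0
  by_cases h1 : x < 1940
  · exact cFi23a_ok17 x (by omega) h1
  by_cases h2 : x < 2048
  · exact cFi23a_ok18 x (by omega) h2
  by_cases h3 : x < 2156
  · exact cFi23a_ok19 x (by omega) h3
  by_cases h4 : x < 2264
  · exact cFi23a_ok20 x (by omega) h4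
  by_cases h5 : x < 2372
  · exact cFi23a_ok21 x (by omega) h5
  by_cases h6 : x < 2480
  · exact cFi23a_ok22 x (by omega) h6
  by_cases h7 : x < 2587
  · exact cFi23a_ok23 x (by omega) h7
  by_cases h8 : x < 2695
  · exact cFi23a_ok24 x (by omega) h8
  by_cases h9 : x < 2803
  · exact cFi23a_ok25 x (by omega) h9
  by_cases h10 : x < 2911
  · exact cFi23a_ok26 x (by omega) h10
  by_cases h11 : x < 3019
  · exact cFi23a_ok27 x (by omega) h11
  by_cases h12 : x < 3127
  · exact cFi23a_ok28 x (by omega) h12
  by_cases h13 : x < 3234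
  · exact cFi23a_ok29 x (by omega) h13
  by_cases h14 : x < 3342
  · exact cFi23a_ok30 x (by omega) h14
  exact cFi23a_ok31 x (by omega) hhi

theorem cFi23a_okG2 : ∀ x, 3450 ≤ x → x < 5175 → cFi23a.rowOK x = true := by
  intro x hlo hhi
  by_cases h0 : x < 3558
  · exact cFi23a_ok32 x (by omega) h0
  by_cases h1 : x < 3666
  · exact cFi23a_ok33 x (by omega) h1
  by_cases h2 : x < 3773
  · exact cFi23a_ok34 x (by omega) h2
  by_cases h3 : x < 3881
  · exact cFi23a_ok35 x (by omega) h3
  by_cases h4 : x < 3989
  · exact cFi23a_ok36 x (by omega) h4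
  by_cases h5 : x < 4097
  · exact cFi23a_ok37 x (by omega) h5
  by_cases h6 : x < 4205
  · exact cFi23a_ok38 x (by omega) h6
  by_cases h7 : x < 4313
  · exact cFi23a_ok39 x (by omega) h7
  by_cases h8 : x < 4420
  · exact cFi23a_ok40 x (by omega) h8
  by_cases h9 : x < 4528
  · exact cFi23a_ok41 x (by omega) h9
  by_cases h10 : x < 4636
  · exact cFi23a_ok42 x (by omega) h10
  by_cases h11 : x < 4744
  · exact cFi23a_ok43 x (by omega) h11
  by_cases h12 : x < 4852
  · exact cFi23a_ok44 x (by omega) h12
  by_cases h13 : x < 4960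
  · exact cFi23a_ok45 x (by omega) h13
  by_cases h14 : x < 5067
  · exact cFi23a_ok46 x (by omega) h14
  exact cFi23a_ok47 x (by omega) hhi

theorem cFi23a_okG3 : ∀ x, 5175 ≤ x → x < 6900 → cFi23a.rowOK x = true := by
  intro x hlo hhi
  by_cases h0 : x < 5283
  · exact cFi23a_ok48 x (by omega) h0
  by_cases h1 : x < 5391
  · exact cFi23a_ok49 x (by omega) h1
  by_cases h2 : x < 5499
  · exact cFi23a_ok50 x (by omega) h2
  by_cases h3 : x < 5607
  · exact cFi23a_ok51 x (by omega) h3
  by_cases h4 : x < 5714
  · exact cFi23a_ok52 x (by omega) h4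
  by_cases h5 : x < 5822
  · exact cFi23a_ok53 x (by omega) h5
  by_cases h6 : x < 5930
  · exact cFi23a_ok54 x (by omega) h6
  by_cases h7 : x < 6038
  · exact cFi23a_ok55 x (by omega) h7
  by_cases h8 : x < 6146
  · exact cFi23a_ok56 x (by omega) h8
  by_cases h9 : x < 6254
  · exact cFi23a_ok57 x (by omega) h9
  by_cases h10 : x < 6361
  · exact cFi23a_ok58 x (by omega) h10
  by_cases h11 : x < 6469
  · exact cFi23a_ok59 x (by omega) h11
  by_cases h12 : x < 6577
  · exact cFi23a_ok60 x (by omega) h12
  by_cases h13 : x < 6685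
  · exact cFi23a_ok61 x (by omega) h13
  by_cases h14 : x < 6793
  · exact cFi23a_ok62 x (by omega) h14
  exact cFi23a_ok63 x (by omega) hhi

theorem cFi23a_okG4 : ∀ x, 6900 ≤ x → x < 8626 → cFi23a.rowOK x = true := by
  intro x hlo hhi
  by_cases h0 : x < 7008
  · exact cFi23a_ok64 x (by omega) h0
  by_cases h1 : x < 7116
  · exact cFi23a_ok65 x (by omega) h1
  by_cases h2 : x < 7224
  · exact cFi23a_ok66 x (by omega) h2
  by_cases h3 : x < 7332
  · exact cFi23a_ok67 x (by omega) h3
  by_cases h4 : x < 7440
  · exact cFi23a_ok68 x (by omega) h4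
  by_cases h5 : x < 7547
  · exact cFi23a_ok69 x (by omega) h5
  by_cases h6 : x < 7655
  · exact cFi23a_ok70 x (by omega) h6
  by_cases h7 : x < 7763
  · exact cFi23a_ok71 x (by omega) h7
  by_cases h8 : x < 7871
  · exact cFi23a_ok72 x (by omega) h8
  by_cases h9 : x < 7979
  · exact cFi23a_ok73 x (by omega) h9
  by_cases h10 : x < 8087
  · exact cFi23a_ok74 x (by omega) h10
  by_cases h11 : x < 8194
  · exact cFi23a_ok75 x (by omega) h11
  by_cases h12 : x < 8302
  · exact cFi23a_ok76 x (by omega) h12
  by_cases h13 : x < 8410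
  · exact cFi23a_ok77 x (by omega) h13
  by_cases h14 : x < 8518
  · exact cFi23a_ok78 x (by omega) h14
  exact cFi23a_ok79 x (by omega) hhi

theorem cFi23a_okG5 : ∀ x, 8626 ≤ x → x < 10351 → cFi23a.rowOK x = true := by
  intro x hlo hhi
  by_cases h0 : x < 8734
  · exact cFi23a_ok80 x (by omega) h0
  by_cases h1 : x < 8841
  · exact cFi23a_ok81 x (by omega) h1
  by_cases h2 : x < 8949
  · exact cFi23a_ok82 x (by omega) h2
  by_cases h3 : x < 9057
  · exact cFi23a_ok83 x (by omega) h3
  by_cases h4 : x < 9165
  · exact cFi23a_ok84 x (by omega) h4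
  by_cases h5 : x < 9273
  · exact cFi23a_ok85 x (by omega) h5
  by_cases h6 : x < 9381
  · exact cFi23a_ok86 x (by omega) h6
  by_cases h7 : x < 9488
  · exact cFi23a_ok87 x (by omega) h7
  by_cases h8 : x < 9596
  · exact cFi23a_ok88 x (by omega) h8
  by_cases h9 : x < 9704
  · exact cFi23a_ok89 x (by omega) h9
  by_cases h10 : x < 9812
  · exact cFi23a_ok90 x (by omega) h10
  by_cases h11 : x < 9920
  · exact cFi23a_ok91 x (by omega) h11
  by_cases h12 : x < 10027
  · exact cFi23a_ok92 x (by omega) h12
  by_cases h13 : x < 10135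
  · exact cFi23a_ok93 x (by omega) h13
  by_cases h14 : x < 10243
  · exact cFi23a_ok94 x (by omega) h14
  exact cFi23a_ok95 x (by omega) hhi

theorem cFi23a_okG6 : ∀ x, 10351 ≤ x → x < 12076 → cFi23a.rowOK x = true := by
  intro x hlo hhi
  by_cases h0 : x < 10459
  · exact cFi23a_ok96 x (by omega) h0
  by_cases h1 : x < 10567
  · exact cFi23a_ok97 x (by omega) h1
  by_cases h2 : x < 10674
  · exact cFi23a_ok98 x (by omega) h2
  by_cases h3 : x < 10782
  · exact cFi23a_ok99 x (by omega) h3
  by_cases h4 : x < 10890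
  · exact cFi23a_ok100 x (by omega) h4
  by_cases h5 : x < 10998
  · exact cFi23a_ok101 x (by omega) h5
  by_cases h6 : x < 11106
  · exact cFi23a_ok102 x (by omega) h6
  by_cases h7 : x < 11214
  · exact cFi23a_ok103 x (by omega) h7
  by_cases h8 : x < 11321
  · exact cFi23a_ok104 x (by omega) h8
  by_cases h9 : x < 11429
  · exact cFi23a_ok105 x (by omega) h9
  by_cases h10 : x < 11537
  · exact cFi23a_ok106 x (by omega) h10
  by_cases h11 : x < 11645
  · exact cFi23a_ok107 x (by omega) h11
  by_cases h12 : x < 11753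
  · exact cFi23a_ok108 x (by omega) h12
  by_cases h13 : x < 11861
  · exact cFi23a_ok109 x (by omega) h13
  by_cases h14 : x < 11968
  · exact cFi23a_ok110 x (by omega) h14
  exact cFi23a_ok111 x (by omega) hhi

theorem cFi23a_okG7 : ∀ x, 12076 ≤ x → x < 13801 → cFi23a.rowOK x = true := by
  intro x hlo hhi
  by_cases h0 : x < 12184
  · exact cFi23a_ok112 x (by omega) h0
  by_cases h1 : x < 12292
  · exact cFi23a_ok113 x (by omega) h1
  by_cases h2 : x < 12400
  · exact cFi23a_ok114 x (by omega) h2
  by_cases h3 : x < 12508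
  · exact cFi23a_ok115 x (by omega) h3
  by_cases h4 : x < 12615
  · exact cFi23a_ok116 x (by omega) h4
  by_cases h5 : x < 12723
  · exact cFi23a_ok117 x (by omega) h5
  by_cases h6 : x < 12831
  · exact cFi23a_ok118 x (by omega) h6
  by_cases h7 : x < 12939
  · exact cFi23a_ok119 x (by omega) h7
  by_cases h8 : x < 13047
  · exact cFi23a_ok120 x (by omega) h8
  by_cases h9 : x < 13154
  · exact cFi23a_ok121 x (by omega) h9
  by_cases h10 : x < 13262
  · exact cFi23a_ok122 x (by omega) h10
  by_cases h11 : x < 13370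
  · exact cFi23a_ok123 x (by omega) h11
  by_cases h12 : x < 13478
  · exact cFi23a_ok124 x (by omega) h12
  by_cases h13 : x < 13586
  · exact cFi23a_ok125 x (by omega) h13
  by_cases h14 : x < 13694
  · exact cFi23a_ok126 x (by omega) h14
  exact cFi23a_ok127 x (by omega) hhi

theorem cFi23a_okG8 : ∀ x, 13801 ≤ x → x < 15527 → cFi23a.rowOK x = true := by
  intro x hlo hhi
  by_cases h0 : x < 13909
  · exact cFi23a_ok128 x (by omega) h0
  by_cases h1 : x < 14017
  · exact cFi23a_ok129 x (by omega) h1
  by_cases h2 : x < 14125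
  · exact cFi23a_ok130 x (by omega) h2
  by_cases h3 : x < 14233
  · exact cFi23a_ok131 x (by omega) h3
  by_cases h4 : x < 14341
  · exact cFi23a_ok132 x (by omega) h4
  by_cases h5 : x < 14448
  · exact cFi23a_ok133 x (by omega) h5
  by_cases h6 : x < 14556
  · exact cFi23a_ok134 x (by omega) h6
  by_cases h7 : x < 14664
  · exact cFi23a_ok135 x (by omega) h7
  by_cases h8 : x < 14772
  · exact cFi23a_ok136 x (by omega) h8
  by_cases h9 : x < 14880
  · exact cFi23a_ok137 x (by omega) h9
  by_cases h10 : x < 14988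
  · exact cFi23a_ok138 x (by omega) h10
  by_cases h11 : x < 15095
  · exact cFi23a_ok139 x (by omega) h11
  by_cases h12 : x < 15203
  · exact cFi23a_ok140 x (by omega) h12
  by_cases h13 : x < 15311
  · exact cFi23a_ok141 x (by omega) h13
  by_cases h14 : x < 15419
  · exact cFi23a_ok142 x (by omega) h14
  exact cFi23a_ok143 x (by omega) hhi

theorem cFi23a_okG9 : ∀ x, 15527 ≤ x → x < 17252 → cFi23a.rowOK x = true := by
  intro x hlo hhi
  by_cases h0 : x < 15635
  · exact cFi23a_ok144 x (by omega) h0
  by_cases h1 : x < 15742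
  · exact cFi23a_ok145 x (by omega) h1
  by_cases h2 : x < 15850
  · exact cFi23a_ok146 x (by omega) h2
  by_cases h3 : x < 15958
  · exact cFi23a_ok147 x (by omega) h3
  by_cases h4 : x < 16066
  · exact cFi23a_ok148 x (by omega) h4
  by_cases h5 : x < 16174
  · exact cFi23a_ok149 x (by omega) h5
  by_cases h6 : x < 16281
  · exact cFi23a_ok150 x (by omega) h6
  by_cases h7 : x < 16389
  · exact cFi23a_ok151 x (by omega) h7
  by_cases h8 : x < 16497
  · exact cFi23a_ok152 x (by omega) h8
  by_cases h9 : x < 16605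
  · exact cFi23a_ok153 x (by omega) h9
  by_cases h10 : x < 16713
  · exact cFi23a_ok154 x (by omega) h10
  by_cases h11 : x < 16821
  · exact cFi23a_ok155 x (by omega) h11
  by_cases h12 : x < 16928
  · exact cFi23a_ok156 x (by omega) h12
  by_cases h13 : x < 17036
  · exact cFi23a_ok157 x (by omega) h13
  by_cases h14 : x < 17144
  · exact cFi23a_ok158 x (by omega) h14
  exact cFi23a_ok159 x (by omega) hhi

theorem cFi23a_okG10 : ∀ x, 17252 ≤ x → x < 18977 → cFi23a.rowOK x = true := by
  intro x hlo hhi
  by_cases h0 : x < 17360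
  · exact cFi23a_ok160 x (by omega) h0
  by_cases h1 : x < 17468
  · exact cFi23a_ok161 x (by omega) h1
  by_cases h2 : x < 17575
  · exact cFi23a_ok162 x (by omega) h2
  by_cases h3 : x < 17683
  · exact cFi23a_ok163 x (by omega) h3
  by_cases h4 : x < 17791
  · exact cFi23a_ok164 x (by omega) h4
  by_cases h5 : x < 17899
  · exact cFi23a_ok165 x (by omega) h5
  by_cases h6 : x < 18007
  · exact cFi23a_ok166 x (by omega) h6
  by_cases h7 : x < 18115
  · exact cFi23a_ok167 x (by omega) h7
  by_cases h8 : x < 18222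
  · exact cFi23a_ok168 x (by omega) h8
  by_cases h9 : x < 18330
  · exact cFi23a_ok169 x (by omega) h9
  by_cases h10 : x < 18438
  · exact cFi23a_ok170 x (by omega) h10
  by_cases h11 : x < 18546
  · exact cFi23a_ok171 x (by omega) h11
  by_cases h12 : x < 18654
  · exact cFi23a_ok172 x (by omega) h12
  by_cases h13 : x < 18762
  · exact cFi23a_ok173 x (by omega) h13
  by_cases h14 : x < 18869
  · exact cFi23a_ok174 x (by omega) h14
  exact cFi23a_ok175 x (by omega) hhi

theorem cFi23a_okG11 : ∀ x, 18977 ≤ x → x < 20702 → cFi23a.rowOK x = true := by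
  intro x hlo hhi
  by_cases h0 : x < 19085
  · exact cFi23a_ok176 x (by omega) h0
  by_cases h1 : x < 19193
  · exact cFi23a_ok177 x (by omega) h1
  by_cases h2 : x < 19301
  · exact cFi23a_ok178 x (by omega) h2
  by_cases h3 : x < 19408
  · exact cFi23a_ok179 x (by omega) h3
  by_cases h4 : x < 19516
  · exact cFi23a_ok180 x (by omega) h4
  by_cases h5 : x < 19624
  · exact cFi23a_ok181 x (by omega) h5
  by_cases h6 : x < 19732
  · exact cFi23a_ok182 x (by omega) h6
  by_cases h7 : x < 19840
  · exact cFi23a_ok183 x (by omega) h7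
  by_cases h8 : x < 19948
  · exact cFi23a_ok184 x (by omega) h8
  by_cases h9 : x < 20055
  · exact cFi23a_ok185 x (by omega) h9
  by_cases h10 : x < 20163
  · exact cFi23a_ok186 x (by omega) h10
  by_cases h11 : x < 20271
  · exact cFi23a_ok187 x (by omega) h11
  by_cases h12 : x < 20379
  · exact cFi23a_ok188 x (by omega) h12
  by_cases h13 : x < 20487
  · exact cFi23a_ok189 x (by omega) h13
  by_cases h14 : x < 20595
  · exact cFi23a_ok190 x (by omega) h14
  exact cFi23a_ok191 x (by omega) hhi

theorem cFi23a_okG12 : ∀ x, 20702 ≤ x → x < 22428 → cFi23a.rowOK x = true := by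
  intro x hlo hhi
  by_cases h0 : x < 20810
  · exact cFi23a_ok192 x (by omega) h0
  by_cases h1 : x < 20918
  · exact cFi23a_ok193 x (by omega) h1
  by_cases h2 : x < 21026
  · exact cFi23a_ok194 x (by omega) h2
  by_cases h3 : x < 21134
  · exact cFi23a_ok195 x (by omega) h3
  by_cases h4 : x < 21242
  · exact cFi23a_ok196 x (by omega) h4
  by_cases h5 : x < 21349
  · exact cFi23a_ok197 x (by omega) h5
  by_cases h6 : x < 21457
  · exact cFi23a_ok198 x (by omega) h6
  by_cases h7 : x < 21565
  · exact cFi23a_ok199 x (by omega) h7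
  by_cases h8 : x < 21673
  · exact cFi23a_ok200 x (by omega) h8
  by_cases h9 : x < 21781
  · exact cFi23a_ok201 x (by omega) h9
  by_cases h10 : x < 21889
  · exact cFi23a_ok202 x (by omega) h10
  by_cases h11 : x < 21996
  · exact cFi23a_ok203 x (by omega) h11
  by_cases h12 : x < 22104
  · exact cFi23a_ok204 x (by omega) h12
  by_cases h13 : x < 22212
  · exact cFi23a_ok205 x (by omega) h13
  by_cases h14 : x < 22320
  · exact cFi23a_ok206 x (by omega) h14
  exact cFi23a_ok207 x (by omega) hhi

theorem cFi23a_okG13 : ∀ x, 22428 ≤ x → x < 24153 → cFi23a.rowOK x = true := by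
  intro x hlo hhi
  by_cases h0 : x < 22536
  · exact cFi23a_ok208 x (by omega) h0
  by_cases h1 : x < 22643
  · exact cFi23a_ok209 x (by omega) h1
  by_cases h2 : x < 22751
  · exact cFi23a_ok210 x (by omega) h2
  by_cases h3 : x < 22859
  · exact cFi23a_ok211 x (by omega) h3
  by_cases h4 : x < 22967
  · exact cFi23a_ok212 x (by omega) h4
  by_cases h5 : x < 23075
  · exact cFi23a_ok213 x (by omega) h5
  by_cases h6 : x < 23182
  · exact cFi23a_ok214 x (by omega) h6
  by_cases h7 : x < 23290
  · exact cFi23a_ok215 x (by omega) h7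
  by_cases h8 : x < 23398
  · exact cFi23a_ok216 x (by omega) h8
  by_cases h9 : x < 23506
  · exact cFi23a_ok217 x (by omega) h9
  by_cases h10 : x < 23614
  · exact cFi23a_ok218 x (by omega) h10
  by_cases h11 : x < 23722
  · exact cFi23a_ok219 x (by omega) h11
  by_cases h12 : x < 23829
  · exact cFi23a_ok220 x (by omega) h12
  by_cases h13 : x < 23937
  · exact cFi23a_ok221 x (by omega) h13
  by_cases h14 : x < 24045
  · exact cFi23a_ok222 x (by omega) h14
  exact cFi23a_ok223 x (by omega) hhi

theorem cFi23a_okG14 : ∀ x, 24153 ≤ x → x < 25878 → cFi23a.rowOK x = true := by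
  intro x hlo hhi
  by_cases h0 : x < 24261
  · exact cFi23a_ok224 x (by omega) h0
  by_cases h1 : x < 24369
  · exact cFi23a_ok225 x (by omega) h1
  by_cases h2 : x < 24476
  · exact cFi23a_ok226 x (by omega) h2
  by_cases h3 : x < 24584
  · exact cFi23a_ok227 x (by omega) h3
  by_cases h4 : x < 24692
  · exact cFi23a_ok228 x (by omega) h4
  by_cases h5 : x < 24800
  · exact cFi23a_ok229 x (by omega) h5
  by_cases h6 : x < 24908
  · exact cFi23a_ok230 x (by omega) h6
  by_cases h7 : x < 25016
  · exact cFi23a_ok231 x (by omega) h7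
  by_cases h8 : x < 25123
  · exact cFi23a_ok232 x (by omega) h8
  by_cases h9 : x < 25231
  · exact cFi23a_ok233 x (by omega) h9
  by_cases h10 : x < 25339
  · exact cFi23a_ok234 x (by omega) h10
  by_cases h11 : x < 25447
  · exact cFi23a_ok235 x (by omega) h11
  by_cases h12 : x < 25555
  · exact cFi23a_ok236 x (by omega) h12
  by_cases h13 : x < 25663
  · exact cFi23a_ok237 x (by omega) h13
  by_cases h14 : x < 25770
  · exact cFi23a_ok238 x (by omega) h14
  exact cFi23a_ok239 x (by omega) hhi

theorem cFi23a_okG15 : ∀ x, 25878 ≤ x → x < 27603 → cFi23a.rowOK x = true := by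
  intro x hlo hhi
  by_cases h0 : x < 25986
  · exact cFi23a_ok240 x (by omega) h0
  by_cases h1 : x < 26094
  · exact cFi23a_ok241 x (by omega) h1
  by_cases h2 : x < 26202
  · exact cFi23a_ok242 x (by omega) h2
  by_cases h3 : x < 26309
  · exact cFi23a_ok243 x (by omega) h3
  by_cases h4 : x < 26417
  · exact cFi23a_ok244 x (by omega) h4
  by_cases h5 : x < 26525
  · exact cFi23a_ok245 x (by omega) h5
  by_cases h6 : x < 26633
  · exact cFi23a_ok246 x (by omega) h6
  by_cases h7 : x < 26741
  · exact cFi23a_ok247 x (by omega) h7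
  by_cases h8 : x < 26849
  · exact cFi23a_ok248 x (by omega) h8
  by_cases h9 : x < 26956
  · exact cFi23a_ok249 x (by omega) h9
  by_cases h10 : x < 27064
  · exact cFi23a_ok250 x (by omega) h10
  by_cases h11 : x < 27172
  · exact cFi23a_ok251 x (by omega) h11
  by_cases h12 : x < 27280
  · exact cFi23a_ok252 x (by omega) h12
  by_cases h13 : x < 27388
  · exact cFi23a_ok253 x (by omega) h13
  by_cases h14 : x < 27496
  · exact cFi23a_ok254 x (by omega) h14
  exact cFi23a_ok255 x (by omega) hhi

theorem cFi23a_okG16 : ∀ x, 27603 ≤ x → x < 29329 → cFi23a.rowOK x = true := by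
  intro x hlo hhi
  by_cases h0 : x < 27711
  · exact cFi23a_ok256 x (by omega) h0
  by_cases h1 : x < 27819
  · exact cFi23a_ok257 x (by omega) h1
  by_cases h2 : x < 27927
  · exact cFi23a_ok258 x (by omega) h2
  by_cases h3 : x < 28035
  · exact cFi23a_ok259 x (by omega) h3
  by_cases h4 : x < 28143
  · exact cFi23a_ok260 x (by omega) h4
  by_cases h5 : x < 28250
  · exact cFi23a_ok261 x (by omega) h5
  by_cases h6 : x < 28358
  · exact cFi23a_ok262 x (by omega) h6
  by_cases h7 : x < 28466
  · exact cFi23a_ok263 x (by omega) h7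
  by_cases h8 : x < 28574
  · exact cFi23a_ok264 x (by omega) h8
  by_cases h9 : x < 28682
  · exact cFi23a_ok265 x (by omega) h9
  by_cases h10 : x < 28790
  · exact cFi23a_ok266 x (by omega) h10
  by_cases h11 : x < 28897
  · exact cFi23a_ok267 x (by omega) h11
  by_cases h12 : x < 29005
  · exact cFi23a_ok268 x (by omega) h12
  by_cases h13 : x < 29113
  · exact cFi23a_ok269 x (by omega) h13
  by_cases h14 : x < 29221
  · exact cFi23a_ok270 x (by omega) h14
  exact cFi23a_ok271 x (by omega) hhi

theorem cFi23a_okG17 : ∀ x, 29329 ≤ x → x < 31054 → cFi23a.rowOK x = true := by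
  intro x hlo hhi
  by_cases h0 : x < 29436
  · exact cFi23a_ok272 x (by omega) h0
  by_cases h1 : x < 29544
  · exact cFi23a_ok273 x (by omega) h1
  by_cases h2 : x < 29652
  · exact cFi23a_ok274 x (by omega) h2
  by_cases h3 : x < 29760
  · exact cFi23a_ok275 x (by omega) h3
  by_cases h4 : x < 29868
  · exact cFi23a_ok276 x (by omega) h4
  by_cases h5 : x < 29976
  · exact cFi23a_ok277 x (by omega) h5
  by_cases h6 : x < 30083
  · exact cFi23a_ok278 x (by omega) h6
  by_cases h7 : x < 30191
  · exact cFi23a_ok279 x (by omega) h7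
  by_cases h8 : x < 30299
  · exact cFi23a_ok280 x (by omega) h8
  by_cases h9 : x < 30407
  · exact cFi23a_ok281 x (by omega) h9
  by_cases h10 : x < 30515
  · exact cFi23a_ok282 x (by omega) h10
  by_cases h11 : x < 30623
  · exact cFi23a_ok283 x (by omega) h11
  by_cases h12 : x < 30730
  · exact cFi23a_ok284 x (by omega) h12
  by_cases h13 : x < 30838
  · exact cFi23a_ok285 x (by omega) h13
  by_cases h14 : x < 30946
  · exact cFi23a_ok286 x (by omega) h14
  exact cFi23a_ok287 x (by omega) hhi

theorem cFi23a_okG18 : ∀ x, 31054 ≤ x → x < 32779 → cFi23a.rowOK x = true := by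
  intro x hlo hhi
  by_cases h0 : x < 31162
  · exact cFi23a_ok288 x (by omega) h0
  by_cases h1 : x < 31270
  · exact cFi23a_ok289 x (by omega) h1
  by_cases h2 : x < 31377
  · exact cFi23a_ok290 x (by omega) h2
  by_cases h3 : x < 31485
  · exact cFi23a_ok291 x (by omega) h3
  by_cases h4 : x < 31593
  · exact cFi23a_ok292 x (by omega) h4
  by_cases h5 : x < 31701
  · exact cFi23a_ok293 x (by omega) h5
  by_cases h6 : x < 31809
  · exact cFi23a_ok294 x (by omega) h6
  by_cases h7 : x < 31917
  · exact cFi23a_ok295 x (by omega) h7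
  by_cases h8 : x < 32024
  · exact cFi23a_ok296 x (by omega) h8
  by_cases h9 : x < 32132
  · exact cFi23a_ok297 x (by omega) h9
  by_cases h10 : x < 32240
  · exact cFi23a_ok298 x (by omega) h10
  by_cases h11 : x < 32348
  · exact cFi23a_ok299 x (by omega) h11
  by_cases h12 : x < 32456
  · exact cFi23a_ok300 x (by omega) h12
  by_cases h13 : x < 32563
  · exact cFi23a_ok301 x (by omega) h13
  by_cases h14 : x < 32671
  · exact cFi23a_ok302 x (by omega) h14
  exact cFi23a_ok303 x (by omega) hhi

theorem cFi23a_okG19 : ∀ x, 32779 ≤ x → x < 34504 → cFi23a.rowOK x = true := by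
  intro x hlo hhi
  by_cases h0 : x < 32887
  · exact cFi23a_ok304 x (by omega) h0
  by_cases h1 : x < 32995
  · exact cFi23a_ok305 x (by omega) h1
  by_cases h2 : x < 33103
  · exact cFi23a_ok306 x (by omega) h2
  by_cases h3 : x < 33210
  · exact cFi23a_ok307 x (by omega) h3
  by_cases h4 : x < 33318
  · exact cFi23a_ok308 x (by omega) h4
  by_cases h5 : x < 33426
  · exact cFi23a_ok309 x (by omega) h5
  by_cases h6 : x < 33534
  · exact cFi23a_ok310 x (by omega) h6
  by_cases h7 : x < 33642
  · exact cFi23a_ok311 x (by omega) h7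
  by_cases h8 : x < 33750
  · exact cFi23a_ok312 x (by omega) h8
  by_cases h9 : x < 33857
  · exact cFi23a_ok313 x (by omega) h9
  by_cases h10 : x < 33965
  · exact cFi23a_ok314 x (by omega) h10
  by_cases h11 : x < 34073
  · exact cFi23a_ok315 x (by omega) h11
  by_cases h12 : x < 34181
  · exact cFi23a_ok316 x (by omega) h12
  by_cases h13 : x < 34289
  · exact cFi23a_ok317 x (by omega) h13
  by_cases h14 : x < 34397
  · exact cFi23a_ok318 x (by omega) h14
  exact cFi23a_ok319 x (by omega) hhi

theorem cFi23a_okG20 : ∀ x, 34504 ≤ x → x < 36230 → cFi23a.rowOK x = true := by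
  intro x hlo hhi
  by_cases h0 : x < 34612
  · exact cFi23a_ok320 x (by omega) h0
  by_cases h1 : x < 34720
  · exact cFi23a_ok321 x (by omega) h1
  by_cases h2 : x < 34828
  · exact cFi23a_ok322 x (by omega) h2
  by_cases h3 : x < 34936
  · exact cFi23a_ok323 x (by omega) h3
  by_cases h4 : x < 35044
  · exact cFi23a_ok324 x (by omega) h4
  by_cases h5 : x < 35151
  · exact cFi23a_ok325 x (by omega) h5
  by_cases h6 : x < 35259
  · exact cFi23a_ok326 x (by omega) h6
  by_cases h7 : x < 35367
  · exact cFi23a_ok327 x (by omega) h7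
  by_cases h8 : x < 35475
  · exact cFi23a_ok328 x (by omega) h8
  by_cases h9 : x < 35583
  · exact cFi23a_ok329 x (by omega) h9
  by_cases h10 : x < 35690
  · exact cFi23a_ok330 x (by omega) h10
  by_cases h11 : x < 35798
  · exact cFi23a_ok331 x (by omega) h11
  by_cases h12 : x < 35906
  · exact cFi23a_ok332 x (by omega) h12
  by_cases h13 : x < 36014
  · exact cFi23a_ok333 x (by omega) h13
  by_cases h14 : x < 36122
  · exact cFi23a_ok334 x (by omega) h14
  exact cFi23a_ok335 x (by omega) hhi

theorem cFi23a_okG21 : ∀ x, 36230 ≤ x → x < 37955 → cFi23a.rowOK x = true := by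
  intro x hlo hhi
  by_cases h0 : x < 36337
  · exact cFi23a_ok336 x (by omega) h0
  by_cases h1 : x < 36445
  · exact cFi23a_ok337 x (by omega) h1
  by_cases h2 : x < 36553
  · exact cFi23a_ok338 x (by omega) h2
  by_cases h3 : x < 36661
  · exact cFi23a_ok339 x (by omega) h3
  by_cases h4 : x < 36769
  · exact cFi23a_ok340 x (by omega) h4
  by_cases h5 : x < 36877
  · exact cFi23a_ok341 x (by omega) h5
  by_cases h6 : x < 36984
  · exact cFi23a_ok342 x (by omega) h6
  by_cases h7 : x < 37092
  · exact cFi23a_ok343 x (by omega) h7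
  by_cases h8 : x < 37200
  · exact cFi23a_ok344 x (by omega) h8
  by_cases h9 : x < 37308
  · exact cFi23a_ok345 x (by omega) h9
  by_cases h10 : x < 37416
  · exact cFi23a_ok346 x (by omega) h10
  by_cases h11 : x < 37524
  · exact cFi23a_ok347 x (by omega) h11
  by_cases h12 : x < 37631
  · exact cFi23a_ok348 x (by omega) h12
  by_cases h13 : x < 37739
  · exact cFi23a_ok349 x (by omega) h13
  by_cases h14 : x < 37847
  · exact cFi23a_ok350 x (by omega) h14
  exact cFi23a_ok351 x (by omega) hhi

theorem cFi23a_okG22 : ∀ x, 37955 ≤ x → x < 39680 → cFi23a.rowOK x = true := by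
  intro x hlo hhi
  by_cases h0 : x < 38063
  · exact cFi23a_ok352 x (by omega) h0
  by_cases h1 : x < 38171
  · exact cFi23a_ok353 x (by omega) h1
  by_cases h2 : x < 38278
  · exact cFi23a_ok354 x (by omega) h2
  by_cases h3 : x < 38386
  · exact cFi23a_ok355 x (by omega) h3
  by_cases h4 : x < 38494
  · exact cFi23a_ok356 x (by omega) h4
  by_cases h5 : x < 38602
  · exact cFi23a_ok357 x (by omega) h5
  by_cases h6 : x < 38710
  · exact cFi23a_ok358 x (by omega) h6
  by_cases h7 : x < 38817
  · exact cFi23a_ok359 x (by omega) h7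
  by_cases h8 : x < 38925
  · exact cFi23a_ok360 x (by omega) h8
  by_cases h9 : x < 39033
  · exact cFi23a_ok361 x (by omega) h9
  by_cases h10 : x < 39141
  · exact cFi23a_ok362 x (by omega) h10
  by_cases h11 : x < 39249
  · exact cFi23a_ok363 x (by omega) h11
  by_cases h12 : x < 39357
  · exact cFi23a_ok364 x (by omega) h12
  by_cases h13 : x < 39464
  · exact cFi23a_ok365 x (by omega) h13
  by_cases h14 : x < 39572
  · exact cFi23a_ok366 x (by omega) h14
  exact cFi23a_ok367 x (by omega) hhi

theorem cFi23a_okG23 : ∀ x, 39680 ≤ x → x < 41405 → cFi23a.rowOK x = true := by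
  intro x hlo hhi
  by_cases h0 : x < 39788
  · exact cFi23a_ok368 x (by omega) h0
  by_cases h1 : x < 39896
  · exact cFi23a_ok369 x (by omega) h1
  by_cases h2 : x < 40004
  · exact cFi23a_ok370 x (by omega) h2
  by_cases h3 : x < 40111
  · exact cFi23a_ok371 x (by omega) h3
  by_cases h4 : x < 40219
  · exact cFi23a_ok372 x (by omega) h4
  by_cases h5 : x < 40327
  · exact cFi23a_ok373 x (by omega) h5
  by_cases h6 : x < 40435
  · exact cFi23a_ok374 x (by omega) h6
  by_cases h7 : x < 40543
  · exact cFi23a_ok375 x (by omega) h7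
  by_cases h8 : x < 40651
  · exact cFi23a_ok376 x (by omega) h8
  by_cases h9 : x < 40758
  · exact cFi23a_ok377 x (by omega) h9
  by_cases h10 : x < 40866
  · exact cFi23a_ok378 x (by omega) h10
  by_cases h11 : x < 40974
  · exact cFi23a_ok379 x (by omega) h11
  by_cases h12 : x < 41082
  · exact cFi23a_ok380 x (by omega) h12
  by_cases h13 : x < 41190
  · exact cFi23a_ok381 x (by omega) h13
  by_cases h14 : x < 41298
  · exact cFi23a_ok382 x (by omega) h14
  exact cFi23a_ok383 x (by omega) hhi

theorem cFi23a_okG24 : ∀ x, 41405 ≤ x → x < 43131 → cFi23a.rowOK x = true := by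
  intro x hlo hhi
  by_cases h0 : x < 41513
  · exact cFi23a_ok384 x (by omega) h0
  by_cases h1 : x < 41621
  · exact cFi23a_ok385 x (by omega) h1
  by_cases h2 : x < 41729
  · exact cFi23a_ok386 x (by omega) h2
  by_cases h3 : x < 41837
  · exact cFi23a_ok387 x (by omega) h3
  by_cases h4 : x < 41944
  · exact cFi23a_ok388 x (by omega) h4
  by_cases h5 : x < 42052
  · exact cFi23a_ok389 x (by omega) h5
  by_cases h6 : x < 42160
  · exact cFi23a_ok390 x (by omega) h6
  by_cases h7 : x < 42268
  · exact cFi23a_ok391 x (by omega) h7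
  by_cases h8 : x < 42376
  · exact cFi23a_ok392 x (by omega) h8
  by_cases h9 : x < 42484
  · exact cFi23a_ok393 x (by omega) h9
  by_cases h10 : x < 42591
  · exact cFi23a_ok394 x (by omega) h10
  by_cases h11 : x < 42699
  · exact cFi23a_ok395 x (by omega) h11
  by_cases h12 : x < 42807
  · exact cFi23a_ok396 x (by omega) h12
  by_cases h13 : x < 42915
  · exact cFi23a_ok397 x (by omega) h13
  by_cases h14 : x < 43023
  · exact cFi23a_ok398 x (by omega) h14
  exact cFi23a_ok399 x (by omega) hhi

theorem cFi23a_okG25 : ∀ x, 43131 ≤ x → x < 44856 → cFi23a.rowOK x = true := by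
  intro x hlo hhi
  by_cases h0 : x < 43238
  · exact cFi23a_ok400 x (by omega) h0
  by_cases h1 : x < 43346
  · exact cFi23a_ok401 x (by omega) h1
  by_cases h2 : x < 43454
  · exact cFi23a_ok402 x (by omega) h2
  by_cases h3 : x < 43562
  · exact cFi23a_ok403 x (by omega) h3
  by_cases h4 : x < 43670
  · exact cFi23a_ok404 x (by omega) h4
  by_cases h5 : x < 43778
  · exact cFi23a_ok405 x (by omega) h5
  by_cases h6 : x < 43885
  · exact cFi23a_ok406 x (by omega) h6
  by_cases h7 : x < 43993
  · exact cFi23a_ok407 x (by omega) h7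
  by_cases h8 : x < 44101
  · exact cFi23a_ok408 x (by omega) h8
  by_cases h9 : x < 44209
  · exact cFi23a_ok409 x (by omega) h9
  by_cases h10 : x < 44317
  · exact cFi23a_ok410 x (by omega) h10
  by_cases h11 : x < 44425
  · exact cFi23a_ok411 x (by omega) h11
  by_cases h12 : x < 44532
  · exact cFi23a_ok412 x (by omega) h12
  by_cases h13 : x < 44640
  · exact cFi23a_ok413 x (by omega) h13
  by_cases h14 : x < 44748
  · exact cFi23a_ok414 x (by omega) h14
  exact cFi23a_ok415 x (by omega) hhi

theorem cFi23a_okG26 : ∀ x, 44856 ≤ x → x < 46581 → cFi23a.rowOK x = true := by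
  intro x hlo hhi
  by_cases h0 : x < 44964
  · exact cFi23a_ok416 x (by omega) h0
  by_cases h1 : x < 45072
  · exact cFi23a_ok417 x (by omega) h1
  by_cases h2 : x < 45179
  · exact cFi23a_ok418 x (by omega) h2
  by_cases h3 : x < 45287
  · exact cFi23a_ok419 x (by omega) h3
  by_cases h4 : x < 45395
  · exact cFi23a_ok420 x (by omega) h4
  by_cases h5 : x < 45503
  · exact cFi23a_ok421 x (by omega) h5
  by_cases h6 : x < 45611
  · exact cFi23a_ok422 x (by omega) h6
  by_cases h7 : x < 45718
  · exact cFi23a_ok423 x (by omega) h7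
  by_cases h8 : x < 45826
  · exact cFi23a_ok424 x (by omega) h8
  by_cases h9 : x < 45934
  · exact cFi23a_ok425 x (by omega) h9
  by_cases h10 : x < 46042
  · exact cFi23a_ok426 x (by omega) h10
  by_cases h11 : x < 46150
  · exact cFi23a_ok427 x (by omega) h11
  by_cases h12 : x < 46258
  · exact cFi23a_ok428 x (by omega) h12
  by_cases h13 : x < 46365
  · exact cFi23a_ok429 x (by omega) h13
  by_cases h14 : x < 46473
  · exact cFi23a_ok430 x (by omega) h14
  exact cFi23a_ok431 x (by omega) hhi

theorem cFi23a_okG27 : ∀ x, 46581 ≤ x → x < 48306 → cFi23a.rowOK x = true := by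
  intro x hlo hhi
  by_cases h0 : x < 46689
  · exact cFi23a_ok432 x (by omega) h0
  by_cases h1 : x < 46797
  · exact cFi23a_ok433 x (by omega) h1
  by_cases h2 : x < 46905
  · exact cFi23a_ok434 x (by omega) h2
  by_cases h3 : x < 47012
  · exact cFi23a_ok435 x (by omega) h3
  by_cases h4 : x < 47120
  · exact cFi23a_ok436 x (by omega) h4
  by_cases h5 : x < 47228
  · exact cFi23a_ok437 x (by omega) h5
  by_cases h6 : x < 47336
  · exact cFi23a_ok438 x (by omega) h6
  by_cases h7 : x < 47444
  · exact cFi23a_ok439 x (by omega) h7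
  by_cases h8 : x < 47552
  · exact cFi23a_ok440 x (by omega) h8
  by_cases h9 : x < 47659
  · exact cFi23a_ok441 x (by omega) h9
  by_cases h10 : x < 47767
  · exact cFi23a_ok442 x (by omega) h10
  by_cases h11 : x < 47875
  · exact cFi23a_ok443 x (by omega) h11
  by_cases h12 : x < 47983
  · exact cFi23a_ok444 x (by omega) h12
  by_cases h13 : x < 48091
  · exact cFi23a_ok445 x (by omega) h13
  by_cases h14 : x < 48199
  · exact cFi23a_ok446 x (by omega) h14
  exact cFi23a_ok447 x (by omega) hhi

theorem cFi23a_okG28 : ∀ x, 48306 ≤ x → x < 50032 → cFi23a.rowOK x = true := by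
  intro x hlo hhi
  by_cases h0 : x < 48414
  · exact cFi23a_ok448 x (by omega) h0
  by_cases h1 : x < 48522
  · exact cFi23a_ok449 x (by omega) h1
  by_cases h2 : x < 48630
  · exact cFi23a_ok450 x (by omega) h2
  by_cases h3 : x < 48738
  · exact cFi23a_ok451 x (by omega) h3
  by_cases h4 : x < 48845
  · exact cFi23a_ok452 x (by omega) h4
  by_cases h5 : x < 48953
  · exact cFi23a_ok453 x (by omega) h5
  by_cases h6 : x < 49061
  · exact cFi23a_ok454 x (by omega) h6
  by_cases h7 : x < 49169
  · exact cFi23a_ok455 x (by omega) h7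
  by_cases h8 : x < 49277
  · exact cFi23a_ok456 x (by omega) h8
  by_cases h9 : x < 49385
  · exact cFi23a_ok457 x (by omega) h9
  by_cases h10 : x < 49492
  · exact cFi23a_ok458 x (by omega) h10
  by_cases h11 : x < 49600
  · exact cFi23a_ok459 x (by omega) h11
  by_cases h12 : x < 49708
  · exact cFi23a_ok460 x (by omega) h12
  by_cases h13 : x < 49816
  · exact cFi23a_ok461 x (by omega) h13
  by_cases h14 : x < 49924
  · exact cFi23a_ok462 x (by omega) h14
  exact cFi23a_ok463 x (by omega) hhi

theorem cFi23a_okG29 : ∀ x, 50032 ≤ x → x < 51757 → cFi23a.rowOK x = true := by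
  intro x hlo hhi
  by_cases h0 : x < 50139
  · exact cFi23a_ok464 x (by omega) h0
  by_cases h1 : x < 50247
  · exact cFi23a_ok465 x (by omega) h1
  by_cases h2 : x < 50355
  · exact cFi23a_ok466 x (by omega) h2
  by_cases h3 : x < 50463
  · exact cFi23a_ok467 x (by omega) h3
  by_cases h4 : x < 50571
  · exact cFi23a_ok468 x (by omega) h4
  by_cases h5 : x < 50679
  · exact cFi23a_ok469 x (by omega) h5
  by_cases h6 : x < 50786
  · exact cFi23a_ok470 x (by omega) h6
  by_cases h7 : x < 50894
  · exact cFi23a_ok471 x (by omega) h7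
  by_cases h8 : x < 51002
  · exact cFi23a_ok472 x (by omega) h8
  by_cases h9 : x < 51110
  · exact cFi23a_ok473 x (by omega) h9
  by_cases h10 : x < 51218
  · exact cFi23a_ok474 x (by omega) h10
  by_cases h11 : x < 51326
  · exact cFi23a_ok475 x (by omega) h11
  by_cases h12 : x < 51433
  · exact cFi23a_ok476 x (by omega) h12
  by_cases h13 : x < 51541
  · exact cFi23a_ok477 x (by omega) h13
  by_cases h14 : x < 51649
  · exact cFi23a_ok478 x (by omega) h14
  exact cFi23a_ok479 x (by omega) hhi

theorem cFi23a_okG30 : ∀ x, 51757 ≤ x → x < 53482 → cFi23a.rowOK x = true := by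
  intro x hlo hhi
  by_cases h0 : x < 51865
  · exact cFi23a_ok480 x (by omega) h0
  by_cases h1 : x < 51972
  · exact cFi23a_ok481 x (by omega) h1
  by_cases h2 : x < 52080
  · exact cFi23a_ok482 x (by omega) h2
  by_cases h3 : x < 52188
  · exact cFi23a_ok483 x (by omega) h3
  by_cases h4 : x < 52296
  · exact cFi23a_ok484 x (by omega) h4
  by_cases h5 : x < 52404
  · exact cFi23a_ok485 x (by omega) h5
  by_cases h6 : x < 52512
  · exact cFi23a_ok486 x (by omega) h6
  by_cases h7 : x < 52619
  · exact cFi23a_ok487 x (by omega) h7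
  by_cases h8 : x < 52727
  · exact cFi23a_ok488 x (by omega) h8
  by_cases h9 : x < 52835
  · exact cFi23a_ok489 x (by omega) h9
  by_cases h10 : x < 52943
  · exact cFi23a_ok490 x (by omega) h10
  by_cases h11 : x < 53051
  · exact cFi23a_ok491 x (by omega) h11
  by_cases h12 : x < 53159
  · exact cFi23a_ok492 x (by omega) h12
  by_cases h13 : x < 53266
  · exact cFi23a_ok493 x (by omega) h13
  by_cases h14 : x < 53374
  · exact cFi23a_ok494 x (by omega) h14
  exact cFi23a_ok495 x (by omega) hhi

theorem cFi23a_okG31 : ∀ x, 53482 ≤ x → x < 55207 → cFi23a.rowOK x = true := by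
  intro x hlo hhi
  by_cases h0 : x < 53590
  · exact cFi23a_ok496 x (by omega) h0
  by_cases h1 : x < 53698
  · exact cFi23a_ok497 x (by omega) h1
  by_cases h2 : x < 53806
  · exact cFi23a_ok498 x (by omega) h2
  by_cases h3 : x < 53913
  · exact cFi23a_ok499 x (by omega) h3
  by_cases h4 : x < 54021
  · exact cFi23a_ok500 x (by omega) h4
  by_cases h5 : x < 54129
  · exact cFi23a_ok501 x (by omega) h5
  by_cases h6 : x < 54237
  · exact cFi23a_ok502 x (by omega) h6
  by_cases h7 : x < 54345
  · exact cFi23a_ok503 x (by omega) h7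
  by_cases h8 : x < 54453
  · exact cFi23a_ok504 x (by omega) h8
  by_cases h9 : x < 54560
  · exact cFi23a_ok505 x (by omega) h9
  by_cases h10 : x < 54668
  · exact cFi23a_ok506 x (by omega) h10
  by_cases h11 : x < 54776
  · exact cFi23a_ok507 x (by omega) h11
  by_cases h12 : x < 54884
  · exact cFi23a_ok508 x (by omega) h12
  by_cases h13 : x < 54992
  · exact cFi23a_ok509 x (by omega) h13
  by_cases h14 : x < 55099
  · exact cFi23a_ok510 x (by omega) h14
  exact cFi23a_ok511 x (by omega) hhi

theorem cFi23a_okG32 : ∀ x, 55207 ≤ x → x < 56933 → cFi23a.rowOK x = true := by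
  intro x hlo hhi
  by_cases h0 : x < 55315
  · exact cFi23a_ok512 x (by omega) h0
  by_cases h1 : x < 55423
  · exact cFi23a_ok513 x (by omega) h1
  by_cases h2 : x < 55531
  · exact cFi23a_ok514 x (by omega) h2
  by_cases h3 : x < 55639
  · exact cFi23a_ok515 x (by omega) h3
  by_cases h4 : x < 55746
  · exact cFi23a_ok516 x (by omega) h4
  by_cases h5 : x < 55854
  · exact cFi23a_ok517 x (by omega) h5
  by_cases h6 : x < 55962
  · exact cFi23a_ok518 x (by omega) h6
  by_cases h7 : x < 56070
  · exact cFi23a_ok519 x (by omega) h7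
  by_cases h8 : x < 56178
  · exact cFi23a_ok520 x (by omega) h8
  by_cases h9 : x < 56286
  · exact cFi23a_ok521 x (by omega) h9
  by_cases h10 : x < 56393
  · exact cFi23a_ok522 x (by omega) h10
  by_cases h11 : x < 56501
  · exact cFi23a_ok523 x (by omega) h11
  by_cases h12 : x < 56609
  · exact cFi23a_ok524 x (by omega) h12
  by_cases h13 : x < 56717
  · exact cFi23a_ok525 x (by omega) h13
  by_cases h14 : x < 56825
  · exact cFi23a_ok526 x (by omega) h14
  exact cFi23a_ok527 x (by omega) hhi

theorem cFi23a_okG33 : ∀ x, 56933 ≤ x → x < 58658 → cFi23a.rowOK x = true := by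
  intro x hlo hhi
  by_cases h0 : x < 57040
  · exact cFi23a_ok528 x (by omega) h0
  by_cases h1 : x < 57148
  · exact cFi23a_ok529 x (by omega) h1
  by_cases h2 : x < 57256
  · exact cFi23a_ok530 x (by omega) h2
  by_cases h3 : x < 57364
  · exact cFi23a_ok531 x (by omega) h3
  by_cases h4 : x < 57472
  · exact cFi23a_ok532 x (by omega) h4
  by_cases h5 : x < 57580
  · exact cFi23a_ok533 x (by omega) h5
  by_cases h6 : x < 57687
  · exact cFi23a_ok534 x (by omega) h6
  by_cases h7 : x < 57795
  · exact cFi23a_ok535 x (by omega) h7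
  by_cases h8 : x < 57903
  · exact cFi23a_ok536 x (by omega) h8
  by_cases h9 : x < 58011
  · exact cFi23a_ok537 x (by omega) h9
  by_cases h10 : x < 58119
  · exact cFi23a_ok538 x (by omega) h10
  by_cases h11 : x < 58226
  · exact cFi23a_ok539 x (by omega) h11
  by_cases h12 : x < 58334
  · exact cFi23a_ok540 x (by omega) h12
  by_cases h13 : x < 58442
  · exact cFi23a_ok541 x (by omega) h13
  by_cases h14 : x < 58550
  · exact cFi23a_ok542 x (by omega) h14
  exact cFi23a_ok543 x (by omega) hhi

theorem cFi23a_okG34 : ∀ x, 58658 ≤ x → x < 60383 → cFi23a.rowOK x = true := by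
  intro x hlo hhi
  by_cases h0 : x < 58766
  · exact cFi23a_ok544 x (by omega) h0
  by_cases h1 : x < 58873
  · exact cFi23a_ok545 x (by omega) h1
  by_cases h2 : x < 58981
  · exact cFi23a_ok546 x (by omega) h2
  by_cases h3 : x < 59089
  · exact cFi23a_ok547 x (by omega) h3
  by_cases h4 : x < 59197
  · exact cFi23a_ok548 x (by omega) h4
  by_cases h5 : x < 59305
  · exact cFi23a_ok549 x (by omega) h5
  by_cases h6 : x < 59413
  · exact cFi23a_ok550 x (by omega) h6
  by_cases h7 : x < 59520
  · exact cFi23a_ok551 x (by omega) h7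
  by_cases h8 : x < 59628
  · exact cFi23a_ok552 x (by omega) h8
  by_cases h9 : x < 59736
  · exact cFi23a_ok553 x (by omega) h9
  by_cases h10 : x < 59844
  · exact cFi23a_ok554 x (by omega) h10
  by_cases h11 : x < 59952
  · exact cFi23a_ok555 x (by omega) h11
  by_cases h12 : x < 60060
  · exact cFi23a_ok556 x (by omega) h12
  by_cases h13 : x < 60167
  · exact cFi23a_ok557 x (by omega) h13
  by_cases h14 : x < 60275
  · exact cFi23a_ok558 x (by omega) h14
  exact cFi23a_ok559 x (by omega) hhi

theorem cFi23a_okG35 : ∀ x, 60383 ≤ x → x < 62108 → cFi23a.rowOK x = true := by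
  intro x hlo hhi
  by_cases h0 : x < 60491
  · exact cFi23a_ok560 x (by omega) h0
  by_cases h1 : x < 60599
  · exact cFi23a_ok561 x (by omega) h1
  by_cases h2 : x < 60707
  · exact cFi23a_ok562 x (by omega) h2
  by_cases h3 : x < 60814
  · exact cFi23a_ok563 x (by omega) h3
  by_cases h4 : x < 60922
  · exact cFi23a_ok564 x (by omega) h4
  by_cases h5 : x < 61030
  · exact cFi23a_ok565 x (by omega) h5
  by_cases h6 : x < 61138
  · exact cFi23a_ok566 x (by omega) h6
  by_cases h7 : x < 61246
  · exact cFi23a_ok567 x (by omega) h7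
  by_cases h8 : x < 61353
  · exact cFi23a_ok568 x (by omega) h8
  by_cases h9 : x < 61461
  · exact cFi23a_ok569 x (by omega) h9
  by_cases h10 : x < 61569
  · exact cFi23a_ok570 x (by omega) h10
  by_cases h11 : x < 61677
  · exact cFi23a_ok571 x (by omega) h11
  by_cases h12 : x < 61785
  · exact cFi23a_ok572 x (by omega) h12
  by_cases h13 : x < 61893
  · exact cFi23a_ok573 x (by omega) h13
  by_cases h14 : x < 62000
  · exact cFi23a_ok574 x (by omega) h14
  exact cFi23a_ok575 x (by omega) hhi

theorem cFi23a_okG36 : ∀ x, 62108 ≤ x → x < 63834 → cFi23a.rowOK x = true := by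
  intro x hlo hhi
  by_cases h0 : x < 62216
  · exact cFi23a_ok576 x (by omega) h0
  by_cases h1 : x < 62324
  · exact cFi23a_ok577 x (by omega) h1
  by_cases h2 : x < 62432
  · exact cFi23a_ok578 x (by omega) h2
  by_cases h3 : x < 62540
  · exact cFi23a_ok579 x (by omega) h3
  by_cases h4 : x < 62647
  · exact cFi23a_ok580 x (by omega) h4
  by_cases h5 : x < 62755
  · exact cFi23a_ok581 x (by omega) h5
  by_cases h6 : x < 62863
  · exact cFi23a_ok582 x (by omega) h6
  by_cases h7 : x < 62971
  · exact cFi23a_ok583 x (by omega) h7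
  by_cases h8 : x < 63079
  · exact cFi23a_ok584 x (by omega) h8
  by_cases h9 : x < 63187
  · exact cFi23a_ok585 x (by omega) h9
  by_cases h10 : x < 63294
  · exact cFi23a_ok586 x (by omega) h10
  by_cases h11 : x < 63402
  · exact cFi23a_ok587 x (by omega) h11
  by_cases h12 : x < 63510
  · exact cFi23a_ok588 x (by omega) h12
  by_cases h13 : x < 63618
  · exact cFi23a_ok589 x (by omega) h13
  by_cases h14 : x < 63726
  · exact cFi23a_ok590 x (by omega) h14
  exact cFi23a_ok591 x (by omega) hhi

theorem cFi23a_okG37 : ∀ x, 63834 ≤ x → x < 64481 → cFi23a.rowOK x = true := by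
  intro x hlo hhi
  by_cases h0 : x < 63941
  · exact cFi23a_ok592 x (by omega) h0
  by_cases h1 : x < 64049
  · exact cFi23a_ok593 x (by omega) h1
  by_cases h2 : x < 64157
  · exact cFi23a_ok594 x (by omega) h2
  by_cases h3 : x < 64265
  · exact cFi23a_ok595 x (by omega) h3
  by_cases h4 : x < 64373
  · exact cFi23a_ok596 x (by omega) h4
  exact cFi23a_ok597 x (by omega) hhi

theorem cFi23a_Ok : cFi23a.Ok := by
  refine ⟨cFi23a_base, ?_⟩
  intro x hx
  by_cases h0 : x < 1725
  · exact cFi23a_okG0 x (by omega) h0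
  by_cases h1 : x < 3450
  · exact cFi23a_okG1 x (by omega) h1
  by_cases h2 : x < 5175
  · exact cFi23a_okG2 x (by omega) h2
  by_cases h3 : x < 6900
  · exact cFi23a_okG3 x (by omega) h3
  by_cases h4 : x < 8626
  · exact cFi23a_okG4 x (by omega) h4
  by_cases h5 : x < 10351
  · exact cFi23a_okG5 x (by omega) h5
  by_cases h6 : x < 12076
  · exact cFi23a_okG6 x (by omega) h6
  by_cases h7 : x < 13801
  · exact cFi23a_okG7 x (by omega) h7
  by_cases h8 : x < 15527
  · exact cFi23a_okG8 x (by omega) h8
  by_cases h9 : x < 17252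
  · exact cFi23a_okG9 x (by omega) h9
  by_cases h10 : x < 18977
  · exact cFi23a_okG10 x (by omega) h10
  by_cases h11 : x < 20702
  · exact cFi23a_okG11 x (by omega) h11
  by_cases h12 : x < 22428
  · exact cFi23a_okG12 x (by omega) h12
  by_cases h13 : x < 24153
  · exact cFi23a_okG13 x (by omega) h13
  by_cases h14 : x < 25878
  · exact cFi23a_okG14 x (by omega) h14
  by_cases h15 : x < 27603
  · exact cFi23a_okG15 x (by omega) h15
  by_cases h16 : x < 29329
  · exact cFi23a_okG16 x (by omega) h16
  by_cases h17 : x < 31054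
  · exact cFi23a_okG17 x (by omega) h17
  by_cases h18 : x < 32779
  · exact cFi23a_okG18 x (by omega) h18
  by_cases h19 : x < 34504
  · exact cFi23a_okG19 x (by omega) h19
  by_cases h20 : x < 36230
  · exact cFi23a_okG20 x (by omega) h20
  by_cases h21 : x < 37955
  · exact cFi23a_okG21 x (by omega) h21
  by_cases h22 : x < 39680
  · exact cFi23a_okG22 x (by omega) h22
  by_cases h23 : x < 41405
  · exact cFi23a_okG23 x (by omega) h23
  by_cases h24 : x < 43131
  · exact cFi23a_okG24 x (by omega) h24
  by_cases h25 : x < 44856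
  · exact cFi23a_okG25 x (by omega) h25
  by_cases h26 : x < 46581
  · exact cFi23a_okG26 x (by omega) h26
  by_cases h27 : x < 48306
  · exact cFi23a_okG27 x (by omega) h27
  by_cases h28 : x < 50032
  · exact cFi23a_okG28 x (by omega) h28
  by_cases h29 : x < 51757
  · exact cFi23a_okG29 x (by omega) h29
  by_cases h30 : x < 53482
  · exact cFi23a_okG30 x (by omega) h30
  by_cases h31 : x < 55207
  · exact cFi23a_okG31 x (by omega) h31
  by_cases h32 : x < 56933
  · exact cFi23a_okG32 x (by omega) h32
  by_cases h33 : x < 58658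
  · exact cFi23a_okG33 x (by omega) h33
  by_cases h34 : x < 60383
  · exact cFi23a_okG34 x (by omega) h34
  by_cases h35 : x < 62108
  · exact cFi23a_okG35 x (by omega) h35
  by_cases h36 : x < 63834
  · exact cFi23a_okG36 x (by omega) h36
  exact cFi23a_okG37 x (by omega) hx

theorem cFi23a_actBase : cFi23a.actBase = true := by decide +kernel

theorem cFi23a_actG0 : ∀ x, 0 ≤ x → x < 719 → cFi23a.actRow x = true := by
  intro x hlo hhi
  by_cases h0 : x < 44
  · exact cFi23a_act0 x (by omega) h0
  by_cases h1 : x < 89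
  · exact cFi23a_act1 x (by omega) h1
  by_cases h2 : x < 134
  · exact cFi23a_act2 x (by omega) h2
  by_cases h3 : x < 179
  · exact cFi23a_act3 x (by omega) h3
  by_cases h4 : x < 224
  · exact cFi23a_act4 x (by omega) h4
  by_cases h5 : x < 269
  · exact cFi23a_act5 x (by omega) h5
  by_cases h6 : x < 314
  · exact cFi23a_act6 x (by omega) h6
  by_cases h7 : x < 359
  · exact cFi23a_act7 x (by omega) h7
  by_cases h8 : x < 404
  · exact cFi23a_act8 x (by omega) h8
  by_cases h9 : x < 449
  · exact cFi23a_act9 x (by omega) h9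
  by_cases h10 : x < 494
  · exact cFi23a_act10 x (by omega) h10
  by_cases h11 : x < 539
  · exact cFi23a_act11 x (by omega) h11
  by_cases h12 : x < 584
  · exact cFi23a_act12 x (by omega) h12
  by_cases h13 : x < 629
  · exact cFi23a_act13 x (by omega) h13
  by_cases h14 : x < 674
  · exact cFi23a_act14 x (by omega) h14
  exact cFi23a_act15 x (by omega) hhi

theorem cFi23a_actG1 : ∀ x, 719 ≤ x → x < 1439 → cFi23a.actRow x = true := by
  intro x hlo hhi
  by_cases h0 : x < 764
  · exact cFi23a_act16 x (by omega) h0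
  by_cases h1 : x < 809
  · exact cFi23a_act17 x (by omega) h1
  by_cases h2 : x < 854
  · exact cFi23a_act18 x (by omega) h2
  by_cases h3 : x < 899
  · exact cFi23a_act19 x (by omega) h3
  by_cases h4 : x < 944
  · exact cFi23a_act20 x (by omega) h4
  by_cases h5 : x < 989
  · exact cFi23a_act21 x (by omega) h5
  by_cases h6 : x < 1034
  · exact cFi23a_act22 x (by omega) h6
  by_cases h7 : x < 1079
  · exact cFi23a_act23 x (by omega) h7
  by_cases h8 : x < 1124
  · exact cFi23a_act24 x (by omega) h8
  by_cases h9 : x < 1169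
  · exact cFi23a_act25 x (by omega) h9
  by_cases h10 : x < 1214
  · exact cFi23a_act26 x (by omega) h10
  by_cases h11 : x < 1259
  · exact cFi23a_act27 x (by omega) h11
  by_cases h12 : x < 1304
  · exact cFi23a_act28 x (by omega) h12
  by_cases h13 : x < 1349
  · exact cFi23a_act29 x (by omega) h13
  by_cases h14 : x < 1394
  · exact cFi23a_act30 x (by omega) h14
  exact cFi23a_act31 x (by omega) hhi

theorem cFi23a_actG2 : ∀ x, 1439 ≤ x → x < 2159 → cFi23a.actRow x = true := by
  intro x hlo hhi
  by_cases h0 : x < 1484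
  · exact cFi23a_act32 x (by omega) h0
  by_cases h1 : x < 1529
  · exact cFi23a_act33 x (by omega) h1
  by_cases h2 : x < 1574
  · exact cFi23a_act34 x (by omega) h2
  by_cases h3 : x < 1619
  · exact cFi23a_act35 x (by omega) h3
  by_cases h4 : x < 1664
  · exact cFi23a_act36 x (by omega) h4
  by_cases h5 : x < 1709
  · exact cFi23a_act37 x (by omega) h5
  by_cases h6 : x < 1754
  · exact cFi23a_act38 x (by omega) h6
  by_cases h7 : x < 1799
  · exact cFi23a_act39 x (by omega) h7
  by_cases h8 : x < 1844
  · exact cFi23a_act40 x (by omega) h8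
  by_cases h9 : x < 1889
  · exact cFi23a_act41 x (by omega) h9
  by_cases h10 : x < 1934
  · exact cFi23a_act42 x (by omega) h10
  by_cases h11 : x < 1979
  · exact cFi23a_act43 x (by omega) h11
  by_cases h12 : x < 2024
  · exact cFi23a_act44 x (by omega) h12
  by_cases h13 : x < 2069
  · exact cFi23a_act45 x (by omega) h13
  by_cases h14 : x < 2114
  · exact cFi23a_act46 x (by omega) h14
  exact cFi23a_act47 x (by omega) hhi

theorem cFi23a_actG3 : ∀ x, 2159 ≤ x → x < 2879 → cFi23a.actRow x = true := by
  intro x hlo hhi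
  by_cases h0 : x < 2204
  · exact cFi23a_act48 x (by omega) h0
  by_cases h1 : x < 2249
  · exact cFi23a_act49 x (by omega) h1
  by_cases h2 : x < 2294
  · exact cFi23a_act50 x (by omega) h2
  by_cases h3 : x < 2339
  · exact cFi23a_act51 x (by omega) h3
  by_cases h4 : x < 2384
  · exact cFi23a_act52 x (by omega) h4
  by_cases h5 : x < 2429
  · exact cFi23a_act53 x (by omega) h5
  by_cases h6 : x < 2474
  · exact cFi23a_act54 x (by omega) h6
  by_cases h7 : x < 2519
  · exact cFi23a_act55 x (by omega) h7
  by_cases h8 : x < 2564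
  · exact cFi23a_act56 x (by omega) h8
  by_cases h9 : x < 2609
  · exact cFi23a_act57 x (by omega) h9
  by_cases h10 : x < 2654
  · exact cFi23a_act58 x (by omega) h10
  by_cases h11 : x < 2699
  · exact cFi23a_act59 x (by omega) h11
  by_cases h12 : x < 2744
  · exact cFi23a_act60 x (by omega) h12
  by_cases h13 : x < 2789
  · exact cFi23a_act61 x (by omega) h13
  by_cases h14 : x < 2834
  · exact cFi23a_act62 x (by omega) h14
  exact cFi23a_act63 x (by omega) hhi

theorem cFi23a_actG4 : ∀ x, 2879 ≤ x → x < 3598 → cFi23a.actRow x = true := by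
  intro x hlo hhi
  by_cases h0 : x < 2924
  · exact cFi23a_act64 x (by omega) h0
  by_cases h1 : x < 2969
  · exact cFi23a_act65 x (by omega) h1
  by_cases h2 : x < 3014
  · exact cFi23a_act66 x (by omega) h2
  by_cases h3 : x < 3059
  · exact cFi23a_act67 x (by omega) h3
  by_cases h4 : x < 3104
  · exact cFi23a_act68 x (by omega) h4
  by_cases h5 : x < 3149
  · exact cFi23a_act69 x (by omega) h5
  by_cases h6 : x < 3194
  · exact cFi23a_act70 x (by omega) h6
  by_cases h7 : x < 3239
  · exact cFi23a_act71 x (by omega) h7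
  by_cases h8 : x < 3284
  · exact cFi23a_act72 x (by omega) h8
  by_cases h9 : x < 3329
  · exact cFi23a_act73 x (by omega) h9
  by_cases h10 : x < 3374
  · exact cFi23a_act74 x (by omega) h10
  by_cases h11 : x < 3419
  · exact cFi23a_act75 x (by omega) h11
  by_cases h12 : x < 3464
  · exact cFi23a_act76 x (by omega) h12
  by_cases h13 : x < 3509
  · exact cFi23a_act77 x (by omega) h13
  by_cases h14 : x < 3553
  · exact cFi23a_act78 x (by omega) h14
  exact cFi23a_act79 x (by omega) hhi

theorem cFi23a_actG5 : ∀ x, 3598 ≤ x → x < 4318 → cFi23a.actRow x = true := by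
  intro x hlo hhi
  by_cases h0 : x < 3643
  · exact cFi23a_act80 x (by omega) h0
  by_cases h1 : x < 3688
  · exact cFi23a_act81 x (by omega) h1
  by_cases h2 : x < 3733
  · exact cFi23a_act82 x (by omega) h2
  by_cases h3 : x < 3778
  · exact cFi23a_act83 x (by omega) h3
  by_cases h4 : x < 3823
  · exact cFi23a_act84 x (by omega) h4
  by_cases h5 : x < 3868
  · exact cFi23a_act85 x (by omega) h5
  by_cases h6 : x < 3913
  · exact cFi23a_act86 x (by omega) h6
  by_cases h7 : x < 3958
  · exact cFi23a_act87 x (by omega) h7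
  by_cases h8 : x < 4003
  · exact cFi23a_act88 x (by omega) h8
  by_cases h9 : x < 4048
  · exact cFi23a_act89 x (by omega) h9
  by_cases h10 : x < 4093
  · exact cFi23a_act90 x (by omega) h10
  by_cases h11 : x < 4138
  · exact cFi23a_act91 x (by omega) h11
  by_cases h12 : x < 4183
  · exact cFi23a_act92 x (by omega) h12
  by_cases h13 : x < 4228
  · exact cFi23a_act93 x (by omega) h13
  by_cases h14 : x < 4273
  · exact cFi23a_act94 x (by omega) h14
  exact cFi23a_act95 x (by omega) hhi

theorem cFi23a_actG6 : ∀ x, 4318 ≤ x → x < 5038 → cFi23a.actRow x = true := by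
  intro x hlo hhi
  by_cases h0 : x < 4363
  · exact cFi23a_act96 x (by omega) h0
  by_cases h1 : x < 4408
  · exact cFi23a_act97 x (by omega) h1
  by_cases h2 : x < 4453
  · exact cFi23a_act98 x (by omega) h2
  by_cases h3 : x < 4498
  · exact cFi23a_act99 x (by omega) h3
  by_cases h4 : x < 4543
  · exact cFi23a_act100 x (by omega) h4
  by_cases h5 : x < 4588
  · exact cFi23a_act101 x (by omega) h5
  by_cases h6 : x < 4633
  · exact cFi23a_act102 x (by omega) h6
  by_cases h7 : x < 4678
  · exact cFi23a_act103 x (by omega) h7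
  by_cases h8 : x < 4723
  · exact cFi23a_act104 x (by omega) h8
  by_cases h9 : x < 4768
  · exact cFi23a_act105 x (by omega) h9
  by_cases h10 : x < 4813
  · exact cFi23a_act106 x (by omega) h10
  by_cases h11 : x < 4858
  · exact cFi23a_act107 x (by omega) h11
  by_cases h12 : x < 4903
  · exact cFi23a_act108 x (by omega) h12
  by_cases h13 : x < 4948
  · exact cFi23a_act109 x (by omega) h13
  by_cases h14 : x < 4993
  · exact cFi23a_act110 x (by omega) h14
  exact cFi23a_act111 x (by omega) hhi

theorem cFi23a_actG7 : ∀ x, 5038 ≤ x → x < 5758 → cFi23a.actRow x = true := by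
  intro x hlo hhi
  by_cases h0 : x < 5083
  · exact cFi23a_act112 x (by omega) h0
  by_cases h1 : x < 5128
  · exact cFi23a_act113 x (by omega) h1
  by_cases h2 : x < 5173
  · exact cFi23a_act114 x (by omega) h2
  by_cases h3 : x < 5218
  · exact cFi23a_act115 x (by omega) h3
  by_cases h4 : x < 5263
  · exact cFi23a_act116 x (by omega) h4
  by_cases h5 : x < 5308
  · exact cFi23a_act117 x (by omega) h5
  by_cases h6 : x < 5353
  · exact cFi23a_act118 x (by omega) h6
  by_cases h7 : x < 5398
  · exact cFi23a_act119 x (by omega) h7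
  by_cases h8 : x < 5443
  · exact cFi23a_act120 x (by omega) h8
  by_cases h9 : x < 5488
  · exact cFi23a_act121 x (by omega) h9
  by_cases h10 : x < 5533
  · exact cFi23a_act122 x (by omega) h10
  by_cases h11 : x < 5578
  · exact cFi23a_act123 x (by omega) h11
  by_cases h12 : x < 5623
  · exact cFi23a_act124 x (by omega) h12
  by_cases h13 : x < 5668
  · exact cFi23a_act125 x (by omega) h13
  by_cases h14 : x < 5713
  · exact cFi23a_act126 x (by omega) h14
  exact cFi23a_act127 x (by omega) hhi

theorem cFi23a_actG8 : ∀ x, 5758 ≤ x → x < 6478 → cFi23a.actRow x = true := by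
  intro x hlo hhi
  by_cases h0 : x < 5803
  · exact cFi23a_act128 x (by omega) h0
  by_cases h1 : x < 5848
  · exact cFi23a_act129 x (by omega) h1
  by_cases h2 : x < 5893
  · exact cFi23a_act130 x (by omega) h2
  by_cases h3 : x < 5938
  · exact cFi23a_act131 x (by omega) h3
  by_cases h4 : x < 5983
  · exact cFi23a_act132 x (by omega) h4
  by_cases h5 : x < 6028
  · exact cFi23a_act133 x (by omega) h5
  by_cases h6 : x < 6073
  · exact cFi23a_act134 x (by omega) h6
  by_cases h7 : x < 6118
  · exact cFi23a_act135 x (by omega) h7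
  by_cases h8 : x < 6163
  · exact cFi23a_act136 x (by omega) h8
  by_cases h9 : x < 6208
  · exact cFi23a_act137 x (by omega) h9
  by_cases h10 : x < 6253
  · exact cFi23a_act138 x (by omega) h10
  by_cases h11 : x < 6298
  · exact cFi23a_act139 x (by omega) h11
  by_cases h12 : x < 6343
  · exact cFi23a_act140 x (by omega) h12
  by_cases h13 : x < 6388
  · exact cFi23a_act141 x (by omega) h13
  by_cases h14 : x < 6433
  · exact cFi23a_act142 x (by omega) h14
  exact cFi23a_act143 x (by omega) hhi

theorem cFi23a_actG9 : ∀ x, 6478 ≤ x → x < 7197 → cFi23a.actRow x = true := by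
  intro x hlo hhi
  by_cases h0 : x < 6523
  · exact cFi23a_act144 x (by omega) h0
  by_cases h1 : x < 6568
  · exact cFi23a_act145 x (by omega) h1
  by_cases h2 : x < 6613
  · exact cFi23a_act146 x (by omega) h2
  by_cases h3 : x < 6658
  · exact cFi23a_act147 x (by omega) h3
  by_cases h4 : x < 6703
  · exact cFi23a_act148 x (by omega) h4
  by_cases h5 : x < 6748
  · exact cFi23a_act149 x (by omega) h5
  by_cases h6 : x < 6793
  · exact cFi23a_act150 x (by omega) h6
  by_cases h7 : x < 6838
  · exact cFi23a_act151 x (by omega) h7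
  by_cases h8 : x < 6883
  · exact cFi23a_act152 x (by omega) h8
  by_cases h9 : x < 6928
  · exact cFi23a_act153 x (by omega) h9
  by_cases h10 : x < 6973
  · exact cFi23a_act154 x (by omega) h10
  by_cases h11 : x < 7018
  · exact cFi23a_act155 x (by omega) h11
  by_cases h12 : x < 7062
  · exact cFi23a_act156 x (by omega) h12
  by_cases h13 : x < 7107
  · exact cFi23a_act157 x (by omega) h13
  by_cases h14 : x < 7152
  · exact cFi23a_act158 x (by omega) h14
  exact cFi23a_act159 x (by omega) hhi

theorem cFi23a_actG10 : ∀ x, 7197 ≤ x → x < 7917 → cFi23a.actRow x = true := by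
  intro x hlo hhi
  by_cases h0 : x < 7242
  · exact cFi23a_act160 x (by omega) h0
  by_cases h1 : x < 7287
  · exact cFi23a_act161 x (by omega) h1
  by_cases h2 : x < 7332
  · exact cFi23a_act162 x (by omega) h2
  by_cases h3 : x < 7377
  · exact cFi23a_act163 x (by omega) h3
  by_cases h4 : x < 7422
  · exact cFi23a_act164 x (by omega) h4
  by_cases h5 : x < 7467
  · exact cFi23a_act165 x (by omega) h5
  by_cases h6 : x < 7512
  · exact cFi23a_act166 x (by omega) h6
  by_cases h7 : x < 7557
  · exact cFi23a_act167 x (by omega) h7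
  by_cases h8 : x < 7602
  · exact cFi23a_act168 x (by omega) h8
  by_cases h9 : x < 7647
  · exact cFi23a_act169 x (by omega) h9
  by_cases h10 : x < 7692
  · exact cFi23a_act170 x (by omega) h10
  by_cases h11 : x < 7737
  · exact cFi23a_act171 x (by omega) h11
  by_cases h12 : x < 7782
  · exact cFi23a_act172 x (by omega) h12
  by_cases h13 : x < 7827
  · exact cFi23a_act173 x (by omega) h13
  by_cases h14 : x < 7872
  · exact cFi23a_act174 x (by omega) h14
  exact cFi23a_act175 x (by omega) hhi

theorem cFi23a_actG11 : ∀ x, 7917 ≤ x → x < 8637 → cFi23a.actRow x = true := by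
  intro x hlo hhi
  by_cases h0 : x < 7962
  · exact cFi23a_act176 x (by omega) h0
  by_cases h1 : x < 8007
  · exact cFi23a_act177 x (by omega) h1
  by_cases h2 : x < 8052
  · exact cFi23a_act178 x (by omega) h2
  by_cases h3 : x < 8097
  · exact cFi23a_act179 x (by omega) h3
  by_cases h4 : x < 8142
  · exact cFi23a_act180 x (by omega) h4
  by_cases h5 : x < 8187
  · exact cFi23a_act181 x (by omega) h5
  by_cases h6 : x < 8232
  · exact cFi23a_act182 x (by omega) h6
  by_cases h7 : x < 8277
  · exact cFi23a_act183 x (by omega) h7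
  by_cases h8 : x < 8322
  · exact cFi23a_act184 x (by omega) h8
  by_cases h9 : x < 8367
  · exact cFi23a_act185 x (by omega) h9
  by_cases h10 : x < 8412
  · exact cFi23a_act186 x (by omega) h10
  by_cases h11 : x < 8457
  · exact cFi23a_act187 x (by omega) h11
  by_cases h12 : x < 8502
  · exact cFi23a_act188 x (by omega) h12
  by_cases h13 : x < 8547
  · exact cFi23a_act189 x (by omega) h13
  by_cases h14 : x < 8592
  · exact cFi23a_act190 x (by omega) h14
  exact cFi23a_act191 x (by omega) hhi

theorem cFi23a_actG12 : ∀ x, 8637 ≤ x → x < 9357 → cFi23a.actRow x = true := by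
  intro x hlo hhi
  by_cases h0 : x < 8682
  · exact cFi23a_act192 x (by omega) h0
  by_cases h1 : x < 8727
  · exact cFi23a_act193 x (by omega) h1
  by_cases h2 : x < 8772
  · exact cFi23a_act194 x (by omega) h2
  by_cases h3 : x < 8817
  · exact cFi23a_act195 x (by omega) h3
  by_cases h4 : x < 8862
  · exact cFi23a_act196 x (by omega) h4
  by_cases h5 : x < 8907
  · exact cFi23a_act197 x (by omega) h5
  by_cases h6 : x < 8952
  · exact cFi23a_act198 x (by omega) h6
  by_cases h7 : x < 8997
  · exact cFi23a_act199 x (by omega) h7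
  by_cases h8 : x < 9042
  · exact cFi23a_act200 x (by omega) h8
  by_cases h9 : x < 9087
  · exact cFi23a_act201 x (by omega) h9
  by_cases h10 : x < 9132
  · exact cFi23a_act202 x (by omega) h10
  by_cases h11 : x < 9177
  · exact cFi23a_act203 x (by omega) h11
  by_cases h12 : x < 9222
  · exact cFi23a_act204 x (by omega) h12
  by_cases h13 : x < 9267
  · exact cFi23a_act205 x (by omega) h13
  by_cases h14 : x < 9312
  · exact cFi23a_act206 x (by omega) h14
  exact cFi23a_act207 x (by omega) hhi

theorem cFi23a_actG13 : ∀ x, 9357 ≤ x → x < 10077 → cFi23a.actRow x = true := by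
  intro x hlo hhi
  by_cases h0 : x < 9402
  · exact cFi23a_act208 x (by omega) h0
  by_cases h1 : x < 9447
  · exact cFi23a_act209 x (by omega) h1
  by_cases h2 : x < 9492
  · exact cFi23a_act210 x (by omega) h2
  by_cases h3 : x < 9537
  · exact cFi23a_act211 x (by omega) h3
  by_cases h4 : x < 9582
  · exact cFi23a_act212 x (by omega) h4
  by_cases h5 : x < 9627
  · exact cFi23a_act213 x (by omega) h5
  by_cases h6 : x < 9672
  · exact cFi23a_act214 x (by omega) h6
  by_cases h7 : x < 9717
  · exact cFi23a_act215 x (by omega) h7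
  by_cases h8 : x < 9762
  · exact cFi23a_act216 x (by omega) h8
  by_cases h9 : x < 9807
  · exact cFi23a_act217 x (by omega) h9
  by_cases h10 : x < 9852
  · exact cFi23a_act218 x (by omega) h10
  by_cases h11 : x < 9897
  · exact cFi23a_act219 x (by omega) h11
  by_cases h12 : x < 9942
  · exact cFi23a_act220 x (by omega) h12
  by_cases h13 : x < 9987
  · exact cFi23a_act221 x (by omega) h13
  by_cases h14 : x < 10032
  · exact cFi23a_act222 x (by omega) h14
  exact cFi23a_act223 x (by omega) hhi

theorem cFi23a_actG14 : ∀ x, 10077 ≤ x → x < 10796 → cFi23a.actRow x = true := by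
  intro x hlo hhi
  by_cases h0 : x < 10122
  · exact cFi23a_act224 x (by omega) h0
  by_cases h1 : x < 10167
  · exact cFi23a_act225 x (by omega) h1
  by_cases h2 : x < 10212
  · exact cFi23a_act226 x (by omega) h2
  by_cases h3 : x < 10257
  · exact cFi23a_act227 x (by omega) h3
  by_cases h4 : x < 10302
  · exact cFi23a_act228 x (by omega) h4
  by_cases h5 : x < 10347
  · exact cFi23a_act229 x (by omega) h5
  by_cases h6 : x < 10392
  · exact cFi23a_act230 x (by omega) h6
  by_cases h7 : x < 10437
  · exact cFi23a_act231 x (by omega) h7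
  by_cases h8 : x < 10482
  · exact cFi23a_act232 x (by omega) h8
  by_cases h9 : x < 10527
  · exact cFi23a_act233 x (by omega) h9
  by_cases h10 : x < 10571
  · exact cFi23a_act234 x (by omega) h10
  by_cases h11 : x < 10616
  · exact cFi23a_act235 x (by omega) h11
  by_cases h12 : x < 10661
  · exact cFi23a_act236 x (by omega) h12
  by_cases h13 : x < 10706
  · exact cFi23a_act237 x (by omega) h13
  by_cases h14 : x < 10751
  · exact cFi23a_act238 x (by omega) h14
  exact cFi23a_act239 x (by omega) hhi

theorem cFi23a_actG15 : ∀ x, 10796 ≤ x → x < 11516 → cFi23a.actRow x = true := by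
  intro x hlo hhi
  by_cases h0 : x < 10841
  · exact cFi23a_act240 x (by omega) h0
  by_cases h1 : x < 10886
  · exact cFi23a_act241 x (by omega) h1
  by_cases h2 : x < 10931
  · exact cFi23a_act242 x (by omega) h2
  by_cases h3 : x < 10976
  · exact cFi23a_act243 x (by omega) h3
  by_cases h4 : x < 11021
  · exact cFi23a_act244 x (by omega) h4
  by_cases h5 : x < 11066
  · exact cFi23a_act245 x (by omega) h5
  by_cases h6 : x < 11111
  · exact cFi23a_act246 x (by omega) h6
  by_cases h7 : x < 11156
  · exact cFi23a_act247 x (by omega) h7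
  by_cases h8 : x < 11201
  · exact cFi23a_act248 x (by omega) h8
  by_cases h9 : x < 11246
  · exact cFi23a_act249 x (by omega) h9
  by_cases h10 : x < 11291
  · exact cFi23a_act250 x (by omega) h10
  by_cases h11 : x < 11336
  · exact cFi23a_act251 x (by omega) h11
  by_cases h12 : x < 11381
  · exact cFi23a_act252 x (by omega) h12
  by_cases h13 : x < 11426
  · exact cFi23a_act253 x (by omega) h13
  by_cases h14 : x < 11471
  · exact cFi23a_act254 x (by omega) h14
  exact cFi23a_act255 x (by omega) hhi

theorem cFi23a_actG16 : ∀ x, 11516 ≤ x → x < 12236 → cFi23a.actRow x = true := by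
  intro x hlo hhi
  by_cases h0 : x < 11561
  · exact cFi23a_act256 x (by omega) h0
  by_cases h1 : x < 11606
  · exact cFi23a_act257 x (by omega) h1
  by_cases h2 : x < 11651
  · exact cFi23a_act258 x (by omega) h2
  by_cases h3 : x < 11696
  · exact cFi23a_act259 x (by omega) h3
  by_cases h4 : x < 11741
  · exact cFi23a_act260 x (by omega) h4
  by_cases h5 : x < 11786
  · exact cFi23a_act261 x (by omega) h5
  by_cases h6 : x < 11831
  · exact cFi23a_act262 x (by omega) h6
  by_cases h7 : x < 11876
  · exact cFi23a_act263 x (by omega) h7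
  by_cases h8 : x < 11921
  · exact cFi23a_act264 x (by omega) h8
  by_cases h9 : x < 11966
  · exact cFi23a_act265 x (by omega) h9
  by_cases h10 : x < 12011
  · exact cFi23a_act266 x (by omega) h10
  by_cases h11 : x < 12056
  · exact cFi23a_act267 x (by omega) h11
  by_cases h12 : x < 12101
  · exact cFi23a_act268 x (by omega) h12
  by_cases h13 : x < 12146
  · exact cFi23a_act269 x (by omega) h13
  by_cases h14 : x < 12191
  · exact cFi23a_act270 x (by omega) h14
  exact cFi23a_act271 x (by omega) hhi

theorem cFi23a_actG17 : ∀ x, 12236 ≤ x → x < 12956 → cFi23a.actRow x = true := by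
  intro x hlo hhi
  by_cases h0 : x < 12281
  · exact cFi23a_act272 x (by omega) h0
  by_cases h1 : x < 12326
  · exact cFi23a_act273 x (by omega) h1
  by_cases h2 : x < 12371
  · exact cFi23a_act274 x (by omega) h2
  by_cases h3 : x < 12416
  · exact cFi23a_act275 x (by omega) h3
  by_cases h4 : x < 12461
  · exact cFi23a_act276 x (by omega) h4
  by_cases h5 : x < 12506
  · exact cFi23a_act277 x (by omega) h5
  by_cases h6 : x < 12551
  · exact cFi23a_act278 x (by omega) h6
  by_cases h7 : x < 12596
  · exact cFi23a_act279 x (by omega) h7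
  by_cases h8 : x < 12641
  · exact cFi23a_act280 x (by omega) h8
  by_cases h9 : x < 12686
  · exact cFi23a_act281 x (by omega) h9
  by_cases h10 : x < 12731
  · exact cFi23a_act282 x (by omega) h10
  by_cases h11 : x < 12776
  · exact cFi23a_act283 x (by omega) h11
  by_cases h12 : x < 12821
  · exact cFi23a_act284 x (by omega) h12
  by_cases h13 : x < 12866
  · exact cFi23a_act285 x (by omega) h13
  by_cases h14 : x < 12911
  · exact cFi23a_act286 x (by omega) h14
  exact cFi23a_act287 x (by omega) hhi

theorem cFi23a_actG18 : ∀ x, 12956 ≤ x → x < 13676 → cFi23a.actRow x = true := by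
  intro x hlo hhi
  by_cases h0 : x < 13001
  · exact cFi23a_act288 x (by omega) h0
  by_cases h1 : x < 13046
  · exact cFi23a_act289 x (by omega) h1
  by_cases h2 : x < 13091
  · exact cFi23a_act290 x (by omega) h2
  by_cases h3 : x < 13136
  · exact cFi23a_act291 x (by omega) h3
  by_cases h4 : x < 13181
  · exact cFi23a_act292 x (by omega) h4
  by_cases h5 : x < 13226
  · exact cFi23a_act293 x (by omega) h5
  by_cases h6 : x < 13271
  · exact cFi23a_act294 x (by omega) h6
  by_cases h7 : x < 13316
  · exact cFi23a_act295 x (by omega) h7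
  by_cases h8 : x < 13361
  · exact cFi23a_act296 x (by omega) h8
  by_cases h9 : x < 13406
  · exact cFi23a_act297 x (by omega) h9
  by_cases h10 : x < 13451
  · exact cFi23a_act298 x (by omega) h10
  by_cases h11 : x < 13496
  · exact cFi23a_act299 x (by omega) h11
  by_cases h12 : x < 13541
  · exact cFi23a_act300 x (by omega) h12
  by_cases h13 : x < 13586
  · exact cFi23a_act301 x (by omega) h13
  by_cases h14 : x < 13631
  · exact cFi23a_act302 x (by omega) h14
  exact cFi23a_act303 x (by omega) hhi

theorem cFi23a_actG19 : ∀ x, 13676 ≤ x → x < 14395 → cFi23a.actRow x = true := by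
  intro x hlo hhi
  by_cases h0 : x < 13721
  · exact cFi23a_act304 x (by omega) h0
  by_cases h1 : x < 13766
  · exact cFi23a_act305 x (by omega) h1
  by_cases h2 : x < 13811
  · exact cFi23a_act306 x (by omega) h2
  by_cases h3 : x < 13856
  · exact cFi23a_act307 x (by omega) h3
  by_cases h4 : x < 13901
  · exact cFi23a_act308 x (by omega) h4
  by_cases h5 : x < 13946
  · exact cFi23a_act309 x (by omega) h5
  by_cases h6 : x < 13991
  · exact cFi23a_act310 x (by omega) h6
  by_cases h7 : x < 14036
  · exact cFi23a_act311 x (by omega) h7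
  by_cases h8 : x < 14080
  · exact cFi23a_act312 x (by omega) h8
  by_cases h9 : x < 14125
  · exact cFi23a_act313 x (by omega) h9
  by_cases h10 : x < 14170
  · exact cFi23a_act314 x (by omega) h10
  by_cases h11 : x < 14215
  · exact cFi23a_act315 x (by omega) h11
  by_cases h12 : x < 14260
  · exact cFi23a_act316 x (by omega) h12
  by_cases h13 : x < 14305
  · exact cFi23a_act317 x (by omega) h13
  by_cases h14 : x < 14350
  · exact cFi23a_act318 x (by omega) h14
  exact cFi23a_act319 x (by omega) hhi

theorem cFi23a_actG20 : ∀ x, 14395 ≤ x → x < 15115 → cFi23a.actRow x = true := by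
  intro x hlo hhi
  by_cases h0 : x < 14440
  · exact cFi23a_act320 x (by omega) h0
  by_cases h1 : x < 14485
  · exact cFi23a_act321 x (by omega) h1
  by_cases h2 : x < 14530
  · exact cFi23a_act322 x (by omega) h2
  by_cases h3 : x < 14575
  · exact cFi23a_act323 x (by omega) h3
  by_cases h4 : x < 14620
  · exact cFi23a_act324 x (by omega) h4
  by_cases h5 : x < 14665
  · exact cFi23a_act325 x (by omega) h5
  by_cases h6 : x < 14710
  · exact cFi23a_act326 x (by omega) h6
  by_cases h7 : x < 14755
  · exact cFi23a_act327 x (by omega) h7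
  by_cases h8 : x < 14800
  · exact cFi23a_act328 x (by omega) h8
  by_cases h9 : x < 14845
  · exact cFi23a_act329 x (by omega) h9
  by_cases h10 : x < 14890
  · exact cFi23a_act330 x (by omega) h10
  by_cases h11 : x < 14935
  · exact cFi23a_act331 x (by omega) h11
  by_cases h12 : x < 14980
  · exact cFi23a_act332 x (by omega) h12
  by_cases h13 : x < 15025
  · exact cFi23a_act333 x (by omega) h13
  by_cases h14 : x < 15070
  · exact cFi23a_act334 x (by omega) h14
  exact cFi23a_act335 x (by omega) hhi

theorem cFi23a_actG21 : ∀ x, 15115 ≤ x → x < 15835 → cFi23a.actRow x = true := by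
  intro x hlo hhi
  by_cases h0 : x < 15160
  · exact cFi23a_act336 x (by omega) h0
  by_cases h1 : x < 15205
  · exact cFi23a_act337 x (by omega) h1
  by_cases h2 : x < 15250
  · exact cFi23a_act338 x (by omega) h2
  by_cases h3 : x < 15295
  · exact cFi23a_act339 x (by omega) h3
  by_cases h4 : x < 15340
  · exact cFi23a_act340 x (by omega) h4
  by_cases h5 : x < 15385
  · exact cFi23a_act341 x (by omega) h5
  by_cases h6 : x < 15430
  · exact cFi23a_act342 x (by omega) h6
  by_cases h7 : x < 15475
  · exact cFi23a_act343 x (by omega) h7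
  by_cases h8 : x < 15520
  · exact cFi23a_act344 x (by omega) h8
  by_cases h9 : x < 15565
  · exact cFi23a_act345 x (by omega) h9
  by_cases h10 : x < 15610
  · exact cFi23a_act346 x (by omega) h10
  by_cases h11 : x < 15655
  · exact cFi23a_act347 x (by omega) h11
  by_cases h12 : x < 15700
  · exact cFi23a_act348 x (by omega) h12
  by_cases h13 : x < 15745
  · exact cFi23a_act349 x (by omega) h13
  by_cases h14 : x < 15790
  · exact cFi23a_act350 x (by omega) h14
  exact cFi23a_act351 x (by omega) hhi

theorem cFi23a_actG22 : ∀ x, 15835 ≤ x → x < 16555 → cFi23a.actRow x = true := by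
  intro x hlo hhi
  by_cases h0 : x < 15880
  · exact cFi23a_act352 x (by omega) h0
  by_cases h1 : x < 15925
  · exact cFi23a_act353 x (by omega) h1
  by_cases h2 : x < 15970
  · exact cFi23a_act354 x (by omega) h2
  by_cases h3 : x < 16015
  · exact cFi23a_act355 x (by omega) h3
  by_cases h4 : x < 16060
  · exact cFi23a_act356 x (by omega) h4
  by_cases h5 : x < 16105
  · exact cFi23a_act357 x (by omega) h5
  by_cases h6 : x < 16150
  · exact cFi23a_act358 x (by omega) h6
  by_cases h7 : x < 16195
  · exact cFi23a_act359 x (by omega) h7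
  by_cases h8 : x < 16240
  · exact cFi23a_act360 x (by omega) h8
  by_cases h9 : x < 16285
  · exact cFi23a_act361 x (by omega) h9
  by_cases h10 : x < 16330
  · exact cFi23a_act362 x (by omega) h10
  by_cases h11 : x < 16375
  · exact cFi23a_act363 x (by omega) h11
  by_cases h12 : x < 16420
  · exact cFi23a_act364 x (by omega) h12
  by_cases h13 : x < 16465
  · exact cFi23a_act365 x (by omega) h13
  by_cases h14 : x < 16510
  · exact cFi23a_act366 x (by omega) h14
  exact cFi23a_act367 x (by omega) hhi

theorem cFi23a_actG23 : ∀ x, 16555 ≤ x → x < 17275 → cFi23a.actRow x = true := by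
  intro x hlo hhi
  by_cases h0 : x < 16600
  · exact cFi23a_act368 x (by omega) h0
  by_cases h1 : x < 16645
  · exact cFi23a_act369 x (by omega) h1
  by_cases h2 : x < 16690
  · exact cFi23a_act370 x (by omega) h2
  by_cases h3 : x < 16735
  · exact cFi23a_act371 x (by omega) h3
  by_cases h4 : x < 16780
  · exact cFi23a_act372 x (by omega) h4
  by_cases h5 : x < 16825
  · exact cFi23a_act373 x (by omega) h5
  by_cases h6 : x < 16870
  · exact cFi23a_act374 x (by omega) h6
  by_cases h7 : x < 16915
  · exact cFi23a_act375 x (by omega) h7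
  by_cases h8 : x < 16960
  · exact cFi23a_act376 x (by omega) h8
  by_cases h9 : x < 17005
  · exact cFi23a_act377 x (by omega) h9
  by_cases h10 : x < 17050
  · exact cFi23a_act378 x (by omega) h10
  by_cases h11 : x < 17095
  · exact cFi23a_act379 x (by omega) h11
  by_cases h12 : x < 17140
  · exact cFi23a_act380 x (by omega) h12
  by_cases h13 : x < 17185
  · exact cFi23a_act381 x (by omega) h13
  by_cases h14 : x < 17230
  · exact cFi23a_act382 x (by omega) h14
  exact cFi23a_act383 x (by omega) hhi

theorem cFi23a_actG24 : ∀ x, 17275 ≤ x → x < 17994 → cFi23a.actRow x = true := by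
  intro x hlo hhi
  by_cases h0 : x < 17320
  · exact cFi23a_act384 x (by omega) h0
  by_cases h1 : x < 17365
  · exact cFi23a_act385 x (by omega) h1
  by_cases h2 : x < 17410
  · exact cFi23a_act386 x (by omega) h2
  by_cases h3 : x < 17455
  · exact cFi23a_act387 x (by omega) h3
  by_cases h4 : x < 17500
  · exact cFi23a_act388 x (by omega) h4
  by_cases h5 : x < 17545
  · exact cFi23a_act389 x (by omega) h5
  by_cases h6 : x < 17590
  · exact cFi23a_act390 x (by omega) h6
  by_cases h7 : x < 17634
  · exact cFi23a_act391 x (by omega) h7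
  by_cases h8 : x < 17679
  · exact cFi23a_act392 x (by omega) h8
  by_cases h9 : x < 17724
  · exact cFi23a_act393 x (by omega) h9
  by_cases h10 : x < 17769
  · exact cFi23a_act394 x (by omega) h10
  by_cases h11 : x < 17814
  · exact cFi23a_act395 x (by omega) h11
  by_cases h12 : x < 17859
  · exact cFi23a_act396 x (by omega) h12
  by_cases h13 : x < 17904
  · exact cFi23a_act397 x (by omega) h13
  by_cases h14 : x < 17949
  · exact cFi23a_act398 x (by omega) h14
  exact cFi23a_act399 x (by omega) hhi

theorem cFi23a_actG25 : ∀ x, 17994 ≤ x → x < 18714 → cFi23a.actRow x = true := by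
  intro x hlo hhi
  by_cases h0 : x < 18039
  · exact cFi23a_act400 x (by omega) h0
  by_cases h1 : x < 18084
  · exact cFi23a_act401 x (by omega) h1
  by_cases h2 : x < 18129
  · exact cFi23a_act402 x (by omega) h2
  by_cases h3 : x < 18174
  · exact cFi23a_act403 x (by omega) h3
  by_cases h4 : x < 18219
  · exact cFi23a_act404 x (by omega) h4
  by_cases h5 : x < 18264
  · exact cFi23a_act405 x (by omega) h5
  by_cases h6 : x < 18309
  · exact cFi23a_act406 x (by omega) h6
  by_cases h7 : x < 18354
  · exact cFi23a_act407 x (by omega) h7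
  by_cases h8 : x < 18399
  · exact cFi23a_act408 x (by omega) h8
  by_cases h9 : x < 18444
  · exact cFi23a_act409 x (by omega) h9
  by_cases h10 : x < 18489
  · exact cFi23a_act410 x (by omega) h10
  by_cases h11 : x < 18534
  · exact cFi23a_act411 x (by omega) h11
  by_cases h12 : x < 18579
  · exact cFi23a_act412 x (by omega) h12
  by_cases h13 : x < 18624
  · exact cFi23a_act413 x (by omega) h13
  by_cases h14 : x < 18669
  · exact cFi23a_act414 x (by omega) h14
  exact cFi23a_act415 x (by omega) hhi

theorem cFi23a_actG26 : ∀ x, 18714 ≤ x → x < 19434 → cFi23a.actRow x = true := by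
  intro x hlo hhi
  by_cases h0 : x < 18759
  · exact cFi23a_act416 x (by omega) h0
  by_cases h1 : x < 18804
  · exact cFi23a_act417 x (by omega) h1
  by_cases h2 : x < 18849
  · exact cFi23a_act418 x (by omega) h2
  by_cases h3 : x < 18894
  · exact cFi23a_act419 x (by omega) h3
  by_cases h4 : x < 18939
  · exact cFi23a_act420 x (by omega) h4
  by_cases h5 : x < 18984
  · exact cFi23a_act421 x (by omega) h5
  by_cases h6 : x < 19029
  · exact cFi23a_act422 x (by omega) h6
  by_cases h7 : x < 19074
  · exact cFi23a_act423 x (by omega) h7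
  by_cases h8 : x < 19119
  · exact cFi23a_act424 x (by omega) h8
  by_cases h9 : x < 19164
  · exact cFi23a_act425 x (by omega) h9
  by_cases h10 : x < 19209
  · exact cFi23a_act426 x (by omega) h10
  by_cases h11 : x < 19254
  · exact cFi23a_act427 x (by omega) h11
  by_cases h12 : x < 19299
  · exact cFi23a_act428 x (by omega) h12
  by_cases h13 : x < 19344
  · exact cFi23a_act429 x (by omega) h13
  by_cases h14 : x < 19389
  · exact cFi23a_act430 x (by omega) h14
  exact cFi23a_act431 x (by omega) hhi

theorem cFi23a_actG27 : ∀ x, 19434 ≤ x → x < 20154 → cFi23a.actRow x = true := by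
  intro x hlo hhi
  by_cases h0 : x < 19479
  · exact cFi23a_act432 x (by omega) h0
  by_cases h1 : x < 19524
  · exact cFi23a_act433 x (by omega) h1
  by_cases h2 : x < 19569
  · exact cFi23a_act434 x (by omega) h2
  by_cases h3 : x < 19614
  · exact cFi23a_act435 x (by omega) h3
  by_cases h4 : x < 19659
  · exact cFi23a_act436 x (by omega) h4
  by_cases h5 : x < 19704
  · exact cFi23a_act437 x (by omega) h5
  by_cases h6 : x < 19749
  · exact cFi23a_act438 x (by omega) h6
  by_cases h7 : x < 19794
  · exact cFi23a_act439 x (by omega) h7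
  by_cases h8 : x < 19839
  · exact cFi23a_act440 x (by omega) h8
  by_cases h9 : x < 19884
  · exact cFi23a_act441 x (by omega) h9
  by_cases h10 : x < 19929
  · exact cFi23a_act442 x (by omega) h10
  by_cases h11 : x < 19974
  · exact cFi23a_act443 x (by omega) h11
  by_cases h12 : x < 20019
  · exact cFi23a_act444 x (by omega) h12
  by_cases h13 : x < 20064
  · exact cFi23a_act445 x (by omega) h13
  by_cases h14 : x < 20109
  · exact cFi23a_act446 x (by omega) h14
  exact cFi23a_act447 x (by omega) hhi

theorem cFi23a_actG28 : ∀ x, 20154 ≤ x → x < 20874 → cFi23a.actRow x = true := by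
  intro x hlo hhi
  by_cases h0 : x < 20199
  · exact cFi23a_act448 x (by omega) h0
  by_cases h1 : x < 20244
  · exact cFi23a_act449 x (by omega) h1
  by_cases h2 : x < 20289
  · exact cFi23a_act450 x (by omega) h2
  by_cases h3 : x < 20334
  · exact cFi23a_act451 x (by omega) h3
  by_cases h4 : x < 20379
  · exact cFi23a_act452 x (by omega) h4
  by_cases h5 : x < 20424
  · exact cFi23a_act453 x (by omega) h5
  by_cases h6 : x < 20469
  · exact cFi23a_act454 x (by omega) h6
  by_cases h7 : x < 20514
  · exact cFi23a_act455 x (by omega) h7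
  by_cases h8 : x < 20559
  · exact cFi23a_act456 x (by omega) h8
  by_cases h9 : x < 20604
  · exact cFi23a_act457 x (by omega) h9
  by_cases h10 : x < 20649
  · exact cFi23a_act458 x (by omega) h10
  by_cases h11 : x < 20694
  · exact cFi23a_act459 x (by omega) h11
  by_cases h12 : x < 20739
  · exact cFi23a_act460 x (by omega) h12
  by_cases h13 : x < 20784
  · exact cFi23a_act461 x (by omega) h13
  by_cases h14 : x < 20829
  · exact cFi23a_act462 x (by omega) h14
  exact cFi23a_act463 x (by omega) hhi

theorem cFi23a_actG29 : ∀ x, 20874 ≤ x → x < 21593 → cFi23a.actRow x = true := by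
  intro x hlo hhi
  by_cases h0 : x < 20919
  · exact cFi23a_act464 x (by omega) h0
  by_cases h1 : x < 20964
  · exact cFi23a_act465 x (by omega) h1
  by_cases h2 : x < 21009
  · exact cFi23a_act466 x (by omega) h2
  by_cases h3 : x < 21054
  · exact cFi23a_act467 x (by omega) h3
  by_cases h4 : x < 21099
  · exact cFi23a_act468 x (by omega) h4
  by_cases h5 : x < 21143
  · exact cFi23a_act469 x (by omega) h5
  by_cases h6 : x < 21188
  · exact cFi23a_act470 x (by omega) h6
  by_cases h7 : x < 21233
  · exact cFi23a_act471 x (by omega) h7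
  by_cases h8 : x < 21278
  · exact cFi23a_act472 x (by omega) h8
  by_cases h9 : x < 21323
  · exact cFi23a_act473 x (by omega) h9
  by_cases h10 : x < 21368
  · exact cFi23a_act474 x (by omega) h10
  by_cases h11 : x < 21413
  · exact cFi23a_act475 x (by omega) h11
  by_cases h12 : x < 21458
  · exact cFi23a_act476 x (by omega) h12
  by_cases h13 : x < 21503
  · exact cFi23a_act477 x (by omega) h13
  by_cases h14 : x < 21548
  · exact cFi23a_act478 x (by omega) h14
  exact cFi23a_act479 x (by omega) hhi

theorem cFi23a_actG30 : ∀ x, 21593 ≤ x → x < 22313 → cFi23a.actRow x = true := by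
  intro x hlo hhi
  by_cases h0 : x < 21638
  · exact cFi23a_act480 x (by omega) h0
  by_cases h1 : x < 21683
  · exact cFi23a_act481 x (by omega) h1
  by_cases h2 : x < 21728
  · exact cFi23a_act482 x (by omega) h2
  by_cases h3 : x < 21773
  · exact cFi23a_act483 x (by omega) h3
  by_cases h4 : x < 21818
  · exact cFi23a_act484 x (by omega) h4
  by_cases h5 : x < 21863
  · exact cFi23a_act485 x (by omega) h5
  by_cases h6 : x < 21908
  · exact cFi23a_act486 x (by omega) h6
  by_cases h7 : x < 21953
  · exact cFi23a_act487 x (by omega) h7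
  by_cases h8 : x < 21998
  · exact cFi23a_act488 x (by omega) h8
  by_cases h9 : x < 22043
  · exact cFi23a_act489 x (by omega) h9
  by_cases h10 : x < 22088
  · exact cFi23a_act490 x (by omega) h10
  by_cases h11 : x < 22133
  · exact cFi23a_act491 x (by omega) h11
  by_cases h12 : x < 22178
  · exact cFi23a_act492 x (by omega) h12
  by_cases h13 : x < 22223
  · exact cFi23a_act493 x (by omega) h13
  by_cases h14 : x < 22268
  · exact cFi23a_act494 x (by omega) h14
  exact cFi23a_act495 x (by omega) hhi

theorem cFi23a_actG31 : ∀ x, 22313 ≤ x → x < 23033 → cFi23a.actRow x = true := by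
  intro x hlo hhi
  by_cases h0 : x < 22358
  · exact cFi23a_act496 x (by omega) h0
  by_cases h1 : x < 22403
  · exact cFi23a_act497 x (by omega) h1
  by_cases h2 : x < 22448
  · exact cFi23a_act498 x (by omega) h2
  by_cases h3 : x < 22493
  · exact cFi23a_act499 x (by omega) h3
  by_cases h4 : x < 22538
  · exact cFi23a_act500 x (by omega) h4
  by_cases h5 : x < 22583
  · exact cFi23a_act501 x (by omega) h5
  by_cases h6 : x < 22628
  · exact cFi23a_act502 x (by omega) h6
  by_cases h7 : x < 22673
  · exact cFi23a_act503 x (by omega) h7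
  by_cases h8 : x < 22718
  · exact cFi23a_act504 x (by omega) h8
  by_cases h9 : x < 22763
  · exact cFi23a_act505 x (by omega) h9
  by_cases h10 : x < 22808
  · exact cFi23a_act506 x (by omega) h10
  by_cases h11 : x < 22853
  · exact cFi23a_act507 x (by omega) h11
  by_cases h12 : x < 22898
  · exact cFi23a_act508 x (by omega) h12
  by_cases h13 : x < 22943
  · exact cFi23a_act509 x (by omega) h13
  by_cases h14 : x < 22988
  · exact cFi23a_act510 x (by omega) h14
  exact cFi23a_act511 x (by omega) hhi

theorem cFi23a_actG32 : ∀ x, 23033 ≤ x → x < 23753 → cFi23a.actRow x = true := by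
  intro x hlo hhi
  by_cases h0 : x < 23078
  · exact cFi23a_act512 x (by omega) h0
  by_cases h1 : x < 23123
  · exact cFi23a_act513 x (by omega) h1
  by_cases h2 : x < 23168
  · exact cFi23a_act514 x (by omega) h2
  by_cases h3 : x < 23213
  · exact cFi23a_act515 x (by omega) h3
  by_cases h4 : x < 23258
  · exact cFi23a_act516 x (by omega) h4
  by_cases h5 : x < 23303
  · exact cFi23a_act517 x (by omega) h5
  by_cases h6 : x < 23348
  · exact cFi23a_act518 x (by omega) h6
  by_cases h7 : x < 23393
  · exact cFi23a_act519 x (by omega) h7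
  by_cases h8 : x < 23438
  · exact cFi23a_act520 x (by omega) h8
  by_cases h9 : x < 23483
  · exact cFi23a_act521 x (by omega) h9
  by_cases h10 : x < 23528
  · exact cFi23a_act522 x (by omega) h10
  by_cases h11 : x < 23573
  · exact cFi23a_act523 x (by omega) h11
  by_cases h12 : x < 23618
  · exact cFi23a_act524 x (by omega) h12
  by_cases h13 : x < 23663
  · exact cFi23a_act525 x (by omega) h13
  by_cases h14 : x < 23708
  · exact cFi23a_act526 x (by omega) h14
  exact cFi23a_act527 x (by omega) hhi

theorem cFi23a_actG33 : ∀ x, 23753 ≤ x → x < 24473 → cFi23a.actRow x = true := by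
  intro x hlo hhi
  by_cases h0 : x < 23798
  · exact cFi23a_act528 x (by omega) h0
  by_cases h1 : x < 23843
  · exact cFi23a_act529 x (by omega) h1
  by_cases h2 : x < 23888
  · exact cFi23a_act530 x (by omega) h2
  by_cases h3 : x < 23933
  · exact cFi23a_act531 x (by omega) h3
  by_cases h4 : x < 23978
  · exact cFi23a_act532 x (by omega) h4
  by_cases h5 : x < 24023
  · exact cFi23a_act533 x (by omega) h5
  by_cases h6 : x < 24068
  · exact cFi23a_act534 x (by omega) h6
  by_cases h7 : x < 24113
  · exact cFi23a_act535 x (by omega) h7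
  by_cases h8 : x < 24158
  · exact cFi23a_act536 x (by omega) h8
  by_cases h9 : x < 24203
  · exact cFi23a_act537 x (by omega) h9
  by_cases h10 : x < 24248
  · exact cFi23a_act538 x (by omega) h10
  by_cases h11 : x < 24293
  · exact cFi23a_act539 x (by omega) h11
  by_cases h12 : x < 24338
  · exact cFi23a_act540 x (by omega) h12
  by_cases h13 : x < 24383
  · exact cFi23a_act541 x (by omega) h13
  by_cases h14 : x < 24428
  · exact cFi23a_act542 x (by omega) h14
  exact cFi23a_act543 x (by omega) hhi

theorem cFi23a_actG34 : ∀ x, 24473 ≤ x → x < 25192 → cFi23a.actRow x = true := by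
  intro x hlo hhi
  by_cases h0 : x < 24518
  · exact cFi23a_act544 x (by omega) h0
  by_cases h1 : x < 24563
  · exact cFi23a_act545 x (by omega) h1
  by_cases h2 : x < 24608
  · exact cFi23a_act546 x (by omega) h2
  by_cases h3 : x < 24652
  · exact cFi23a_act547 x (by omega) h3
  by_cases h4 : x < 24697
  · exact cFi23a_act548 x (by omega) h4
  by_cases h5 : x < 24742
  · exact cFi23a_act549 x (by omega) h5
  by_cases h6 : x < 24787
  · exact cFi23a_act550 x (by omega) h6
  by_cases h7 : x < 24832
  · exact cFi23a_act551 x (by omega) h7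
  by_cases h8 : x < 24877
  · exact cFi23a_act552 x (by omega) h8
  by_cases h9 : x < 24922
  · exact cFi23a_act553 x (by omega) h9
  by_cases h10 : x < 24967
  · exact cFi23a_act554 x (by omega) h10
  by_cases h11 : x < 25012
  · exact cFi23a_act555 x (by omega) h11
  by_cases h12 : x < 25057
  · exact cFi23a_act556 x (by omega) h12
  by_cases h13 : x < 25102
  · exact cFi23a_act557 x (by omega) h13
  by_cases h14 : x < 25147
  · exact cFi23a_act558 x (by omega) h14
  exact cFi23a_act559 x (by omega) hhi

theorem cFi23a_actG35 : ∀ x, 25192 ≤ x → x < 25912 → cFi23a.actRow x = true := by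
  intro x hlo hhi
  by_cases h0 : x < 25237
  · exact cFi23a_act560 x (by omega) h0
  by_cases h1 : x < 25282
  · exact cFi23a_act561 x (by omega) h1
  by_cases h2 : x < 25327
  · exact cFi23a_act562 x (by omega) h2
  by_cases h3 : x < 25372
  · exact cFi23a_act563 x (by omega) h3
  by_cases h4 : x < 25417
  · exact cFi23a_act564 x (by omega) h4
  by_cases h5 : x < 25462
  · exact cFi23a_act565 x (by omega) h5
  by_cases h6 : x < 25507
  · exact cFi23a_act566 x (by omega) h6
  by_cases h7 : x < 25552
  · exact cFi23a_act567 x (by omega) h7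
  by_cases h8 : x < 25597
  · exact cFi23a_act568 x (by omega) h8
  by_cases h9 : x < 25642
  · exact cFi23a_act569 x (by omega) h9
  by_cases h10 : x < 25687
  · exact cFi23a_act570 x (by omega) h10
  by_cases h11 : x < 25732
  · exact cFi23a_act571 x (by omega) h11
  by_cases h12 : x < 25777
  · exact cFi23a_act572 x (by omega) h12
  by_cases h13 : x < 25822
  · exact cFi23a_act573 x (by omega) h13
  by_cases h14 : x < 25867
  · exact cFi23a_act574 x (by omega) h14
  exact cFi23a_act575 x (by omega) hhi

theorem cFi23a_actG36 : ∀ x, 25912 ≤ x → x < 26632 → cFi23a.actRow x = true := by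
  intro x hlo hhi
  by_cases h0 : x < 25957
  · exact cFi23a_act576 x (by omega) h0
  by_cases h1 : x < 26002
  · exact cFi23a_act577 x (by omega) h1
  by_cases h2 : x < 26047
  · exact cFi23a_act578 x (by omega) h2
  by_cases h3 : x < 26092
  · exact cFi23a_act579 x (by omega) h3
  by_cases h4 : x < 26137
  · exact cFi23a_act580 x (by omega) h4
  by_cases h5 : x < 26182
  · exact cFi23a_act581 x (by omega) h5
  by_cases h6 : x < 26227
  · exact cFi23a_act582 x (by omega) h6
  by_cases h7 : x < 26272
  · exact cFi23a_act583 x (by omega) h7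
  by_cases h8 : x < 26317
  · exact cFi23a_act584 x (by omega) h8
  by_cases h9 : x < 26362
  · exact cFi23a_act585 x (by omega) h9
  by_cases h10 : x < 26407
  · exact cFi23a_act586 x (by omega) h10
  by_cases h11 : x < 26452
  · exact cFi23a_act587 x (by omega) h11
  by_cases h12 : x < 26497
  · exact cFi23a_act588 x (by omega) h12
  by_cases h13 : x < 26542
  · exact cFi23a_act589 x (by omega) h13
  by_cases h14 : x < 26587
  · exact cFi23a_act590 x (by omega) h14
  exact cFi23a_act591 x (by omega) hhi

theorem cFi23a_actG37 : ∀ x, 26632 ≤ x → x < 27352 → cFi23a.actRow x = true := by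
  intro x hlo hhi
  by_cases h0 : x < 26677
  · exact cFi23a_act592 x (by omega) h0
  by_cases h1 : x < 26722
  · exact cFi23a_act593 x (by omega) h1
  by_cases h2 : x < 26767
  · exact cFi23a_act594 x (by omega) h2
  by_cases h3 : x < 26812
  · exact cFi23a_act595 x (by omega) h3
  by_cases h4 : x < 26857
  · exact cFi23a_act596 x (by omega) h4
  by_cases h5 : x < 26902
  · exact cFi23a_act597 x (by omega) h5
  by_cases h6 : x < 26947
  · exact cFi23a_act598 x (by omega) h6
  by_cases h7 : x < 26992
  · exact cFi23a_act599 x (by omega) h7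
  by_cases h8 : x < 27037
  · exact cFi23a_act600 x (by omega) h8
  by_cases h9 : x < 27082
  · exact cFi23a_act601 x (by omega) h9
  by_cases h10 : x < 27127
  · exact cFi23a_act602 x (by omega) h10
  by_cases h11 : x < 27172
  · exact cFi23a_act603 x (by omega) h11
  by_cases h12 : x < 27217
  · exact cFi23a_act604 x (by omega) h12
  by_cases h13 : x < 27262
  · exact cFi23a_act605 x (by omega) h13
  by_cases h14 : x < 27307
  · exact cFi23a_act606 x (by omega) h14
  exact cFi23a_act607 x (by omega) hhi

theorem cFi23a_actG38 : ∀ x, 27352 ≤ x → x < 28072 → cFi23a.actRow x = true := by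
  intro x hlo hhi
  by_cases h0 : x < 27397
  · exact cFi23a_act608 x (by omega) h0
  by_cases h1 : x < 27442
  · exact cFi23a_act609 x (by omega) h1
  by_cases h2 : x < 27487
  · exact cFi23a_act610 x (by omega) h2
  by_cases h3 : x < 27532
  · exact cFi23a_act611 x (by omega) h3
  by_cases h4 : x < 27577
  · exact cFi23a_act612 x (by omega) h4
  by_cases h5 : x < 27622
  · exact cFi23a_act613 x (by omega) h5
  by_cases h6 : x < 27667
  · exact cFi23a_act614 x (by omega) h6
  by_cases h7 : x < 27712
  · exact cFi23a_act615 x (by omega) h7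
  by_cases h8 : x < 27757
  · exact cFi23a_act616 x (by omega) h8
  by_cases h9 : x < 27802
  · exact cFi23a_act617 x (by omega) h9
  by_cases h10 : x < 27847
  · exact cFi23a_act618 x (by omega) h10
  by_cases h11 : x < 27892
  · exact cFi23a_act619 x (by omega) h11
  by_cases h12 : x < 27937
  · exact cFi23a_act620 x (by omega) h12
  by_cases h13 : x < 27982
  · exact cFi23a_act621 x (by omega) h13
  by_cases h14 : x < 28027
  · exact cFi23a_act622 x (by omega) h14
  exact cFi23a_act623 x (by omega) hhi

theorem cFi23a_actG39 : ∀ x, 28072 ≤ x → x < 28791 → cFi23a.actRow x = true := by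
  intro x hlo hhi
  by_cases h0 : x < 28117
  · exact cFi23a_act624 x (by omega) h0
  by_cases h1 : x < 28161
  · exact cFi23a_act625 x (by omega) h1
  by_cases h2 : x < 28206
  · exact cFi23a_act626 x (by omega) h2
  by_cases h3 : x < 28251
  · exact cFi23a_act627 x (by omega) h3
  by_cases h4 : x < 28296
  · exact cFi23a_act628 x (by omega) h4
  by_cases h5 : x < 28341
  · exact cFi23a_act629 x (by omega) h5
  by_cases h6 : x < 28386
  · exact cFi23a_act630 x (by omega) h6
  by_cases h7 : x < 28431
  · exact cFi23a_act631 x (by omega) h7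
  by_cases h8 : x < 28476
  · exact cFi23a_act632 x (by omega) h8
  by_cases h9 : x < 28521
  · exact cFi23a_act633 x (by omega) h9
  by_cases h10 : x < 28566
  · exact cFi23a_act634 x (by omega) h10
  by_cases h11 : x < 28611
  · exact cFi23a_act635 x (by omega) h11
  by_cases h12 : x < 28656
  · exact cFi23a_act636 x (by omega) h12
  by_cases h13 : x < 28701
  · exact cFi23a_act637 x (by omega) h13
  by_cases h14 : x < 28746
  · exact cFi23a_act638 x (by omega) h14
  exact cFi23a_act639 x (by omega) hhi

theorem cFi23a_actG40 : ∀ x, 28791 ≤ x → x < 29511 → cFi23a.actRow x = true := by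
  intro x hlo hhi
  by_cases h0 : x < 28836
  · exact cFi23a_act640 x (by omega) h0
  by_cases h1 : x < 28881
  · exact cFi23a_act641 x (by omega) h1
  by_cases h2 : x < 28926
  · exact cFi23a_act642 x (by omega) h2
  by_cases h3 : x < 28971
  · exact cFi23a_act643 x (by omega) h3
  by_cases h4 : x < 29016
  · exact cFi23a_act644 x (by omega) h4
  by_cases h5 : x < 29061
  · exact cFi23a_act645 x (by omega) h5
  by_cases h6 : x < 29106
  · exact cFi23a_act646 x (by omega) h6
  by_cases h7 : x < 29151
  · exact cFi23a_act647 x (by omega) h7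
  by_cases h8 : x < 29196
  · exact cFi23a_act648 x (by omega) h8
  by_cases h9 : x < 29241
  · exact cFi23a_act649 x (by omega) h9
  by_cases h10 : x < 29286
  · exact cFi23a_act650 x (by omega) h10
  by_cases h11 : x < 29331
  · exact cFi23a_act651 x (by omega) h11
  by_cases h12 : x < 29376
  · exact cFi23a_act652 x (by omega) h12
  by_cases h13 : x < 29421
  · exact cFi23a_act653 x (by omega) h13
  by_cases h14 : x < 29466
  · exact cFi23a_act654 x (by omega) h14
  exact cFi23a_act655 x (by omega) hhi

theorem cFi23a_actG41 : ∀ x, 29511 ≤ x → x < 30231 → cFi23a.actRow x = true := by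
  intro x hlo hhi
  by_cases h0 : x < 29556
  · exact cFi23a_act656 x (by omega) h0
  by_cases h1 : x < 29601
  · exact cFi23a_act657 x (by omega) h1
  by_cases h2 : x < 29646
  · exact cFi23a_act658 x (by omega) h2
  by_cases h3 : x < 29691
  · exact cFi23a_act659 x (by omega) h3
  by_cases h4 : x < 29736
  · exact cFi23a_act660 x (by omega) h4
  by_cases h5 : x < 29781
  · exact cFi23a_act661 x (by omega) h5
  by_cases h6 : x < 29826
  · exact cFi23a_act662 x (by omega) h6
  by_cases h7 : x < 29871
  · exact cFi23a_act663 x (by omega) h7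
  by_cases h8 : x < 29916
  · exact cFi23a_act664 x (by omega) h8
  by_cases h9 : x < 29961
  · exact cFi23a_act665 x (by omega) h9
  by_cases h10 : x < 30006
  · exact cFi23a_act666 x (by omega) h10
  by_cases h11 : x < 30051
  · exact cFi23a_act667 x (by omega) h11
  by_cases h12 : x < 30096
  · exact cFi23a_act668 x (by omega) h12
  by_cases h13 : x < 30141
  · exact cFi23a_act669 x (by omega) h13
  by_cases h14 : x < 30186
  · exact cFi23a_act670 x (by omega) h14
  exact cFi23a_act671 x (by omega) hhi

theorem cFi23a_actG42 : ∀ x, 30231 ≤ x → x < 30951 → cFi23a.actRow x = true := by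
  intro x hlo hhi
  by_cases h0 : x < 30276
  · exact cFi23a_act672 x (by omega) h0
  by_cases h1 : x < 30321
  · exact cFi23a_act673 x (by omega) h1
  by_cases h2 : x < 30366
  · exact cFi23a_act674 x (by omega) h2
  by_cases h3 : x < 30411
  · exact cFi23a_act675 x (by omega) h3
  by_cases h4 : x < 30456
  · exact cFi23a_act676 x (by omega) h4
  by_cases h5 : x < 30501
  · exact cFi23a_act677 x (by omega) h5
  by_cases h6 : x < 30546
  · exact cFi23a_act678 x (by omega) h6
  by_cases h7 : x < 30591
  · exact cFi23a_act679 x (by omega) h7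
  by_cases h8 : x < 30636
  · exact cFi23a_act680 x (by omega) h8
  by_cases h9 : x < 30681
  · exact cFi23a_act681 x (by omega) h9
  by_cases h10 : x < 30726
  · exact cFi23a_act682 x (by omega) h10
  by_cases h11 : x < 30771
  · exact cFi23a_act683 x (by omega) h11
  by_cases h12 : x < 30816
  · exact cFi23a_act684 x (by omega) h12
  by_cases h13 : x < 30861
  · exact cFi23a_act685 x (by omega) h13
  by_cases h14 : x < 30906
  · exact cFi23a_act686 x (by omega) h14
  exact cFi23a_act687 x (by omega) hhi

theorem cFi23a_actG43 : ∀ x, 30951 ≤ x → x < 31671 → cFi23a.actRow x = true := by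
  intro x hlo hhi
  by_cases h0 : x < 30996
  · exact cFi23a_act688 x (by omega) h0
  by_cases h1 : x < 31041
  · exact cFi23a_act689 x (by omega) h1
  by_cases h2 : x < 31086
  · exact cFi23a_act690 x (by omega) h2
  by_cases h3 : x < 31131
  · exact cFi23a_act691 x (by omega) h3
  by_cases h4 : x < 31176
  · exact cFi23a_act692 x (by omega) h4
  by_cases h5 : x < 31221
  · exact cFi23a_act693 x (by omega) h5
  by_cases h6 : x < 31266
  · exact cFi23a_act694 x (by omega) h6
  by_cases h7 : x < 31311
  · exact cFi23a_act695 x (by omega) h7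
  by_cases h8 : x < 31356
  · exact cFi23a_act696 x (by omega) h8
  by_cases h9 : x < 31401
  · exact cFi23a_act697 x (by omega) h9
  by_cases h10 : x < 31446
  · exact cFi23a_act698 x (by omega) h10
  by_cases h11 : x < 31491
  · exact cFi23a_act699 x (by omega) h11
  by_cases h12 : x < 31536
  · exact cFi23a_act700 x (by omega) h12
  by_cases h13 : x < 31581
  · exact cFi23a_act701 x (by omega) h13
  by_cases h14 : x < 31626
  · exact cFi23a_act702 x (by omega) h14
  exact cFi23a_act703 x (by omega) hhi

theorem cFi23a_Act : cFi23a.ActOk := by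
  refine ⟨cFi23a_Ok, cFi23a_actBase, ?_⟩
  intro x hx
  by_cases h0 : x < 719
  · exact cFi23a_actG0 x (by omega) h0
  by_cases h1 : x < 1439
  · exact cFi23a_actG1 x (by omega) h1
  by_cases h2 : x < 2159
  · exact cFi23a_actG2 x (by omega) h2
  by_cases h3 : x < 2879
  · exact cFi23a_actG3 x (by omega) h3
  by_cases h4 : x < 3598
  · exact cFi23a_actG4 x (by omega) h4
  by_cases h5 : x < 4318
  · exact cFi23a_actG5 x (by omega) h5
  by_cases h6 : x < 5038
  · exact cFi23a_actG6 x (by omega) h6
  by_cases h7 : x < 5758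
  · exact cFi23a_actG7 x (by omega) h7
  by_cases h8 : x < 6478
  · exact cFi23a_actG8 x (by omega) h8
  by_cases h9 : x < 7197
  · exact cFi23a_actG9 x (by omega) h9
  by_cases h10 : x < 7917
  · exact cFi23a_actG10 x (by omega) h10
  by_cases h11 : x < 8637
  · exact cFi23a_actG11 x (by omega) h11
  by_cases h12 : x < 9357
  · exact cFi23a_actG12 x (by omega) h12
  by_cases h13 : x < 10077
  · exact cFi23a_actG13 x (by omega) h13
  by_cases h14 : x < 10796
  · exact cFi23a_actG14 x (by omega) h14
  by_cases h15 : x < 11516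
  · exact cFi23a_actG15 x (by omega) h15
  by_cases h16 : x < 12236
  · exact cFi23a_actG16 x (by omega) h16
  by_cases h17 : x < 12956
  · exact cFi23a_actG17 x (by omega) h17
  by_cases h18 : x < 13676
  · exact cFi23a_actG18 x (by omega) h18
  by_cases h19 : x < 14395
  · exact cFi23a_actG19 x (by omega) h19
  by_cases h20 : x < 15115
  · exact cFi23a_actG20 x (by omega) h20
  by_cases h21 : x < 15835
  · exact cFi23a_actG21 x (by omega) h21
  by_cases h22 : x < 16555
  · exact cFi23a_actG22 x (by omega) h22
  by_cases h23 : x < 17275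
  · exact cFi23a_actG23 x (by omega) h23
  by_cases h24 : x < 17994
  · exact cFi23a_actG24 x (by omega) h24
  by_cases h25 : x < 18714
  · exact cFi23a_actG25 x (by omega) h25
  by_cases h26 : x < 19434
  · exact cFi23a_actG26 x (by omega) h26
  by_cases h27 : x < 20154
  · exact cFi23a_actG27 x (by omega) h27
  by_cases h28 : x < 20874
  · exact cFi23a_actG28 x (by omega) h28
  by_cases h29 : x < 21593
  · exact cFi23a_actG29 x (by omega) h29
  by_cases h30 : x < 22313
  · exact cFi23a_actG30 x (by omega) h30
  by_cases h31 : x < 23033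
  · exact cFi23a_actG31 x (by omega) h31
  by_cases h32 : x < 23753
  · exact cFi23a_actG32 x (by omega) h32
  by_cases h33 : x < 24473
  · exact cFi23a_actG33 x (by omega) h33
  by_cases h34 : x < 25192
  · exact cFi23a_actG34 x (by omega) h34
  by_cases h35 : x < 25912
  · exact cFi23a_actG35 x (by omega) h35
  by_cases h36 : x < 26632
  · exact cFi23a_actG36 x (by omega) h36
  by_cases h37 : x < 27352
  · exact cFi23a_actG37 x (by omega) h37
  by_cases h38 : x < 28072
  · exact cFi23a_actG38 x (by omega) h38
  by_cases h39 : x < 28791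
  · exact cFi23a_actG39 x (by omega) h39
  by_cases h40 : x < 29511
  · exact cFi23a_actG40 x (by omega) h40
  by_cases h41 : x < 30231
  · exact cFi23a_actG41 x (by omega) h41
  by_cases h42 : x < 30951
  · exact cFi23a_actG42 x (by omega) h42
  exact cFi23a_actG43 x (by omega) hx

theorem cFi23a_finBase : cFi23a.finBase = true := by decide +kernel

theorem cFi23a_finrG0 : ∀ x, 0 ≤ x → x < 2739 → cFi23a.finRow x = true := by
  intro x hlo hhi
  by_cases h0 : x < 171
  · exact cFi23a_finr0 x (by omega) h0
  by_cases h1 : x < 342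
  · exact cFi23a_finr1 x (by omega) h1
  by_cases h2 : x < 513
  · exact cFi23a_finr2 x (by omega) h2
  by_cases h3 : x < 684
  · exact cFi23a_finr3 x (by omega) h3
  by_cases h4 : x < 855
  · exact cFi23a_finr4 x (by omega) h4
  by_cases h5 : x < 1027
  · exact cFi23a_finr5 x (by omega) h5
  by_cases h6 : x < 1198
  · exact cFi23a_finr6 x (by omega) h6
  by_cases h7 : x < 1369
  · exact cFi23a_finr7 x (by omega) h7
  by_cases h8 : x < 1540
  · exact cFi23a_finr8 x (by omega) h8
  by_cases h9 : x < 1711
  · exact cFi23a_finr9 x (by omega) h9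
  by_cases h10 : x < 1883
  · exact cFi23a_finr10 x (by omega) h10
  by_cases h11 : x < 2054
  · exact cFi23a_finr11 x (by omega) h11
  by_cases h12 : x < 2225
  · exact cFi23a_finr12 x (by omega) h12
  by_cases h13 : x < 2396
  · exact cFi23a_finr13 x (by omega) h13
  by_cases h14 : x < 2567
  · exact cFi23a_finr14 x (by omega) h14
  exact cFi23a_finr15 x (by omega) hhi

theorem cFi23a_finrG1 : ∀ x, 2739 ≤ x → x < 5478 → cFi23a.finRow x = true := by
  intro x hlo hhi
  by_cases h0 : x < 2910
  · exact cFi23a_finr16 x (by omega) h0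
  by_cases h1 : x < 3081
  · exact cFi23a_finr17 x (by omega) h1
  by_cases h2 : x < 3252
  · exact cFi23a_finr18 x (by omega) h2
  by_cases h3 : x < 3423
  · exact cFi23a_finr19 x (by omega) h3
  by_cases h4 : x < 3595
  · exact cFi23a_finr20 x (by omega) h4
  by_cases h5 : x < 3766
  · exact cFi23a_finr21 x (by omega) h5
  by_cases h6 : x < 3937
  · exact cFi23a_finr22 x (by omega) h6
  by_cases h7 : x < 4108
  · exact cFi23a_finr23 x (by omega) h7
  by_cases h8 : x < 4279
  · exact cFi23a_finr24 x (by omega) h8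
  by_cases h9 : x < 4451
  · exact cFi23a_finr25 x (by omega) h9
  by_cases h10 : x < 4622
  · exact cFi23a_finr26 x (by omega) h10
  by_cases h11 : x < 4793
  · exact cFi23a_finr27 x (by omega) h11
  by_cases h12 : x < 4964
  · exact cFi23a_finr28 x (by omega) h12
  by_cases h13 : x < 5135
  · exact cFi23a_finr29 x (by omega) h13
  by_cases h14 : x < 5307
  · exact cFi23a_finr30 x (by omega) h14
  exact cFi23a_finr31 x (by omega) hhi

theorem cFi23a_finrG2 : ∀ x, 5478 ≤ x → x < 8217 → cFi23a.finRow x = true := by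
  intro x hlo hhi
  by_cases h0 : x < 5649
  · exact cFi23a_finr32 x (by omega) h0
  by_cases h1 : x < 5820
  · exact cFi23a_finr33 x (by omega) h1
  by_cases h2 : x < 5991
  · exact cFi23a_finr34 x (by omega) h2
  by_cases h3 : x < 6163
  · exact cFi23a_finr35 x (by omega) h3
  by_cases h4 : x < 6334
  · exact cFi23a_finr36 x (by omega) h4
  by_cases h5 : x < 6505
  · exact cFi23a_finr37 x (by omega) h5
  by_cases h6 : x < 6676
  · exact cFi23a_finr38 x (by omega) h6
  by_cases h7 : x < 6847
  · exact cFi23a_finr39 x (by omega) h7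
  by_cases h8 : x < 7018
  · exact cFi23a_finr40 x (by omega) h8
  by_cases h9 : x < 7190
  · exact cFi23a_finr41 x (by omega) h9
  by_cases h10 : x < 7361
  · exact cFi23a_finr42 x (by omega) h10
  by_cases h11 : x < 7532
  · exact cFi23a_finr43 x (by omega) h11
  by_cases h12 : x < 7703
  · exact cFi23a_finr44 x (by omega) h12
  by_cases h13 : x < 7874
  · exact cFi23a_finr45 x (by omega) h13
  by_cases h14 : x < 8046
  · exact cFi23a_finr46 x (by omega) h14
  exact cFi23a_finr47 x (by omega) hhi

theorem cFi23a_finrG3 : ∀ x, 8217 ≤ x → x < 10956 → cFi23a.finRow x = true := by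
  intro x hlo hhi
  by_cases h0 : x < 8388
  · exact cFi23a_finr48 x (by omega) h0
  by_cases h1 : x < 8559
  · exact cFi23a_finr49 x (by omega) h1
  by_cases h2 : x < 8730
  · exact cFi23a_finr50 x (by omega) h2
  by_cases h3 : x < 8902
  · exact cFi23a_finr51 x (by omega) h3
  by_cases h4 : x < 9073
  · exact cFi23a_finr52 x (by omega) h4
  by_cases h5 : x < 9244
  · exact cFi23a_finr53 x (by omega) h5
  by_cases h6 : x < 9415
  · exact cFi23a_finr54 x (by omega) h6
  by_cases h7 : x < 9586
  · exact cFi23a_finr55 x (by omega) h7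
  by_cases h8 : x < 9758
  · exact cFi23a_finr56 x (by omega) h8
  by_cases h9 : x < 9929
  · exact cFi23a_finr57 x (by omega) h9
  by_cases h10 : x < 10100
  · exact cFi23a_finr58 x (by omega) h10
  by_cases h11 : x < 10271
  · exact cFi23a_finr59 x (by omega) h11
  by_cases h12 : x < 10442
  · exact cFi23a_finr60 x (by omega) h12
  by_cases h13 : x < 10614
  · exact cFi23a_finr61 x (by omega) h13
  by_cases h14 : x < 10785
  · exact cFi23a_finr62 x (by omega) h14
  exact cFi23a_finr63 x (by omega) hhi

theorem cFi23a_finrG4 : ∀ x, 10956 ≤ x → x < 13695 → cFi23a.finRow x = true := by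
  intro x hlo hhi
  by_cases h0 : x < 11127
  · exact cFi23a_finr64 x (by omega) h0
  by_cases h1 : x < 11298
  · exact cFi23a_finr65 x (by omega) h1
  by_cases h2 : x < 11470
  · exact cFi23a_finr66 x (by omega) h2
  by_cases h3 : x < 11641
  · exact cFi23a_finr67 x (by omega) h3
  by_cases h4 : x < 11812
  · exact cFi23a_finr68 x (by omega) h4
  by_cases h5 : x < 11983
  · exact cFi23a_finr69 x (by omega) h5
  by_cases h6 : x < 12154
  · exact cFi23a_finr70 x (by omega) h6
  by_cases h7 : x < 12326
  · exact cFi23a_finr71 x (by omega) h7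
  by_cases h8 : x < 12497
  · exact cFi23a_finr72 x (by omega) h8
  by_cases h9 : x < 12668
  · exact cFi23a_finr73 x (by omega) h9
  by_cases h10 : x < 12839
  · exact cFi23a_finr74 x (by omega) h10
  by_cases h11 : x < 13010
  · exact cFi23a_finr75 x (by omega) h11
  by_cases h12 : x < 13181
  · exact cFi23a_finr76 x (by omega) h12
  by_cases h13 : x < 13353
  · exact cFi23a_finr77 x (by omega) h13
  by_cases h14 : x < 13524
  · exact cFi23a_finr78 x (by omega) h14
  exact cFi23a_finr79 x (by omega) hhi

theorem cFi23a_finrG5 : ∀ x, 13695 ≤ x → x < 16434 → cFi23a.finRow x = true := by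
  intro x hlo hhi
  by_cases h0 : x < 13866
  · exact cFi23a_finr80 x (by omega) h0
  by_cases h1 : x < 14037
  · exact cFi23a_finr81 x (by omega) h1
  by_cases h2 : x < 14209
  · exact cFi23a_finr82 x (by omega) h2
  by_cases h3 : x < 14380
  · exact cFi23a_finr83 x (by omega) h3
  by_cases h4 : x < 14551
  · exact cFi23a_finr84 x (by omega) h4
  by_cases h5 : x < 14722
  · exact cFi23a_finr85 x (by omega) h5
  by_cases h6 : x < 14893
  · exact cFi23a_finr86 x (by omega) h6
  by_cases h7 : x < 15065
  · exact cFi23a_finr87 x (by omega) h7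
  by_cases h8 : x < 15236
  · exact cFi23a_finr88 x (by omega) h8
  by_cases h9 : x < 15407
  · exact cFi23a_finr89 x (by omega) h9
  by_cases h10 : x < 15578
  · exact cFi23a_finr90 x (by omega) h10
  by_cases h11 : x < 15749
  · exact cFi23a_finr91 x (by omega) h11
  by_cases h12 : x < 15921
  · exact cFi23a_finr92 x (by omega) h12
  by_cases h13 : x < 16092
  · exact cFi23a_finr93 x (by omega) h13
  by_cases h14 : x < 16263
  · exact cFi23a_finr94 x (by omega) h14
  exact cFi23a_finr95 x (by omega) hhi

theorem cFi23a_finrG6 : ∀ x, 16434 ≤ x → x < 19173 → cFi23a.finRow x = true := by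
  intro x hlo hhi
  by_cases h0 : x < 16605
  · exact cFi23a_finr96 x (by omega) h0
  by_cases h1 : x < 16777
  · exact cFi23a_finr97 x (by omega) h1
  by_cases h2 : x < 16948
  · exact cFi23a_finr98 x (by omega) h2
  by_cases h3 : x < 17119
  · exact cFi23a_finr99 x (by omega) h3
  by_cases h4 : x < 17290
  · exact cFi23a_finr100 x (by omega) h4
  by_cases h5 : x < 17461
  · exact cFi23a_finr101 x (by omega) h5
  by_cases h6 : x < 17633
  · exact cFi23a_finr102 x (by omega) h6
  by_cases h7 : x < 17804
  · exact cFi23a_finr103 x (by omega) h7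
  by_cases h8 : x < 17975
  · exact cFi23a_finr104 x (by omega) h8
  by_cases h9 : x < 18146
  · exact cFi23a_finr105 x (by omega) h9
  by_cases h10 : x < 18317
  · exact cFi23a_finr106 x (by omega) h10
  by_cases h11 : x < 18489
  · exact cFi23a_finr107 x (by omega) h11
  by_cases h12 : x < 18660
  · exact cFi23a_finr108 x (by omega) h12
  by_cases h13 : x < 18831
  · exact cFi23a_finr109 x (by omega) h13
  by_cases h14 : x < 19002
  · exact cFi23a_finr110 x (by omega) h14
  exact cFi23a_finr111 x (by omega) hhi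

theorem cFi23a_finrG7 : ∀ x, 19173 ≤ x → x < 21912 → cFi23a.finRow x = true := by
  intro x hlo hhi
  by_cases h0 : x < 19344
  · exact cFi23a_finr112 x (by omega) h0
  by_cases h1 : x < 19516
  · exact cFi23a_finr113 x (by omega) h1
  by_cases h2 : x < 19687
  · exact cFi23a_finr114 x (by omega) h2
  by_cases h3 : x < 19858
  · exact cFi23a_finr115 x (by omega) h3
  by_cases h4 : x < 20029
  · exact cFi23a_finr116 x (by omega) h4
  by_cases h5 : x < 20200
  · exact cFi23a_finr117 x (by omega) h5
  by_cases h6 : x < 20372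
  · exact cFi23a_finr118 x (by omega) h6
  by_cases h7 : x < 20543
  · exact cFi23a_finr119 x (by omega) h7
  by_cases h8 : x < 20714
  · exact cFi23a_finr120 x (by omega) h8
  by_cases h9 : x < 20885
  · exact cFi23a_finr121 x (by omega) h9
  by_cases h10 : x < 21056
  · exact cFi23a_finr122 x (by omega) h10
  by_cases h11 : x < 21228
  · exact cFi23a_finr123 x (by omega) h11
  by_cases h12 : x < 21399
  · exact cFi23a_finr124 x (by omega) h12
  by_cases h13 : x < 21570
  · exact cFi23a_finr125 x (by omega) h13
  by_cases h14 : x < 21741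
  · exact cFi23a_finr126 x (by omega) h14
  exact cFi23a_finr127 x (by omega) hhi

theorem cFi23a_finrG8 : ∀ x, 21912 ≤ x → x < 24652 → cFi23a.finRow x = true := by
  intro x hlo hhi
  by_cases h0 : x < 22084
  · exact cFi23a_finr128 x (by omega) h0
  by_cases h1 : x < 22255
  · exact cFi23a_finr129 x (by omega) h1
  by_cases h2 : x < 22426
  · exact cFi23a_finr130 x (by omega) h2
  by_cases h3 : x < 22597
  · exact cFi23a_finr131 x (by omega) h3
  by_cases h4 : x < 22768
  · exact cFi23a_finr132 x (by omega) h4
  by_cases h5 : x < 22940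
  · exact cFi23a_finr133 x (by omega) h5
  by_cases h6 : x < 23111
  · exact cFi23a_finr134 x (by omega) h6
  by_cases h7 : x < 23282
  · exact cFi23a_finr135 x (by omega) h7
  by_cases h8 : x < 23453
  · exact cFi23a_finr136 x (by omega) h8
  by_cases h9 : x < 23624
  · exact cFi23a_finr137 x (by omega) h9
  by_cases h10 : x < 23796
  · exact cFi23a_finr138 x (by omega) h10
  by_cases h11 : x < 23967
  · exact cFi23a_finr139 x (by omega) h11
  by_cases h12 : x < 24138
  · exact cFi23a_finr140 x (by omega) h12
  by_cases h13 : x < 24309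
  · exact cFi23a_finr141 x (by omega) h13
  by_cases h14 : x < 24480
  · exact cFi23a_finr142 x (by omega) h14
  exact cFi23a_finr143 x (by omega) hhi

theorem cFi23a_finrG9 : ∀ x, 24652 ≤ x → x < 27391 → cFi23a.finRow x = true := by
  intro x hlo hhi
  by_cases h0 : x < 24823
  · exact cFi23a_finr144 x (by omega) h0
  by_cases h1 : x < 24994
  · exact cFi23a_finr145 x (by omega) h1
  by_cases h2 : x < 25165
  · exact cFi23a_finr146 x (by omega) h2
  by_cases h3 : x < 25336
  · exact cFi23a_finr147 x (by omega) h3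
  by_cases h4 : x < 25507
  · exact cFi23a_finr148 x (by omega) h4
  by_cases h5 : x < 25679
  · exact cFi23a_finr149 x (by omega) h5
  by_cases h6 : x < 25850
  · exact cFi23a_finr150 x (by omega) h6
  by_cases h7 : x < 26021
  · exact cFi23a_finr151 x (by omega) h7
  by_cases h8 : x < 26192
  · exact cFi23a_finr152 x (by omega) h8
  by_cases h9 : x < 26363
  · exact cFi23a_finr153 x (by omega) h9
  by_cases h10 : x < 26535
  · exact cFi23a_finr154 x (by omega) h10
  by_cases h11 : x < 26706
  · exact cFi23a_finr155 x (by omega) h11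
  by_cases h12 : x < 26877
  · exact cFi23a_finr156 x (by omega) h12
  by_cases h13 : x < 27048
  · exact cFi23a_finr157 x (by omega) h13
  by_cases h14 : x < 27219
  · exact cFi23a_finr158 x (by omega) h14
  exact cFi23a_finr159 x (by omega) hhi

theorem cFi23a_finrG10 : ∀ x, 27391 ≤ x → x < 30130 → cFi23a.finRow x = true := by
  intro x hlo hhi
  by_cases h0 : x < 27562
  · exact cFi23a_finr160 x (by omega) h0
  by_cases h1 : x < 27733
  · exact cFi23a_finr161 x (by omega) h1
  by_cases h2 : x < 27904
  · exact cFi23a_finr162 x (by omega) h2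
  by_cases h3 : x < 28075
  · exact cFi23a_finr163 x (by omega) h3
  by_cases h4 : x < 28247
  · exact cFi23a_finr164 x (by omega) h4
  by_cases h5 : x < 28418
  · exact cFi23a_finr165 x (by omega) h5
  by_cases h6 : x < 28589
  · exact cFi23a_finr166 x (by omega) h6
  by_cases h7 : x < 28760
  · exact cFi23a_finr167 x (by omega) h7
  by_cases h8 : x < 28931
  · exact cFi23a_finr168 x (by omega) h8
  by_cases h9 : x < 29103
  · exact cFi23a_finr169 x (by omega) h9
  by_cases h10 : x < 29274
  · exact cFi23a_finr170 x (by omega) h10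
  by_cases h11 : x < 29445
  · exact cFi23a_finr171 x (by omega) h11
  by_cases h12 : x < 29616
  · exact cFi23a_finr172 x (by omega) h12
  by_cases h13 : x < 29787
  · exact cFi23a_finr173 x (by omega) h13
  by_cases h14 : x < 29959
  · exact cFi23a_finr174 x (by omega) h14
  exact cFi23a_finr175 x (by omega) hhi

theorem cFi23a_finrG11 : ∀ x, 30130 ≤ x → x < 31671 → cFi23a.finRow x = true := by
  intro x hlo hhi
  by_cases h0 : x < 30301
  · exact cFi23a_finr176 x (by omega) h0
  by_cases h1 : x < 30472
  · exact cFi23a_finr177 x (by omega) h1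
  by_cases h2 : x < 30643
  · exact cFi23a_finr178 x (by omega) h2
  by_cases h3 : x < 30815
  · exact cFi23a_finr179 x (by omega) h3
  by_cases h4 : x < 30986
  · exact cFi23a_finr180 x (by omega) h4
  by_cases h5 : x < 31157
  · exact cFi23a_finr181 x (by omega) h5
  by_cases h6 : x < 31328
  · exact cFi23a_finr182 x (by omega) h6
  by_cases h7 : x < 31499
  · exact cFi23a_finr183 x (by omega) h7
  exact cFi23a_finr184 x (by omega) hhi

theorem cFi23a_finRows : ∀ x, x < cFi23a.n → cFi23a.finRow x = true := by
  intro x hx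
  by_cases h0 : x < 2739
  · exact cFi23a_finrG0 x (by omega) h0
  by_cases h1 : x < 5478
  · exact cFi23a_finrG1 x (by omega) h1
  by_cases h2 : x < 8217
  · exact cFi23a_finrG2 x (by omega) h2
  by_cases h3 : x < 10956
  · exact cFi23a_finrG3 x (by omega) h3
  by_cases h4 : x < 13695
  · exact cFi23a_finrG4 x (by omega) h4
  by_cases h5 : x < 16434
  · exact cFi23a_finrG5 x (by omega) h5
  by_cases h6 : x < 19173
  · exact cFi23a_finrG6 x (by omega) h6
  by_cases h7 : x < 21912
  · exact cFi23a_finrG7 x (by omega) h7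
  by_cases h8 : x < 24652
  · exact cFi23a_finrG8 x (by omega) h8
  by_cases h9 : x < 27391
  · exact cFi23a_finrG9 x (by omega) h9
  by_cases h10 : x < 30130
  · exact cFi23a_finrG10 x (by omega) h10
  exact cFi23a_finrG11 x (by omega) hx

theorem cFi23a_finnG0 : ∀ x, 0 ≤ x → x < 51584 → cFi23a.finNode x = true := by
  intro x hlo hhi
  by_cases h0 : x < 3224
  · exact cFi23a_finn0 x (by omega) h0
  by_cases h1 : x < 6448
  · exact cFi23a_finn1 x (by omega) h1
  by_cases h2 : x < 9672
  · exact cFi23a_finn2 x (by omega) h2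
  by_cases h3 : x < 12896
  · exact cFi23a_finn3 x (by omega) h3
  by_cases h4 : x < 16120
  · exact cFi23a_finn4 x (by omega) h4
  by_cases h5 : x < 19344
  · exact cFi23a_finn5 x (by omega) h5
  by_cases h6 : x < 22568
  · exact cFi23a_finn6 x (by omega) h6
  by_cases h7 : x < 25792
  · exact cFi23a_finn7 x (by omega) h7
  by_cases h8 : x < 29016
  · exact cFi23a_finn8 x (by omega) h8
  by_cases h9 : x < 32240
  · exact cFi23a_finn9 x (by omega) h9
  by_cases h10 : x < 35464
  · exact cFi23a_finn10 x (by omega) h10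
  by_cases h11 : x < 38688
  · exact cFi23a_finn11 x (by omega) h11
  by_cases h12 : x < 41912
  · exact cFi23a_finn12 x (by omega) h12
  by_cases h13 : x < 45136
  · exact cFi23a_finn13 x (by omega) h13
  by_cases h14 : x < 48360
  · exact cFi23a_finn14 x (by omega) h14
  exact cFi23a_finn15 x (by omega) hhi

theorem cFi23a_finnG1 : ∀ x, 51584 ≤ x → x < 64481 → cFi23a.finNode x = true := by
  intro x hlo hhi
  by_cases h0 : x < 54808
  · exact cFi23a_finn16 x (by omega) h0
  by_cases h1 : x < 58032
  · exact cFi23a_finn17 x (by omega) h1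
  by_cases h2 : x < 61256
  · exact cFi23a_finn18 x (by omega) h2
  exact cFi23a_finn19 x (by omega) hhi

theorem cFi23a_finNodes : ∀ x, x < cFi23a.N → cFi23a.finNode x = true := by
  intro x hx
  by_cases h0 : x < 51584
  · exact cFi23a_finnG0 x (by omega) h0
  exact cFi23a_finnG1 x (by omega) hx

theorem cFi23a_fin : cFi23a.finOK = true :=
  VCert.finOK_of _ cFi23a_finBase cFi23a_finRows cFi23a_finNodes

theorem oFi23a_colrG0 : ∀ x, 0 ≤ x → x < 12668 → oFi23a.colRow cFi23a x = true := by
  intro x hlo hhi
  by_cases h0 : x < 791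
  · exact oFi23a_colr0 x (by omega) h0
  by_cases h1 : x < 1583
  · exact oFi23a_colr1 x (by omega) h1
  by_cases h2 : x < 2375
  · exact oFi23a_colr2 x (by omega) h2
  by_cases h3 : x < 3167
  · exact oFi23a_colr3 x (by omega) h3
  by_cases h4 : x < 3958
  · exact oFi23a_colr4 x (by omega) h4
  by_cases h5 : x < 4750
  · exact oFi23a_colr5 x (by omega) h5
  by_cases h6 : x < 5542
  · exact oFi23a_colr6 x (by omega) h6
  by_cases h7 : x < 6334
  · exact oFi23a_colr7 x (by omega) h7
  by_cases h8 : x < 7125
  · exact oFi23a_colr8 x (by omega) h8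
  by_cases h9 : x < 7917
  · exact oFi23a_colr9 x (by omega) h9
  by_cases h10 : x < 8709
  · exact oFi23a_colr10 x (by omega) h10
  by_cases h11 : x < 9501
  · exact oFi23a_colr11 x (by omega) h11
  by_cases h12 : x < 10293
  · exact oFi23a_colr12 x (by omega) h12
  by_cases h13 : x < 11084
  · exact oFi23a_colr13 x (by omega) h13
  by_cases h14 : x < 11876
  · exact oFi23a_colr14 x (by omega) h14
  exact oFi23a_colr15 x (by omega) hhi

theorem oFi23a_colrG1 : ∀ x, 12668 ≤ x → x < 25336 → oFi23a.colRow cFi23a x = true := by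
  intro x hlo hhi
  by_cases h0 : x < 13460
  · exact oFi23a_colr16 x (by omega) h0
  by_cases h1 : x < 14251
  · exact oFi23a_colr17 x (by omega) h1
  by_cases h2 : x < 15043
  · exact oFi23a_colr18 x (by omega) h2
  by_cases h3 : x < 15835
  · exact oFi23a_colr19 x (by omega) h3
  by_cases h4 : x < 16627
  · exact oFi23a_colr20 x (by omega) h4
  by_cases h5 : x < 17419
  · exact oFi23a_colr21 x (by omega) h5
  by_cases h6 : x < 18210
  · exact oFi23a_colr22 x (by omega) h6
  by_cases h7 : x < 19002
  · exact oFi23a_colr23 x (by omega) h7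
  by_cases h8 : x < 19794
  · exact oFi23a_colr24 x (by omega) h8
  by_cases h9 : x < 20586
  · exact oFi23a_colr25 x (by omega) h9
  by_cases h10 : x < 21377
  · exact oFi23a_colr26 x (by omega) h10
  by_cases h11 : x < 22169
  · exact oFi23a_colr27 x (by omega) h11
  by_cases h12 : x < 22961
  · exact oFi23a_colr28 x (by omega) h12
  by_cases h13 : x < 23753
  · exact oFi23a_colr29 x (by omega) h13
  by_cases h14 : x < 24545
  · exact oFi23a_colr30 x (by omega) h14
  exact oFi23a_colr31 x (by omega) hhi

theorem oFi23a_colrG2 : ∀ x, 25336 ≤ x → x < 31671 → oFi23a.colRow cFi23a x = true := by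
  intro x hlo hhi
  by_cases h0 : x < 26128
  · exact oFi23a_colr32 x (by omega) h0
  by_cases h1 : x < 26920
  · exact oFi23a_colr33 x (by omega) h1
  by_cases h2 : x < 27712
  · exact oFi23a_colr34 x (by omega) h2
  by_cases h3 : x < 28503
  · exact oFi23a_colr35 x (by omega) h3
  by_cases h4 : x < 29295
  · exact oFi23a_colr36 x (by omega) h4
  by_cases h5 : x < 30087
  · exact oFi23a_colr37 x (by omega) h5
  by_cases h6 : x < 30879
  · exact oFi23a_colr38 x (by omega) h6
  exact oFi23a_colr39 x (by omega) hhi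

theorem oFi23a_col : oFi23a.colOK cFi23a = true := by
  refine OrbCert.colOK_of _ _ ?_
  intro x hx
  by_cases h0 : x < 12668
  · exact oFi23a_colrG0 x (by omega) h0
  by_cases h1 : x < 25336
  · exact oFi23a_colrG1 x (by omega) h1
  exact oFi23a_colrG2 x (by omega) hx

theorem oFi23a_treeBase1 : oFi23a.treeBase cFi23a 1 1 = true := by decide +kernel

theorem oFi23a_tr1_G0 : ∀ x, 0 ≤ x → x < 31671 → oFi23a.treeRow cFi23a 1 1 x = true := by
  intro x hlo hhi
  by_cases h0 : x < 1979
  · exact oFi23a_tr1_0 x (by omega) h0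
  by_cases h1 : x < 3958
  · exact oFi23a_tr1_1 x (by omega) h1
  by_cases h2 : x < 5938
  · exact oFi23a_tr1_2 x (by omega) h2
  by_cases h3 : x < 7917
  · exact oFi23a_tr1_3 x (by omega) h3
  by_cases h4 : x < 9897
  · exact oFi23a_tr1_4 x (by omega) h4
  by_cases h5 : x < 11876
  · exact oFi23a_tr1_5 x (by omega) h5
  by_cases h6 : x < 13856
  · exact oFi23a_tr1_6 x (by omega) h6
  by_cases h7 : x < 15835
  · exact oFi23a_tr1_7 x (by omega) h7
  by_cases h8 : x < 17814
  · exact oFi23a_tr1_8 x (by omega) h8
  by_cases h9 : x < 19794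
  · exact oFi23a_tr1_9 x (by omega) h9
  by_cases h10 : x < 21773
  · exact oFi23a_tr1_10 x (by omega) h10
  by_cases h11 : x < 23753
  · exact oFi23a_tr1_11 x (by omega) h11
  by_cases h12 : x < 25732
  · exact oFi23a_tr1_12 x (by omega) h12
  by_cases h13 : x < 27712
  · exact oFi23a_tr1_13 x (by omega) h13
  by_cases h14 : x < 29691
  · exact oFi23a_tr1_14 x (by omega) h14
  exact oFi23a_tr1_15 x (by omega) hhi

theorem oFi23a_tree1 : oFi23a.treeOK cFi23a 1 1 = true := by
  refine OrbCert.treeOK_of _ _ _ _ oFi23a_treeBase1 ?_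
  intro x hx
  exact oFi23a_tr1_G0 x (by omega) hx

theorem oFi23a_cnt1 : ((Finset.range cFi23a.n).filter (fun x => oFi23a.C x = 1)).card = 28160 := by
  decide +kernel

theorem oFi23a_treeBase2 : oFi23a.treeBase cFi23a 52 2 = true := by decide +kernel

theorem oFi23a_tr2_G0 : ∀ x, 0 ≤ x → x < 31671 → oFi23a.treeRow cFi23a 52 2 x = true := by
  intro x hlo hhi
  by_cases h0 : x < 1979
  · exact oFi23a_tr2_0 x (by omega) h0
  by_cases h1 : x < 3958
  · exact oFi23a_tr2_1 x (by omega) h1
  by_cases h2 : x < 5938
  · exact oFi23a_tr2_2 x (by omega) h2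
  by_cases h3 : x < 7917
  · exact oFi23a_tr2_3 x (by omega) h3
  by_cases h4 : x < 9897
  · exact oFi23a_tr2_4 x (by omega) h4
  by_cases h5 : x < 11876
  · exact oFi23a_tr2_5 x (by omega) h5
  by_cases h6 : x < 13856
  · exact oFi23a_tr2_6 x (by omega) h6
  by_cases h7 : x < 15835
  · exact oFi23a_tr2_7 x (by omega) h7
  by_cases h8 : x < 17814
  · exact oFi23a_tr2_8 x (by omega) h8
  by_cases h9 : x < 19794
  · exact oFi23a_tr2_9 x (by omega) h9
  by_cases h10 : x < 21773
  · exact oFi23a_tr2_10 x (by omega) h10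
  by_cases h11 : x < 23753
  · exact oFi23a_tr2_11 x (by omega) h11
  by_cases h12 : x < 25732
  · exact oFi23a_tr2_12 x (by omega) h12
  by_cases h13 : x < 27712
  · exact oFi23a_tr2_13 x (by omega) h13
  by_cases h14 : x < 29691
  · exact oFi23a_tr2_14 x (by omega) h14
  exact oFi23a_tr2_15 x (by omega) hhi

theorem oFi23a_tree2 : oFi23a.treeOK cFi23a 52 2 = true := by
  refine OrbCert.treeOK_of _ _ _ _ oFi23a_treeBase2 ?_
  intro x hx
  exact oFi23a_tr2_G0 x (by omega) hx

theorem oFi23a_cnt2 : ((Finset.range cFi23a.n).filter (fun x => oFi23a.C x = 2)).card = 3510 := by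
  decide +kernel

end Cfsg.Agent.Lib.Lead.VTC
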