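import Cfsg.Agent.Lib.Lead.VTCFi23a
import Cfsg.Agent.Lib.Lead.VTC3

set_option autoImplicit false
set_option maxRecDepth 100000

namespace Cfsg.Agent.Lib.Lead.VTC

theorem cFi23a_finr0 : ∀ x, 0 ≤ x → x < 494 → cFi23a.finRow x = true :=
  VCert.of_range' _ 0 494 (by decide +kernel)

theorem cFi23a_finr8 : ∀ x, 3958 ≤ x → x < 4453 → cFi23a.finRow x = true :=
  VCert.of_range' _ 3958 4453 (by decide +kernel)

theorem cFi23a_finr16 : ∀ x, 7917 ≤ x → x < 8412 → cFi23a.finRow x = true :=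
  VCert.of_range' _ 7917 8412 (by decide +kernel)

theorem cFi23a_finr24 : ∀ x, 11876 ≤ x → x < 12371 → cFi23a.finRow x = true :=
  VCert.of_range' _ 11876 12371 (by decide +kernel)

theorem cFi23a_finr32 : ∀ x, 15835 ≤ x → x < 16330 → cFi23a.finRow x = true :=
  VCert.of_range' _ 15835 16330 (by decide +kernel)

theorem cFi23a_finr40 : ∀ x, 19794 ≤ x → x < 20289 → cFi23a.finRow x = true :=
  VCert.of_range' _ 19794 20289 (by decide +kernel)

theorem cFi23a_finr48 : ∀ x, 23753 ≤ x → x < 24248 → cFi23a.finRow x = true :=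
  VCert.of_range' _ 23753 24248 (by decide +kernel)

theorem cFi23a_finr56 : ∀ x, 27712 ≤ x → x < 28206 → cFi23a.finRow x = true :=
  VCert.of_range' _ 27712 28206 (by decide +kernel)

theorem cFi23a_finn0 : ∀ x, 0 ≤ x → x < 10746 → cFi23a.finNode x = true :=
  VCert.of_range' _ 0 10746 (by decide +kernel)

theorem oFi23a_colr2 : ∀ x, 4524 ≤ x → x < 6786 → oFi23a.colRow cFi23a x = true :=
  VCert.of_range' _ 4524 6786 (by decide +kernel)

theorem oFi23a_colr10 : ∀ x, 22622 ≤ x → x < 24884 → oFi23a.colRow cFi23a x = true :=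
  VCert.of_range' _ 22622 24884 (by decide +kernel)

theorem oFi23a_tr1_4 : ∀ x, 21114 ≤ x → x < 26392 → oFi23a.treeRow cFi23a 1 1 x = true :=
  VCert.of_range' _ 21114 26392 (by decide +kernel)


end Cfsg.Agent.Lib.Lead.VTC
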