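import Cfsg.Agent.Lib.Lead.VTCFi23a
import Cfsg.Agent.Lib.Lead.VTC3

set_option autoImplicit false
set_option maxRecDepth 100000

namespace Cfsg.Agent.Lib.Lead.VTC

theorem cFi23a_finr1 : ∀ x, 494 ≤ x → x < 989 → cFi23a.finRow x = true :=
  VCert.of_range' _ 494 989 (by decide +kernel)

theorem cFi23a_finr9 : ∀ x, 4453 ≤ x → x < 4948 → cFi23a.finRow x = true :=
  VCert.of_range' _ 4453 4948 (by decide +kernel)

theorem cFi23a_finr17 : ∀ x, 8412 ≤ x → x < 8907 → cFi23a.finRow x = true :=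
  VCert.of_range' _ 8412 8907 (by decide +kernel)

theorem cFi23a_finr25 : ∀ x, 12371 ≤ x → x < 12866 → cFi23a.finRow x = true :=
  VCert.of_range' _ 12371 12866 (by decide +kernel)

theorem cFi23a_finr33 : ∀ x, 16330 ≤ x → x < 16825 → cFi23a.finRow x = true :=
  VCert.of_range' _ 16330 16825 (by decide +kernel)

theorem cFi23a_finr41 : ∀ x, 20289 ≤ x → x < 20784 → cFi23a.finRow x = true :=
  VCert.of_range' _ 20289 20784 (by decide +kernel)

theorem cFi23a_finr49 : ∀ x, 24248 ≤ x → x < 24742 → cFi23a.finRow x = true :=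
  VCert.of_range' _ 24248 24742 (by decide +kernel)

theorem cFi23a_finr57 : ∀ x, 28206 ≤ x → x < 28701 → cFi23a.finRow x = true :=
  VCert.of_range' _ 28206 28701 (by decide +kernel)

theorem cFi23a_finn1 : ∀ x, 10746 ≤ x → x < 21493 → cFi23a.finNode x = true :=
  VCert.of_range' _ 10746 21493 (by decide +kernel)

theorem oFi23a_colr3 : ∀ x, 6786 ≤ x → x < 9048 → oFi23a.colRow cFi23a x = true :=
  VCert.of_range' _ 6786 9048 (by decide +kernel)

theorem oFi23a_colr11 : ∀ x, 24884 ≤ x → x < 27146 → oFi23a.colRow cFi23a x = true :=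
  VCert.of_range' _ 24884 27146 (by decide +kernel)

theorem oFi23a_tr1_5 : ∀ x, 26392 ≤ x → x < 31671 → oFi23a.treeRow cFi23a 1 1 x = true :=
  VCert.of_range' _ 26392 31671 (by decide +kernel)


end Cfsg.Agent.Lib.Lead.VTC
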