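import Cfsg.Agent.Lib.Lead.VTCFi23a
import Cfsg.Agent.Lib.Lead.VTC3

set_option autoImplicit false
set_option maxRecDepth 100000

namespace Cfsg.Agent.Lib.Lead.VTC

theorem cFi23a_finr2 : ∀ x, 989 ≤ x → x < 1484 → cFi23a.finRow x = true :=
  VCert.of_range' _ 989 1484 (by decide +kernel)

theorem cFi23a_finr10 : ∀ x, 4948 ≤ x → x < 5443 → cFi23a.finRow x = true :=
  VCert.of_range' _ 4948 5443 (by decide +kernel)

theorem cFi23a_finr18 : ∀ x, 8907 ≤ x → x < 9402 → cFi23a.finRow x = true :=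
  VCert.of_range' _ 8907 9402 (by decide +kernel)

theorem cFi23a_finr26 : ∀ x, 12866 ≤ x → x < 13361 → cFi23a.finRow x = true :=
  VCert.of_range' _ 12866 13361 (by decide +kernel)

theorem cFi23a_finr34 : ∀ x, 16825 ≤ x → x < 17320 → cFi23a.finRow x = true :=
  VCert.of_range' _ 16825 17320 (by decide +kernel)

theorem cFi23a_finr42 : ∀ x, 20784 ≤ x → x < 21278 → cFi23a.finRow x = true :=
  VCert.of_range' _ 20784 21278 (by decide +kernel)

theorem cFi23a_finr50 : ∀ x, 24742 ≤ x → x < 25237 → cFi23a.finRow x = true :=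
  VCert.of_range' _ 24742 25237 (by decide +kernel)

theorem cFi23a_finr58 : ∀ x, 28701 ≤ x → x < 29196 → cFi23a.finRow x = true :=
  VCert.of_range' _ 28701 29196 (by decide +kernel)

theorem cFi23a_finn2 : ∀ x, 21493 ≤ x → x < 32240 → cFi23a.finNode x = true :=
  VCert.of_range' _ 21493 32240 (by decide +kernel)

theorem oFi23a_colr4 : ∀ x, 9048 ≤ x → x < 11311 → oFi23a.colRow cFi23a x = true :=
  VCert.of_range' _ 9048 11311 (by decide +kernel)

theorem oFi23a_colr12 : ∀ x, 27146 ≤ x → x < 29408 → oFi23a.colRow cFi23a x = true :=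
  VCert.of_range' _ 27146 29408 (by decide +kernel)

theorem oFi23a_tr2_0 : ∀ x, 0 ≤ x → x < 5278 → oFi23a.treeRow cFi23a 52 2 x = true :=
  VCert.of_range' _ 0 5278 (by decide +kernel)


end Cfsg.Agent.Lib.Lead.VTC
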