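import Cfsg.Agent.Lib.Lead.VTCFi23a
import Cfsg.Agent.Lib.Lead.VTC3

set_option autoImplicit false
set_option maxRecDepth 100000

namespace Cfsg.Agent.Lib.Lead.VTC

theorem cFi23a_finr3 : ∀ x, 1484 ≤ x → x < 1979 → cFi23a.finRow x = true :=
  VCert.of_range' _ 1484 1979 (by decide +kernel)

theorem cFi23a_finr11 : ∀ x, 5443 ≤ x → x < 5938 → cFi23a.finRow x = true :=
  VCert.of_range' _ 5443 5938 (by decide +kernel)

theorem cFi23a_finr19 : ∀ x, 9402 ≤ x → x < 9897 → cFi23a.finRow x = true :=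
  VCert.of_range' _ 9402 9897 (by decide +kernel)

theorem cFi23a_finr27 : ∀ x, 13361 ≤ x → x < 13856 → cFi23a.finRow x = true :=
  VCert.of_range' _ 13361 13856 (by decide +kernel)

theorem cFi23a_finr35 : ∀ x, 17320 ≤ x → x < 17814 → cFi23a.finRow x = true :=
  VCert.of_range' _ 17320 17814 (by decide +kernel)

theorem cFi23a_finr43 : ∀ x, 21278 ≤ x → x < 21773 → cFi23a.finRow x = true :=
  VCert.of_range' _ 21278 21773 (by decide +kernel)

theorem cFi23a_finr51 : ∀ x, 25237 ≤ x → x < 25732 → cFi23a.finRow x = true :=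
  VCert.of_range' _ 25237 25732 (by decide +kernel)

theorem cFi23a_finr59 : ∀ x, 29196 ≤ x → x < 29691 → cFi23a.finRow x = true :=
  VCert.of_range' _ 29196 29691 (by decide +kernel)

theorem cFi23a_finn3 : ∀ x, 32240 ≤ x → x < 42987 → cFi23a.finNode x = true :=
  VCert.of_range' _ 32240 42987 (by decide +kernel)

theorem oFi23a_colr5 : ∀ x, 11311 ≤ x → x < 13573 → oFi23a.colRow cFi23a x = true :=
  VCert.of_range' _ 11311 13573 (by decide +kernel)

theorem oFi23a_colr13 : ∀ x, 29408 ≤ x → x < 31671 → oFi23a.colRow cFi23a x = true :=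
  VCert.of_range' _ 29408 31671 (by decide +kernel)

theorem oFi23a_tr2_1 : ∀ x, 5278 ≤ x → x < 10557 → oFi23a.treeRow cFi23a 52 2 x = true :=
  VCert.of_range' _ 5278 10557 (by decide +kernel)


end Cfsg.Agent.Lib.Lead.VTC
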