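import Cfsg.Agent.Lib.Lead.VTCFi23a
import Cfsg.Agent.Lib.Lead.VTC3

set_option autoImplicit false
set_option maxRecDepth 100000

namespace Cfsg.Agent.Lib.Lead.VTC

theorem cFi23a_finr4 : ∀ x, 1979 ≤ x → x < 2474 → cFi23a.finRow x = true :=
  VCert.of_range' _ 1979 2474 (by decide +kernel)

theorem cFi23a_finr12 : ∀ x, 5938 ≤ x → x < 6433 → cFi23a.finRow x = true :=
  VCert.of_range' _ 5938 6433 (by decide +kernel)

theorem cFi23a_finr20 : ∀ x, 9897 ≤ x → x < 10392 → cFi23a.finRow x = true :=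
  VCert.of_range' _ 9897 10392 (by decide +kernel)

theorem cFi23a_finr28 : ∀ x, 13856 ≤ x → x < 14350 → cFi23a.finRow x = true :=
  VCert.of_range' _ 13856 14350 (by decide +kernel)

theorem cFi23a_finr36 : ∀ x, 17814 ≤ x → x < 18309 → cFi23a.finRow x = true :=
  VCert.of_range' _ 17814 18309 (by decide +kernel)

theorem cFi23a_finr44 : ∀ x, 21773 ≤ x → x < 22268 → cFi23a.finRow x = true :=
  VCert.of_range' _ 21773 22268 (by decide +kernel)

theorem cFi23a_finr52 : ∀ x, 25732 ≤ x → x < 26227 → cFi23a.finRow x = true :=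
  VCert.of_range' _ 25732 26227 (by decide +kernel)

theorem cFi23a_finr60 : ∀ x, 29691 ≤ x → x < 30186 → cFi23a.finRow x = true :=
  VCert.of_range' _ 29691 30186 (by decide +kernel)

theorem cFi23a_finn4 : ∀ x, 42987 ≤ x → x < 53734 → cFi23a.finNode x = true :=
  VCert.of_range' _ 42987 53734 (by decide +kernel)

theorem oFi23a_colr6 : ∀ x, 13573 ≤ x → x < 15835 → oFi23a.colRow cFi23a x = true :=
  VCert.of_range' _ 13573 15835 (by decide +kernel)

theorem oFi23a_tr1_0 : ∀ x, 0 ≤ x → x < 5278 → oFi23a.treeRow cFi23a 1 1 x = true :=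
  VCert.of_range' _ 0 5278 (by decide +kernel)

theorem oFi23a_tr2_2 : ∀ x, 10557 ≤ x → x < 15835 → oFi23a.treeRow cFi23a 52 2 x = true :=
  VCert.of_range' _ 10557 15835 (by decide +kernel)


end Cfsg.Agent.Lib.Lead.VTC
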