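import Cfsg.Agent.Lib.Lead.VTCFi23a
import Cfsg.Agent.Lib.Lead.VTC3

set_option autoImplicit false
set_option maxRecDepth 100000

namespace Cfsg.Agent.Lib.Lead.VTC

theorem cFi23a_finr5 : ∀ x, 2474 ≤ x → x < 2969 → cFi23a.finRow x = true :=
  VCert.of_range' _ 2474 2969 (by decide +kernel)

theorem cFi23a_finr13 : ∀ x, 6433 ≤ x → x < 6928 → cFi23a.finRow x = true :=
  VCert.of_range' _ 6433 6928 (by decide +kernel)

theorem cFi23a_finr21 : ∀ x, 10392 ≤ x → x < 10886 → cFi23a.finRow x = true :=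
  VCert.of_range' _ 10392 10886 (by decide +kernel)

theorem cFi23a_finr29 : ∀ x, 14350 ≤ x → x < 14845 → cFi23a.finRow x = true :=
  VCert.of_range' _ 14350 14845 (by decide +kernel)

theorem cFi23a_finr37 : ∀ x, 18309 ≤ x → x < 18804 → cFi23a.finRow x = true :=
  VCert.of_range' _ 18309 18804 (by decide +kernel)

theorem cFi23a_finr45 : ∀ x, 22268 ≤ x → x < 22763 → cFi23a.finRow x = true :=
  VCert.of_range' _ 22268 22763 (by decide +kernel)

theorem cFi23a_finr53 : ∀ x, 26227 ≤ x → x < 26722 → cFi23a.finRow x = true :=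
  VCert.of_range' _ 26227 26722 (by decide +kernel)

theorem cFi23a_finr61 : ∀ x, 30186 ≤ x → x < 30681 → cFi23a.finRow x = true :=
  VCert.of_range' _ 30186 30681 (by decide +kernel)

theorem cFi23a_finn5 : ∀ x, 53734 ≤ x → x < 64481 → cFi23a.finNode x = true :=
  VCert.of_range' _ 53734 64481 (by decide +kernel)

theorem oFi23a_colr7 : ∀ x, 15835 ≤ x → x < 18097 → oFi23a.colRow cFi23a x = true :=
  VCert.of_range' _ 15835 18097 (by decide +kernel)

theorem oFi23a_tr1_1 : ∀ x, 5278 ≤ x → x < 10557 → oFi23a.treeRow cFi23a 1 1 x = true :=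
  VCert.of_range' _ 5278 10557 (by decide +kernel)

theorem oFi23a_tr2_3 : ∀ x, 15835 ≤ x → x < 21114 → oFi23a.treeRow cFi23a 52 2 x = true :=
  VCert.of_range' _ 15835 21114 (by decide +kernel)


end Cfsg.Agent.Lib.Lead.VTC
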