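import Cfsg.Agent.Lib.Lead.VTCFi23a
import Cfsg.Agent.Lib.Lead.VTC3

set_option autoImplicit false
set_option maxRecDepth 100000

namespace Cfsg.Agent.Lib.Lead.VTC

theorem cFi23a_finr6 : ∀ x, 2969 ≤ x → x < 3464 → cFi23a.finRow x = true :=
  VCert.of_range' _ 2969 3464 (by decide +kernel)

theorem cFi23a_finr14 : ∀ x, 6928 ≤ x → x < 7422 → cFi23a.finRow x = true :=
  VCert.of_range' _ 6928 7422 (by decide +kernel)

theorem cFi23a_finr22 : ∀ x, 10886 ≤ x → x < 11381 → cFi23a.finRow x = true :=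
  VCert.of_range' _ 10886 11381 (by decide +kernel)

theorem cFi23a_finr30 : ∀ x, 14845 ≤ x → x < 15340 → cFi23a.finRow x = true :=
  VCert.of_range' _ 14845 15340 (by decide +kernel)

theorem cFi23a_finr38 : ∀ x, 18804 ≤ x → x < 19299 → cFi23a.finRow x = true :=
  VCert.of_range' _ 18804 19299 (by decide +kernel)

theorem cFi23a_finr46 : ∀ x, 22763 ≤ x → x < 23258 → cFi23a.finRow x = true :=
  VCert.of_range' _ 22763 23258 (by decide +kernel)

theorem cFi23a_finr54 : ∀ x, 26722 ≤ x → x < 27217 → cFi23a.finRow x = true :=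
  VCert.of_range' _ 26722 27217 (by decide +kernel)

theorem cFi23a_finr62 : ∀ x, 30681 ≤ x → x < 31176 → cFi23a.finRow x = true :=
  VCert.of_range' _ 30681 31176 (by decide +kernel)

theorem oFi23a_colr0 : ∀ x, 0 ≤ x → x < 2262 → oFi23a.colRow cFi23a x = true :=
  VCert.of_range' _ 0 2262 (by decide +kernel)

theorem oFi23a_colr8 : ∀ x, 18097 ≤ x → x < 20359 → oFi23a.colRow cFi23a x = true :=
  VCert.of_range' _ 18097 20359 (by decide +kernel)

theorem oFi23a_tr1_2 : ∀ x, 10557 ≤ x → x < 15835 → oFi23a.treeRow cFi23a 1 1 x = true :=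
  VCert.of_range' _ 10557 15835 (by decide +kernel)

theorem oFi23a_tr2_4 : ∀ x, 21114 ≤ x → x < 26392 → oFi23a.treeRow cFi23a 52 2 x = true :=
  VCert.of_range' _ 21114 26392 (by decide +kernel)


end Cfsg.Agent.Lib.Lead.VTC
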