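import Cfsg.Agent.Lib.Lead.VTCFi23a
import Cfsg.Agent.Lib.Lead.VTC3

set_option autoImplicit false
set_option maxRecDepth 100000

namespace Cfsg.Agent.Lib.Lead.VTC

theorem cFi23a_finr7 : ∀ x, 3464 ≤ x → x < 3958 → cFi23a.finRow x = true :=
  VCert.of_range' _ 3464 3958 (by decide +kernel)

theorem cFi23a_finr15 : ∀ x, 7422 ≤ x → x < 7917 → cFi23a.finRow x = true :=
  VCert.of_range' _ 7422 7917 (by decide +kernel)

theorem cFi23a_finr23 : ∀ x, 11381 ≤ x → x < 11876 → cFi23a.finRow x = true :=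
  VCert.of_range' _ 11381 11876 (by decide +kernel)

theorem cFi23a_finr31 : ∀ x, 15340 ≤ x → x < 15835 → cFi23a.finRow x = true :=
  VCert.of_range' _ 15340 15835 (by decide +kernel)

theorem cFi23a_finr39 : ∀ x, 19299 ≤ x → x < 19794 → cFi23a.finRow x = true :=
  VCert.of_range' _ 19299 19794 (by decide +kernel)

theorem cFi23a_finr47 : ∀ x, 23258 ≤ x → x < 23753 → cFi23a.finRow x = true :=
  VCert.of_range' _ 23258 23753 (by decide +kernel)

theorem cFi23a_finr55 : ∀ x, 27217 ≤ x → x < 27712 → cFi23a.finRow x = true :=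
  VCert.of_range' _ 27217 27712 (by decide +kernel)

theorem cFi23a_finr63 : ∀ x, 31176 ≤ x → x < 31671 → cFi23a.finRow x = true :=
  VCert.of_range' _ 31176 31671 (by decide +kernel)

theorem oFi23a_colr1 : ∀ x, 2262 ≤ x → x < 4524 → oFi23a.colRow cFi23a x = true :=
  VCert.of_range' _ 2262 4524 (by decide +kernel)

theorem oFi23a_colr9 : ∀ x, 20359 ≤ x → x < 22622 → oFi23a.colRow cFi23a x = true :=
  VCert.of_range' _ 20359 22622 (by decide +kernel)

theorem oFi23a_tr1_3 : ∀ x, 15835 ≤ x → x < 21114 → oFi23a.treeRow cFi23a 1 1 x = true :=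
  VCert.of_range' _ 15835 21114 (by decide +kernel)

theorem oFi23a_tr2_5 : ∀ x, 26392 ≤ x → x < 31671 → oFi23a.treeRow cFi23a 52 2 x = true :=
  VCert.of_range' _ 26392 31671 (by decide +kernel)


end Cfsg.Agent.Lib.Lead.VTC
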