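import Cfsg.Agent.Lib.Lead.VTCFi23a

set_option autoImplicit false
set_option maxRecDepth 100000

namespace Cfsg.Agent.Lib.Lead.VTC

theorem cFi23a_ok0 : ∀ x, 0 ≤ x → x < 251 → cFi23a.rowOK x = true :=
  VCert.of_range' _ 0 251 (by decide +kernel)

theorem cFi23a_ok32 : ∀ x, 8060 ≤ x → x < 8312 → cFi23a.rowOK x = true :=
  VCert.of_range' _ 8060 8312 (by decide +kernel)

theorem cFi23a_ok64 : ∀ x, 16120 ≤ x → x < 16372 → cFi23a.rowOK x = true :=
  VCert.of_range' _ 16120 16372 (by decide +kernel)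

theorem cFi23a_ok96 : ∀ x, 24180 ≤ x → x < 24432 → cFi23a.rowOK x = true :=
  VCert.of_range' _ 24180 24432 (by decide +kernel)

theorem cFi23a_ok128 : ∀ x, 32240 ≤ x → x < 32492 → cFi23a.rowOK x = true :=
  VCert.of_range' _ 32240 32492 (by decide +kernel)

theorem cFi23a_ok160 : ∀ x, 40300 ≤ x → x < 40552 → cFi23a.rowOK x = true :=
  VCert.of_range' _ 40300 40552 (by decide +kernel)

theorem cFi23a_ok192 : ∀ x, 48360 ≤ x → x < 48612 → cFi23a.rowOK x = true :=
  VCert.of_range' _ 48360 48612 (by decide +kernel)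

theorem cFi23a_ok224 : ∀ x, 56420 ≤ x → x < 56672 → cFi23a.rowOK x = true :=
  VCert.of_range' _ 56420 56672 (by decide +kernel)

theorem cFi23a_act0 : ∀ x, 0 ≤ x → x < 123 → cFi23a.actRow x = true :=
  VCert.of_range' _ 0 123 (by decide +kernel)

theorem cFi23a_act32 : ∀ x, 3958 ≤ x → x < 4082 → cFi23a.actRow x = true :=
  VCert.of_range' _ 3958 4082 (by decide +kernel)

theorem cFi23a_act64 : ∀ x, 7917 ≤ x → x < 8041 → cFi23a.actRow x = true :=
  VCert.of_range' _ 7917 8041 (by decide +kernel)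

theorem cFi23a_act96 : ∀ x, 11876 ≤ x → x < 12000 → cFi23a.actRow x = true :=
  VCert.of_range' _ 11876 12000 (by decide +kernel)

theorem cFi23a_act128 : ∀ x, 15835 ≤ x → x < 15959 → cFi23a.actRow x = true :=
  VCert.of_range' _ 15835 15959 (by decide +kernel)

theorem cFi23a_act160 : ∀ x, 19794 ≤ x → x < 19918 → cFi23a.actRow x = true :=
  VCert.of_range' _ 19794 19918 (by decide +kernel)

theorem cFi23a_act192 : ∀ x, 23753 ≤ x → x < 23876 → cFi23a.actRow x = true :=
  VCert.of_range' _ 23753 23876 (by decide +kernel)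

theorem cFi23a_act224 : ∀ x, 27712 ≤ x → x < 27835 → cFi23a.actRow x = true :=
  VCert.of_range' _ 27712 27835 (by decide +kernel)


end Cfsg.Agent.Lib.Lead.VTC
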