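import Cfsg.Agent.Lib.Lead.VTCFi23a

set_option autoImplicit false
set_option maxRecDepth 100000

namespace Cfsg.Agent.Lib.Lead.VTC

theorem cFi23a_ok1 : ∀ x, 251 ≤ x → x < 503 → cFi23a.rowOK x = true :=
  VCert.of_range' _ 251 503 (by decide +kernel)

theorem cFi23a_ok33 : ∀ x, 8312 ≤ x → x < 8563 → cFi23a.rowOK x = true :=
  VCert.of_range' _ 8312 8563 (by decide +kernel)

theorem cFi23a_ok65 : ∀ x, 16372 ≤ x → x < 16624 → cFi23a.rowOK x = true :=
  VCert.of_range' _ 16372 16624 (by decide +kernel)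

theorem cFi23a_ok97 : ∀ x, 24432 ≤ x → x < 24684 → cFi23a.rowOK x = true :=
  VCert.of_range' _ 24432 24684 (by decide +kernel)

theorem cFi23a_ok129 : ∀ x, 32492 ≤ x → x < 32744 → cFi23a.rowOK x = true :=
  VCert.of_range' _ 32492 32744 (by decide +kernel)

theorem cFi23a_ok161 : ∀ x, 40552 ≤ x → x < 40804 → cFi23a.rowOK x = true :=
  VCert.of_range' _ 40552 40804 (by decide +kernel)

theorem cFi23a_ok193 : ∀ x, 48612 ≤ x → x < 48864 → cFi23a.rowOK x = true :=
  VCert.of_range' _ 48612 48864 (by decide +kernel)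

theorem cFi23a_ok225 : ∀ x, 56672 ≤ x → x < 56924 → cFi23a.rowOK x = true :=
  VCert.of_range' _ 56672 56924 (by decide +kernel)

theorem cFi23a_act1 : ∀ x, 123 ≤ x → x < 247 → cFi23a.actRow x = true :=
  VCert.of_range' _ 123 247 (by decide +kernel)

theorem cFi23a_act33 : ∀ x, 4082 ≤ x → x < 4206 → cFi23a.actRow x = true :=
  VCert.of_range' _ 4082 4206 (by decide +kernel)

theorem cFi23a_act65 : ∀ x, 8041 ≤ x → x < 8165 → cFi23a.actRow x = true :=
  VCert.of_range' _ 8041 8165 (by decide +kernel)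

theorem cFi23a_act97 : ∀ x, 12000 ≤ x → x < 12124 → cFi23a.actRow x = true :=
  VCert.of_range' _ 12000 12124 (by decide +kernel)

theorem cFi23a_act129 : ∀ x, 15959 ≤ x → x < 16082 → cFi23a.actRow x = true :=
  VCert.of_range' _ 15959 16082 (by decide +kernel)

theorem cFi23a_act161 : ∀ x, 19918 ≤ x → x < 20041 → cFi23a.actRow x = true :=
  VCert.of_range' _ 19918 20041 (by decide +kernel)

theorem cFi23a_act193 : ∀ x, 23876 ≤ x → x < 24000 → cFi23a.actRow x = true :=
  VCert.of_range' _ 23876 24000 (by decide +kernel)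

theorem cFi23a_act225 : ∀ x, 27835 ≤ x → x < 27959 → cFi23a.actRow x = true :=
  VCert.of_range' _ 27835 27959 (by decide +kernel)


end Cfsg.Agent.Lib.Lead.VTC
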