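import Cfsg.Agent.Lib.Lead.VTCFi23a

set_option autoImplicit false
set_option maxRecDepth 100000

namespace Cfsg.Agent.Lib.Lead.VTC

theorem cFi23a_ok10 : ∀ x, 2518 ≤ x → x < 2770 → cFi23a.rowOK x = true :=
  VCert.of_range' _ 2518 2770 (by decide +kernel)

theorem cFi23a_ok42 : ∀ x, 10578 ≤ x → x < 10830 → cFi23a.rowOK x = true :=
  VCert.of_range' _ 10578 10830 (by decide +kernel)

theorem cFi23a_ok74 : ∀ x, 18639 ≤ x → x < 18890 → cFi23a.rowOK x = true :=
  VCert.of_range' _ 18639 18890 (by decide +kernel)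

theorem cFi23a_ok106 : ∀ x, 26699 ≤ x → x < 26951 → cFi23a.rowOK x = true :=
  VCert.of_range' _ 26699 26951 (by decide +kernel)

theorem cFi23a_ok138 : ∀ x, 34759 ≤ x → x < 35011 → cFi23a.rowOK x = true :=
  VCert.of_range' _ 34759 35011 (by decide +kernel)

theorem cFi23a_ok170 : ∀ x, 42819 ≤ x → x < 43071 → cFi23a.rowOK x = true :=
  VCert.of_range' _ 42819 43071 (by decide +kernel)

theorem cFi23a_ok202 : ∀ x, 50879 ≤ x → x < 51131 → cFi23a.rowOK x = true :=
  VCert.of_range' _ 50879 51131 (by decide +kernel)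

theorem cFi23a_ok234 : ∀ x, 58939 ≤ x → x < 59191 → cFi23a.rowOK x = true :=
  VCert.of_range' _ 58939 59191 (by decide +kernel)

theorem cFi23a_act10 : ∀ x, 1237 ≤ x → x < 1360 → cFi23a.actRow x = true :=
  VCert.of_range' _ 1237 1360 (by decide +kernel)

theorem cFi23a_act42 : ∀ x, 5196 ≤ x → x < 5319 → cFi23a.actRow x = true :=
  VCert.of_range' _ 5196 5319 (by decide +kernel)

theorem cFi23a_act74 : ∀ x, 9154 ≤ x → x < 9278 → cFi23a.actRow x = true :=
  VCert.of_range' _ 9154 9278 (by decide +kernel)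

theorem cFi23a_act106 : ∀ x, 13113 ≤ x → x < 13237 → cFi23a.actRow x = true :=
  VCert.of_range' _ 13113 13237 (by decide +kernel)

theorem cFi23a_act138 : ∀ x, 17072 ≤ x → x < 17196 → cFi23a.actRow x = true :=
  VCert.of_range' _ 17072 17196 (by decide +kernel)

theorem cFi23a_act170 : ∀ x, 21031 ≤ x → x < 21155 → cFi23a.actRow x = true :=
  VCert.of_range' _ 21031 21155 (by decide +kernel)

theorem cFi23a_act202 : ∀ x, 24990 ≤ x → x < 25114 → cFi23a.actRow x = true :=
  VCert.of_range' _ 24990 25114 (by decide +kernel)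

theorem cFi23a_act234 : ∀ x, 28949 ≤ x → x < 29072 → cFi23a.actRow x = true :=
  VCert.of_range' _ 28949 29072 (by decide +kernel)


end Cfsg.Agent.Lib.Lead.VTC
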