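import Cfsg.Agent.Lib.Lead.VTCFi23a

set_option autoImplicit false
set_option maxRecDepth 100000

namespace Cfsg.Agent.Lib.Lead.VTC

theorem cFi23a_ok11 : ∀ x, 2770 ≤ x → x < 3022 → cFi23a.rowOK x = true :=
  VCert.of_range' _ 2770 3022 (by decide +kernel)

theorem cFi23a_ok43 : ∀ x, 10830 ≤ x → x < 11082 → cFi23a.rowOK x = true :=
  VCert.of_range' _ 10830 11082 (by decide +kernel)

theorem cFi23a_ok75 : ∀ x, 18890 ≤ x → x < 19142 → cFi23a.rowOK x = true :=
  VCert.of_range' _ 18890 19142 (by decide +kernel)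

theorem cFi23a_ok107 : ∀ x, 26951 ≤ x → x < 27202 → cFi23a.rowOK x = true :=
  VCert.of_range' _ 26951 27202 (by decide +kernel)

theorem cFi23a_ok139 : ∀ x, 35011 ≤ x → x < 35263 → cFi23a.rowOK x = true :=
  VCert.of_range' _ 35011 35263 (by decide +kernel)

theorem cFi23a_ok171 : ∀ x, 43071 ≤ x → x < 43323 → cFi23a.rowOK x = true :=
  VCert.of_range' _ 43071 43323 (by decide +kernel)

theorem cFi23a_ok203 : ∀ x, 51131 ≤ x → x < 51383 → cFi23a.rowOK x = true :=
  VCert.of_range' _ 51131 51383 (by decide +kernel)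

theorem cFi23a_ok235 : ∀ x, 59191 ≤ x → x < 59443 → cFi23a.rowOK x = true :=
  VCert.of_range' _ 59191 59443 (by decide +kernel)

theorem cFi23a_act11 : ∀ x, 1360 ≤ x → x < 1484 → cFi23a.actRow x = true :=
  VCert.of_range' _ 1360 1484 (by decide +kernel)

theorem cFi23a_act43 : ∀ x, 5319 ≤ x → x < 5443 → cFi23a.actRow x = true :=
  VCert.of_range' _ 5319 5443 (by decide +kernel)

theorem cFi23a_act75 : ∀ x, 9278 ≤ x → x < 9402 → cFi23a.actRow x = true :=
  VCert.of_range' _ 9278 9402 (by decide +kernel)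

theorem cFi23a_act107 : ∀ x, 13237 ≤ x → x < 13361 → cFi23a.actRow x = true :=
  VCert.of_range' _ 13237 13361 (by decide +kernel)

theorem cFi23a_act139 : ∀ x, 17196 ≤ x → x < 17320 → cFi23a.actRow x = true :=
  VCert.of_range' _ 17196 17320 (by decide +kernel)

theorem cFi23a_act171 : ∀ x, 21155 ≤ x → x < 21278 → cFi23a.actRow x = true :=
  VCert.of_range' _ 21155 21278 (by decide +kernel)

theorem cFi23a_act203 : ∀ x, 25114 ≤ x → x < 25237 → cFi23a.actRow x = true :=
  VCert.of_range' _ 25114 25237 (by decide +kernel)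

theorem cFi23a_act235 : ∀ x, 29072 ≤ x → x < 29196 → cFi23a.actRow x = true :=
  VCert.of_range' _ 29072 29196 (by decide +kernel)


end Cfsg.Agent.Lib.Lead.VTC
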