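import Cfsg.Agent.Lib.Lead.VTCFi23a

set_option autoImplicit false
set_option maxRecDepth 100000

namespace Cfsg.Agent.Lib.Lead.VTC

theorem cFi23a_ok12 : ∀ x, 3022 ≤ x → x < 3274 → cFi23a.rowOK x = true :=
  VCert.of_range' _ 3022 3274 (by decide +kernel)

theorem cFi23a_ok44 : ∀ x, 11082 ≤ x → x < 11334 → cFi23a.rowOK x = true :=
  VCert.of_range' _ 11082 11334 (by decide +kernel)

theorem cFi23a_ok76 : ∀ x, 19142 ≤ x → x < 19394 → cFi23a.rowOK x = true :=
  VCert.of_range' _ 19142 19394 (by decide +kernel)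

theorem cFi23a_ok108 : ∀ x, 27202 ≤ x → x < 27454 → cFi23a.rowOK x = true :=
  VCert.of_range' _ 27202 27454 (by decide +kernel)

theorem cFi23a_ok140 : ∀ x, 35263 ≤ x → x < 35514 → cFi23a.rowOK x = true :=
  VCert.of_range' _ 35263 35514 (by decide +kernel)

theorem cFi23a_ok172 : ∀ x, 43323 ≤ x → x < 43575 → cFi23a.rowOK x = true :=
  VCert.of_range' _ 43323 43575 (by decide +kernel)

theorem cFi23a_ok204 : ∀ x, 51383 ≤ x → x < 51635 → cFi23a.rowOK x = true :=
  VCert.of_range' _ 51383 51635 (by decide +kernel)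

theorem cFi23a_ok236 : ∀ x, 59443 ≤ x → x < 59695 → cFi23a.rowOK x = true :=
  VCert.of_range' _ 59443 59695 (by decide +kernel)

theorem cFi23a_act12 : ∀ x, 1484 ≤ x → x < 1608 → cFi23a.actRow x = true :=
  VCert.of_range' _ 1484 1608 (by decide +kernel)

theorem cFi23a_act44 : ∀ x, 5443 ≤ x → x < 5567 → cFi23a.actRow x = true :=
  VCert.of_range' _ 5443 5567 (by decide +kernel)

theorem cFi23a_act76 : ∀ x, 9402 ≤ x → x < 9526 → cFi23a.actRow x = true :=
  VCert.of_range' _ 9402 9526 (by decide +kernel)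

theorem cFi23a_act108 : ∀ x, 13361 ≤ x → x < 13484 → cFi23a.actRow x = true :=
  VCert.of_range' _ 13361 13484 (by decide +kernel)

theorem cFi23a_act140 : ∀ x, 17320 ≤ x → x < 17443 → cFi23a.actRow x = true :=
  VCert.of_range' _ 17320 17443 (by decide +kernel)

theorem cFi23a_act172 : ∀ x, 21278 ≤ x → x < 21402 → cFi23a.actRow x = true :=
  VCert.of_range' _ 21278 21402 (by decide +kernel)

theorem cFi23a_act204 : ∀ x, 25237 ≤ x → x < 25361 → cFi23a.actRow x = true :=
  VCert.of_range' _ 25237 25361 (by decide +kernel)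

theorem cFi23a_act236 : ∀ x, 29196 ≤ x → x < 29320 → cFi23a.actRow x = true :=
  VCert.of_range' _ 29196 29320 (by decide +kernel)


end Cfsg.Agent.Lib.Lead.VTC
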