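import Cfsg.Agent.Lib.Lead.VTCFi23a

set_option autoImplicit false
set_option maxRecDepth 100000

namespace Cfsg.Agent.Lib.Lead.VTC

theorem cFi23a_ok13 : ∀ x, 3274 ≤ x → x < 3526 → cFi23a.rowOK x = true :=
  VCert.of_range' _ 3274 3526 (by decide +kernel)

theorem cFi23a_ok45 : ∀ x, 11334 ≤ x → x < 11586 → cFi23a.rowOK x = true :=
  VCert.of_range' _ 11334 11586 (by decide +kernel)

theorem cFi23a_ok77 : ∀ x, 19394 ≤ x → x < 19646 → cFi23a.rowOK x = true :=
  VCert.of_range' _ 19394 19646 (by decide +kernel)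

theorem cFi23a_ok109 : ∀ x, 27454 ≤ x → x < 27706 → cFi23a.rowOK x = true :=
  VCert.of_range' _ 27454 27706 (by decide +kernel)

theorem cFi23a_ok141 : ∀ x, 35514 ≤ x → x < 35766 → cFi23a.rowOK x = true :=
  VCert.of_range' _ 35514 35766 (by decide +kernel)

theorem cFi23a_ok173 : ∀ x, 43575 ≤ x → x < 43826 → cFi23a.rowOK x = true :=
  VCert.of_range' _ 43575 43826 (by decide +kernel)

theorem cFi23a_ok205 : ∀ x, 51635 ≤ x → x < 51887 → cFi23a.rowOK x = true :=
  VCert.of_range' _ 51635 51887 (by decide +kernel)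

theorem cFi23a_ok237 : ∀ x, 59695 ≤ x → x < 59947 → cFi23a.rowOK x = true :=
  VCert.of_range' _ 59695 59947 (by decide +kernel)

theorem cFi23a_act13 : ∀ x, 1608 ≤ x → x < 1732 → cFi23a.actRow x = true :=
  VCert.of_range' _ 1608 1732 (by decide +kernel)

theorem cFi23a_act45 : ∀ x, 5567 ≤ x → x < 5690 → cFi23a.actRow x = true :=
  VCert.of_range' _ 5567 5690 (by decide +kernel)

theorem cFi23a_act77 : ∀ x, 9526 ≤ x → x < 9649 → cFi23a.actRow x = true :=
  VCert.of_range' _ 9526 9649 (by decide +kernel)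

theorem cFi23a_act109 : ∀ x, 13484 ≤ x → x < 13608 → cFi23a.actRow x = true :=
  VCert.of_range' _ 13484 13608 (by decide +kernel)

theorem cFi23a_act141 : ∀ x, 17443 ≤ x → x < 17567 → cFi23a.actRow x = true :=
  VCert.of_range' _ 17443 17567 (by decide +kernel)

theorem cFi23a_act173 : ∀ x, 21402 ≤ x → x < 21526 → cFi23a.actRow x = true :=
  VCert.of_range' _ 21402 21526 (by decide +kernel)

theorem cFi23a_act205 : ∀ x, 25361 ≤ x → x < 25485 → cFi23a.actRow x = true :=
  VCert.of_range' _ 25361 25485 (by decide +kernel)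

theorem cFi23a_act237 : ∀ x, 29320 ≤ x → x < 29444 → cFi23a.actRow x = true :=
  VCert.of_range' _ 29320 29444 (by decide +kernel)


end Cfsg.Agent.Lib.Lead.VTC
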