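import Cfsg.Agent.Lib.Lead.VTCFi23a

set_option autoImplicit false
set_option maxRecDepth 100000

namespace Cfsg.Agent.Lib.Lead.VTC

theorem cFi23a_ok14 : ∀ x, 3526 ≤ x → x < 3778 → cFi23a.rowOK x = true :=
  VCert.of_range' _ 3526 3778 (by decide +kernel)

theorem cFi23a_ok46 : ∀ x, 11586 ≤ x → x < 11838 → cFi23a.rowOK x = true :=
  VCert.of_range' _ 11586 11838 (by decide +kernel)

theorem cFi23a_ok78 : ∀ x, 19646 ≤ x → x < 19898 → cFi23a.rowOK x = true :=
  VCert.of_range' _ 19646 19898 (by decide +kernel)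

theorem cFi23a_ok110 : ∀ x, 27706 ≤ x → x < 27958 → cFi23a.rowOK x = true :=
  VCert.of_range' _ 27706 27958 (by decide +kernel)

theorem cFi23a_ok142 : ∀ x, 35766 ≤ x → x < 36018 → cFi23a.rowOK x = true :=
  VCert.of_range' _ 35766 36018 (by decide +kernel)

theorem cFi23a_ok174 : ∀ x, 43826 ≤ x → x < 44078 → cFi23a.rowOK x = true :=
  VCert.of_range' _ 43826 44078 (by decide +kernel)

theorem cFi23a_ok206 : ∀ x, 51887 ≤ x → x < 52138 → cFi23a.rowOK x = true :=
  VCert.of_range' _ 51887 52138 (by decide +kernel)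

theorem cFi23a_ok238 : ∀ x, 59947 ≤ x → x < 60199 → cFi23a.rowOK x = true :=
  VCert.of_range' _ 59947 60199 (by decide +kernel)

theorem cFi23a_act14 : ∀ x, 1732 ≤ x → x < 1855 → cFi23a.actRow x = true :=
  VCert.of_range' _ 1732 1855 (by decide +kernel)

theorem cFi23a_act46 : ∀ x, 5690 ≤ x → x < 5814 → cFi23a.actRow x = true :=
  VCert.of_range' _ 5690 5814 (by decide +kernel)

theorem cFi23a_act78 : ∀ x, 9649 ≤ x → x < 9773 → cFi23a.actRow x = true :=
  VCert.of_range' _ 9649 9773 (by decide +kernel)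

theorem cFi23a_act110 : ∀ x, 13608 ≤ x → x < 13732 → cFi23a.actRow x = true :=
  VCert.of_range' _ 13608 13732 (by decide +kernel)

theorem cFi23a_act142 : ∀ x, 17567 ≤ x → x < 17691 → cFi23a.actRow x = true :=
  VCert.of_range' _ 17567 17691 (by decide +kernel)

theorem cFi23a_act174 : ∀ x, 21526 ≤ x → x < 21650 → cFi23a.actRow x = true :=
  VCert.of_range' _ 21526 21650 (by decide +kernel)

theorem cFi23a_act206 : ∀ x, 25485 ≤ x → x < 25608 → cFi23a.actRow x = true :=
  VCert.of_range' _ 25485 25608 (by decide +kernel)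

theorem cFi23a_act238 : ∀ x, 29444 ≤ x → x < 29567 → cFi23a.actRow x = true :=
  VCert.of_range' _ 29444 29567 (by decide +kernel)


end Cfsg.Agent.Lib.Lead.VTC
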