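import Cfsg.Agent.Lib.Lead.VTCFi23a

set_option autoImplicit false
set_option maxRecDepth 100000

namespace Cfsg.Agent.Lib.Lead.VTC

theorem cFi23a_ok15 : ∀ x, 3778 ≤ x → x < 4030 → cFi23a.rowOK x = true :=
  VCert.of_range' _ 3778 4030 (by decide +kernel)

theorem cFi23a_ok47 : ∀ x, 11838 ≤ x → x < 12090 → cFi23a.rowOK x = true :=
  VCert.of_range' _ 11838 12090 (by decide +kernel)

theorem cFi23a_ok79 : ∀ x, 19898 ≤ x → x < 20150 → cFi23a.rowOK x = true :=
  VCert.of_range' _ 19898 20150 (by decide +kernel)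

theorem cFi23a_ok111 : ∀ x, 27958 ≤ x → x < 28210 → cFi23a.rowOK x = true :=
  VCert.of_range' _ 27958 28210 (by decide +kernel)

theorem cFi23a_ok143 : ∀ x, 36018 ≤ x → x < 36270 → cFi23a.rowOK x = true :=
  VCert.of_range' _ 36018 36270 (by decide +kernel)

theorem cFi23a_ok175 : ∀ x, 44078 ≤ x → x < 44330 → cFi23a.rowOK x = true :=
  VCert.of_range' _ 44078 44330 (by decide +kernel)

theorem cFi23a_ok207 : ∀ x, 52138 ≤ x → x < 52390 → cFi23a.rowOK x = true :=
  VCert.of_range' _ 52138 52390 (by decide +kernel)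

theorem cFi23a_ok239 : ∀ x, 60199 ≤ x → x < 60450 → cFi23a.rowOK x = true :=
  VCert.of_range' _ 60199 60450 (by decide +kernel)

theorem cFi23a_act15 : ∀ x, 1855 ≤ x → x < 1979 → cFi23a.actRow x = true :=
  VCert.of_range' _ 1855 1979 (by decide +kernel)

theorem cFi23a_act47 : ∀ x, 5814 ≤ x → x < 5938 → cFi23a.actRow x = true :=
  VCert.of_range' _ 5814 5938 (by decide +kernel)

theorem cFi23a_act79 : ∀ x, 9773 ≤ x → x < 9897 → cFi23a.actRow x = true :=
  VCert.of_range' _ 9773 9897 (by decide +kernel)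

theorem cFi23a_act111 : ∀ x, 13732 ≤ x → x < 13856 → cFi23a.actRow x = true :=
  VCert.of_range' _ 13732 13856 (by decide +kernel)

theorem cFi23a_act143 : ∀ x, 17691 ≤ x → x < 17814 → cFi23a.actRow x = true :=
  VCert.of_range' _ 17691 17814 (by decide +kernel)

theorem cFi23a_act175 : ∀ x, 21650 ≤ x → x < 21773 → cFi23a.actRow x = true :=
  VCert.of_range' _ 21650 21773 (by decide +kernel)

theorem cFi23a_act207 : ∀ x, 25608 ≤ x → x < 25732 → cFi23a.actRow x = true :=
  VCert.of_range' _ 25608 25732 (by decide +kernel)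

theorem cFi23a_act239 : ∀ x, 29567 ≤ x → x < 29691 → cFi23a.actRow x = true :=
  VCert.of_range' _ 29567 29691 (by decide +kernel)


end Cfsg.Agent.Lib.Lead.VTC
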