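import Cfsg.Agent.Lib.Lead.VTCFi23a

set_option autoImplicit false
set_option maxRecDepth 100000

namespace Cfsg.Agent.Lib.Lead.VTC

theorem cFi23a_ok16 : ∀ x, 4030 ≤ x → x < 4281 → cFi23a.rowOK x = true :=
  VCert.of_range' _ 4030 4281 (by decide +kernel)

theorem cFi23a_ok48 : ∀ x, 12090 ≤ x → x < 12342 → cFi23a.rowOK x = true :=
  VCert.of_range' _ 12090 12342 (by decide +kernel)

theorem cFi23a_ok80 : ∀ x, 20150 ≤ x → x < 20402 → cFi23a.rowOK x = true :=
  VCert.of_range' _ 20150 20402 (by decide +kernel)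

theorem cFi23a_ok112 : ∀ x, 28210 ≤ x → x < 28462 → cFi23a.rowOK x = true :=
  VCert.of_range' _ 28210 28462 (by decide +kernel)

theorem cFi23a_ok144 : ∀ x, 36270 ≤ x → x < 36522 → cFi23a.rowOK x = true :=
  VCert.of_range' _ 36270 36522 (by decide +kernel)

theorem cFi23a_ok176 : ∀ x, 44330 ≤ x → x < 44582 → cFi23a.rowOK x = true :=
  VCert.of_range' _ 44330 44582 (by decide +kernel)

theorem cFi23a_ok208 : ∀ x, 52390 ≤ x → x < 52642 → cFi23a.rowOK x = true :=
  VCert.of_range' _ 52390 52642 (by decide +kernel)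

theorem cFi23a_ok240 : ∀ x, 60450 ≤ x → x < 60702 → cFi23a.rowOK x = true :=
  VCert.of_range' _ 60450 60702 (by decide +kernel)

theorem cFi23a_act16 : ∀ x, 1979 ≤ x → x < 2103 → cFi23a.actRow x = true :=
  VCert.of_range' _ 1979 2103 (by decide +kernel)

theorem cFi23a_act48 : ∀ x, 5938 ≤ x → x < 6062 → cFi23a.actRow x = true :=
  VCert.of_range' _ 5938 6062 (by decide +kernel)

theorem cFi23a_act80 : ∀ x, 9897 ≤ x → x < 10020 → cFi23a.actRow x = true :=
  VCert.of_range' _ 9897 10020 (by decide +kernel)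

theorem cFi23a_act112 : ∀ x, 13856 ≤ x → x < 13979 → cFi23a.actRow x = true :=
  VCert.of_range' _ 13856 13979 (by decide +kernel)

theorem cFi23a_act144 : ∀ x, 17814 ≤ x → x < 17938 → cFi23a.actRow x = true :=
  VCert.of_range' _ 17814 17938 (by decide +kernel)

theorem cFi23a_act176 : ∀ x, 21773 ≤ x → x < 21897 → cFi23a.actRow x = true :=
  VCert.of_range' _ 21773 21897 (by decide +kernel)

theorem cFi23a_act208 : ∀ x, 25732 ≤ x → x < 25856 → cFi23a.actRow x = true :=
  VCert.of_range' _ 25732 25856 (by decide +kernel)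

theorem cFi23a_act240 : ∀ x, 29691 ≤ x → x < 29815 → cFi23a.actRow x = true :=
  VCert.of_range' _ 29691 29815 (by decide +kernel)


end Cfsg.Agent.Lib.Lead.VTC
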