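import Cfsg.Agent.Lib.Lead.VTCFi23a

set_option autoImplicit false
set_option maxRecDepth 100000

namespace Cfsg.Agent.Lib.Lead.VTC

theorem cFi23a_ok17 : ∀ x, 4281 ≤ x → x < 4533 → cFi23a.rowOK x = true :=
  VCert.of_range' _ 4281 4533 (by decide +kernel)

theorem cFi23a_ok49 : ∀ x, 12342 ≤ x → x < 12593 → cFi23a.rowOK x = true :=
  VCert.of_range' _ 12342 12593 (by decide +kernel)

theorem cFi23a_ok81 : ∀ x, 20402 ≤ x → x < 20654 → cFi23a.rowOK x = true :=
  VCert.of_range' _ 20402 20654 (by decide +kernel)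

theorem cFi23a_ok113 : ∀ x, 28462 ≤ x → x < 28714 → cFi23a.rowOK x = true :=
  VCert.of_range' _ 28462 28714 (by decide +kernel)

theorem cFi23a_ok145 : ∀ x, 36522 ≤ x → x < 36774 → cFi23a.rowOK x = true :=
  VCert.of_range' _ 36522 36774 (by decide +kernel)

theorem cFi23a_ok177 : ∀ x, 44582 ≤ x → x < 44834 → cFi23a.rowOK x = true :=
  VCert.of_range' _ 44582 44834 (by decide +kernel)

theorem cFi23a_ok209 : ∀ x, 52642 ≤ x → x < 52894 → cFi23a.rowOK x = true :=
  VCert.of_range' _ 52642 52894 (by decide +kernel)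

theorem cFi23a_ok241 : ∀ x, 60702 ≤ x → x < 60954 → cFi23a.rowOK x = true :=
  VCert.of_range' _ 60702 60954 (by decide +kernel)

theorem cFi23a_act17 : ∀ x, 2103 ≤ x → x < 2226 → cFi23a.actRow x = true :=
  VCert.of_range' _ 2103 2226 (by decide +kernel)

theorem cFi23a_act49 : ∀ x, 6062 ≤ x → x < 6185 → cFi23a.actRow x = true :=
  VCert.of_range' _ 6062 6185 (by decide +kernel)

theorem cFi23a_act81 : ∀ x, 10020 ≤ x → x < 10144 → cFi23a.actRow x = true :=
  VCert.of_range' _ 10020 10144 (by decide +kernel)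

theorem cFi23a_act113 : ∀ x, 13979 ≤ x → x < 14103 → cFi23a.actRow x = true :=
  VCert.of_range' _ 13979 14103 (by decide +kernel)

theorem cFi23a_act145 : ∀ x, 17938 ≤ x → x < 18062 → cFi23a.actRow x = true :=
  VCert.of_range' _ 17938 18062 (by decide +kernel)

theorem cFi23a_act177 : ∀ x, 21897 ≤ x → x < 22021 → cFi23a.actRow x = true :=
  VCert.of_range' _ 21897 22021 (by decide +kernel)

theorem cFi23a_act209 : ∀ x, 25856 ≤ x → x < 25980 → cFi23a.actRow x = true :=
  VCert.of_range' _ 25856 25980 (by decide +kernel)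

theorem cFi23a_act241 : ∀ x, 29815 ≤ x → x < 29938 → cFi23a.actRow x = true :=
  VCert.of_range' _ 29815 29938 (by decide +kernel)


end Cfsg.Agent.Lib.Lead.VTC
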