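import Cfsg.Agent.Lib.Lead.VTCFi23a

set_option autoImplicit false
set_option maxRecDepth 100000

namespace Cfsg.Agent.Lib.Lead.VTC

theorem cFi23a_ok18 : ∀ x, 4533 ≤ x → x < 4785 → cFi23a.rowOK x = true :=
  VCert.of_range' _ 4533 4785 (by decide +kernel)

theorem cFi23a_ok50 : ∀ x, 12593 ≤ x → x < 12845 → cFi23a.rowOK x = true :=
  VCert.of_range' _ 12593 12845 (by decide +kernel)

theorem cFi23a_ok82 : ∀ x, 20654 ≤ x → x < 20905 → cFi23a.rowOK x = true :=
  VCert.of_range' _ 20654 20905 (by decide +kernel)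

theorem cFi23a_ok114 : ∀ x, 28714 ≤ x → x < 28966 → cFi23a.rowOK x = true :=
  VCert.of_range' _ 28714 28966 (by decide +kernel)

theorem cFi23a_ok146 : ∀ x, 36774 ≤ x → x < 37026 → cFi23a.rowOK x = true :=
  VCert.of_range' _ 36774 37026 (by decide +kernel)

theorem cFi23a_ok178 : ∀ x, 44834 ≤ x → x < 45086 → cFi23a.rowOK x = true :=
  VCert.of_range' _ 44834 45086 (by decide +kernel)

theorem cFi23a_ok210 : ∀ x, 52894 ≤ x → x < 53146 → cFi23a.rowOK x = true :=
  VCert.of_range' _ 52894 53146 (by decide +kernel)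

theorem cFi23a_ok242 : ∀ x, 60954 ≤ x → x < 61206 → cFi23a.rowOK x = true :=
  VCert.of_range' _ 60954 61206 (by decide +kernel)

theorem cFi23a_act18 : ∀ x, 2226 ≤ x → x < 2350 → cFi23a.actRow x = true :=
  VCert.of_range' _ 2226 2350 (by decide +kernel)

theorem cFi23a_act50 : ∀ x, 6185 ≤ x → x < 6309 → cFi23a.actRow x = true :=
  VCert.of_range' _ 6185 6309 (by decide +kernel)

theorem cFi23a_act82 : ∀ x, 10144 ≤ x → x < 10268 → cFi23a.actRow x = true :=
  VCert.of_range' _ 10144 10268 (by decide +kernel)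

theorem cFi23a_act114 : ∀ x, 14103 ≤ x → x < 14227 → cFi23a.actRow x = true :=
  VCert.of_range' _ 14103 14227 (by decide +kernel)

theorem cFi23a_act146 : ∀ x, 18062 ≤ x → x < 18186 → cFi23a.actRow x = true :=
  VCert.of_range' _ 18062 18186 (by decide +kernel)

theorem cFi23a_act178 : ∀ x, 22021 ≤ x → x < 22144 → cFi23a.actRow x = true :=
  VCert.of_range' _ 22021 22144 (by decide +kernel)

theorem cFi23a_act210 : ∀ x, 25980 ≤ x → x < 26103 → cFi23a.actRow x = true :=
  VCert.of_range' _ 25980 26103 (by decide +kernel)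

theorem cFi23a_act242 : ∀ x, 29938 ≤ x → x < 30062 → cFi23a.actRow x = true :=
  VCert.of_range' _ 29938 30062 (by decide +kernel)


end Cfsg.Agent.Lib.Lead.VTC
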