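import Cfsg.Agent.Lib.Lead.VTCFi23a

set_option autoImplicit false
set_option maxRecDepth 100000

namespace Cfsg.Agent.Lib.Lead.VTC

theorem cFi23a_ok19 : ∀ x, 4785 ≤ x → x < 5037 → cFi23a.rowOK x = true :=
  VCert.of_range' _ 4785 5037 (by decide +kernel)

theorem cFi23a_ok51 : ∀ x, 12845 ≤ x → x < 13097 → cFi23a.rowOK x = true :=
  VCert.of_range' _ 12845 13097 (by decide +kernel)

theorem cFi23a_ok83 : ∀ x, 20905 ≤ x → x < 21157 → cFi23a.rowOK x = true :=
  VCert.of_range' _ 20905 21157 (by decide +kernel)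

theorem cFi23a_ok115 : ∀ x, 28966 ≤ x → x < 29217 → cFi23a.rowOK x = true :=
  VCert.of_range' _ 28966 29217 (by decide +kernel)

theorem cFi23a_ok147 : ∀ x, 37026 ≤ x → x < 37278 → cFi23a.rowOK x = true :=
  VCert.of_range' _ 37026 37278 (by decide +kernel)

theorem cFi23a_ok179 : ∀ x, 45086 ≤ x → x < 45338 → cFi23a.rowOK x = true :=
  VCert.of_range' _ 45086 45338 (by decide +kernel)

theorem cFi23a_ok211 : ∀ x, 53146 ≤ x → x < 53398 → cFi23a.rowOK x = true :=
  VCert.of_range' _ 53146 53398 (by decide +kernel)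

theorem cFi23a_ok243 : ∀ x, 61206 ≤ x → x < 61458 → cFi23a.rowOK x = true :=
  VCert.of_range' _ 61206 61458 (by decide +kernel)

theorem cFi23a_act19 : ∀ x, 2350 ≤ x → x < 2474 → cFi23a.actRow x = true :=
  VCert.of_range' _ 2350 2474 (by decide +kernel)

theorem cFi23a_act51 : ∀ x, 6309 ≤ x → x < 6433 → cFi23a.actRow x = true :=
  VCert.of_range' _ 6309 6433 (by decide +kernel)

theorem cFi23a_act83 : ∀ x, 10268 ≤ x → x < 10392 → cFi23a.actRow x = true :=
  VCert.of_range' _ 10268 10392 (by decide +kernel)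

theorem cFi23a_act115 : ∀ x, 14227 ≤ x → x < 14350 → cFi23a.actRow x = true :=
  VCert.of_range' _ 14227 14350 (by decide +kernel)

theorem cFi23a_act147 : ∀ x, 18186 ≤ x → x < 18309 → cFi23a.actRow x = true :=
  VCert.of_range' _ 18186 18309 (by decide +kernel)

theorem cFi23a_act179 : ∀ x, 22144 ≤ x → x < 22268 → cFi23a.actRow x = true :=
  VCert.of_range' _ 22144 22268 (by decide +kernel)

theorem cFi23a_act211 : ∀ x, 26103 ≤ x → x < 26227 → cFi23a.actRow x = true :=
  VCert.of_range' _ 26103 26227 (by decide +kernel)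

theorem cFi23a_act243 : ∀ x, 30062 ≤ x → x < 30186 → cFi23a.actRow x = true :=
  VCert.of_range' _ 30062 30186 (by decide +kernel)


end Cfsg.Agent.Lib.Lead.VTC
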