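import Cfsg.Agent.Lib.Lead.VTCFi23a

set_option autoImplicit false
set_option maxRecDepth 100000

namespace Cfsg.Agent.Lib.Lead.VTC

theorem cFi23a_ok2 : ∀ x, 503 ≤ x → x < 755 → cFi23a.rowOK x = true :=
  VCert.of_range' _ 503 755 (by decide +kernel)

theorem cFi23a_ok34 : ∀ x, 8563 ≤ x → x < 8815 → cFi23a.rowOK x = true :=
  VCert.of_range' _ 8563 8815 (by decide +kernel)

theorem cFi23a_ok66 : ∀ x, 16624 ≤ x → x < 16875 → cFi23a.rowOK x = true :=
  VCert.of_range' _ 16624 16875 (by decide +kernel)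

theorem cFi23a_ok98 : ∀ x, 24684 ≤ x → x < 24936 → cFi23a.rowOK x = true :=
  VCert.of_range' _ 24684 24936 (by decide +kernel)

theorem cFi23a_ok130 : ∀ x, 32744 ≤ x → x < 32996 → cFi23a.rowOK x = true :=
  VCert.of_range' _ 32744 32996 (by decide +kernel)

theorem cFi23a_ok162 : ∀ x, 40804 ≤ x → x < 41056 → cFi23a.rowOK x = true :=
  VCert.of_range' _ 40804 41056 (by decide +kernel)

theorem cFi23a_ok194 : ∀ x, 48864 ≤ x → x < 49116 → cFi23a.rowOK x = true :=
  VCert.of_range' _ 48864 49116 (by decide +kernel)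

theorem cFi23a_ok226 : ∀ x, 56924 ≤ x → x < 57176 → cFi23a.rowOK x = true :=
  VCert.of_range' _ 56924 57176 (by decide +kernel)

theorem cFi23a_act2 : ∀ x, 247 ≤ x → x < 371 → cFi23a.actRow x = true :=
  VCert.of_range' _ 247 371 (by decide +kernel)

theorem cFi23a_act34 : ∀ x, 4206 ≤ x → x < 4330 → cFi23a.actRow x = true :=
  VCert.of_range' _ 4206 4330 (by decide +kernel)

theorem cFi23a_act66 : ∀ x, 8165 ≤ x → x < 8288 → cFi23a.actRow x = true :=
  VCert.of_range' _ 8165 8288 (by decide +kernel)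

theorem cFi23a_act98 : ∀ x, 12124 ≤ x → x < 12247 → cFi23a.actRow x = true :=
  VCert.of_range' _ 12124 12247 (by decide +kernel)

theorem cFi23a_act130 : ∀ x, 16082 ≤ x → x < 16206 → cFi23a.actRow x = true :=
  VCert.of_range' _ 16082 16206 (by decide +kernel)

theorem cFi23a_act162 : ∀ x, 20041 ≤ x → x < 20165 → cFi23a.actRow x = true :=
  VCert.of_range' _ 20041 20165 (by decide +kernel)

theorem cFi23a_act194 : ∀ x, 24000 ≤ x → x < 24124 → cFi23a.actRow x = true :=
  VCert.of_range' _ 24000 24124 (by decide +kernel)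

theorem cFi23a_act226 : ∀ x, 27959 ≤ x → x < 28083 → cFi23a.actRow x = true :=
  VCert.of_range' _ 27959 28083 (by decide +kernel)


end Cfsg.Agent.Lib.Lead.VTC
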