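import Cfsg.Agent.Lib.Lead.VTCFi23a

set_option autoImplicit false
set_option maxRecDepth 100000

namespace Cfsg.Agent.Lib.Lead.VTC

theorem cFi23a_ok20 : ∀ x, 5037 ≤ x → x < 5289 → cFi23a.rowOK x = true :=
  VCert.of_range' _ 5037 5289 (by decide +kernel)

theorem cFi23a_ok52 : ∀ x, 13097 ≤ x → x < 13349 → cFi23a.rowOK x = true :=
  VCert.of_range' _ 13097 13349 (by decide +kernel)

theorem cFi23a_ok84 : ∀ x, 21157 ≤ x → x < 21409 → cFi23a.rowOK x = true :=
  VCert.of_range' _ 21157 21409 (by decide +kernel)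

theorem cFi23a_ok116 : ∀ x, 29217 ≤ x → x < 29469 → cFi23a.rowOK x = true :=
  VCert.of_range' _ 29217 29469 (by decide +kernel)

theorem cFi23a_ok148 : ∀ x, 37278 ≤ x → x < 37529 → cFi23a.rowOK x = true :=
  VCert.of_range' _ 37278 37529 (by decide +kernel)

theorem cFi23a_ok180 : ∀ x, 45338 ≤ x → x < 45590 → cFi23a.rowOK x = true :=
  VCert.of_range' _ 45338 45590 (by decide +kernel)

theorem cFi23a_ok212 : ∀ x, 53398 ≤ x → x < 53650 → cFi23a.rowOK x = true :=
  VCert.of_range' _ 53398 53650 (by decide +kernel)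

theorem cFi23a_ok244 : ∀ x, 61458 ≤ x → x < 61710 → cFi23a.rowOK x = true :=
  VCert.of_range' _ 61458 61710 (by decide +kernel)

theorem cFi23a_act20 : ∀ x, 2474 ≤ x → x < 2598 → cFi23a.actRow x = true :=
  VCert.of_range' _ 2474 2598 (by decide +kernel)

theorem cFi23a_act52 : ∀ x, 6433 ≤ x → x < 6556 → cFi23a.actRow x = true :=
  VCert.of_range' _ 6433 6556 (by decide +kernel)

theorem cFi23a_act84 : ∀ x, 10392 ≤ x → x < 10515 → cFi23a.actRow x = true :=
  VCert.of_range' _ 10392 10515 (by decide +kernel)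

theorem cFi23a_act116 : ∀ x, 14350 ≤ x → x < 14474 → cFi23a.actRow x = true :=
  VCert.of_range' _ 14350 14474 (by decide +kernel)

theorem cFi23a_act148 : ∀ x, 18309 ≤ x → x < 18433 → cFi23a.actRow x = true :=
  VCert.of_range' _ 18309 18433 (by decide +kernel)

theorem cFi23a_act180 : ∀ x, 22268 ≤ x → x < 22392 → cFi23a.actRow x = true :=
  VCert.of_range' _ 22268 22392 (by decide +kernel)

theorem cFi23a_act212 : ∀ x, 26227 ≤ x → x < 26351 → cFi23a.actRow x = true :=
  VCert.of_range' _ 26227 26351 (by decide +kernel)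

theorem cFi23a_act244 : ∀ x, 30186 ≤ x → x < 30310 → cFi23a.actRow x = true :=
  VCert.of_range' _ 30186 30310 (by decide +kernel)


end Cfsg.Agent.Lib.Lead.VTC
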