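import Cfsg.Agent.Lib.Lead.VTCFi23a

set_option autoImplicit false
set_option maxRecDepth 100000

namespace Cfsg.Agent.Lib.Lead.VTC

theorem cFi23a_ok21 : ∀ x, 5289 ≤ x → x < 5541 → cFi23a.rowOK x = true :=
  VCert.of_range' _ 5289 5541 (by decide +kernel)

theorem cFi23a_ok53 : ∀ x, 13349 ≤ x → x < 13601 → cFi23a.rowOK x = true :=
  VCert.of_range' _ 13349 13601 (by decide +kernel)

theorem cFi23a_ok85 : ∀ x, 21409 ≤ x → x < 21661 → cFi23a.rowOK x = true :=
  VCert.of_range' _ 21409 21661 (by decide +kernel)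

theorem cFi23a_ok117 : ∀ x, 29469 ≤ x → x < 29721 → cFi23a.rowOK x = true :=
  VCert.of_range' _ 29469 29721 (by decide +kernel)

theorem cFi23a_ok149 : ∀ x, 37529 ≤ x → x < 37781 → cFi23a.rowOK x = true :=
  VCert.of_range' _ 37529 37781 (by decide +kernel)

theorem cFi23a_ok181 : ∀ x, 45590 ≤ x → x < 45841 → cFi23a.rowOK x = true :=
  VCert.of_range' _ 45590 45841 (by decide +kernel)

theorem cFi23a_ok213 : ∀ x, 53650 ≤ x → x < 53902 → cFi23a.rowOK x = true :=
  VCert.of_range' _ 53650 53902 (by decide +kernel)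

theorem cFi23a_ok245 : ∀ x, 61710 ≤ x → x < 61962 → cFi23a.rowOK x = true :=
  VCert.of_range' _ 61710 61962 (by decide +kernel)

theorem cFi23a_act21 : ∀ x, 2598 ≤ x → x < 2721 → cFi23a.actRow x = true :=
  VCert.of_range' _ 2598 2721 (by decide +kernel)

theorem cFi23a_act53 : ∀ x, 6556 ≤ x → x < 6680 → cFi23a.actRow x = true :=
  VCert.of_range' _ 6556 6680 (by decide +kernel)

theorem cFi23a_act85 : ∀ x, 10515 ≤ x → x < 10639 → cFi23a.actRow x = true :=
  VCert.of_range' _ 10515 10639 (by decide +kernel)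

theorem cFi23a_act117 : ∀ x, 14474 ≤ x → x < 14598 → cFi23a.actRow x = true :=
  VCert.of_range' _ 14474 14598 (by decide +kernel)

theorem cFi23a_act149 : ∀ x, 18433 ≤ x → x < 18557 → cFi23a.actRow x = true :=
  VCert.of_range' _ 18433 18557 (by decide +kernel)

theorem cFi23a_act181 : ∀ x, 22392 ≤ x → x < 22516 → cFi23a.actRow x = true :=
  VCert.of_range' _ 22392 22516 (by decide +kernel)

theorem cFi23a_act213 : ∀ x, 26351 ≤ x → x < 26474 → cFi23a.actRow x = true :=
  VCert.of_range' _ 26351 26474 (by decide +kernel)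

theorem cFi23a_act245 : ∀ x, 30310 ≤ x → x < 30433 → cFi23a.actRow x = true :=
  VCert.of_range' _ 30310 30433 (by decide +kernel)


end Cfsg.Agent.Lib.Lead.VTC
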