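import Cfsg.Agent.Lib.Lead.VTCFi23a

set_option autoImplicit false
set_option maxRecDepth 100000

namespace Cfsg.Agent.Lib.Lead.VTC

theorem cFi23a_ok22 : ∀ x, 5541 ≤ x → x < 5793 → cFi23a.rowOK x = true :=
  VCert.of_range' _ 5541 5793 (by decide +kernel)

theorem cFi23a_ok54 : ∀ x, 13601 ≤ x → x < 13853 → cFi23a.rowOK x = true :=
  VCert.of_range' _ 13601 13853 (by decide +kernel)

theorem cFi23a_ok86 : ∀ x, 21661 ≤ x → x < 21913 → cFi23a.rowOK x = true :=
  VCert.of_range' _ 21661 21913 (by decide +kernel)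

theorem cFi23a_ok118 : ∀ x, 29721 ≤ x → x < 29973 → cFi23a.rowOK x = true :=
  VCert.of_range' _ 29721 29973 (by decide +kernel)

theorem cFi23a_ok150 : ∀ x, 37781 ≤ x → x < 38033 → cFi23a.rowOK x = true :=
  VCert.of_range' _ 37781 38033 (by decide +kernel)

theorem cFi23a_ok182 : ∀ x, 45841 ≤ x → x < 46093 → cFi23a.rowOK x = true :=
  VCert.of_range' _ 45841 46093 (by decide +kernel)

theorem cFi23a_ok214 : ∀ x, 53902 ≤ x → x < 54153 → cFi23a.rowOK x = true :=
  VCert.of_range' _ 53902 54153 (by decide +kernel)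

theorem cFi23a_ok246 : ∀ x, 61962 ≤ x → x < 62214 → cFi23a.rowOK x = true :=
  VCert.of_range' _ 61962 62214 (by decide +kernel)

theorem cFi23a_act22 : ∀ x, 2721 ≤ x → x < 2845 → cFi23a.actRow x = true :=
  VCert.of_range' _ 2721 2845 (by decide +kernel)

theorem cFi23a_act54 : ∀ x, 6680 ≤ x → x < 6804 → cFi23a.actRow x = true :=
  VCert.of_range' _ 6680 6804 (by decide +kernel)

theorem cFi23a_act86 : ∀ x, 10639 ≤ x → x < 10763 → cFi23a.actRow x = true :=
  VCert.of_range' _ 10639 10763 (by decide +kernel)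

theorem cFi23a_act118 : ∀ x, 14598 ≤ x → x < 14722 → cFi23a.actRow x = true :=
  VCert.of_range' _ 14598 14722 (by decide +kernel)

theorem cFi23a_act150 : ∀ x, 18557 ≤ x → x < 18680 → cFi23a.actRow x = true :=
  VCert.of_range' _ 18557 18680 (by decide +kernel)

theorem cFi23a_act182 : ∀ x, 22516 ≤ x → x < 22639 → cFi23a.actRow x = true :=
  VCert.of_range' _ 22516 22639 (by decide +kernel)

theorem cFi23a_act214 : ∀ x, 26474 ≤ x → x < 26598 → cFi23a.actRow x = true :=
  VCert.of_range' _ 26474 26598 (by decide +kernel)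

theorem cFi23a_act246 : ∀ x, 30433 ≤ x → x < 30557 → cFi23a.actRow x = true :=
  VCert.of_range' _ 30433 30557 (by decide +kernel)


end Cfsg.Agent.Lib.Lead.VTC
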