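import Cfsg.Agent.Lib.Lead.VTCFi23a

set_option autoImplicit false
set_option maxRecDepth 100000

namespace Cfsg.Agent.Lib.Lead.VTC

theorem cFi23a_ok23 : ∀ x, 5793 ≤ x → x < 6045 → cFi23a.rowOK x = true :=
  VCert.of_range' _ 5793 6045 (by decide +kernel)

theorem cFi23a_ok55 : ∀ x, 13853 ≤ x → x < 14105 → cFi23a.rowOK x = true :=
  VCert.of_range' _ 13853 14105 (by decide +kernel)

theorem cFi23a_ok87 : ∀ x, 21913 ≤ x → x < 22165 → cFi23a.rowOK x = true :=
  VCert.of_range' _ 21913 22165 (by decide +kernel)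

theorem cFi23a_ok119 : ∀ x, 29973 ≤ x → x < 30225 → cFi23a.rowOK x = true :=
  VCert.of_range' _ 29973 30225 (by decide +kernel)

theorem cFi23a_ok151 : ∀ x, 38033 ≤ x → x < 38285 → cFi23a.rowOK x = true :=
  VCert.of_range' _ 38033 38285 (by decide +kernel)

theorem cFi23a_ok183 : ∀ x, 46093 ≤ x → x < 46345 → cFi23a.rowOK x = true :=
  VCert.of_range' _ 46093 46345 (by decide +kernel)

theorem cFi23a_ok215 : ∀ x, 54153 ≤ x → x < 54405 → cFi23a.rowOK x = true :=
  VCert.of_range' _ 54153 54405 (by decide +kernel)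

theorem cFi23a_ok247 : ∀ x, 62214 ≤ x → x < 62465 → cFi23a.rowOK x = true :=
  VCert.of_range' _ 62214 62465 (by decide +kernel)

theorem cFi23a_act23 : ∀ x, 2845 ≤ x → x < 2969 → cFi23a.actRow x = true :=
  VCert.of_range' _ 2845 2969 (by decide +kernel)

theorem cFi23a_act55 : ∀ x, 6804 ≤ x → x < 6928 → cFi23a.actRow x = true :=
  VCert.of_range' _ 6804 6928 (by decide +kernel)

theorem cFi23a_act87 : ∀ x, 10763 ≤ x → x < 10886 → cFi23a.actRow x = true :=
  VCert.of_range' _ 10763 10886 (by decide +kernel)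

theorem cFi23a_act119 : ∀ x, 14722 ≤ x → x < 14845 → cFi23a.actRow x = true :=
  VCert.of_range' _ 14722 14845 (by decide +kernel)

theorem cFi23a_act151 : ∀ x, 18680 ≤ x → x < 18804 → cFi23a.actRow x = true :=
  VCert.of_range' _ 18680 18804 (by decide +kernel)

theorem cFi23a_act183 : ∀ x, 22639 ≤ x → x < 22763 → cFi23a.actRow x = true :=
  VCert.of_range' _ 22639 22763 (by decide +kernel)

theorem cFi23a_act215 : ∀ x, 26598 ≤ x → x < 26722 → cFi23a.actRow x = true :=
  VCert.of_range' _ 26598 26722 (by decide +kernel)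

theorem cFi23a_act247 : ∀ x, 30557 ≤ x → x < 30681 → cFi23a.actRow x = true :=
  VCert.of_range' _ 30557 30681 (by decide +kernel)


end Cfsg.Agent.Lib.Lead.VTC
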