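import Cfsg.Agent.Lib.Lead.VTCFi23a

set_option autoImplicit false
set_option maxRecDepth 100000

namespace Cfsg.Agent.Lib.Lead.VTC

theorem cFi23a_ok24 : ∀ x, 6045 ≤ x → x < 6296 → cFi23a.rowOK x = true :=
  VCert.of_range' _ 6045 6296 (by decide +kernel)

theorem cFi23a_ok56 : ∀ x, 14105 ≤ x → x < 14357 → cFi23a.rowOK x = true :=
  VCert.of_range' _ 14105 14357 (by decide +kernel)

theorem cFi23a_ok88 : ∀ x, 22165 ≤ x → x < 22417 → cFi23a.rowOK x = true :=
  VCert.of_range' _ 22165 22417 (by decide +kernel)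

theorem cFi23a_ok120 : ∀ x, 30225 ≤ x → x < 30477 → cFi23a.rowOK x = true :=
  VCert.of_range' _ 30225 30477 (by decide +kernel)

theorem cFi23a_ok152 : ∀ x, 38285 ≤ x → x < 38537 → cFi23a.rowOK x = true :=
  VCert.of_range' _ 38285 38537 (by decide +kernel)

theorem cFi23a_ok184 : ∀ x, 46345 ≤ x → x < 46597 → cFi23a.rowOK x = true :=
  VCert.of_range' _ 46345 46597 (by decide +kernel)

theorem cFi23a_ok216 : ∀ x, 54405 ≤ x → x < 54657 → cFi23a.rowOK x = true :=
  VCert.of_range' _ 54405 54657 (by decide +kernel)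

theorem cFi23a_ok248 : ∀ x, 62465 ≤ x → x < 62717 → cFi23a.rowOK x = true :=
  VCert.of_range' _ 62465 62717 (by decide +kernel)

theorem cFi23a_act24 : ∀ x, 2969 ≤ x → x < 3092 → cFi23a.actRow x = true :=
  VCert.of_range' _ 2969 3092 (by decide +kernel)

theorem cFi23a_act56 : ∀ x, 6928 ≤ x → x < 7051 → cFi23a.actRow x = true :=
  VCert.of_range' _ 6928 7051 (by decide +kernel)

theorem cFi23a_act88 : ∀ x, 10886 ≤ x → x < 11010 → cFi23a.actRow x = true :=
  VCert.of_range' _ 10886 11010 (by decide +kernel)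

theorem cFi23a_act120 : ∀ x, 14845 ≤ x → x < 14969 → cFi23a.actRow x = true :=
  VCert.of_range' _ 14845 14969 (by decide +kernel)

theorem cFi23a_act152 : ∀ x, 18804 ≤ x → x < 18928 → cFi23a.actRow x = true :=
  VCert.of_range' _ 18804 18928 (by decide +kernel)

theorem cFi23a_act184 : ∀ x, 22763 ≤ x → x < 22887 → cFi23a.actRow x = true :=
  VCert.of_range' _ 22763 22887 (by decide +kernel)

theorem cFi23a_act216 : ∀ x, 26722 ≤ x → x < 26846 → cFi23a.actRow x = true :=
  VCert.of_range' _ 26722 26846 (by decide +kernel)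

theorem cFi23a_act248 : ∀ x, 30681 ≤ x → x < 30804 → cFi23a.actRow x = true :=
  VCert.of_range' _ 30681 30804 (by decide +kernel)


end Cfsg.Agent.Lib.Lead.VTC
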