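import Cfsg.Agent.Lib.Lead.VTCFi23a

set_option autoImplicit false
set_option maxRecDepth 100000

namespace Cfsg.Agent.Lib.Lead.VTC

theorem cFi23a_ok25 : ∀ x, 6296 ≤ x → x < 6548 → cFi23a.rowOK x = true :=
  VCert.of_range' _ 6296 6548 (by decide +kernel)

theorem cFi23a_ok57 : ∀ x, 14357 ≤ x → x < 14608 → cFi23a.rowOK x = true :=
  VCert.of_range' _ 14357 14608 (by decide +kernel)

theorem cFi23a_ok89 : ∀ x, 22417 ≤ x → x < 22669 → cFi23a.rowOK x = true :=
  VCert.of_range' _ 22417 22669 (by decide +kernel)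

theorem cFi23a_ok121 : ∀ x, 30477 ≤ x → x < 30729 → cFi23a.rowOK x = true :=
  VCert.of_range' _ 30477 30729 (by decide +kernel)

theorem cFi23a_ok153 : ∀ x, 38537 ≤ x → x < 38789 → cFi23a.rowOK x = true :=
  VCert.of_range' _ 38537 38789 (by decide +kernel)

theorem cFi23a_ok185 : ∀ x, 46597 ≤ x → x < 46849 → cFi23a.rowOK x = true :=
  VCert.of_range' _ 46597 46849 (by decide +kernel)

theorem cFi23a_ok217 : ∀ x, 54657 ≤ x → x < 54909 → cFi23a.rowOK x = true :=
  VCert.of_range' _ 54657 54909 (by decide +kernel)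

theorem cFi23a_ok249 : ∀ x, 62717 ≤ x → x < 62969 → cFi23a.rowOK x = true :=
  VCert.of_range' _ 62717 62969 (by decide +kernel)

theorem cFi23a_act25 : ∀ x, 3092 ≤ x → x < 3216 → cFi23a.actRow x = true :=
  VCert.of_range' _ 3092 3216 (by decide +kernel)

theorem cFi23a_act57 : ∀ x, 7051 ≤ x → x < 7175 → cFi23a.actRow x = true :=
  VCert.of_range' _ 7051 7175 (by decide +kernel)

theorem cFi23a_act89 : ∀ x, 11010 ≤ x → x < 11134 → cFi23a.actRow x = true :=
  VCert.of_range' _ 11010 11134 (by decide +kernel)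

theorem cFi23a_act121 : ∀ x, 14969 ≤ x → x < 15093 → cFi23a.actRow x = true :=
  VCert.of_range' _ 14969 15093 (by decide +kernel)

theorem cFi23a_act153 : ∀ x, 18928 ≤ x → x < 19052 → cFi23a.actRow x = true :=
  VCert.of_range' _ 18928 19052 (by decide +kernel)

theorem cFi23a_act185 : ∀ x, 22887 ≤ x → x < 23010 → cFi23a.actRow x = true :=
  VCert.of_range' _ 22887 23010 (by decide +kernel)

theorem cFi23a_act217 : ∀ x, 26846 ≤ x → x < 26969 → cFi23a.actRow x = true :=
  VCert.of_range' _ 26846 26969 (by decide +kernel)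

theorem cFi23a_act249 : ∀ x, 30804 ≤ x → x < 30928 → cFi23a.actRow x = true :=
  VCert.of_range' _ 30804 30928 (by decide +kernel)


end Cfsg.Agent.Lib.Lead.VTC
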