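import Cfsg.Agent.Lib.Lead.VTCFi23a

set_option autoImplicit false
set_option maxRecDepth 100000

namespace Cfsg.Agent.Lib.Lead.VTC

theorem cFi23a_ok26 : ∀ x, 6548 ≤ x → x < 6800 → cFi23a.rowOK x = true :=
  VCert.of_range' _ 6548 6800 (by decide +kernel)

theorem cFi23a_ok58 : ∀ x, 14608 ≤ x → x < 14860 → cFi23a.rowOK x = true :=
  VCert.of_range' _ 14608 14860 (by decide +kernel)

theorem cFi23a_ok90 : ∀ x, 22669 ≤ x → x < 22920 → cFi23a.rowOK x = true :=
  VCert.of_range' _ 22669 22920 (by decide +kernel)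

theorem cFi23a_ok122 : ∀ x, 30729 ≤ x → x < 30981 → cFi23a.rowOK x = true :=
  VCert.of_range' _ 30729 30981 (by decide +kernel)

theorem cFi23a_ok154 : ∀ x, 38789 ≤ x → x < 39041 → cFi23a.rowOK x = true :=
  VCert.of_range' _ 38789 39041 (by decide +kernel)

theorem cFi23a_ok186 : ∀ x, 46849 ≤ x → x < 47101 → cFi23a.rowOK x = true :=
  VCert.of_range' _ 46849 47101 (by decide +kernel)

theorem cFi23a_ok218 : ∀ x, 54909 ≤ x → x < 55161 → cFi23a.rowOK x = true :=
  VCert.of_range' _ 54909 55161 (by decide +kernel)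

theorem cFi23a_ok250 : ∀ x, 62969 ≤ x → x < 63221 → cFi23a.rowOK x = true :=
  VCert.of_range' _ 62969 63221 (by decide +kernel)

theorem cFi23a_act26 : ∀ x, 3216 ≤ x → x < 3340 → cFi23a.actRow x = true :=
  VCert.of_range' _ 3216 3340 (by decide +kernel)

theorem cFi23a_act58 : ∀ x, 7175 ≤ x → x < 7299 → cFi23a.actRow x = true :=
  VCert.of_range' _ 7175 7299 (by decide +kernel)

theorem cFi23a_act90 : ∀ x, 11134 ≤ x → x < 11258 → cFi23a.actRow x = true :=
  VCert.of_range' _ 11134 11258 (by decide +kernel)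

theorem cFi23a_act122 : ∀ x, 15093 ≤ x → x < 15216 → cFi23a.actRow x = true :=
  VCert.of_range' _ 15093 15216 (by decide +kernel)

theorem cFi23a_act154 : ∀ x, 19052 ≤ x → x < 19175 → cFi23a.actRow x = true :=
  VCert.of_range' _ 19052 19175 (by decide +kernel)

theorem cFi23a_act186 : ∀ x, 23010 ≤ x → x < 23134 → cFi23a.actRow x = true :=
  VCert.of_range' _ 23010 23134 (by decide +kernel)

theorem cFi23a_act218 : ∀ x, 26969 ≤ x → x < 27093 → cFi23a.actRow x = true :=
  VCert.of_range' _ 26969 27093 (by decide +kernel)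

theorem cFi23a_act250 : ∀ x, 30928 ≤ x → x < 31052 → cFi23a.actRow x = true :=
  VCert.of_range' _ 30928 31052 (by decide +kernel)


end Cfsg.Agent.Lib.Lead.VTC
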