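import Cfsg.Agent.Lib.Lead.VTCFi23a

set_option autoImplicit false
set_option maxRecDepth 100000

namespace Cfsg.Agent.Lib.Lead.VTC

theorem cFi23a_ok27 : ∀ x, 6800 ≤ x → x < 7052 → cFi23a.rowOK x = true :=
  VCert.of_range' _ 6800 7052 (by decide +kernel)

theorem cFi23a_ok59 : ∀ x, 14860 ≤ x → x < 15112 → cFi23a.rowOK x = true :=
  VCert.of_range' _ 14860 15112 (by decide +kernel)

theorem cFi23a_ok91 : ∀ x, 22920 ≤ x → x < 23172 → cFi23a.rowOK x = true :=
  VCert.of_range' _ 22920 23172 (by decide +kernel)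

theorem cFi23a_ok123 : ∀ x, 30981 ≤ x → x < 31232 → cFi23a.rowOK x = true :=
  VCert.of_range' _ 30981 31232 (by decide +kernel)

theorem cFi23a_ok155 : ∀ x, 39041 ≤ x → x < 39293 → cFi23a.rowOK x = true :=
  VCert.of_range' _ 39041 39293 (by decide +kernel)

theorem cFi23a_ok187 : ∀ x, 47101 ≤ x → x < 47353 → cFi23a.rowOK x = true :=
  VCert.of_range' _ 47101 47353 (by decide +kernel)

theorem cFi23a_ok219 : ∀ x, 55161 ≤ x → x < 55413 → cFi23a.rowOK x = true :=
  VCert.of_range' _ 55161 55413 (by decide +kernel)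

theorem cFi23a_ok251 : ∀ x, 63221 ≤ x → x < 63473 → cFi23a.rowOK x = true :=
  VCert.of_range' _ 63221 63473 (by decide +kernel)

theorem cFi23a_act27 : ∀ x, 3340 ≤ x → x < 3464 → cFi23a.actRow x = true :=
  VCert.of_range' _ 3340 3464 (by decide +kernel)

theorem cFi23a_act59 : ∀ x, 7299 ≤ x → x < 7422 → cFi23a.actRow x = true :=
  VCert.of_range' _ 7299 7422 (by decide +kernel)

theorem cFi23a_act91 : ∀ x, 11258 ≤ x → x < 11381 → cFi23a.actRow x = true :=
  VCert.of_range' _ 11258 11381 (by decide +kernel)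

theorem cFi23a_act123 : ∀ x, 15216 ≤ x → x < 15340 → cFi23a.actRow x = true :=
  VCert.of_range' _ 15216 15340 (by decide +kernel)

theorem cFi23a_act155 : ∀ x, 19175 ≤ x → x < 19299 → cFi23a.actRow x = true :=
  VCert.of_range' _ 19175 19299 (by decide +kernel)

theorem cFi23a_act187 : ∀ x, 23134 ≤ x → x < 23258 → cFi23a.actRow x = true :=
  VCert.of_range' _ 23134 23258 (by decide +kernel)

theorem cFi23a_act219 : ∀ x, 27093 ≤ x → x < 27217 → cFi23a.actRow x = true :=
  VCert.of_range' _ 27093 27217 (by decide +kernel)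

theorem cFi23a_act251 : ∀ x, 31052 ≤ x → x < 31176 → cFi23a.actRow x = true :=
  VCert.of_range' _ 31052 31176 (by decide +kernel)


end Cfsg.Agent.Lib.Lead.VTC
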