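import Cfsg.Agent.Lib.Lead.VTCFi23a

set_option autoImplicit false
set_option maxRecDepth 100000

namespace Cfsg.Agent.Lib.Lead.VTC

theorem cFi23a_ok28 : ∀ x, 7052 ≤ x → x < 7304 → cFi23a.rowOK x = true :=
  VCert.of_range' _ 7052 7304 (by decide +kernel)

theorem cFi23a_ok60 : ∀ x, 15112 ≤ x → x < 15364 → cFi23a.rowOK x = true :=
  VCert.of_range' _ 15112 15364 (by decide +kernel)

theorem cFi23a_ok92 : ∀ x, 23172 ≤ x → x < 23424 → cFi23a.rowOK x = true :=
  VCert.of_range' _ 23172 23424 (by decide +kernel)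

theorem cFi23a_ok124 : ∀ x, 31232 ≤ x → x < 31484 → cFi23a.rowOK x = true :=
  VCert.of_range' _ 31232 31484 (by decide +kernel)

theorem cFi23a_ok156 : ∀ x, 39293 ≤ x → x < 39544 → cFi23a.rowOK x = true :=
  VCert.of_range' _ 39293 39544 (by decide +kernel)

theorem cFi23a_ok188 : ∀ x, 47353 ≤ x → x < 47605 → cFi23a.rowOK x = true :=
  VCert.of_range' _ 47353 47605 (by decide +kernel)

theorem cFi23a_ok220 : ∀ x, 55413 ≤ x → x < 55665 → cFi23a.rowOK x = true :=
  VCert.of_range' _ 55413 55665 (by decide +kernel)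

theorem cFi23a_ok252 : ∀ x, 63473 ≤ x → x < 63725 → cFi23a.rowOK x = true :=
  VCert.of_range' _ 63473 63725 (by decide +kernel)

theorem cFi23a_act28 : ∀ x, 3464 ≤ x → x < 3587 → cFi23a.actRow x = true :=
  VCert.of_range' _ 3464 3587 (by decide +kernel)

theorem cFi23a_act60 : ∀ x, 7422 ≤ x → x < 7546 → cFi23a.actRow x = true :=
  VCert.of_range' _ 7422 7546 (by decide +kernel)

theorem cFi23a_act92 : ∀ x, 11381 ≤ x → x < 11505 → cFi23a.actRow x = true :=
  VCert.of_range' _ 11381 11505 (by decide +kernel)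

theorem cFi23a_act124 : ∀ x, 15340 ≤ x → x < 15464 → cFi23a.actRow x = true :=
  VCert.of_range' _ 15340 15464 (by decide +kernel)

theorem cFi23a_act156 : ∀ x, 19299 ≤ x → x < 19423 → cFi23a.actRow x = true :=
  VCert.of_range' _ 19299 19423 (by decide +kernel)

theorem cFi23a_act188 : ∀ x, 23258 ≤ x → x < 23382 → cFi23a.actRow x = true :=
  VCert.of_range' _ 23258 23382 (by decide +kernel)

theorem cFi23a_act220 : ∀ x, 27217 ≤ x → x < 27340 → cFi23a.actRow x = true :=
  VCert.of_range' _ 27217 27340 (by decide +kernel)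

theorem cFi23a_act252 : ∀ x, 31176 ≤ x → x < 31299 → cFi23a.actRow x = true :=
  VCert.of_range' _ 31176 31299 (by decide +kernel)


end Cfsg.Agent.Lib.Lead.VTC
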