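import Cfsg.Agent.Lib.Lead.VTCFi23a

set_option autoImplicit false
set_option maxRecDepth 100000

namespace Cfsg.Agent.Lib.Lead.VTC

theorem cFi23a_ok29 : ∀ x, 7304 ≤ x → x < 7556 → cFi23a.rowOK x = true :=
  VCert.of_range' _ 7304 7556 (by decide +kernel)

theorem cFi23a_ok61 : ∀ x, 15364 ≤ x → x < 15616 → cFi23a.rowOK x = true :=
  VCert.of_range' _ 15364 15616 (by decide +kernel)

theorem cFi23a_ok93 : ∀ x, 23424 ≤ x → x < 23676 → cFi23a.rowOK x = true :=
  VCert.of_range' _ 23424 23676 (by decide +kernel)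

theorem cFi23a_ok125 : ∀ x, 31484 ≤ x → x < 31736 → cFi23a.rowOK x = true :=
  VCert.of_range' _ 31484 31736 (by decide +kernel)

theorem cFi23a_ok157 : ∀ x, 39544 ≤ x → x < 39796 → cFi23a.rowOK x = true :=
  VCert.of_range' _ 39544 39796 (by decide +kernel)

theorem cFi23a_ok189 : ∀ x, 47605 ≤ x → x < 47856 → cFi23a.rowOK x = true :=
  VCert.of_range' _ 47605 47856 (by decide +kernel)

theorem cFi23a_ok221 : ∀ x, 55665 ≤ x → x < 55917 → cFi23a.rowOK x = true :=
  VCert.of_range' _ 55665 55917 (by decide +kernel)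

theorem cFi23a_ok253 : ∀ x, 63725 ≤ x → x < 63977 → cFi23a.rowOK x = true :=
  VCert.of_range' _ 63725 63977 (by decide +kernel)

theorem cFi23a_act29 : ∀ x, 3587 ≤ x → x < 3711 → cFi23a.actRow x = true :=
  VCert.of_range' _ 3587 3711 (by decide +kernel)

theorem cFi23a_act61 : ∀ x, 7546 ≤ x → x < 7670 → cFi23a.actRow x = true :=
  VCert.of_range' _ 7546 7670 (by decide +kernel)

theorem cFi23a_act93 : ∀ x, 11505 ≤ x → x < 11629 → cFi23a.actRow x = true :=
  VCert.of_range' _ 11505 11629 (by decide +kernel)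

theorem cFi23a_act125 : ∀ x, 15464 ≤ x → x < 15588 → cFi23a.actRow x = true :=
  VCert.of_range' _ 15464 15588 (by decide +kernel)

theorem cFi23a_act157 : ∀ x, 19423 ≤ x → x < 19546 → cFi23a.actRow x = true :=
  VCert.of_range' _ 19423 19546 (by decide +kernel)

theorem cFi23a_act189 : ∀ x, 23382 ≤ x → x < 23505 → cFi23a.actRow x = true :=
  VCert.of_range' _ 23382 23505 (by decide +kernel)

theorem cFi23a_act221 : ∀ x, 27340 ≤ x → x < 27464 → cFi23a.actRow x = true :=
  VCert.of_range' _ 27340 27464 (by decide +kernel)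

theorem cFi23a_act253 : ∀ x, 31299 ≤ x → x < 31423 → cFi23a.actRow x = true :=
  VCert.of_range' _ 31299 31423 (by decide +kernel)


end Cfsg.Agent.Lib.Lead.VTC
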