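import Cfsg.Agent.Lib.Lead.VTCFi23a

set_option autoImplicit false
set_option maxRecDepth 100000

namespace Cfsg.Agent.Lib.Lead.VTC

theorem cFi23a_ok3 : ∀ x, 755 ≤ x → x < 1007 → cFi23a.rowOK x = true :=
  VCert.of_range' _ 755 1007 (by decide +kernel)

theorem cFi23a_ok35 : ∀ x, 8815 ≤ x → x < 9067 → cFi23a.rowOK x = true :=
  VCert.of_range' _ 8815 9067 (by decide +kernel)

theorem cFi23a_ok67 : ∀ x, 16875 ≤ x → x < 17127 → cFi23a.rowOK x = true :=
  VCert.of_range' _ 16875 17127 (by decide +kernel)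

theorem cFi23a_ok99 : ∀ x, 24936 ≤ x → x < 25187 → cFi23a.rowOK x = true :=
  VCert.of_range' _ 24936 25187 (by decide +kernel)

theorem cFi23a_ok131 : ∀ x, 32996 ≤ x → x < 33248 → cFi23a.rowOK x = true :=
  VCert.of_range' _ 32996 33248 (by decide +kernel)

theorem cFi23a_ok163 : ∀ x, 41056 ≤ x → x < 41308 → cFi23a.rowOK x = true :=
  VCert.of_range' _ 41056 41308 (by decide +kernel)

theorem cFi23a_ok195 : ∀ x, 49116 ≤ x → x < 49368 → cFi23a.rowOK x = true :=
  VCert.of_range' _ 49116 49368 (by decide +kernel)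

theorem cFi23a_ok227 : ∀ x, 57176 ≤ x → x < 57428 → cFi23a.rowOK x = true :=
  VCert.of_range' _ 57176 57428 (by decide +kernel)

theorem cFi23a_act3 : ∀ x, 371 ≤ x → x < 494 → cFi23a.actRow x = true :=
  VCert.of_range' _ 371 494 (by decide +kernel)

theorem cFi23a_act35 : ∀ x, 4330 ≤ x → x < 4453 → cFi23a.actRow x = true :=
  VCert.of_range' _ 4330 4453 (by decide +kernel)

theorem cFi23a_act67 : ∀ x, 8288 ≤ x → x < 8412 → cFi23a.actRow x = true :=
  VCert.of_range' _ 8288 8412 (by decide +kernel)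

theorem cFi23a_act99 : ∀ x, 12247 ≤ x → x < 12371 → cFi23a.actRow x = true :=
  VCert.of_range' _ 12247 12371 (by decide +kernel)

theorem cFi23a_act131 : ∀ x, 16206 ≤ x → x < 16330 → cFi23a.actRow x = true :=
  VCert.of_range' _ 16206 16330 (by decide +kernel)

theorem cFi23a_act163 : ∀ x, 20165 ≤ x → x < 20289 → cFi23a.actRow x = true :=
  VCert.of_range' _ 20165 20289 (by decide +kernel)

theorem cFi23a_act195 : ∀ x, 24124 ≤ x → x < 24248 → cFi23a.actRow x = true :=
  VCert.of_range' _ 24124 24248 (by decide +kernel)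

theorem cFi23a_act227 : ∀ x, 28083 ≤ x → x < 28206 → cFi23a.actRow x = true :=
  VCert.of_range' _ 28083 28206 (by decide +kernel)


end Cfsg.Agent.Lib.Lead.VTC
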