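import Cfsg.Agent.Lib.Lead.VTCFi23a

set_option autoImplicit false
set_option maxRecDepth 100000

namespace Cfsg.Agent.Lib.Lead.VTC

theorem cFi23a_ok30 : ∀ x, 7556 ≤ x → x < 7808 → cFi23a.rowOK x = true :=
  VCert.of_range' _ 7556 7808 (by decide +kernel)

theorem cFi23a_ok62 : ∀ x, 15616 ≤ x → x < 15868 → cFi23a.rowOK x = true :=
  VCert.of_range' _ 15616 15868 (by decide +kernel)

theorem cFi23a_ok94 : ∀ x, 23676 ≤ x → x < 23928 → cFi23a.rowOK x = true :=
  VCert.of_range' _ 23676 23928 (by decide +kernel)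

theorem cFi23a_ok126 : ∀ x, 31736 ≤ x → x < 31988 → cFi23a.rowOK x = true :=
  VCert.of_range' _ 31736 31988 (by decide +kernel)

theorem cFi23a_ok158 : ∀ x, 39796 ≤ x → x < 40048 → cFi23a.rowOK x = true :=
  VCert.of_range' _ 39796 40048 (by decide +kernel)

theorem cFi23a_ok190 : ∀ x, 47856 ≤ x → x < 48108 → cFi23a.rowOK x = true :=
  VCert.of_range' _ 47856 48108 (by decide +kernel)

theorem cFi23a_ok222 : ∀ x, 55917 ≤ x → x < 56168 → cFi23a.rowOK x = true :=
  VCert.of_range' _ 55917 56168 (by decide +kernel)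

theorem cFi23a_ok254 : ∀ x, 63977 ≤ x → x < 64229 → cFi23a.rowOK x = true :=
  VCert.of_range' _ 63977 64229 (by decide +kernel)

theorem cFi23a_act30 : ∀ x, 3711 ≤ x → x < 3835 → cFi23a.actRow x = true :=
  VCert.of_range' _ 3711 3835 (by decide +kernel)

theorem cFi23a_act62 : ∀ x, 7670 ≤ x → x < 7794 → cFi23a.actRow x = true :=
  VCert.of_range' _ 7670 7794 (by decide +kernel)

theorem cFi23a_act94 : ∀ x, 11629 ≤ x → x < 11752 → cFi23a.actRow x = true :=
  VCert.of_range' _ 11629 11752 (by decide +kernel)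

theorem cFi23a_act126 : ∀ x, 15588 ≤ x → x < 15711 → cFi23a.actRow x = true :=
  VCert.of_range' _ 15588 15711 (by decide +kernel)

theorem cFi23a_act158 : ∀ x, 19546 ≤ x → x < 19670 → cFi23a.actRow x = true :=
  VCert.of_range' _ 19546 19670 (by decide +kernel)

theorem cFi23a_act190 : ∀ x, 23505 ≤ x → x < 23629 → cFi23a.actRow x = true :=
  VCert.of_range' _ 23505 23629 (by decide +kernel)

theorem cFi23a_act222 : ∀ x, 27464 ≤ x → x < 27588 → cFi23a.actRow x = true :=
  VCert.of_range' _ 27464 27588 (by decide +kernel)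

theorem cFi23a_act254 : ∀ x, 31423 ≤ x → x < 31547 → cFi23a.actRow x = true :=
  VCert.of_range' _ 31423 31547 (by decide +kernel)


end Cfsg.Agent.Lib.Lead.VTC
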