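import Cfsg.Agent.Lib.Lead.VTCFi23a

set_option autoImplicit false
set_option maxRecDepth 100000

namespace Cfsg.Agent.Lib.Lead.VTC

theorem cFi23a_ok31 : ∀ x, 7808 ≤ x → x < 8060 → cFi23a.rowOK x = true :=
  VCert.of_range' _ 7808 8060 (by decide +kernel)

theorem cFi23a_ok63 : ∀ x, 15868 ≤ x → x < 16120 → cFi23a.rowOK x = true :=
  VCert.of_range' _ 15868 16120 (by decide +kernel)

theorem cFi23a_ok95 : ∀ x, 23928 ≤ x → x < 24180 → cFi23a.rowOK x = true :=
  VCert.of_range' _ 23928 24180 (by decide +kernel)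

theorem cFi23a_ok127 : ∀ x, 31988 ≤ x → x < 32240 → cFi23a.rowOK x = true :=
  VCert.of_range' _ 31988 32240 (by decide +kernel)

theorem cFi23a_ok159 : ∀ x, 40048 ≤ x → x < 40300 → cFi23a.rowOK x = true :=
  VCert.of_range' _ 40048 40300 (by decide +kernel)

theorem cFi23a_ok191 : ∀ x, 48108 ≤ x → x < 48360 → cFi23a.rowOK x = true :=
  VCert.of_range' _ 48108 48360 (by decide +kernel)

theorem cFi23a_ok223 : ∀ x, 56168 ≤ x → x < 56420 → cFi23a.rowOK x = true :=
  VCert.of_range' _ 56168 56420 (by decide +kernel)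

theorem cFi23a_ok255 : ∀ x, 64229 ≤ x → x < 64481 → cFi23a.rowOK x = true :=
  VCert.of_range' _ 64229 64481 (by decide +kernel)

theorem cFi23a_act31 : ∀ x, 3835 ≤ x → x < 3958 → cFi23a.actRow x = true :=
  VCert.of_range' _ 3835 3958 (by decide +kernel)

theorem cFi23a_act63 : ∀ x, 7794 ≤ x → x < 7917 → cFi23a.actRow x = true :=
  VCert.of_range' _ 7794 7917 (by decide +kernel)

theorem cFi23a_act95 : ∀ x, 11752 ≤ x → x < 11876 → cFi23a.actRow x = true :=
  VCert.of_range' _ 11752 11876 (by decide +kernel)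

theorem cFi23a_act127 : ∀ x, 15711 ≤ x → x < 15835 → cFi23a.actRow x = true :=
  VCert.of_range' _ 15711 15835 (by decide +kernel)

theorem cFi23a_act159 : ∀ x, 19670 ≤ x → x < 19794 → cFi23a.actRow x = true :=
  VCert.of_range' _ 19670 19794 (by decide +kernel)

theorem cFi23a_act191 : ∀ x, 23629 ≤ x → x < 23753 → cFi23a.actRow x = true :=
  VCert.of_range' _ 23629 23753 (by decide +kernel)

theorem cFi23a_act223 : ∀ x, 27588 ≤ x → x < 27712 → cFi23a.actRow x = true :=
  VCert.of_range' _ 27588 27712 (by decide +kernel)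

theorem cFi23a_act255 : ∀ x, 31547 ≤ x → x < 31671 → cFi23a.actRow x = true :=
  VCert.of_range' _ 31547 31671 (by decide +kernel)


end Cfsg.Agent.Lib.Lead.VTC
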