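import Cfsg.Agent.Lib.Lead.VTCFi23a

set_option autoImplicit false
set_option maxRecDepth 100000

namespace Cfsg.Agent.Lib.Lead.VTC

theorem cFi23a_ok4 : ∀ x, 1007 ≤ x → x < 1259 → cFi23a.rowOK x = true :=
  VCert.of_range' _ 1007 1259 (by decide +kernel)

theorem cFi23a_ok36 : ∀ x, 9067 ≤ x → x < 9319 → cFi23a.rowOK x = true :=
  VCert.of_range' _ 9067 9319 (by decide +kernel)

theorem cFi23a_ok68 : ∀ x, 17127 ≤ x → x < 17379 → cFi23a.rowOK x = true :=
  VCert.of_range' _ 17127 17379 (by decide +kernel)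

theorem cFi23a_ok100 : ∀ x, 25187 ≤ x → x < 25439 → cFi23a.rowOK x = true :=
  VCert.of_range' _ 25187 25439 (by decide +kernel)

theorem cFi23a_ok132 : ∀ x, 33248 ≤ x → x < 33499 → cFi23a.rowOK x = true :=
  VCert.of_range' _ 33248 33499 (by decide +kernel)

theorem cFi23a_ok164 : ∀ x, 41308 ≤ x → x < 41560 → cFi23a.rowOK x = true :=
  VCert.of_range' _ 41308 41560 (by decide +kernel)

theorem cFi23a_ok196 : ∀ x, 49368 ≤ x → x < 49620 → cFi23a.rowOK x = true :=
  VCert.of_range' _ 49368 49620 (by decide +kernel)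

theorem cFi23a_ok228 : ∀ x, 57428 ≤ x → x < 57680 → cFi23a.rowOK x = true :=
  VCert.of_range' _ 57428 57680 (by decide +kernel)

theorem cFi23a_act4 : ∀ x, 494 ≤ x → x < 618 → cFi23a.actRow x = true :=
  VCert.of_range' _ 494 618 (by decide +kernel)

theorem cFi23a_act36 : ∀ x, 4453 ≤ x → x < 4577 → cFi23a.actRow x = true :=
  VCert.of_range' _ 4453 4577 (by decide +kernel)

theorem cFi23a_act68 : ∀ x, 8412 ≤ x → x < 8536 → cFi23a.actRow x = true :=
  VCert.of_range' _ 8412 8536 (by decide +kernel)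

theorem cFi23a_act100 : ∀ x, 12371 ≤ x → x < 12495 → cFi23a.actRow x = true :=
  VCert.of_range' _ 12371 12495 (by decide +kernel)

theorem cFi23a_act132 : ∀ x, 16330 ≤ x → x < 16454 → cFi23a.actRow x = true :=
  VCert.of_range' _ 16330 16454 (by decide +kernel)

theorem cFi23a_act164 : ∀ x, 20289 ≤ x → x < 20412 → cFi23a.actRow x = true :=
  VCert.of_range' _ 20289 20412 (by decide +kernel)

theorem cFi23a_act196 : ∀ x, 24248 ≤ x → x < 24371 → cFi23a.actRow x = true :=
  VCert.of_range' _ 24248 24371 (by decide +kernel)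

theorem cFi23a_act228 : ∀ x, 28206 ≤ x → x < 28330 → cFi23a.actRow x = true :=
  VCert.of_range' _ 28206 28330 (by decide +kernel)


end Cfsg.Agent.Lib.Lead.VTC
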