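import Cfsg.Agent.Lib.Lead.VTCFi23a

set_option autoImplicit false
set_option maxRecDepth 100000

namespace Cfsg.Agent.Lib.Lead.VTC

theorem cFi23a_ok5 : ∀ x, 1259 ≤ x → x < 1511 → cFi23a.rowOK x = true :=
  VCert.of_range' _ 1259 1511 (by decide +kernel)

theorem cFi23a_ok37 : ∀ x, 9319 ≤ x → x < 9571 → cFi23a.rowOK x = true :=
  VCert.of_range' _ 9319 9571 (by decide +kernel)

theorem cFi23a_ok69 : ∀ x, 17379 ≤ x → x < 17631 → cFi23a.rowOK x = true :=
  VCert.of_range' _ 17379 17631 (by decide +kernel)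

theorem cFi23a_ok101 : ∀ x, 25439 ≤ x → x < 25691 → cFi23a.rowOK x = true :=
  VCert.of_range' _ 25439 25691 (by decide +kernel)

theorem cFi23a_ok133 : ∀ x, 33499 ≤ x → x < 33751 → cFi23a.rowOK x = true :=
  VCert.of_range' _ 33499 33751 (by decide +kernel)

theorem cFi23a_ok165 : ∀ x, 41560 ≤ x → x < 41811 → cFi23a.rowOK x = true :=
  VCert.of_range' _ 41560 41811 (by decide +kernel)

theorem cFi23a_ok197 : ∀ x, 49620 ≤ x → x < 49872 → cFi23a.rowOK x = true :=
  VCert.of_range' _ 49620 49872 (by decide +kernel)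

theorem cFi23a_ok229 : ∀ x, 57680 ≤ x → x < 57932 → cFi23a.rowOK x = true :=
  VCert.of_range' _ 57680 57932 (by decide +kernel)

theorem cFi23a_act5 : ∀ x, 618 ≤ x → x < 742 → cFi23a.actRow x = true :=
  VCert.of_range' _ 618 742 (by decide +kernel)

theorem cFi23a_act37 : ∀ x, 4577 ≤ x → x < 4701 → cFi23a.actRow x = true :=
  VCert.of_range' _ 4577 4701 (by decide +kernel)

theorem cFi23a_act69 : ∀ x, 8536 ≤ x → x < 8660 → cFi23a.actRow x = true :=
  VCert.of_range' _ 8536 8660 (by decide +kernel)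

theorem cFi23a_act101 : ∀ x, 12495 ≤ x → x < 12618 → cFi23a.actRow x = true :=
  VCert.of_range' _ 12495 12618 (by decide +kernel)

theorem cFi23a_act133 : ∀ x, 16454 ≤ x → x < 16577 → cFi23a.actRow x = true :=
  VCert.of_range' _ 16454 16577 (by decide +kernel)

theorem cFi23a_act165 : ∀ x, 20412 ≤ x → x < 20536 → cFi23a.actRow x = true :=
  VCert.of_range' _ 20412 20536 (by decide +kernel)

theorem cFi23a_act197 : ∀ x, 24371 ≤ x → x < 24495 → cFi23a.actRow x = true :=
  VCert.of_range' _ 24371 24495 (by decide +kernel)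

theorem cFi23a_act229 : ∀ x, 28330 ≤ x → x < 28454 → cFi23a.actRow x = true :=
  VCert.of_range' _ 28330 28454 (by decide +kernel)


end Cfsg.Agent.Lib.Lead.VTC
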