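import Cfsg.Agent.Lib.Lead.VTCFi23a

set_option autoImplicit false
set_option maxRecDepth 100000

namespace Cfsg.Agent.Lib.Lead.VTC

theorem cFi23a_ok6 : ∀ x, 1511 ≤ x → x < 1763 → cFi23a.rowOK x = true :=
  VCert.of_range' _ 1511 1763 (by decide +kernel)

theorem cFi23a_ok38 : ∀ x, 9571 ≤ x → x < 9823 → cFi23a.rowOK x = true :=
  VCert.of_range' _ 9571 9823 (by decide +kernel)

theorem cFi23a_ok70 : ∀ x, 17631 ≤ x → x < 17883 → cFi23a.rowOK x = true :=
  VCert.of_range' _ 17631 17883 (by decide +kernel)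

theorem cFi23a_ok102 : ∀ x, 25691 ≤ x → x < 25943 → cFi23a.rowOK x = true :=
  VCert.of_range' _ 25691 25943 (by decide +kernel)

theorem cFi23a_ok134 : ∀ x, 33751 ≤ x → x < 34003 → cFi23a.rowOK x = true :=
  VCert.of_range' _ 33751 34003 (by decide +kernel)

theorem cFi23a_ok166 : ∀ x, 41811 ≤ x → x < 42063 → cFi23a.rowOK x = true :=
  VCert.of_range' _ 41811 42063 (by decide +kernel)

theorem cFi23a_ok198 : ∀ x, 49872 ≤ x → x < 50123 → cFi23a.rowOK x = true :=
  VCert.of_range' _ 49872 50123 (by decide +kernel)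

theorem cFi23a_ok230 : ∀ x, 57932 ≤ x → x < 58184 → cFi23a.rowOK x = true :=
  VCert.of_range' _ 57932 58184 (by decide +kernel)

theorem cFi23a_act6 : ∀ x, 742 ≤ x → x < 866 → cFi23a.actRow x = true :=
  VCert.of_range' _ 742 866 (by decide +kernel)

theorem cFi23a_act38 : ∀ x, 4701 ≤ x → x < 4824 → cFi23a.actRow x = true :=
  VCert.of_range' _ 4701 4824 (by decide +kernel)

theorem cFi23a_act70 : ∀ x, 8660 ≤ x → x < 8783 → cFi23a.actRow x = true :=
  VCert.of_range' _ 8660 8783 (by decide +kernel)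

theorem cFi23a_act102 : ∀ x, 12618 ≤ x → x < 12742 → cFi23a.actRow x = true :=
  VCert.of_range' _ 12618 12742 (by decide +kernel)

theorem cFi23a_act134 : ∀ x, 16577 ≤ x → x < 16701 → cFi23a.actRow x = true :=
  VCert.of_range' _ 16577 16701 (by decide +kernel)

theorem cFi23a_act166 : ∀ x, 20536 ≤ x → x < 20660 → cFi23a.actRow x = true :=
  VCert.of_range' _ 20536 20660 (by decide +kernel)

theorem cFi23a_act198 : ∀ x, 24495 ≤ x → x < 24619 → cFi23a.actRow x = true :=
  VCert.of_range' _ 24495 24619 (by decide +kernel)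

theorem cFi23a_act230 : ∀ x, 28454 ≤ x → x < 28578 → cFi23a.actRow x = true :=
  VCert.of_range' _ 28454 28578 (by decide +kernel)


end Cfsg.Agent.Lib.Lead.VTC
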