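import Cfsg.Agent.Lib.Lead.VTCFi23a

set_option autoImplicit false
set_option maxRecDepth 100000

namespace Cfsg.Agent.Lib.Lead.VTC

theorem cFi23a_ok7 : ∀ x, 1763 ≤ x → x < 2015 → cFi23a.rowOK x = true :=
  VCert.of_range' _ 1763 2015 (by decide +kernel)

theorem cFi23a_ok39 : ∀ x, 9823 ≤ x → x < 10075 → cFi23a.rowOK x = true :=
  VCert.of_range' _ 9823 10075 (by decide +kernel)

theorem cFi23a_ok71 : ∀ x, 17883 ≤ x → x < 18135 → cFi23a.rowOK x = true :=
  VCert.of_range' _ 17883 18135 (by decide +kernel)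

theorem cFi23a_ok103 : ∀ x, 25943 ≤ x → x < 26195 → cFi23a.rowOK x = true :=
  VCert.of_range' _ 25943 26195 (by decide +kernel)

theorem cFi23a_ok135 : ∀ x, 34003 ≤ x → x < 34255 → cFi23a.rowOK x = true :=
  VCert.of_range' _ 34003 34255 (by decide +kernel)

theorem cFi23a_ok167 : ∀ x, 42063 ≤ x → x < 42315 → cFi23a.rowOK x = true :=
  VCert.of_range' _ 42063 42315 (by decide +kernel)

theorem cFi23a_ok199 : ∀ x, 50123 ≤ x → x < 50375 → cFi23a.rowOK x = true :=
  VCert.of_range' _ 50123 50375 (by decide +kernel)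

theorem cFi23a_ok231 : ∀ x, 58184 ≤ x → x < 58435 → cFi23a.rowOK x = true :=
  VCert.of_range' _ 58184 58435 (by decide +kernel)

theorem cFi23a_act7 : ∀ x, 866 ≤ x → x < 989 → cFi23a.actRow x = true :=
  VCert.of_range' _ 866 989 (by decide +kernel)

theorem cFi23a_act39 : ∀ x, 4824 ≤ x → x < 4948 → cFi23a.actRow x = true :=
  VCert.of_range' _ 4824 4948 (by decide +kernel)

theorem cFi23a_act71 : ∀ x, 8783 ≤ x → x < 8907 → cFi23a.actRow x = true :=
  VCert.of_range' _ 8783 8907 (by decide +kernel)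

theorem cFi23a_act103 : ∀ x, 12742 ≤ x → x < 12866 → cFi23a.actRow x = true :=
  VCert.of_range' _ 12742 12866 (by decide +kernel)

theorem cFi23a_act135 : ∀ x, 16701 ≤ x → x < 16825 → cFi23a.actRow x = true :=
  VCert.of_range' _ 16701 16825 (by decide +kernel)

theorem cFi23a_act167 : ∀ x, 20660 ≤ x → x < 20784 → cFi23a.actRow x = true :=
  VCert.of_range' _ 20660 20784 (by decide +kernel)

theorem cFi23a_act199 : ∀ x, 24619 ≤ x → x < 24742 → cFi23a.actRow x = true :=
  VCert.of_range' _ 24619 24742 (by decide +kernel)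

theorem cFi23a_act231 : ∀ x, 28578 ≤ x → x < 28701 → cFi23a.actRow x = true :=
  VCert.of_range' _ 28578 28701 (by decide +kernel)


end Cfsg.Agent.Lib.Lead.VTC
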