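import Cfsg.Agent.Lib.Lead.VTCFi23a

set_option autoImplicit false
set_option maxRecDepth 100000

namespace Cfsg.Agent.Lib.Lead.VTC

theorem cFi23a_ok8 : ∀ x, 2015 ≤ x → x < 2266 → cFi23a.rowOK x = true :=
  VCert.of_range' _ 2015 2266 (by decide +kernel)

theorem cFi23a_ok40 : ∀ x, 10075 ≤ x → x < 10327 → cFi23a.rowOK x = true :=
  VCert.of_range' _ 10075 10327 (by decide +kernel)

theorem cFi23a_ok72 : ∀ x, 18135 ≤ x → x < 18387 → cFi23a.rowOK x = true :=
  VCert.of_range' _ 18135 18387 (by decide +kernel)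

theorem cFi23a_ok104 : ∀ x, 26195 ≤ x → x < 26447 → cFi23a.rowOK x = true :=
  VCert.of_range' _ 26195 26447 (by decide +kernel)

theorem cFi23a_ok136 : ∀ x, 34255 ≤ x → x < 34507 → cFi23a.rowOK x = true :=
  VCert.of_range' _ 34255 34507 (by decide +kernel)

theorem cFi23a_ok168 : ∀ x, 42315 ≤ x → x < 42567 → cFi23a.rowOK x = true :=
  VCert.of_range' _ 42315 42567 (by decide +kernel)

theorem cFi23a_ok200 : ∀ x, 50375 ≤ x → x < 50627 → cFi23a.rowOK x = true :=
  VCert.of_range' _ 50375 50627 (by decide +kernel)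

theorem cFi23a_ok232 : ∀ x, 58435 ≤ x → x < 58687 → cFi23a.rowOK x = true :=
  VCert.of_range' _ 58435 58687 (by decide +kernel)

theorem cFi23a_act8 : ∀ x, 989 ≤ x → x < 1113 → cFi23a.actRow x = true :=
  VCert.of_range' _ 989 1113 (by decide +kernel)

theorem cFi23a_act40 : ∀ x, 4948 ≤ x → x < 5072 → cFi23a.actRow x = true :=
  VCert.of_range' _ 4948 5072 (by decide +kernel)

theorem cFi23a_act72 : ∀ x, 8907 ≤ x → x < 9031 → cFi23a.actRow x = true :=
  VCert.of_range' _ 8907 9031 (by decide +kernel)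

theorem cFi23a_act104 : ∀ x, 12866 ≤ x → x < 12990 → cFi23a.actRow x = true :=
  VCert.of_range' _ 12866 12990 (by decide +kernel)

theorem cFi23a_act136 : ∀ x, 16825 ≤ x → x < 16948 → cFi23a.actRow x = true :=
  VCert.of_range' _ 16825 16948 (by decide +kernel)

theorem cFi23a_act168 : ∀ x, 20784 ≤ x → x < 20907 → cFi23a.actRow x = true :=
  VCert.of_range' _ 20784 20907 (by decide +kernel)

theorem cFi23a_act200 : ∀ x, 24742 ≤ x → x < 24866 → cFi23a.actRow x = true :=
  VCert.of_range' _ 24742 24866 (by decide +kernel)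

theorem cFi23a_act232 : ∀ x, 28701 ≤ x → x < 28825 → cFi23a.actRow x = true :=
  VCert.of_range' _ 28701 28825 (by decide +kernel)


end Cfsg.Agent.Lib.Lead.VTC
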