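import Cfsg.Agent.Lib.Lead.VTCFi23a

set_option autoImplicit false
set_option maxRecDepth 100000

namespace Cfsg.Agent.Lib.Lead.VTC

theorem cFi23a_ok9 : ∀ x, 2266 ≤ x → x < 2518 → cFi23a.rowOK x = true :=
  VCert.of_range' _ 2266 2518 (by decide +kernel)

theorem cFi23a_ok41 : ∀ x, 10327 ≤ x → x < 10578 → cFi23a.rowOK x = true :=
  VCert.of_range' _ 10327 10578 (by decide +kernel)

theorem cFi23a_ok73 : ∀ x, 18387 ≤ x → x < 18639 → cFi23a.rowOK x = true :=
  VCert.of_range' _ 18387 18639 (by decide +kernel)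

theorem cFi23a_ok105 : ∀ x, 26447 ≤ x → x < 26699 → cFi23a.rowOK x = true :=
  VCert.of_range' _ 26447 26699 (by decide +kernel)

theorem cFi23a_ok137 : ∀ x, 34507 ≤ x → x < 34759 → cFi23a.rowOK x = true :=
  VCert.of_range' _ 34507 34759 (by decide +kernel)

theorem cFi23a_ok169 : ∀ x, 42567 ≤ x → x < 42819 → cFi23a.rowOK x = true :=
  VCert.of_range' _ 42567 42819 (by decide +kernel)

theorem cFi23a_ok201 : ∀ x, 50627 ≤ x → x < 50879 → cFi23a.rowOK x = true :=
  VCert.of_range' _ 50627 50879 (by decide +kernel)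

theorem cFi23a_ok233 : ∀ x, 58687 ≤ x → x < 58939 → cFi23a.rowOK x = true :=
  VCert.of_range' _ 58687 58939 (by decide +kernel)

theorem cFi23a_act9 : ∀ x, 1113 ≤ x → x < 1237 → cFi23a.actRow x = true :=
  VCert.of_range' _ 1113 1237 (by decide +kernel)

theorem cFi23a_act41 : ∀ x, 5072 ≤ x → x < 5196 → cFi23a.actRow x = true :=
  VCert.of_range' _ 5072 5196 (by decide +kernel)

theorem cFi23a_act73 : ∀ x, 9031 ≤ x → x < 9154 → cFi23a.actRow x = true :=
  VCert.of_range' _ 9031 9154 (by decide +kernel)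

theorem cFi23a_act105 : ∀ x, 12990 ≤ x → x < 13113 → cFi23a.actRow x = true :=
  VCert.of_range' _ 12990 13113 (by decide +kernel)

theorem cFi23a_act137 : ∀ x, 16948 ≤ x → x < 17072 → cFi23a.actRow x = true :=
  VCert.of_range' _ 16948 17072 (by decide +kernel)

theorem cFi23a_act169 : ∀ x, 20907 ≤ x → x < 21031 → cFi23a.actRow x = true :=
  VCert.of_range' _ 20907 21031 (by decide +kernel)

theorem cFi23a_act201 : ∀ x, 24866 ≤ x → x < 24990 → cFi23a.actRow x = true :=
  VCert.of_range' _ 24866 24990 (by decide +kernel)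

theorem cFi23a_act233 : ∀ x, 28825 ≤ x → x < 28949 → cFi23a.actRow x = true :=
  VCert.of_range' _ 28825 28949 (by decide +kernel)


end Cfsg.Agent.Lib.Lead.VTC
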