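import Cfsg.Agent.Lib.Lead.VTCFi23G
import Cfsg.Agent.Lib.Lead.VTCFi23aC

set_option autoImplicit false

namespace Cfsg.Agent.Lib.Lead.VTC

open Cfsg.Agent.Lib.Lead.WTC Cfsg.Agent.Lib.Lead.WTC.Cert Cfsg.Spor

theorem fi23a_subg {M : Type} [Group M] (f : Fi23.Gen → M) (_hf : ∀ x, f x * f x = 1) :
    [Fi23.a, Fi23.b, Fi23.c, Fi23.d, Fi23.e, Fi23.f, Fi23.g, Fi23.h, Fi23.i].map
      (FreeGroup.lift f) =
      Fi23aSubSpec.map (fun p => (wd (fun s => f (fwGen s)) p.1) ^ p.2) := by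
  simp [Fi23aSubSpec, wd, fwGen]

theorem fi23a_main (S : Set (FreeGroup Fi23.Gen))
    (hS : S = {z | z ∈ [Fi23.a, Fi23.b, Fi23.c, Fi23.d, Fi23.e, Fi23.f, Fi23.g, Fi23.h, Fi23.i]}) :
    ((Subgroup.closure S).map
      (PresentedGroup.mk (coxRelators Fi23.edges ∪ {r | r ∈ Fi23.extra}))).index = 31671 ∧
    ∃ q₁ q₂ : Cfsg.Spor.Fi23 ⧸ ((Subgroup.closure S).map
        (PresentedGroup.mk (coxRelators Fi23.edges ∪ {r | r ∈ Fi23.extra}))),
      (MulAction.orbit ((Subgroup.closure S).map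
        (PresentedGroup.mk (coxRelators Fi23.edges ∪ {r | r ∈ Fi23.extra}))) q₁).ncard = 3510 ∧
      (MulAction.orbit ((Subgroup.closure S).map
        (PresentedGroup.mk (coxRelators Fi23.edges ∪ {r | r ∈ Fi23.extra}))) q₂).ncard = 28160 := by
  subst hS
  have hrels : cFi23a.rels = (fwCoxSpec ++ fwExtraSpec).map expand := rfl
  have hsubs : cFi23a.subs = Fi23aSubSpec.map expand := rfl
  refine ⟨?_, ?_⟩
  · exact cox_index (edges := Fi23.edges) (extra := Fi23.extra) (c := cFi23a) (gen := fwGen)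
      (idx := fwIdx) fwIdx_lt fwGen_idx fwIdx_gen fw_nodes fwCoxSpec fwExtraSpec
      Fi23aSubSpec hrels hsubs fw_cox1 fw_cox2 fw_symm fw_extra _ fi23a_subg
      cFi23a_Ok cFi23a_fin cFi23a_Act
  · obtain ⟨q₁, h1⟩ := cox_orbit (edges := Fi23.edges) (extra := Fi23.extra) (c := cFi23a)
      (gen := fwGen) (idx := fwIdx) fwIdx_lt fwGen_idx fwIdx_gen fw_nodes fwCoxSpec
      fwExtraSpec Fi23aSubSpec hrels hsubs fw_cox1 fw_cox2 fw_symm fw_extra _ fi23a_subg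
      cFi23a_Ok cFi23a_fin cFi23a_Act oFi23a 52 2 oFi23a_col oFi23a_tree2
    obtain ⟨q₂, h2⟩ := cox_orbit (edges := Fi23.edges) (extra := Fi23.extra) (c := cFi23a)
      (gen := fwGen) (idx := fwIdx) fwIdx_lt fwGen_idx fwIdx_gen fw_nodes fwCoxSpec
      fwExtraSpec Fi23aSubSpec hrels hsubs fw_cox1 fw_cox2 fw_symm fw_extra _ fi23a_subg
      cFi23a_Ok cFi23a_fin cFi23a_Act oFi23a 1 1 oFi23a_col oFi23a_tree1
    exact ⟨q₁, q₂, h1.trans oFi23a_cnt2, h2.trans oFi23a_cnt1⟩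

end Cfsg.Agent.Lib.Lead.VTC
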