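import Cfsg.Agent.Lib.Lead.VTCFi23a
import Cfsg.Agent.Lib.Lead.VTC3

set_option autoImplicit false
set_option maxRecDepth 100000

namespace Cfsg.Agent.Lib.Lead.VTC

theorem cFi23a_finr5 : ∀ x, 855 ≤ x → x < 1027 → cFi23a.finRow x = true :=
  VCert.of_range' _ 855 1027 (by decide +kernel)

theorem cFi23a_finr143 : ∀ x, 24480 ≤ x → x < 24652 → cFi23a.finRow x = true :=
  VCert.of_range' _ 24480 24652 (by decide +kernel)

theorem cFi23a_ok44 : ∀ x, 4744 ≤ x → x < 4852 → cFi23a.rowOK x = true :=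
  VCert.of_range' _ 4744 4852 (by decide +kernel)

theorem cFi23a_ok77 : ∀ x, 8302 ≤ x → x < 8410 → cFi23a.rowOK x = true :=
  VCert.of_range' _ 8302 8410 (by decide +kernel)

theorem cFi23a_ok109 : ∀ x, 11753 ≤ x → x < 11861 → cFi23a.rowOK x = true :=
  VCert.of_range' _ 11753 11861 (by decide +kernel)

theorem cFi23a_ok142 : ∀ x, 15311 ≤ x → x < 15419 → cFi23a.rowOK x = true :=
  VCert.of_range' _ 15311 15419 (by decide +kernel)

theorem cFi23a_ok175 : ∀ x, 18869 ≤ x → x < 18977 → cFi23a.rowOK x = true :=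
  VCert.of_range' _ 18869 18977 (by decide +kernel)

theorem cFi23a_ok207 : ∀ x, 22320 ≤ x → x < 22428 → cFi23a.rowOK x = true :=
  VCert.of_range' _ 22320 22428 (by decide +kernel)

theorem cFi23a_ok240 : ∀ x, 25878 ≤ x → x < 25986 → cFi23a.rowOK x = true :=
  VCert.of_range' _ 25878 25986 (by decide +kernel)

theorem cFi23a_ok273 : ∀ x, 29436 ≤ x → x < 29544 → cFi23a.rowOK x = true :=
  VCert.of_range' _ 29436 29544 (by decide +kernel)

theorem cFi23a_ok305 : ∀ x, 32887 ≤ x → x < 32995 → cFi23a.rowOK x = true :=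
  VCert.of_range' _ 32887 32995 (by decide +kernel)

theorem cFi23a_ok338 : ∀ x, 36445 ≤ x → x < 36553 → cFi23a.rowOK x = true :=
  VCert.of_range' _ 36445 36553 (by decide +kernel)

theorem cFi23a_ok370 : ∀ x, 39896 ≤ x → x < 40004 → cFi23a.rowOK x = true :=
  VCert.of_range' _ 39896 40004 (by decide +kernel)

theorem cFi23a_ok403 : ∀ x, 43454 ≤ x → x < 43562 → cFi23a.rowOK x = true :=
  VCert.of_range' _ 43454 43562 (by decide +kernel)

theorem cFi23a_ok436 : ∀ x, 47012 ≤ x → x < 47120 → cFi23a.rowOK x = true :=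
  VCert.of_range' _ 47012 47120 (by decide +kernel)

theorem cFi23a_ok468 : ∀ x, 50463 ≤ x → x < 50571 → cFi23a.rowOK x = true :=
  VCert.of_range' _ 50463 50571 (by decide +kernel)

theorem cFi23a_ok501 : ∀ x, 54021 ≤ x → x < 54129 → cFi23a.rowOK x = true :=
  VCert.of_range' _ 54021 54129 (by decide +kernel)

theorem cFi23a_ok533 : ∀ x, 57472 ≤ x → x < 57580 → cFi23a.rowOK x = true :=
  VCert.of_range' _ 57472 57580 (by decide +kernel)

theorem cFi23a_ok566 : ∀ x, 61030 ≤ x → x < 61138 → cFi23a.rowOK x = true :=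
  VCert.of_range' _ 61030 61138 (by decide +kernel)

theorem cFi23a_finr0 : ∀ x, 0 ≤ x → x < 171 → cFi23a.finRow x = true :=
  VCert.of_range' _ 0 171 (by decide +kernel)

theorem cFi23a_finr33 : ∀ x, 5649 ≤ x → x < 5820 → cFi23a.finRow x = true :=
  VCert.of_range' _ 5649 5820 (by decide +kernel)

theorem cFi23a_finr67 : ∀ x, 11470 ≤ x → x < 11641 → cFi23a.finRow x = true :=
  VCert.of_range' _ 11470 11641 (by decide +kernel)

theorem cFi23a_finr100 : ∀ x, 17119 ≤ x → x < 17290 → cFi23a.finRow x = true :=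
  VCert.of_range' _ 17119 17290 (by decide +kernel)

theorem cFi23a_finr134 : ∀ x, 22940 ≤ x → x < 23111 → cFi23a.finRow x = true :=
  VCert.of_range' _ 22940 23111 (by decide +kernel)

theorem cFi23a_finr167 : ∀ x, 28589 ≤ x → x < 28760 → cFi23a.finRow x = true :=
  VCert.of_range' _ 28589 28760 (by decide +kernel)

theorem cFi23a_act14 : ∀ x, 629 ≤ x → x < 674 → cFi23a.actRow x = true :=
  VCert.of_range' _ 629 674 (by decide +kernel)

theorem cFi23a_act41 : ∀ x, 1844 ≤ x → x < 1889 → cFi23a.actRow x = true :=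
  VCert.of_range' _ 1844 1889 (by decide +kernel)

theorem cFi23a_act68 : ∀ x, 3059 ≤ x → x < 3104 → cFi23a.actRow x = true :=
  VCert.of_range' _ 3059 3104 (by decide +kernel)

theorem cFi23a_act96 : ∀ x, 4318 ≤ x → x < 4363 → cFi23a.actRow x = true :=
  VCert.of_range' _ 4318 4363 (by decide +kernel)

theorem cFi23a_act123 : ∀ x, 5533 ≤ x → x < 5578 → cFi23a.actRow x = true :=
  VCert.of_range' _ 5533 5578 (by decide +kernel)

theorem cFi23a_act150 : ∀ x, 6748 ≤ x → x < 6793 → cFi23a.actRow x = true :=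
  VCert.of_range' _ 6748 6793 (by decide +kernel)

theorem cFi23a_act178 : ∀ x, 8007 ≤ x → x < 8052 → cFi23a.actRow x = true :=
  VCert.of_range' _ 8007 8052 (by decide +kernel)

theorem cFi23a_act205 : ∀ x, 9222 ≤ x → x < 9267 → cFi23a.actRow x = true :=
  VCert.of_range' _ 9222 9267 (by decide +kernel)

theorem cFi23a_act232 : ∀ x, 10437 ≤ x → x < 10482 → cFi23a.actRow x = true :=
  VCert.of_range' _ 10437 10482 (by decide +kernel)

theorem cFi23a_act260 : ∀ x, 11696 ≤ x → x < 11741 → cFi23a.actRow x = true :=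
  VCert.of_range' _ 11696 11741 (by decide +kernel)

theorem cFi23a_act287 : ∀ x, 12911 ≤ x → x < 12956 → cFi23a.actRow x = true :=
  VCert.of_range' _ 12911 12956 (by decide +kernel)

theorem cFi23a_act315 : ∀ x, 14170 ≤ x → x < 14215 → cFi23a.actRow x = true :=
  VCert.of_range' _ 14170 14215 (by decide +kernel)

theorem cFi23a_act342 : ∀ x, 15385 ≤ x → x < 15430 → cFi23a.actRow x = true :=
  VCert.of_range' _ 15385 15430 (by decide +kernel)

theorem cFi23a_act369 : ∀ x, 16600 ≤ x → x < 16645 → cFi23a.actRow x = true :=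
  VCert.of_range' _ 16600 16645 (by decide +kernel)

theorem cFi23a_act397 : ∀ x, 17859 ≤ x → x < 17904 → cFi23a.actRow x = true :=
  VCert.of_range' _ 17859 17904 (by decide +kernel)

theorem cFi23a_act424 : ∀ x, 19074 ≤ x → x < 19119 → cFi23a.actRow x = true :=
  VCert.of_range' _ 19074 19119 (by decide +kernel)

theorem cFi23a_act451 : ∀ x, 20289 ≤ x → x < 20334 → cFi23a.actRow x = true :=
  VCert.of_range' _ 20289 20334 (by decide +kernel)

theorem cFi23a_act479 : ∀ x, 21548 ≤ x → x < 21593 → cFi23a.actRow x = true :=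
  VCert.of_range' _ 21548 21593 (by decide +kernel)

theorem cFi23a_act506 : ∀ x, 22763 ≤ x → x < 22808 → cFi23a.actRow x = true :=
  VCert.of_range' _ 22763 22808 (by decide +kernel)

theorem cFi23a_act533 : ∀ x, 23978 ≤ x → x < 24023 → cFi23a.actRow x = true :=
  VCert.of_range' _ 23978 24023 (by decide +kernel)

theorem cFi23a_act561 : ∀ x, 25237 ≤ x → x < 25282 → cFi23a.actRow x = true :=
  VCert.of_range' _ 25237 25282 (by decide +kernel)

theorem cFi23a_act588 : ∀ x, 26452 ≤ x → x < 26497 → cFi23a.actRow x = true :=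
  VCert.of_range' _ 26452 26497 (by decide +kernel)

theorem cFi23a_act615 : ∀ x, 27667 ≤ x → x < 27712 → cFi23a.actRow x = true :=
  VCert.of_range' _ 27667 27712 (by decide +kernel)

theorem cFi23a_act643 : ∀ x, 28926 ≤ x → x < 28971 → cFi23a.actRow x = true :=
  VCert.of_range' _ 28926 28971 (by decide +kernel)

theorem cFi23a_act670 : ∀ x, 30141 ≤ x → x < 30186 → cFi23a.actRow x = true :=
  VCert.of_range' _ 30141 30186 (by decide +kernel)

theorem cFi23a_act697 : ∀ x, 31356 ≤ x → x < 31401 → cFi23a.actRow x = true :=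
  VCert.of_range' _ 31356 31401 (by decide +kernel)

theorem oFi23a_tr1_10 : ∀ x, 19794 ≤ x → x < 21773 → oFi23a.treeRow cFi23a 1 1 x = true :=
  VCert.of_range' _ 19794 21773 (by decide +kernel)

theorem cFi23a_ok87 : ∀ x, 9381 ≤ x → x < 9488 → cFi23a.rowOK x = true :=
  VCert.of_range' _ 9381 9488 (by decide +kernel)

theorem cFi23a_ok226 : ∀ x, 24369 ≤ x → x < 24476 → cFi23a.rowOK x = true :=
  VCert.of_range' _ 24369 24476 (by decide +kernel)

theorem cFi23a_ok383 : ∀ x, 41298 ≤ x → x < 41405 → cFi23a.rowOK x = true :=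
  VCert.of_range' _ 41298 41405 (by decide +kernel)

theorem cFi23a_ok539 : ∀ x, 58119 ≤ x → x < 58226 → cFi23a.rowOK x = true :=
  VCert.of_range' _ 58119 58226 (by decide +kernel)

theorem oFi23a_colr23 : ∀ x, 18210 ≤ x → x < 19002 → oFi23a.colRow cFi23a x = true :=
  VCert.of_range' _ 18210 19002 (by decide +kernel)

theorem cFi23a_act312 : ∀ x, 14036 ≤ x → x < 14080 → cFi23a.actRow x = true :=
  VCert.of_range' _ 14036 14080 (by decide +kernel)

theorem cFi23a_finn14 : ∀ x, 45136 ≤ x → x < 48360 → cFi23a.finNode x = true :=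
  VCert.of_range' _ 45136 48360 (by decide +kernel)


end Cfsg.Agent.Lib.Lead.VTC
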