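import Cfsg.Agent.Lib.Lead.VTCFi23a
import Cfsg.Agent.Lib.Lead.VTC3

set_option autoImplicit false
set_option maxRecDepth 100000

namespace Cfsg.Agent.Lib.Lead.VTC

theorem cFi23a_finr71 : ∀ x, 12154 ≤ x → x < 12326 → cFi23a.finRow x = true :=
  VCert.of_range' _ 12154 12326 (by decide +kernel)

theorem cFi23a_ok6 : ∀ x, 646 ≤ x → x < 754 → cFi23a.rowOK x = true :=
  VCert.of_range' _ 646 754 (by decide +kernel)

theorem cFi23a_ok27 : ∀ x, 2911 ≤ x → x < 3019 → cFi23a.rowOK x = true :=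
  VCert.of_range' _ 2911 3019 (by decide +kernel)

theorem cFi23a_ok60 : ∀ x, 6469 ≤ x → x < 6577 → cFi23a.rowOK x = true :=
  VCert.of_range' _ 6469 6577 (by decide +kernel)

theorem cFi23a_ok93 : ∀ x, 10027 ≤ x → x < 10135 → cFi23a.rowOK x = true :=
  VCert.of_range' _ 10027 10135 (by decide +kernel)

theorem cFi23a_ok125 : ∀ x, 13478 ≤ x → x < 13586 → cFi23a.rowOK x = true :=
  VCert.of_range' _ 13478 13586 (by decide +kernel)

theorem cFi23a_ok158 : ∀ x, 17036 ≤ x → x < 17144 → cFi23a.rowOK x = true :=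
  VCert.of_range' _ 17036 17144 (by decide +kernel)

theorem cFi23a_ok190 : ∀ x, 20487 ≤ x → x < 20595 → cFi23a.rowOK x = true :=
  VCert.of_range' _ 20487 20595 (by decide +kernel)

theorem cFi23a_ok223 : ∀ x, 24045 ≤ x → x < 24153 → cFi23a.rowOK x = true :=
  VCert.of_range' _ 24045 24153 (by decide +kernel)

theorem cFi23a_ok256 : ∀ x, 27603 ≤ x → x < 27711 → cFi23a.rowOK x = true :=
  VCert.of_range' _ 27603 27711 (by decide +kernel)

theorem cFi23a_ok288 : ∀ x, 31054 ≤ x → x < 31162 → cFi23a.rowOK x = true :=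
  VCert.of_range' _ 31054 31162 (by decide +kernel)

theorem cFi23a_ok321 : ∀ x, 34612 ≤ x → x < 34720 → cFi23a.rowOK x = true :=
  VCert.of_range' _ 34612 34720 (by decide +kernel)

theorem cFi23a_ok353 : ∀ x, 38063 ≤ x → x < 38171 → cFi23a.rowOK x = true :=
  VCert.of_range' _ 38063 38171 (by decide +kernel)

theorem cFi23a_ok386 : ∀ x, 41621 ≤ x → x < 41729 → cFi23a.rowOK x = true :=
  VCert.of_range' _ 41621 41729 (by decide +kernel)

theorem cFi23a_ok419 : ∀ x, 45179 ≤ x → x < 45287 → cFi23a.rowOK x = true :=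
  VCert.of_range' _ 45179 45287 (by decide +kernel)

theorem cFi23a_ok451 : ∀ x, 48630 ≤ x → x < 48738 → cFi23a.rowOK x = true :=
  VCert.of_range' _ 48630 48738 (by decide +kernel)

theorem cFi23a_ok484 : ∀ x, 52188 ≤ x → x < 52296 → cFi23a.rowOK x = true :=
  VCert.of_range' _ 52188 52296 (by decide +kernel)

theorem cFi23a_ok517 : ∀ x, 55746 ≤ x → x < 55854 → cFi23a.rowOK x = true :=
  VCert.of_range' _ 55746 55854 (by decide +kernel)

theorem cFi23a_ok549 : ∀ x, 59197 ≤ x → x < 59305 → cFi23a.rowOK x = true :=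
  VCert.of_range' _ 59197 59305 (by decide +kernel)

theorem cFi23a_ok582 : ∀ x, 62755 ≤ x → x < 62863 → cFi23a.rowOK x = true :=
  VCert.of_range' _ 62755 62863 (by decide +kernel)

theorem cFi23a_finr16 : ∀ x, 2739 ≤ x → x < 2910 → cFi23a.finRow x = true :=
  VCert.of_range' _ 2739 2910 (by decide +kernel)

theorem cFi23a_finr49 : ∀ x, 8388 ≤ x → x < 8559 → cFi23a.finRow x = true :=
  VCert.of_range' _ 8388 8559 (by decide +kernel)

theorem cFi23a_finr83 : ∀ x, 14209 ≤ x → x < 14380 → cFi23a.finRow x = true :=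
  VCert.of_range' _ 14209 14380 (by decide +kernel)

theorem cFi23a_finr116 : ∀ x, 19858 ≤ x → x < 20029 → cFi23a.finRow x = true :=
  VCert.of_range' _ 19858 20029 (by decide +kernel)

theorem cFi23a_finr150 : ∀ x, 25679 ≤ x → x < 25850 → cFi23a.finRow x = true :=
  VCert.of_range' _ 25679 25850 (by decide +kernel)

theorem cFi23a_finr183 : ∀ x, 31328 ≤ x → x < 31499 → cFi23a.finRow x = true :=
  VCert.of_range' _ 31328 31499 (by decide +kernel)

theorem cFi23a_act40 : ∀ x, 1799 ≤ x → x < 1844 → cFi23a.actRow x = true :=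
  VCert.of_range' _ 1799 1844 (by decide +kernel)

theorem cFi23a_act67 : ∀ x, 3014 ≤ x → x < 3059 → cFi23a.actRow x = true :=
  VCert.of_range' _ 3014 3059 (by decide +kernel)

theorem cFi23a_act95 : ∀ x, 4273 ≤ x → x < 4318 → cFi23a.actRow x = true :=
  VCert.of_range' _ 4273 4318 (by decide +kernel)

theorem cFi23a_act122 : ∀ x, 5488 ≤ x → x < 5533 → cFi23a.actRow x = true :=
  VCert.of_range' _ 5488 5533 (by decide +kernel)

theorem cFi23a_act149 : ∀ x, 6703 ≤ x → x < 6748 → cFi23a.actRow x = true :=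
  VCert.of_range' _ 6703 6748 (by decide +kernel)

theorem cFi23a_act177 : ∀ x, 7962 ≤ x → x < 8007 → cFi23a.actRow x = true :=
  VCert.of_range' _ 7962 8007 (by decide +kernel)

theorem cFi23a_act204 : ∀ x, 9177 ≤ x → x < 9222 → cFi23a.actRow x = true :=
  VCert.of_range' _ 9177 9222 (by decide +kernel)

theorem cFi23a_act231 : ∀ x, 10392 ≤ x → x < 10437 → cFi23a.actRow x = true :=
  VCert.of_range' _ 10392 10437 (by decide +kernel)

theorem cFi23a_act259 : ∀ x, 11651 ≤ x → x < 11696 → cFi23a.actRow x = true :=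
  VCert.of_range' _ 11651 11696 (by decide +kernel)

theorem cFi23a_act286 : ∀ x, 12866 ≤ x → x < 12911 → cFi23a.actRow x = true :=
  VCert.of_range' _ 12866 12911 (by decide +kernel)

theorem cFi23a_act314 : ∀ x, 14125 ≤ x → x < 14170 → cFi23a.actRow x = true :=
  VCert.of_range' _ 14125 14170 (by decide +kernel)

theorem cFi23a_act341 : ∀ x, 15340 ≤ x → x < 15385 → cFi23a.actRow x = true :=
  VCert.of_range' _ 15340 15385 (by decide +kernel)

theorem cFi23a_act368 : ∀ x, 16555 ≤ x → x < 16600 → cFi23a.actRow x = true :=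
  VCert.of_range' _ 16555 16600 (by decide +kernel)

theorem cFi23a_act396 : ∀ x, 17814 ≤ x → x < 17859 → cFi23a.actRow x = true :=
  VCert.of_range' _ 17814 17859 (by decide +kernel)

theorem cFi23a_act423 : ∀ x, 19029 ≤ x → x < 19074 → cFi23a.actRow x = true :=
  VCert.of_range' _ 19029 19074 (by decide +kernel)

theorem cFi23a_act450 : ∀ x, 20244 ≤ x → x < 20289 → cFi23a.actRow x = true :=
  VCert.of_range' _ 20244 20289 (by decide +kernel)

theorem cFi23a_act478 : ∀ x, 21503 ≤ x → x < 21548 → cFi23a.actRow x = true :=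
  VCert.of_range' _ 21503 21548 (by decide +kernel)

theorem cFi23a_act505 : ∀ x, 22718 ≤ x → x < 22763 → cFi23a.actRow x = true :=
  VCert.of_range' _ 22718 22763 (by decide +kernel)

theorem cFi23a_act532 : ∀ x, 23933 ≤ x → x < 23978 → cFi23a.actRow x = true :=
  VCert.of_range' _ 23933 23978 (by decide +kernel)

theorem cFi23a_act560 : ∀ x, 25192 ≤ x → x < 25237 → cFi23a.actRow x = true :=
  VCert.of_range' _ 25192 25237 (by decide +kernel)

theorem cFi23a_act587 : ∀ x, 26407 ≤ x → x < 26452 → cFi23a.actRow x = true :=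
  VCert.of_range' _ 26407 26452 (by decide +kernel)

theorem cFi23a_act614 : ∀ x, 27622 ≤ x → x < 27667 → cFi23a.actRow x = true :=
  VCert.of_range' _ 27622 27667 (by decide +kernel)

theorem cFi23a_act642 : ∀ x, 28881 ≤ x → x < 28926 → cFi23a.actRow x = true :=
  VCert.of_range' _ 28881 28926 (by decide +kernel)

theorem cFi23a_act669 : ∀ x, 30096 ≤ x → x < 30141 → cFi23a.actRow x = true :=
  VCert.of_range' _ 30096 30141 (by decide +kernel)

theorem cFi23a_act696 : ∀ x, 31311 ≤ x → x < 31356 → cFi23a.actRow x = true :=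
  VCert.of_range' _ 31311 31356 (by decide +kernel)

theorem oFi23a_tr1_8 : ∀ x, 15835 ≤ x → x < 17814 → oFi23a.treeRow cFi23a 1 1 x = true :=
  VCert.of_range' _ 15835 17814 (by decide +kernel)

theorem cFi23a_ok81 : ∀ x, 8734 ≤ x → x < 8841 → cFi23a.rowOK x = true :=
  VCert.of_range' _ 8734 8841 (by decide +kernel)

theorem cFi23a_ok220 : ∀ x, 23722 ≤ x → x < 23829 → cFi23a.rowOK x = true :=
  VCert.of_range' _ 23722 23829 (by decide +kernel)

theorem cFi23a_ok377 : ∀ x, 40651 ≤ x → x < 40758 → cFi23a.rowOK x = true :=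
  VCert.of_range' _ 40651 40758 (by decide +kernel)

theorem cFi23a_ok534 : ∀ x, 57580 ≤ x → x < 57687 → cFi23a.rowOK x = true :=
  VCert.of_range' _ 57580 57687 (by decide +kernel)

theorem oFi23a_colr21 : ∀ x, 16627 ≤ x → x < 17419 → oFi23a.colRow cFi23a x = true :=
  VCert.of_range' _ 16627 17419 (by decide +kernel)

theorem cFi23a_act234 : ∀ x, 10527 ≤ x → x < 10571 → cFi23a.actRow x = true :=
  VCert.of_range' _ 10527 10571 (by decide +kernel)

theorem cFi23a_finn13 : ∀ x, 41912 ≤ x → x < 45136 → cFi23a.finNode x = true :=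
  VCert.of_range' _ 41912 45136 (by decide +kernel)


end Cfsg.Agent.Lib.Lead.VTC
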