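import Cfsg.Agent.Lib.Lead.VTCFi2
import Cfsg.Agent.Lib.Lead.VTC3

set_option autoImplicit false
set_option maxRecDepth 100000

namespace Cfsg.Agent.Lib.Lead.VTC

theorem cFi2_ok15 : ∀ x, 3031 ≤ x → x < 3234 → cFi2.rowOK x = true :=
  VCert.of_range' _ 3031 3234 (by decide +kernel)

theorem cFi2_ok60 : ∀ x, 12127 ≤ x → x < 12330 → cFi2.rowOK x = true :=
  VCert.of_range' _ 12127 12330 (by decide +kernel)

theorem cFi2_finr0 : ∀ x, 0 ≤ x → x < 440 → cFi2.finRow x = true :=
  VCert.of_range' _ 0 440 (by decide +kernel)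

theorem cFi2_finr5 : ∀ x, 2200 ≤ x → x < 2640 → cFi2.finRow x = true :=
  VCert.of_range' _ 2200 2640 (by decide +kernel)

theorem cFi2_finr11 : ∀ x, 4840 ≤ x → x < 5280 → cFi2.finRow x = true :=
  VCert.of_range' _ 4840 5280 (by decide +kernel)

theorem cFi2_finr17 : ∀ x, 7480 ≤ x → x < 7920 → cFi2.finRow x = true :=
  VCert.of_range' _ 7480 7920 (by decide +kernel)

theorem cFi2_finr23 : ∀ x, 10120 ≤ x → x < 10560 → cFi2.finRow x = true :=
  VCert.of_range' _ 10120 10560 (by decide +kernel)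

theorem cFi2_finr29 : ∀ x, 12760 ≤ x → x < 13200 → cFi2.finRow x = true :=
  VCert.of_range' _ 12760 13200 (by decide +kernel)

theorem cFi2_act10 : ∀ x, 686 ≤ x → x < 755 → cFi2.actRow x = true :=
  VCert.of_range' _ 686 755 (by decide +kernel)

theorem cFi2_act19 : ∀ x, 1304 ≤ x → x < 1373 → cFi2.actRow x = true :=
  VCert.of_range' _ 1304 1373 (by decide +kernel)

theorem cFi2_act27 : ∀ x, 1854 ≤ x → x < 1923 → cFi2.actRow x = true :=
  VCert.of_range' _ 1854 1923 (by decide +kernel)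

theorem cFi2_act36 : ∀ x, 2472 ≤ x → x < 2541 → cFi2.actRow x = true :=
  VCert.of_range' _ 2472 2541 (by decide +kernel)

theorem cFi2_act45 : ∀ x, 3090 ≤ x → x < 3159 → cFi2.actRow x = true :=
  VCert.of_range' _ 3090 3159 (by decide +kernel)

theorem cFi2_act54 : ∀ x, 3708 ≤ x → x < 3777 → cFi2.actRow x = true :=
  VCert.of_range' _ 3708 3777 (by decide +kernel)

theorem cFi2_act62 : ∀ x, 4258 ≤ x → x < 4327 → cFi2.actRow x = true :=
  VCert.of_range' _ 4258 4327 (by decide +kernel)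

theorem cFi2_act71 : ∀ x, 4876 ≤ x → x < 4945 → cFi2.actRow x = true :=
  VCert.of_range' _ 4876 4945 (by decide +kernel)

theorem cFi2_act80 : ∀ x, 5494 ≤ x → x < 5563 → cFi2.actRow x = true :=
  VCert.of_range' _ 5494 5563 (by decide +kernel)

theorem cFi2_act89 : ∀ x, 6112 ≤ x → x < 6181 → cFi2.actRow x = true :=
  VCert.of_range' _ 6112 6181 (by decide +kernel)

theorem cFi2_act98 : ∀ x, 6730 ≤ x → x < 6799 → cFi2.actRow x = true :=
  VCert.of_range' _ 6730 6799 (by decide +kernel)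

theorem cFi2_act106 : ∀ x, 7280 ≤ x → x < 7349 → cFi2.actRow x = true :=
  VCert.of_range' _ 7280 7349 (by decide +kernel)

theorem cFi2_act115 : ∀ x, 7898 ≤ x → x < 7967 → cFi2.actRow x = true :=
  VCert.of_range' _ 7898 7967 (by decide +kernel)

theorem cFi2_act124 : ∀ x, 8516 ≤ x → x < 8585 → cFi2.actRow x = true :=
  VCert.of_range' _ 8516 8585 (by decide +kernel)

theorem cFi2_act133 : ∀ x, 9134 ≤ x → x < 9203 → cFi2.actRow x = true :=
  VCert.of_range' _ 9134 9203 (by decide +kernel)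

theorem cFi2_act142 : ∀ x, 9752 ≤ x → x < 9821 → cFi2.actRow x = true :=
  VCert.of_range' _ 9752 9821 (by decide +kernel)

theorem cFi2_act150 : ∀ x, 10302 ≤ x → x < 10371 → cFi2.actRow x = true :=
  VCert.of_range' _ 10302 10371 (by decide +kernel)

theorem cFi2_act159 : ∀ x, 10920 ≤ x → x < 10989 → cFi2.actRow x = true :=
  VCert.of_range' _ 10920 10989 (by decide +kernel)

theorem cFi2_act168 : ∀ x, 11538 ≤ x → x < 11607 → cFi2.actRow x = true :=
  VCert.of_range' _ 11538 11607 (by decide +kernel)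

theorem cFi2_act177 : ∀ x, 12156 ≤ x → x < 12225 → cFi2.actRow x = true :=
  VCert.of_range' _ 12156 12225 (by decide +kernel)

theorem cFi2_act185 : ∀ x, 12706 ≤ x → x < 12775 → cFi2.actRow x = true :=
  VCert.of_range' _ 12706 12775 (by decide +kernel)

theorem cFi2_act194 : ∀ x, 13324 ≤ x → x < 13393 → cFi2.actRow x = true :=
  VCert.of_range' _ 13324 13393 (by decide +kernel)

theorem cFi2_act203 : ∀ x, 13942 ≤ x → x < 14011 → cFi2.actRow x = true :=
  VCert.of_range' _ 13942 14011 (by decide +kernel)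

theorem cFi2_ok5 : ∀ x, 1010 ≤ x → x < 1212 → cFi2.rowOK x = true :=
  VCert.of_range' _ 1010 1212 (by decide +kernel)

theorem cFi2_ok12 : ∀ x, 2425 ≤ x → x < 2627 → cFi2.rowOK x = true :=
  VCert.of_range' _ 2425 2627 (by decide +kernel)

theorem cFi2_ok19 : ∀ x, 3840 ≤ x → x < 4042 → cFi2.rowOK x = true :=
  VCert.of_range' _ 3840 4042 (by decide +kernel)

theorem cFi2_ok26 : ∀ x, 5255 ≤ x → x < 5457 → cFi2.rowOK x = true :=
  VCert.of_range' _ 5255 5457 (by decide +kernel)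

theorem cFi2_ok33 : ∀ x, 6670 ≤ x → x < 6872 → cFi2.rowOK x = true :=
  VCert.of_range' _ 6670 6872 (by decide +kernel)

theorem cFi2_ok40 : ∀ x, 8085 ≤ x → x < 8287 → cFi2.rowOK x = true :=
  VCert.of_range' _ 8085 8287 (by decide +kernel)

theorem cFi2_ok47 : ∀ x, 9500 ≤ x → x < 9702 → cFi2.rowOK x = true :=
  VCert.of_range' _ 9500 9702 (by decide +kernel)

theorem cFi2_ok54 : ∀ x, 10915 ≤ x → x < 11117 → cFi2.rowOK x = true :=
  VCert.of_range' _ 10915 11117 (by decide +kernel)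

theorem cFi2_ok61 : ∀ x, 12330 ≤ x → x < 12532 → cFi2.rowOK x = true :=
  VCert.of_range' _ 12330 12532 (by decide +kernel)

theorem cFi2_ok67 : ∀ x, 13542 ≤ x → x < 13744 → cFi2.rowOK x = true :=
  VCert.of_range' _ 13542 13744 (by decide +kernel)

theorem cFi2_ok74 : ∀ x, 14957 ≤ x → x < 15159 → cFi2.rowOK x = true :=
  VCert.of_range' _ 14957 15159 (by decide +kernel)

theorem cFi2_ok81 : ∀ x, 16372 ≤ x → x < 16574 → cFi2.rowOK x = true :=
  VCert.of_range' _ 16372 16574 (by decide +kernel)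

theorem cFi2_ok88 : ∀ x, 17787 ≤ x → x < 17989 → cFi2.rowOK x = true :=
  VCert.of_range' _ 17787 17989 (by decide +kernel)

theorem cFi2_ok95 : ∀ x, 19202 ≤ x → x < 19404 → cFi2.rowOK x = true :=
  VCert.of_range' _ 19202 19404 (by decide +kernel)

theorem cFi2_act9 : ∀ x, 618 ≤ x → x < 686 → cFi2.actRow x = true :=
  VCert.of_range' _ 618 686 (by decide +kernel)

theorem cFi2_act25 : ∀ x, 1717 ≤ x → x < 1785 → cFi2.actRow x = true :=
  VCert.of_range' _ 1717 1785 (by decide +kernel)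

theorem cFi2_act44 : ∀ x, 3022 ≤ x → x < 3090 → cFi2.actRow x = true :=
  VCert.of_range' _ 3022 3090 (by decide +kernel)

theorem cFi2_act63 : ∀ x, 4327 ≤ x → x < 4395 → cFi2.actRow x = true :=
  VCert.of_range' _ 4327 4395 (by decide +kernel)

theorem cFi2_act82 : ∀ x, 5632 ≤ x → x < 5700 → cFi2.actRow x = true :=
  VCert.of_range' _ 5632 5700 (by decide +kernel)

theorem cFi2_act100 : ∀ x, 6868 ≤ x → x < 6936 → cFi2.actRow x = true :=
  VCert.of_range' _ 6868 6936 (by decide +kernel)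

theorem cFi2_act119 : ∀ x, 8173 ≤ x → x < 8241 → cFi2.actRow x = true :=
  VCert.of_range' _ 8173 8241 (by decide +kernel)

theorem cFi2_act138 : ∀ x, 9478 ≤ x → x < 9546 → cFi2.actRow x = true :=
  VCert.of_range' _ 9478 9546 (by decide +kernel)

theorem cFi2_act157 : ∀ x, 10783 ≤ x → x < 10851 → cFi2.actRow x = true :=
  VCert.of_range' _ 10783 10851 (by decide +kernel)

theorem cFi2_act176 : ∀ x, 12088 ≤ x → x < 12156 → cFi2.actRow x = true :=
  VCert.of_range' _ 12088 12156 (by decide +kernel)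

theorem cFi2_act195 : ∀ x, 13393 ≤ x → x < 13461 → cFi2.actRow x = true :=
  VCert.of_range' _ 13393 13461 (by decide +kernel)

theorem oFi2_colr0 : ∀ x, 0 ≤ x → x < 2011 → oFi2.colRow cFi2 x = true :=
  VCert.of_range' _ 0 2011 (by decide +kernel)

theorem oFi2_tr1_2 : ∀ x, 3520 ≤ x → x < 5280 → oFi2.treeRow cFi2 1 1 x = true :=
  VCert.of_range' _ 3520 5280 (by decide +kernel)

theorem oFi2_tr1_7 : ∀ x, 12320 ≤ x → x < 14080 → oFi2.treeRow cFi2 1 1 x = true :=
  VCert.of_range' _ 12320 14080 (by decide +kernel)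

theorem oFi2_tr2_5 : ∀ x, 8800 ≤ x → x < 10560 → oFi2.treeRow cFi2 191 2 x = true :=
  VCert.of_range' _ 8800 10560 (by decide +kernel)

theorem cFi2_finn5 : ∀ x, 14293 ≤ x → x < 17152 → cFi2.finNode x = true :=
  VCert.of_range' _ 14293 17152 (by decide +kernel)


end Cfsg.Agent.Lib.Lead.VTC
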