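import Cfsg.Agent.Lib.Lead.VTCFi2
import Cfsg.Agent.Lib.Lead.VTC3

set_option autoImplicit false
set_option maxRecDepth 100000

namespace Cfsg.Agent.Lib.Lead.VTC

theorem cFi2_ok22 : ∀ x, 4446 ≤ x → x < 4649 → cFi2.rowOK x = true :=
  VCert.of_range' _ 4446 4649 (by decide +kernel)

theorem cFi2_ok68 : ∀ x, 13744 ≤ x → x < 13947 → cFi2.rowOK x = true :=
  VCert.of_range' _ 13744 13947 (by decide +kernel)

theorem cFi2_finr1 : ∀ x, 440 ≤ x → x < 880 → cFi2.finRow x = true :=
  VCert.of_range' _ 440 880 (by decide +kernel)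

theorem cFi2_finr6 : ∀ x, 2640 ≤ x → x < 3080 → cFi2.finRow x = true :=
  VCert.of_range' _ 2640 3080 (by decide +kernel)

theorem cFi2_finr12 : ∀ x, 5280 ≤ x → x < 5720 → cFi2.finRow x = true :=
  VCert.of_range' _ 5280 5720 (by decide +kernel)

theorem cFi2_finr18 : ∀ x, 7920 ≤ x → x < 8360 → cFi2.finRow x = true :=
  VCert.of_range' _ 7920 8360 (by decide +kernel)

theorem cFi2_finr24 : ∀ x, 10560 ≤ x → x < 11000 → cFi2.finRow x = true :=
  VCert.of_range' _ 10560 11000 (by decide +kernel)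

theorem cFi2_finr30 : ∀ x, 13200 ≤ x → x < 13640 → cFi2.finRow x = true :=
  VCert.of_range' _ 13200 13640 (by decide +kernel)

theorem cFi2_act11 : ∀ x, 755 ≤ x → x < 824 → cFi2.actRow x = true :=
  VCert.of_range' _ 755 824 (by decide +kernel)

theorem cFi2_act20 : ∀ x, 1373 ≤ x → x < 1442 → cFi2.actRow x = true :=
  VCert.of_range' _ 1373 1442 (by decide +kernel)

theorem cFi2_act29 : ∀ x, 1991 ≤ x → x < 2060 → cFi2.actRow x = true :=
  VCert.of_range' _ 1991 2060 (by decide +kernel)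

theorem cFi2_act38 : ∀ x, 2609 ≤ x → x < 2678 → cFi2.actRow x = true :=
  VCert.of_range' _ 2609 2678 (by decide +kernel)

theorem cFi2_act46 : ∀ x, 3159 ≤ x → x < 3228 → cFi2.actRow x = true :=
  VCert.of_range' _ 3159 3228 (by decide +kernel)

theorem cFi2_act55 : ∀ x, 3777 ≤ x → x < 3846 → cFi2.actRow x = true :=
  VCert.of_range' _ 3777 3846 (by decide +kernel)

theorem cFi2_act64 : ∀ x, 4395 ≤ x → x < 4464 → cFi2.actRow x = true :=
  VCert.of_range' _ 4395 4464 (by decide +kernel)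

theorem cFi2_act73 : ∀ x, 5013 ≤ x → x < 5082 → cFi2.actRow x = true :=
  VCert.of_range' _ 5013 5082 (by decide +kernel)

theorem cFi2_act81 : ∀ x, 5563 ≤ x → x < 5632 → cFi2.actRow x = true :=
  VCert.of_range' _ 5563 5632 (by decide +kernel)

theorem cFi2_act90 : ∀ x, 6181 ≤ x → x < 6250 → cFi2.actRow x = true :=
  VCert.of_range' _ 6181 6250 (by decide +kernel)

theorem cFi2_act99 : ∀ x, 6799 ≤ x → x < 6868 → cFi2.actRow x = true :=
  VCert.of_range' _ 6799 6868 (by decide +kernel)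

theorem cFi2_act108 : ∀ x, 7417 ≤ x → x < 7486 → cFi2.actRow x = true :=
  VCert.of_range' _ 7417 7486 (by decide +kernel)

theorem cFi2_act117 : ∀ x, 8035 ≤ x → x < 8104 → cFi2.actRow x = true :=
  VCert.of_range' _ 8035 8104 (by decide +kernel)

theorem cFi2_act125 : ∀ x, 8585 ≤ x → x < 8654 → cFi2.actRow x = true :=
  VCert.of_range' _ 8585 8654 (by decide +kernel)

theorem cFi2_act134 : ∀ x, 9203 ≤ x → x < 9272 → cFi2.actRow x = true :=
  VCert.of_range' _ 9203 9272 (by decide +kernel)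

theorem cFi2_act143 : ∀ x, 9821 ≤ x → x < 9890 → cFi2.actRow x = true :=
  VCert.of_range' _ 9821 9890 (by decide +kernel)

theorem cFi2_act152 : ∀ x, 10439 ≤ x → x < 10508 → cFi2.actRow x = true :=
  VCert.of_range' _ 10439 10508 (by decide +kernel)

theorem cFi2_act161 : ∀ x, 11057 ≤ x → x < 11126 → cFi2.actRow x = true :=
  VCert.of_range' _ 11057 11126 (by decide +kernel)

theorem cFi2_act169 : ∀ x, 11607 ≤ x → x < 11676 → cFi2.actRow x = true :=
  VCert.of_range' _ 11607 11676 (by decide +kernel)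

theorem cFi2_act178 : ∀ x, 12225 ≤ x → x < 12294 → cFi2.actRow x = true :=
  VCert.of_range' _ 12225 12294 (by decide +kernel)

theorem cFi2_act187 : ∀ x, 12843 ≤ x → x < 12912 → cFi2.actRow x = true :=
  VCert.of_range' _ 12843 12912 (by decide +kernel)

theorem cFi2_act196 : ∀ x, 13461 ≤ x → x < 13530 → cFi2.actRow x = true :=
  VCert.of_range' _ 13461 13530 (by decide +kernel)

theorem cFi2_act204 : ∀ x, 14011 ≤ x → x < 14080 → cFi2.actRow x = true :=
  VCert.of_range' _ 14011 14080 (by decide +kernel)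

theorem cFi2_ok6 : ∀ x, 1212 ≤ x → x < 1414 → cFi2.rowOK x = true :=
  VCert.of_range' _ 1212 1414 (by decide +kernel)

theorem cFi2_ok13 : ∀ x, 2627 ≤ x → x < 2829 → cFi2.rowOK x = true :=
  VCert.of_range' _ 2627 2829 (by decide +kernel)

theorem cFi2_ok20 : ∀ x, 4042 ≤ x → x < 4244 → cFi2.rowOK x = true :=
  VCert.of_range' _ 4042 4244 (by decide +kernel)

theorem cFi2_ok27 : ∀ x, 5457 ≤ x → x < 5659 → cFi2.rowOK x = true :=
  VCert.of_range' _ 5457 5659 (by decide +kernel)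

theorem cFi2_ok34 : ∀ x, 6872 ≤ x → x < 7074 → cFi2.rowOK x = true :=
  VCert.of_range' _ 6872 7074 (by decide +kernel)

theorem cFi2_ok41 : ∀ x, 8287 ≤ x → x < 8489 → cFi2.rowOK x = true :=
  VCert.of_range' _ 8287 8489 (by decide +kernel)

theorem cFi2_ok48 : ∀ x, 9702 ≤ x → x < 9904 → cFi2.rowOK x = true :=
  VCert.of_range' _ 9702 9904 (by decide +kernel)

theorem cFi2_ok55 : ∀ x, 11117 ≤ x → x < 11319 → cFi2.rowOK x = true :=
  VCert.of_range' _ 11117 11319 (by decide +kernel)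

theorem cFi2_ok62 : ∀ x, 12532 ≤ x → x < 12734 → cFi2.rowOK x = true :=
  VCert.of_range' _ 12532 12734 (by decide +kernel)

theorem cFi2_ok69 : ∀ x, 13947 ≤ x → x < 14149 → cFi2.rowOK x = true :=
  VCert.of_range' _ 13947 14149 (by decide +kernel)

theorem cFi2_ok75 : ∀ x, 15159 ≤ x → x < 15361 → cFi2.rowOK x = true :=
  VCert.of_range' _ 15159 15361 (by decide +kernel)

theorem cFi2_ok82 : ∀ x, 16574 ≤ x → x < 16776 → cFi2.rowOK x = true :=
  VCert.of_range' _ 16574 16776 (by decide +kernel)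

theorem cFi2_ok89 : ∀ x, 17989 ≤ x → x < 18191 → cFi2.rowOK x = true :=
  VCert.of_range' _ 17989 18191 (by decide +kernel)

theorem cFi2_ok96 : ∀ x, 19404 ≤ x → x < 19606 → cFi2.rowOK x = true :=
  VCert.of_range' _ 19404 19606 (by decide +kernel)

theorem cFi2_act12 : ∀ x, 824 ≤ x → x < 892 → cFi2.actRow x = true :=
  VCert.of_range' _ 824 892 (by decide +kernel)

theorem cFi2_act28 : ∀ x, 1923 ≤ x → x < 1991 → cFi2.actRow x = true :=
  VCert.of_range' _ 1923 1991 (by decide +kernel)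

theorem cFi2_act47 : ∀ x, 3228 ≤ x → x < 3296 → cFi2.actRow x = true :=
  VCert.of_range' _ 3228 3296 (by decide +kernel)

theorem cFi2_act66 : ∀ x, 4533 ≤ x → x < 4601 → cFi2.actRow x = true :=
  VCert.of_range' _ 4533 4601 (by decide +kernel)

theorem cFi2_act85 : ∀ x, 5838 ≤ x → x < 5906 → cFi2.actRow x = true :=
  VCert.of_range' _ 5838 5906 (by decide +kernel)

theorem cFi2_act104 : ∀ x, 7143 ≤ x → x < 7211 → cFi2.actRow x = true :=
  VCert.of_range' _ 7143 7211 (by decide +kernel)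

theorem cFi2_act123 : ∀ x, 8448 ≤ x → x < 8516 → cFi2.actRow x = true :=
  VCert.of_range' _ 8448 8516 (by decide +kernel)

theorem cFi2_act141 : ∀ x, 9684 ≤ x → x < 9752 → cFi2.actRow x = true :=
  VCert.of_range' _ 9684 9752 (by decide +kernel)

theorem cFi2_act160 : ∀ x, 10989 ≤ x → x < 11057 → cFi2.actRow x = true :=
  VCert.of_range' _ 10989 11057 (by decide +kernel)

theorem cFi2_act179 : ∀ x, 12294 ≤ x → x < 12362 → cFi2.actRow x = true :=
  VCert.of_range' _ 12294 12362 (by decide +kernel)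

theorem cFi2_act198 : ∀ x, 13599 ≤ x → x < 13667 → cFi2.actRow x = true :=
  VCert.of_range' _ 13599 13667 (by decide +kernel)

theorem oFi2_colr1 : ∀ x, 2011 ≤ x → x < 4022 → oFi2.colRow cFi2 x = true :=
  VCert.of_range' _ 2011 4022 (by decide +kernel)

theorem oFi2_tr1_3 : ∀ x, 5280 ≤ x → x < 7040 → oFi2.treeRow cFi2 1 1 x = true :=
  VCert.of_range' _ 5280 7040 (by decide +kernel)

theorem oFi2_tr2_0 : ∀ x, 0 ≤ x → x < 1760 → oFi2.treeRow cFi2 191 2 x = true :=
  VCert.of_range' _ 0 1760 (by decide +kernel)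

theorem oFi2_tr2_6 : ∀ x, 10560 ≤ x → x < 12320 → oFi2.treeRow cFi2 191 2 x = true :=
  VCert.of_range' _ 10560 12320 (by decide +kernel)

theorem cFi2_finn6 : ∀ x, 17152 ≤ x → x < 20011 → cFi2.finNode x = true :=
  VCert.of_range' _ 17152 20011 (by decide +kernel)


end Cfsg.Agent.Lib.Lead.VTC
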