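import Cfsg.Agent.Lib.Lead.VTCFi2
import Cfsg.Agent.Lib.Lead.VTC3

set_option autoImplicit false
set_option maxRecDepth 100000

namespace Cfsg.Agent.Lib.Lead.VTC

theorem cFi2_ok30 : ∀ x, 6063 ≤ x → x < 6266 → cFi2.rowOK x = true :=
  VCert.of_range' _ 6063 6266 (by decide +kernel)

theorem cFi2_ok76 : ∀ x, 15361 ≤ x → x < 15564 → cFi2.rowOK x = true :=
  VCert.of_range' _ 15361 15564 (by decide +kernel)

theorem cFi2_finr2 : ∀ x, 880 ≤ x → x < 1320 → cFi2.finRow x = true :=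
  VCert.of_range' _ 880 1320 (by decide +kernel)

theorem cFi2_finr7 : ∀ x, 3080 ≤ x → x < 3520 → cFi2.finRow x = true :=
  VCert.of_range' _ 3080 3520 (by decide +kernel)

theorem cFi2_finr13 : ∀ x, 5720 ≤ x → x < 6160 → cFi2.finRow x = true :=
  VCert.of_range' _ 5720 6160 (by decide +kernel)

theorem cFi2_finr19 : ∀ x, 8360 ≤ x → x < 8800 → cFi2.finRow x = true :=
  VCert.of_range' _ 8360 8800 (by decide +kernel)

theorem cFi2_finr25 : ∀ x, 11000 ≤ x → x < 11440 → cFi2.finRow x = true :=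
  VCert.of_range' _ 11000 11440 (by decide +kernel)

theorem cFi2_finr31 : ∀ x, 13640 ≤ x → x < 14080 → cFi2.finRow x = true :=
  VCert.of_range' _ 13640 14080 (by decide +kernel)

theorem cFi2_act13 : ∀ x, 892 ≤ x → x < 961 → cFi2.actRow x = true :=
  VCert.of_range' _ 892 961 (by decide +kernel)

theorem cFi2_act21 : ∀ x, 1442 ≤ x → x < 1511 → cFi2.actRow x = true :=
  VCert.of_range' _ 1442 1511 (by decide +kernel)

theorem cFi2_act30 : ∀ x, 2060 ≤ x → x < 2129 → cFi2.actRow x = true :=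
  VCert.of_range' _ 2060 2129 (by decide +kernel)

theorem cFi2_act39 : ∀ x, 2678 ≤ x → x < 2747 → cFi2.actRow x = true :=
  VCert.of_range' _ 2678 2747 (by decide +kernel)

theorem cFi2_act48 : ∀ x, 3296 ≤ x → x < 3365 → cFi2.actRow x = true :=
  VCert.of_range' _ 3296 3365 (by decide +kernel)

theorem cFi2_act57 : ∀ x, 3914 ≤ x → x < 3983 → cFi2.actRow x = true :=
  VCert.of_range' _ 3914 3983 (by decide +kernel)

theorem cFi2_act65 : ∀ x, 4464 ≤ x → x < 4533 → cFi2.actRow x = true :=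
  VCert.of_range' _ 4464 4533 (by decide +kernel)

theorem cFi2_act74 : ∀ x, 5082 ≤ x → x < 5151 → cFi2.actRow x = true :=
  VCert.of_range' _ 5082 5151 (by decide +kernel)

theorem cFi2_act83 : ∀ x, 5700 ≤ x → x < 5769 → cFi2.actRow x = true :=
  VCert.of_range' _ 5700 5769 (by decide +kernel)

theorem cFi2_act92 : ∀ x, 6318 ≤ x → x < 6387 → cFi2.actRow x = true :=
  VCert.of_range' _ 6318 6387 (by decide +kernel)

theorem cFi2_act101 : ∀ x, 6936 ≤ x → x < 7005 → cFi2.actRow x = true :=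
  VCert.of_range' _ 6936 7005 (by decide +kernel)

theorem cFi2_act109 : ∀ x, 7486 ≤ x → x < 7555 → cFi2.actRow x = true :=
  VCert.of_range' _ 7486 7555 (by decide +kernel)

theorem cFi2_act118 : ∀ x, 8104 ≤ x → x < 8173 → cFi2.actRow x = true :=
  VCert.of_range' _ 8104 8173 (by decide +kernel)

theorem cFi2_act127 : ∀ x, 8722 ≤ x → x < 8791 → cFi2.actRow x = true :=
  VCert.of_range' _ 8722 8791 (by decide +kernel)

theorem cFi2_act136 : ∀ x, 9340 ≤ x → x < 9409 → cFi2.actRow x = true :=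
  VCert.of_range' _ 9340 9409 (by decide +kernel)

theorem cFi2_act144 : ∀ x, 9890 ≤ x → x < 9959 → cFi2.actRow x = true :=
  VCert.of_range' _ 9890 9959 (by decide +kernel)

theorem cFi2_act153 : ∀ x, 10508 ≤ x → x < 10577 → cFi2.actRow x = true :=
  VCert.of_range' _ 10508 10577 (by decide +kernel)

theorem cFi2_act162 : ∀ x, 11126 ≤ x → x < 11195 → cFi2.actRow x = true :=
  VCert.of_range' _ 11126 11195 (by decide +kernel)

theorem cFi2_act171 : ∀ x, 11744 ≤ x → x < 11813 → cFi2.actRow x = true :=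
  VCert.of_range' _ 11744 11813 (by decide +kernel)

theorem cFi2_act180 : ∀ x, 12362 ≤ x → x < 12431 → cFi2.actRow x = true :=
  VCert.of_range' _ 12362 12431 (by decide +kernel)

theorem cFi2_act188 : ∀ x, 12912 ≤ x → x < 12981 → cFi2.actRow x = true :=
  VCert.of_range' _ 12912 12981 (by decide +kernel)

theorem cFi2_act197 : ∀ x, 13530 ≤ x → x < 13599 → cFi2.actRow x = true :=
  VCert.of_range' _ 13530 13599 (by decide +kernel)

theorem cFi2_ok0 : ∀ x, 0 ≤ x → x < 202 → cFi2.rowOK x = true :=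
  VCert.of_range' _ 0 202 (by decide +kernel)

theorem cFi2_ok1 : ∀ x, 202 ≤ x → x < 404 → cFi2.rowOK x = true :=
  VCert.of_range' _ 202 404 (by decide +kernel)

theorem cFi2_ok8 : ∀ x, 1617 ≤ x → x < 1819 → cFi2.rowOK x = true :=
  VCert.of_range' _ 1617 1819 (by decide +kernel)

theorem cFi2_ok14 : ∀ x, 2829 ≤ x → x < 3031 → cFi2.rowOK x = true :=
  VCert.of_range' _ 2829 3031 (by decide +kernel)

theorem cFi2_ok21 : ∀ x, 4244 ≤ x → x < 4446 → cFi2.rowOK x = true :=
  VCert.of_range' _ 4244 4446 (by decide +kernel)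

theorem cFi2_ok28 : ∀ x, 5659 ≤ x → x < 5861 → cFi2.rowOK x = true :=
  VCert.of_range' _ 5659 5861 (by decide +kernel)

theorem cFi2_ok35 : ∀ x, 7074 ≤ x → x < 7276 → cFi2.rowOK x = true :=
  VCert.of_range' _ 7074 7276 (by decide +kernel)

theorem cFi2_ok42 : ∀ x, 8489 ≤ x → x < 8691 → cFi2.rowOK x = true :=
  VCert.of_range' _ 8489 8691 (by decide +kernel)

theorem cFi2_ok49 : ∀ x, 9904 ≤ x → x < 10106 → cFi2.rowOK x = true :=
  VCert.of_range' _ 9904 10106 (by decide +kernel)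

theorem cFi2_ok56 : ∀ x, 11319 ≤ x → x < 11521 → cFi2.rowOK x = true :=
  VCert.of_range' _ 11319 11521 (by decide +kernel)

theorem cFi2_ok63 : ∀ x, 12734 ≤ x → x < 12936 → cFi2.rowOK x = true :=
  VCert.of_range' _ 12734 12936 (by decide +kernel)

theorem cFi2_ok70 : ∀ x, 14149 ≤ x → x < 14351 → cFi2.rowOK x = true :=
  VCert.of_range' _ 14149 14351 (by decide +kernel)

theorem cFi2_ok77 : ∀ x, 15564 ≤ x → x < 15766 → cFi2.rowOK x = true :=
  VCert.of_range' _ 15564 15766 (by decide +kernel)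

theorem cFi2_ok84 : ∀ x, 16979 ≤ x → x < 17181 → cFi2.rowOK x = true :=
  VCert.of_range' _ 16979 17181 (by decide +kernel)

theorem cFi2_ok90 : ∀ x, 18191 ≤ x → x < 18393 → cFi2.rowOK x = true :=
  VCert.of_range' _ 18191 18393 (by decide +kernel)

theorem cFi2_ok97 : ∀ x, 19606 ≤ x → x < 19808 → cFi2.rowOK x = true :=
  VCert.of_range' _ 19606 19808 (by decide +kernel)

theorem cFi2_act31 : ∀ x, 2129 ≤ x → x < 2197 → cFi2.actRow x = true :=
  VCert.of_range' _ 2129 2197 (by decide +kernel)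

theorem cFi2_act50 : ∀ x, 3434 ≤ x → x < 3502 → cFi2.actRow x = true :=
  VCert.of_range' _ 3434 3502 (by decide +kernel)

theorem cFi2_act69 : ∀ x, 4739 ≤ x → x < 4807 → cFi2.actRow x = true :=
  VCert.of_range' _ 4739 4807 (by decide +kernel)

theorem cFi2_act88 : ∀ x, 6044 ≤ x → x < 6112 → cFi2.actRow x = true :=
  VCert.of_range' _ 6044 6112 (by decide +kernel)

theorem cFi2_act107 : ∀ x, 7349 ≤ x → x < 7417 → cFi2.actRow x = true :=
  VCert.of_range' _ 7349 7417 (by decide +kernel)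

theorem cFi2_act126 : ∀ x, 8654 ≤ x → x < 8722 → cFi2.actRow x = true :=
  VCert.of_range' _ 8654 8722 (by decide +kernel)

theorem cFi2_act145 : ∀ x, 9959 ≤ x → x < 10027 → cFi2.actRow x = true :=
  VCert.of_range' _ 9959 10027 (by decide +kernel)

theorem cFi2_act164 : ∀ x, 11264 ≤ x → x < 11332 → cFi2.actRow x = true :=
  VCert.of_range' _ 11264 11332 (by decide +kernel)

theorem cFi2_act182 : ∀ x, 12500 ≤ x → x < 12568 → cFi2.actRow x = true :=
  VCert.of_range' _ 12500 12568 (by decide +kernel)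

theorem cFi2_act201 : ∀ x, 13805 ≤ x → x < 13873 → cFi2.actRow x = true :=
  VCert.of_range' _ 13805 13873 (by decide +kernel)

theorem oFi2_colr3 : ∀ x, 6034 ≤ x → x < 8045 → oFi2.colRow cFi2 x = true :=
  VCert.of_range' _ 6034 8045 (by decide +kernel)

theorem oFi2_tr1_4 : ∀ x, 7040 ≤ x → x < 8800 → oFi2.treeRow cFi2 1 1 x = true :=
  VCert.of_range' _ 7040 8800 (by decide +kernel)

theorem oFi2_tr2_1 : ∀ x, 1760 ≤ x → x < 3520 → oFi2.treeRow cFi2 191 2 x = true :=
  VCert.of_range' _ 1760 3520 (by decide +kernel)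

theorem oFi2_tr2_7 : ∀ x, 12320 ≤ x → x < 14080 → oFi2.treeRow cFi2 191 2 x = true :=
  VCert.of_range' _ 12320 14080 (by decide +kernel)

theorem cFi2_finn0 : ∀ x, 0 ≤ x → x < 2858 → cFi2.finNode x = true :=
  VCert.of_range' _ 0 2858 (by decide +kernel)


end Cfsg.Agent.Lib.Lead.VTC
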