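import Cfsg.Agent.Lib.Lead.VTCFi2
import Cfsg.Agent.Lib.Lead.VTC3

set_option autoImplicit false
set_option maxRecDepth 100000

namespace Cfsg.Agent.Lib.Lead.VTC

theorem cFi2_ok38 : ∀ x, 7680 ≤ x → x < 7883 → cFi2.rowOK x = true :=
  VCert.of_range' _ 7680 7883 (by decide +kernel)

theorem cFi2_ok83 : ∀ x, 16776 ≤ x → x < 16979 → cFi2.rowOK x = true :=
  VCert.of_range' _ 16776 16979 (by decide +kernel)

theorem cFi2_finr3 : ∀ x, 1320 ≤ x → x < 1760 → cFi2.finRow x = true :=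
  VCert.of_range' _ 1320 1760 (by decide +kernel)

theorem cFi2_finr8 : ∀ x, 3520 ≤ x → x < 3960 → cFi2.finRow x = true :=
  VCert.of_range' _ 3520 3960 (by decide +kernel)

theorem cFi2_finr14 : ∀ x, 6160 ≤ x → x < 6600 → cFi2.finRow x = true :=
  VCert.of_range' _ 6160 6600 (by decide +kernel)

theorem cFi2_finr20 : ∀ x, 8800 ≤ x → x < 9240 → cFi2.finRow x = true :=
  VCert.of_range' _ 8800 9240 (by decide +kernel)

theorem cFi2_finr26 : ∀ x, 11440 ≤ x → x < 11880 → cFi2.finRow x = true :=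
  VCert.of_range' _ 11440 11880 (by decide +kernel)

theorem cFi2_act1 : ∀ x, 68 ≤ x → x < 137 → cFi2.actRow x = true :=
  VCert.of_range' _ 68 137 (by decide +kernel)

theorem cFi2_act5 : ∀ x, 343 ≤ x → x < 412 → cFi2.actRow x = true :=
  VCert.of_range' _ 343 412 (by decide +kernel)

theorem cFi2_act14 : ∀ x, 961 ≤ x → x < 1030 → cFi2.actRow x = true :=
  VCert.of_range' _ 961 1030 (by decide +kernel)

theorem cFi2_act23 : ∀ x, 1579 ≤ x → x < 1648 → cFi2.actRow x = true :=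
  VCert.of_range' _ 1579 1648 (by decide +kernel)

theorem cFi2_act32 : ∀ x, 2197 ≤ x → x < 2266 → cFi2.actRow x = true :=
  VCert.of_range' _ 2197 2266 (by decide +kernel)

theorem cFi2_act40 : ∀ x, 2747 ≤ x → x < 2816 → cFi2.actRow x = true :=
  VCert.of_range' _ 2747 2816 (by decide +kernel)

theorem cFi2_act49 : ∀ x, 3365 ≤ x → x < 3434 → cFi2.actRow x = true :=
  VCert.of_range' _ 3365 3434 (by decide +kernel)

theorem cFi2_act58 : ∀ x, 3983 ≤ x → x < 4052 → cFi2.actRow x = true :=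
  VCert.of_range' _ 3983 4052 (by decide +kernel)

theorem cFi2_act67 : ∀ x, 4601 ≤ x → x < 4670 → cFi2.actRow x = true :=
  VCert.of_range' _ 4601 4670 (by decide +kernel)

theorem cFi2_act76 : ∀ x, 5219 ≤ x → x < 5288 → cFi2.actRow x = true :=
  VCert.of_range' _ 5219 5288 (by decide +kernel)

theorem cFi2_act84 : ∀ x, 5769 ≤ x → x < 5838 → cFi2.actRow x = true :=
  VCert.of_range' _ 5769 5838 (by decide +kernel)

theorem cFi2_act93 : ∀ x, 6387 ≤ x → x < 6456 → cFi2.actRow x = true :=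
  VCert.of_range' _ 6387 6456 (by decide +kernel)

theorem cFi2_act102 : ∀ x, 7005 ≤ x → x < 7074 → cFi2.actRow x = true :=
  VCert.of_range' _ 7005 7074 (by decide +kernel)

theorem cFi2_act111 : ∀ x, 7623 ≤ x → x < 7692 → cFi2.actRow x = true :=
  VCert.of_range' _ 7623 7692 (by decide +kernel)

theorem cFi2_act120 : ∀ x, 8241 ≤ x → x < 8310 → cFi2.actRow x = true :=
  VCert.of_range' _ 8241 8310 (by decide +kernel)

theorem cFi2_act128 : ∀ x, 8791 ≤ x → x < 8860 → cFi2.actRow x = true :=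
  VCert.of_range' _ 8791 8860 (by decide +kernel)

theorem cFi2_act137 : ∀ x, 9409 ≤ x → x < 9478 → cFi2.actRow x = true :=
  VCert.of_range' _ 9409 9478 (by decide +kernel)

theorem cFi2_act146 : ∀ x, 10027 ≤ x → x < 10096 → cFi2.actRow x = true :=
  VCert.of_range' _ 10027 10096 (by decide +kernel)

theorem cFi2_act155 : ∀ x, 10645 ≤ x → x < 10714 → cFi2.actRow x = true :=
  VCert.of_range' _ 10645 10714 (by decide +kernel)

theorem cFi2_act163 : ∀ x, 11195 ≤ x → x < 11264 → cFi2.actRow x = true :=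
  VCert.of_range' _ 11195 11264 (by decide +kernel)

theorem cFi2_act172 : ∀ x, 11813 ≤ x → x < 11882 → cFi2.actRow x = true :=
  VCert.of_range' _ 11813 11882 (by decide +kernel)

theorem cFi2_act181 : ∀ x, 12431 ≤ x → x < 12500 → cFi2.actRow x = true :=
  VCert.of_range' _ 12431 12500 (by decide +kernel)

theorem cFi2_act190 : ∀ x, 13049 ≤ x → x < 13118 → cFi2.actRow x = true :=
  VCert.of_range' _ 13049 13118 (by decide +kernel)

theorem cFi2_act199 : ∀ x, 13667 ≤ x → x < 13736 → cFi2.actRow x = true :=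
  VCert.of_range' _ 13667 13736 (by decide +kernel)

theorem cFi2_ok2 : ∀ x, 404 ≤ x → x < 606 → cFi2.rowOK x = true :=
  VCert.of_range' _ 404 606 (by decide +kernel)

theorem cFi2_ok9 : ∀ x, 1819 ≤ x → x < 2021 → cFi2.rowOK x = true :=
  VCert.of_range' _ 1819 2021 (by decide +kernel)

theorem cFi2_ok16 : ∀ x, 3234 ≤ x → x < 3436 → cFi2.rowOK x = true :=
  VCert.of_range' _ 3234 3436 (by decide +kernel)

theorem cFi2_ok23 : ∀ x, 4649 ≤ x → x < 4851 → cFi2.rowOK x = true :=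
  VCert.of_range' _ 4649 4851 (by decide +kernel)

theorem cFi2_ok29 : ∀ x, 5861 ≤ x → x < 6063 → cFi2.rowOK x = true :=
  VCert.of_range' _ 5861 6063 (by decide +kernel)

theorem cFi2_ok36 : ∀ x, 7276 ≤ x → x < 7478 → cFi2.rowOK x = true :=
  VCert.of_range' _ 7276 7478 (by decide +kernel)

theorem cFi2_ok43 : ∀ x, 8691 ≤ x → x < 8893 → cFi2.rowOK x = true :=
  VCert.of_range' _ 8691 8893 (by decide +kernel)

theorem cFi2_ok50 : ∀ x, 10106 ≤ x → x < 10308 → cFi2.rowOK x = true :=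
  VCert.of_range' _ 10106 10308 (by decide +kernel)

theorem cFi2_ok57 : ∀ x, 11521 ≤ x → x < 11723 → cFi2.rowOK x = true :=
  VCert.of_range' _ 11521 11723 (by decide +kernel)

theorem cFi2_ok64 : ∀ x, 12936 ≤ x → x < 13138 → cFi2.rowOK x = true :=
  VCert.of_range' _ 12936 13138 (by decide +kernel)

theorem cFi2_ok71 : ∀ x, 14351 ≤ x → x < 14553 → cFi2.rowOK x = true :=
  VCert.of_range' _ 14351 14553 (by decide +kernel)

theorem cFi2_ok78 : ∀ x, 15766 ≤ x → x < 15968 → cFi2.rowOK x = true :=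
  VCert.of_range' _ 15766 15968 (by decide +kernel)

theorem cFi2_ok85 : ∀ x, 17181 ≤ x → x < 17383 → cFi2.rowOK x = true :=
  VCert.of_range' _ 17181 17383 (by decide +kernel)

theorem cFi2_ok92 : ∀ x, 18596 ≤ x → x < 18798 → cFi2.rowOK x = true :=
  VCert.of_range' _ 18596 18798 (by decide +kernel)

theorem cFi2_act0 : ∀ x, 0 ≤ x → x < 68 → cFi2.actRow x = true :=
  VCert.of_range' _ 0 68 (by decide +kernel)

theorem cFi2_act15 : ∀ x, 1030 ≤ x → x < 1098 → cFi2.actRow x = true :=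
  VCert.of_range' _ 1030 1098 (by decide +kernel)

theorem cFi2_act34 : ∀ x, 2335 ≤ x → x < 2403 → cFi2.actRow x = true :=
  VCert.of_range' _ 2335 2403 (by decide +kernel)

theorem cFi2_act53 : ∀ x, 3640 ≤ x → x < 3708 → cFi2.actRow x = true :=
  VCert.of_range' _ 3640 3708 (by decide +kernel)

theorem cFi2_act72 : ∀ x, 4945 ≤ x → x < 5013 → cFi2.actRow x = true :=
  VCert.of_range' _ 4945 5013 (by decide +kernel)

theorem cFi2_act91 : ∀ x, 6250 ≤ x → x < 6318 → cFi2.actRow x = true :=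
  VCert.of_range' _ 6250 6318 (by decide +kernel)

theorem cFi2_act110 : ∀ x, 7555 ≤ x → x < 7623 → cFi2.actRow x = true :=
  VCert.of_range' _ 7555 7623 (by decide +kernel)

theorem cFi2_act129 : ∀ x, 8860 ≤ x → x < 8928 → cFi2.actRow x = true :=
  VCert.of_range' _ 8860 8928 (by decide +kernel)

theorem cFi2_act148 : ∀ x, 10165 ≤ x → x < 10233 → cFi2.actRow x = true :=
  VCert.of_range' _ 10165 10233 (by decide +kernel)

theorem cFi2_act167 : ∀ x, 11470 ≤ x → x < 11538 → cFi2.actRow x = true :=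
  VCert.of_range' _ 11470 11538 (by decide +kernel)

theorem cFi2_act186 : ∀ x, 12775 ≤ x → x < 12843 → cFi2.actRow x = true :=
  VCert.of_range' _ 12775 12843 (by decide +kernel)

theorem oFi2_colr2 : ∀ x, 4022 ≤ x → x < 6034 → oFi2.colRow cFi2 x = true :=
  VCert.of_range' _ 4022 6034 (by decide +kernel)

theorem oFi2_colr5 : ∀ x, 10057 ≤ x → x < 12068 → oFi2.colRow cFi2 x = true :=
  VCert.of_range' _ 10057 12068 (by decide +kernel)

theorem oFi2_tr2_2 : ∀ x, 3520 ≤ x → x < 5280 → oFi2.treeRow cFi2 191 2 x = true :=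
  VCert.of_range' _ 3520 5280 (by decide +kernel)

theorem cFi2_finn1 : ∀ x, 2858 ≤ x → x < 5717 → cFi2.finNode x = true :=
  VCert.of_range' _ 2858 5717 (by decide +kernel)

theorem cFi2_finn3 : ∀ x, 8576 ≤ x → x < 11434 → cFi2.finNode x = true :=
  VCert.of_range' _ 8576 11434 (by decide +kernel)


end Cfsg.Agent.Lib.Lead.VTC
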