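import Cfsg.Agent.Lib.Lead.VTCFi2
import Cfsg.Agent.Lib.Lead.VTC3

set_option autoImplicit false
set_option maxRecDepth 100000

namespace Cfsg.Agent.Lib.Lead.VTC

theorem cFi2_ok45 : ∀ x, 9095 ≤ x → x < 9298 → cFi2.rowOK x = true :=
  VCert.of_range' _ 9095 9298 (by decide +kernel)

theorem cFi2_ok91 : ∀ x, 18393 ≤ x → x < 18596 → cFi2.rowOK x = true :=
  VCert.of_range' _ 18393 18596 (by decide +kernel)

theorem cFi2_finr4 : ∀ x, 1760 ≤ x → x < 2200 → cFi2.finRow x = true :=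
  VCert.of_range' _ 1760 2200 (by decide +kernel)

theorem cFi2_finr9 : ∀ x, 3960 ≤ x → x < 4400 → cFi2.finRow x = true :=
  VCert.of_range' _ 3960 4400 (by decide +kernel)

theorem cFi2_finr15 : ∀ x, 6600 ≤ x → x < 7040 → cFi2.finRow x = true :=
  VCert.of_range' _ 6600 7040 (by decide +kernel)

theorem cFi2_finr21 : ∀ x, 9240 ≤ x → x < 9680 → cFi2.finRow x = true :=
  VCert.of_range' _ 9240 9680 (by decide +kernel)

theorem cFi2_finr27 : ∀ x, 11880 ≤ x → x < 12320 → cFi2.finRow x = true :=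
  VCert.of_range' _ 11880 12320 (by decide +kernel)

theorem cFi2_act2 : ∀ x, 137 ≤ x → x < 206 → cFi2.actRow x = true :=
  VCert.of_range' _ 137 206 (by decide +kernel)

theorem cFi2_act7 : ∀ x, 480 ≤ x → x < 549 → cFi2.actRow x = true :=
  VCert.of_range' _ 480 549 (by decide +kernel)

theorem cFi2_act16 : ∀ x, 1098 ≤ x → x < 1167 → cFi2.actRow x = true :=
  VCert.of_range' _ 1098 1167 (by decide +kernel)

theorem cFi2_act24 : ∀ x, 1648 ≤ x → x < 1717 → cFi2.actRow x = true :=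
  VCert.of_range' _ 1648 1717 (by decide +kernel)

theorem cFi2_act33 : ∀ x, 2266 ≤ x → x < 2335 → cFi2.actRow x = true :=
  VCert.of_range' _ 2266 2335 (by decide +kernel)

theorem cFi2_act42 : ∀ x, 2884 ≤ x → x < 2953 → cFi2.actRow x = true :=
  VCert.of_range' _ 2884 2953 (by decide +kernel)

theorem cFi2_act51 : ∀ x, 3502 ≤ x → x < 3571 → cFi2.actRow x = true :=
  VCert.of_range' _ 3502 3571 (by decide +kernel)

theorem cFi2_act60 : ∀ x, 4120 ≤ x → x < 4189 → cFi2.actRow x = true :=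
  VCert.of_range' _ 4120 4189 (by decide +kernel)

theorem cFi2_act68 : ∀ x, 4670 ≤ x → x < 4739 → cFi2.actRow x = true :=
  VCert.of_range' _ 4670 4739 (by decide +kernel)

theorem cFi2_act77 : ∀ x, 5288 ≤ x → x < 5357 → cFi2.actRow x = true :=
  VCert.of_range' _ 5288 5357 (by decide +kernel)

theorem cFi2_act86 : ∀ x, 5906 ≤ x → x < 5975 → cFi2.actRow x = true :=
  VCert.of_range' _ 5906 5975 (by decide +kernel)

theorem cFi2_act95 : ∀ x, 6524 ≤ x → x < 6593 → cFi2.actRow x = true :=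
  VCert.of_range' _ 6524 6593 (by decide +kernel)

theorem cFi2_act103 : ∀ x, 7074 ≤ x → x < 7143 → cFi2.actRow x = true :=
  VCert.of_range' _ 7074 7143 (by decide +kernel)

theorem cFi2_act112 : ∀ x, 7692 ≤ x → x < 7761 → cFi2.actRow x = true :=
  VCert.of_range' _ 7692 7761 (by decide +kernel)

theorem cFi2_act121 : ∀ x, 8310 ≤ x → x < 8379 → cFi2.actRow x = true :=
  VCert.of_range' _ 8310 8379 (by decide +kernel)

theorem cFi2_act130 : ∀ x, 8928 ≤ x → x < 8997 → cFi2.actRow x = true :=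
  VCert.of_range' _ 8928 8997 (by decide +kernel)

theorem cFi2_act139 : ∀ x, 9546 ≤ x → x < 9615 → cFi2.actRow x = true :=
  VCert.of_range' _ 9546 9615 (by decide +kernel)

theorem cFi2_act147 : ∀ x, 10096 ≤ x → x < 10165 → cFi2.actRow x = true :=
  VCert.of_range' _ 10096 10165 (by decide +kernel)

theorem cFi2_act156 : ∀ x, 10714 ≤ x → x < 10783 → cFi2.actRow x = true :=
  VCert.of_range' _ 10714 10783 (by decide +kernel)

theorem cFi2_act165 : ∀ x, 11332 ≤ x → x < 11401 → cFi2.actRow x = true :=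
  VCert.of_range' _ 11332 11401 (by decide +kernel)

theorem cFi2_act174 : ∀ x, 11950 ≤ x → x < 12019 → cFi2.actRow x = true :=
  VCert.of_range' _ 11950 12019 (by decide +kernel)

theorem cFi2_act183 : ∀ x, 12568 ≤ x → x < 12637 → cFi2.actRow x = true :=
  VCert.of_range' _ 12568 12637 (by decide +kernel)

theorem cFi2_act191 : ∀ x, 13118 ≤ x → x < 13187 → cFi2.actRow x = true :=
  VCert.of_range' _ 13118 13187 (by decide +kernel)

theorem cFi2_act200 : ∀ x, 13736 ≤ x → x < 13805 → cFi2.actRow x = true :=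
  VCert.of_range' _ 13736 13805 (by decide +kernel)

theorem cFi2_ok3 : ∀ x, 606 ≤ x → x < 808 → cFi2.rowOK x = true :=
  VCert.of_range' _ 606 808 (by decide +kernel)

theorem cFi2_ok10 : ∀ x, 2021 ≤ x → x < 2223 → cFi2.rowOK x = true :=
  VCert.of_range' _ 2021 2223 (by decide +kernel)

theorem cFi2_ok17 : ∀ x, 3436 ≤ x → x < 3638 → cFi2.rowOK x = true :=
  VCert.of_range' _ 3436 3638 (by decide +kernel)

theorem cFi2_ok24 : ∀ x, 4851 ≤ x → x < 5053 → cFi2.rowOK x = true :=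
  VCert.of_range' _ 4851 5053 (by decide +kernel)

theorem cFi2_ok31 : ∀ x, 6266 ≤ x → x < 6468 → cFi2.rowOK x = true :=
  VCert.of_range' _ 6266 6468 (by decide +kernel)

theorem cFi2_ok37 : ∀ x, 7478 ≤ x → x < 7680 → cFi2.rowOK x = true :=
  VCert.of_range' _ 7478 7680 (by decide +kernel)

theorem cFi2_ok44 : ∀ x, 8893 ≤ x → x < 9095 → cFi2.rowOK x = true :=
  VCert.of_range' _ 8893 9095 (by decide +kernel)

theorem cFi2_ok51 : ∀ x, 10308 ≤ x → x < 10510 → cFi2.rowOK x = true :=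
  VCert.of_range' _ 10308 10510 (by decide +kernel)

theorem cFi2_ok58 : ∀ x, 11723 ≤ x → x < 11925 → cFi2.rowOK x = true :=
  VCert.of_range' _ 11723 11925 (by decide +kernel)

theorem cFi2_ok65 : ∀ x, 13138 ≤ x → x < 13340 → cFi2.rowOK x = true :=
  VCert.of_range' _ 13138 13340 (by decide +kernel)

theorem cFi2_ok72 : ∀ x, 14553 ≤ x → x < 14755 → cFi2.rowOK x = true :=
  VCert.of_range' _ 14553 14755 (by decide +kernel)

theorem cFi2_ok79 : ∀ x, 15968 ≤ x → x < 16170 → cFi2.rowOK x = true :=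
  VCert.of_range' _ 15968 16170 (by decide +kernel)

theorem cFi2_ok86 : ∀ x, 17383 ≤ x → x < 17585 → cFi2.rowOK x = true :=
  VCert.of_range' _ 17383 17585 (by decide +kernel)

theorem cFi2_ok93 : ∀ x, 18798 ≤ x → x < 19000 → cFi2.rowOK x = true :=
  VCert.of_range' _ 18798 19000 (by decide +kernel)

theorem cFi2_act3 : ∀ x, 206 ≤ x → x < 274 → cFi2.actRow x = true :=
  VCert.of_range' _ 206 274 (by decide +kernel)

theorem cFi2_act18 : ∀ x, 1236 ≤ x → x < 1304 → cFi2.actRow x = true :=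
  VCert.of_range' _ 1236 1304 (by decide +kernel)

theorem cFi2_act37 : ∀ x, 2541 ≤ x → x < 2609 → cFi2.actRow x = true :=
  VCert.of_range' _ 2541 2609 (by decide +kernel)

theorem cFi2_act56 : ∀ x, 3846 ≤ x → x < 3914 → cFi2.actRow x = true :=
  VCert.of_range' _ 3846 3914 (by decide +kernel)

theorem cFi2_act75 : ∀ x, 5151 ≤ x → x < 5219 → cFi2.actRow x = true :=
  VCert.of_range' _ 5151 5219 (by decide +kernel)

theorem cFi2_act94 : ∀ x, 6456 ≤ x → x < 6524 → cFi2.actRow x = true :=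
  VCert.of_range' _ 6456 6524 (by decide +kernel)

theorem cFi2_act113 : ∀ x, 7761 ≤ x → x < 7829 → cFi2.actRow x = true :=
  VCert.of_range' _ 7761 7829 (by decide +kernel)

theorem cFi2_act132 : ∀ x, 9066 ≤ x → x < 9134 → cFi2.actRow x = true :=
  VCert.of_range' _ 9066 9134 (by decide +kernel)

theorem cFi2_act151 : ∀ x, 10371 ≤ x → x < 10439 → cFi2.actRow x = true :=
  VCert.of_range' _ 10371 10439 (by decide +kernel)

theorem cFi2_act170 : ∀ x, 11676 ≤ x → x < 11744 → cFi2.actRow x = true :=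
  VCert.of_range' _ 11676 11744 (by decide +kernel)

theorem cFi2_act189 : ∀ x, 12981 ≤ x → x < 13049 → cFi2.actRow x = true :=
  VCert.of_range' _ 12981 13049 (by decide +kernel)

theorem oFi2_colr4 : ∀ x, 8045 ≤ x → x < 10057 → oFi2.colRow cFi2 x = true :=
  VCert.of_range' _ 8045 10057 (by decide +kernel)

theorem oFi2_tr1_0 : ∀ x, 0 ≤ x → x < 1760 → oFi2.treeRow cFi2 1 1 x = true :=
  VCert.of_range' _ 0 1760 (by decide +kernel)

theorem oFi2_tr1_5 : ∀ x, 8800 ≤ x → x < 10560 → oFi2.treeRow cFi2 1 1 x = true :=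
  VCert.of_range' _ 8800 10560 (by decide +kernel)

theorem oFi2_tr2_3 : ∀ x, 5280 ≤ x → x < 7040 → oFi2.treeRow cFi2 191 2 x = true :=
  VCert.of_range' _ 5280 7040 (by decide +kernel)

theorem cFi2_finn2 : ∀ x, 5717 ≤ x → x < 8576 → cFi2.finNode x = true :=
  VCert.of_range' _ 5717 8576 (by decide +kernel)


end Cfsg.Agent.Lib.Lead.VTC
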