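import Cfsg.Agent.Lib.Lead.VTCFi2Q0
import Cfsg.Agent.Lib.Lead.VTCFi2Q1
import Cfsg.Agent.Lib.Lead.VTCFi2Q2
import Cfsg.Agent.Lib.Lead.VTCFi2Q3
import Cfsg.Agent.Lib.Lead.VTCFi2Q4
import Cfsg.Agent.Lib.Lead.VTCFi2Q5

set_option autoImplicit false
set_option maxRecDepth 100000

namespace Cfsg.Agent.Lib.Lead.VTC

theorem cFi2_base : cFi2.baseOK = true := by decide +kernel

theorem cFi2_okG0 : ∀ x, 0 ≤ x → x < 3234 → cFi2.rowOK x = true := by
  intro x hlo hhi
  by_cases h0 : x < 202
  · exact cFi2_ok0 x (by omega) h0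
  by_cases h1 : x < 404
  · exact cFi2_ok1 x (by omega) h1
  by_cases h2 : x < 606
  · exact cFi2_ok2 x (by omega) h2
  by_cases h3 : x < 808
  · exact cFi2_ok3 x (by omega) h3
  by_cases h4 : x < 1010
  · exact cFi2_ok4 x (by omega) h4
  by_cases h5 : x < 1212
  · exact cFi2_ok5 x (by omega) h5
  by_cases h6 : x < 1414
  · exact cFi2_ok6 x (by omega) h6
  by_cases h7 : x < 1617
  · exact cFi2_ok7 x (by omega) h7
  by_cases h8 : x < 1819
  · exact cFi2_ok8 x (by omega) h8
  by_cases h9 : x < 2021
  · exact cFi2_ok9 x (by omega) h9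
  by_cases h10 : x < 2223
  · exact cFi2_ok10 x (by omega) h10
  by_cases h11 : x < 2425
  · exact cFi2_ok11 x (by omega) h11
  by_cases h12 : x < 2627
  · exact cFi2_ok12 x (by omega) h12
  by_cases h13 : x < 2829
  · exact cFi2_ok13 x (by omega) h13
  by_cases h14 : x < 3031
  · exact cFi2_ok14 x (by omega) h14
  exact cFi2_ok15 x (by omega) hhi

theorem cFi2_okG1 : ∀ x, 3234 ≤ x → x < 6468 → cFi2.rowOK x = true := by
  intro x hlo hhi
  by_cases h0 : x < 3436
  · exact cFi2_ok16 x (by omega) h0
  by_cases h1 : x < 3638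
  · exact cFi2_ok17 x (by omega) h1
  by_cases h2 : x < 3840
  · exact cFi2_ok18 x (by omega) h2
  by_cases h3 : x < 4042
  · exact cFi2_ok19 x (by omega) h3
  by_cases h4 : x < 4244
  · exact cFi2_ok20 x (by omega) h4
  by_cases h5 : x < 4446
  · exact cFi2_ok21 x (by omega) h5
  by_cases h6 : x < 4649
  · exact cFi2_ok22 x (by omega) h6
  by_cases h7 : x < 4851
  · exact cFi2_ok23 x (by omega) h7
  by_cases h8 : x < 5053
  · exact cFi2_ok24 x (by omega) h8
  by_cases h9 : x < 5255
  · exact cFi2_ok25 x (by omega) h9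
  by_cases h10 : x < 5457
  · exact cFi2_ok26 x (by omega) h10
  by_cases h11 : x < 5659
  · exact cFi2_ok27 x (by omega) h11
  by_cases h12 : x < 5861
  · exact cFi2_ok28 x (by omega) h12
  by_cases h13 : x < 6063
  · exact cFi2_ok29 x (by omega) h13
  by_cases h14 : x < 6266
  · exact cFi2_ok30 x (by omega) h14
  exact cFi2_ok31 x (by omega) hhi

theorem cFi2_okG2 : ∀ x, 6468 ≤ x → x < 9702 → cFi2.rowOK x = true := by
  intro x hlo hhi
  by_cases h0 : x < 6670
  · exact cFi2_ok32 x (by omega) h0
  by_cases h1 : x < 6872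
  · exact cFi2_ok33 x (by omega) h1
  by_cases h2 : x < 7074
  · exact cFi2_ok34 x (by omega) h2
  by_cases h3 : x < 7276
  · exact cFi2_ok35 x (by omega) h3
  by_cases h4 : x < 7478
  · exact cFi2_ok36 x (by omega) h4
  by_cases h5 : x < 7680
  · exact cFi2_ok37 x (by omega) h5
  by_cases h6 : x < 7883
  · exact cFi2_ok38 x (by omega) h6
  by_cases h7 : x < 8085
  · exact cFi2_ok39 x (by omega) h7
  by_cases h8 : x < 8287
  · exact cFi2_ok40 x (by omega) h8
  by_cases h9 : x < 8489
  · exact cFi2_ok41 x (by omega) h9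
  by_cases h10 : x < 8691
  · exact cFi2_ok42 x (by omega) h10
  by_cases h11 : x < 8893
  · exact cFi2_ok43 x (by omega) h11
  by_cases h12 : x < 9095
  · exact cFi2_ok44 x (by omega) h12
  by_cases h13 : x < 9298
  · exact cFi2_ok45 x (by omega) h13
  by_cases h14 : x < 9500
  · exact cFi2_ok46 x (by omega) h14
  exact cFi2_ok47 x (by omega) hhi

theorem cFi2_okG3 : ∀ x, 9702 ≤ x → x < 12936 → cFi2.rowOK x = true := by
  intro x hlo hhi
  by_cases h0 : x < 9904
  · exact cFi2_ok48 x (by omega) h0
  by_cases h1 : x < 10106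
  · exact cFi2_ok49 x (by omega) h1
  by_cases h2 : x < 10308
  · exact cFi2_ok50 x (by omega) h2
  by_cases h3 : x < 10510
  · exact cFi2_ok51 x (by omega) h3
  by_cases h4 : x < 10712
  · exact cFi2_ok52 x (by omega) h4
  by_cases h5 : x < 10915
  · exact cFi2_ok53 x (by omega) h5
  by_cases h6 : x < 11117
  · exact cFi2_ok54 x (by omega) h6
  by_cases h7 : x < 11319
  · exact cFi2_ok55 x (by omega) h7
  by_cases h8 : x < 11521
  · exact cFi2_ok56 x (by omega) h8
  by_cases h9 : x < 11723
  · exact cFi2_ok57 x (by omega) h9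
  by_cases h10 : x < 11925
  · exact cFi2_ok58 x (by omega) h10
  by_cases h11 : x < 12127
  · exact cFi2_ok59 x (by omega) h11
  by_cases h12 : x < 12330
  · exact cFi2_ok60 x (by omega) h12
  by_cases h13 : x < 12532
  · exact cFi2_ok61 x (by omega) h13
  by_cases h14 : x < 12734
  · exact cFi2_ok62 x (by omega) h14
  exact cFi2_ok63 x (by omega) hhi

theorem cFi2_okG4 : ∀ x, 12936 ≤ x → x < 16170 → cFi2.rowOK x = true := by
  intro x hlo hhi
  by_cases h0 : x < 13138
  · exact cFi2_ok64 x (by omega) h0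
  by_cases h1 : x < 13340
  · exact cFi2_ok65 x (by omega) h1
  by_cases h2 : x < 13542
  · exact cFi2_ok66 x (by omega) h2
  by_cases h3 : x < 13744
  · exact cFi2_ok67 x (by omega) h3
  by_cases h4 : x < 13947
  · exact cFi2_ok68 x (by omega) h4
  by_cases h5 : x < 14149
  · exact cFi2_ok69 x (by omega) h5
  by_cases h6 : x < 14351
  · exact cFi2_ok70 x (by omega) h6
  by_cases h7 : x < 14553
  · exact cFi2_ok71 x (by omega) h7
  by_cases h8 : x < 14755
  · exact cFi2_ok72 x (by omega) h8
  by_cases h9 : x < 14957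
  · exact cFi2_ok73 x (by omega) h9
  by_cases h10 : x < 15159
  · exact cFi2_ok74 x (by omega) h10
  by_cases h11 : x < 15361
  · exact cFi2_ok75 x (by omega) h11
  by_cases h12 : x < 15564
  · exact cFi2_ok76 x (by omega) h12
  by_cases h13 : x < 15766
  · exact cFi2_ok77 x (by omega) h13
  by_cases h14 : x < 15968
  · exact cFi2_ok78 x (by omega) h14
  exact cFi2_ok79 x (by omega) hhi

theorem cFi2_okG5 : ∀ x, 16170 ≤ x → x < 19404 → cFi2.rowOK x = true := by
  intro x hlo hhi
  by_cases h0 : x < 16372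
  · exact cFi2_ok80 x (by omega) h0
  by_cases h1 : x < 16574
  · exact cFi2_ok81 x (by omega) h1
  by_cases h2 : x < 16776
  · exact cFi2_ok82 x (by omega) h2
  by_cases h3 : x < 16979
  · exact cFi2_ok83 x (by omega) h3
  by_cases h4 : x < 17181
  · exact cFi2_ok84 x (by omega) h4
  by_cases h5 : x < 17383
  · exact cFi2_ok85 x (by omega) h5
  by_cases h6 : x < 17585
  · exact cFi2_ok86 x (by omega) h6
  by_cases h7 : x < 17787
  · exact cFi2_ok87 x (by omega) h7
  by_cases h8 : x < 17989
  · exact cFi2_ok88 x (by omega) h8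
  by_cases h9 : x < 18191
  · exact cFi2_ok89 x (by omega) h9
  by_cases h10 : x < 18393
  · exact cFi2_ok90 x (by omega) h10
  by_cases h11 : x < 18596
  · exact cFi2_ok91 x (by omega) h11
  by_cases h12 : x < 18798
  · exact cFi2_ok92 x (by omega) h12
  by_cases h13 : x < 19000
  · exact cFi2_ok93 x (by omega) h13
  by_cases h14 : x < 19202
  · exact cFi2_ok94 x (by omega) h14
  exact cFi2_ok95 x (by omega) hhi

theorem cFi2_okG6 : ∀ x, 19404 ≤ x → x < 20011 → cFi2.rowOK x = true := by
  intro x hlo hhi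
  by_cases h0 : x < 19606
  · exact cFi2_ok96 x (by omega) h0
  by_cases h1 : x < 19808
  · exact cFi2_ok97 x (by omega) h1
  exact cFi2_ok98 x (by omega) hhi

theorem cFi2_Ok : cFi2.Ok := by
  refine ⟨cFi2_base, ?_⟩
  intro x hx
  by_cases h0 : x < 3234
  · exact cFi2_okG0 x (by omega) h0
  by_cases h1 : x < 6468
  · exact cFi2_okG1 x (by omega) h1
  by_cases h2 : x < 9702
  · exact cFi2_okG2 x (by omega) h2
  by_cases h3 : x < 12936
  · exact cFi2_okG3 x (by omega) h3
  by_cases h4 : x < 16170
  · exact cFi2_okG4 x (by omega) h4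
  by_cases h5 : x < 19404
  · exact cFi2_okG5 x (by omega) h5
  exact cFi2_okG6 x (by omega) hx

theorem cFi2_actBase : cFi2.actBase = true := by decide +kernel

theorem cFi2_actG0 : ∀ x, 0 ≤ x → x < 1098 → cFi2.actRow x = true := by
  intro x hlo hhi
  by_cases h0 : x < 68
  · exact cFi2_act0 x (by omega) h0
  by_cases h1 : x < 137
  · exact cFi2_act1 x (by omega) h1
  by_cases h2 : x < 206
  · exact cFi2_act2 x (by omega) h2
  by_cases h3 : x < 274
  · exact cFi2_act3 x (by omega) h3
  by_cases h4 : x < 343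
  · exact cFi2_act4 x (by omega) h4
  by_cases h5 : x < 412
  · exact cFi2_act5 x (by omega) h5
  by_cases h6 : x < 480
  · exact cFi2_act6 x (by omega) h6
  by_cases h7 : x < 549
  · exact cFi2_act7 x (by omega) h7
  by_cases h8 : x < 618
  · exact cFi2_act8 x (by omega) h8
  by_cases h9 : x < 686
  · exact cFi2_act9 x (by omega) h9
  by_cases h10 : x < 755
  · exact cFi2_act10 x (by omega) h10
  by_cases h11 : x < 824
  · exact cFi2_act11 x (by omega) h11
  by_cases h12 : x < 892
  · exact cFi2_act12 x (by omega) h12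
  by_cases h13 : x < 961
  · exact cFi2_act13 x (by omega) h13
  by_cases h14 : x < 1030
  · exact cFi2_act14 x (by omega) h14
  exact cFi2_act15 x (by omega) hhi

theorem cFi2_actG1 : ∀ x, 1098 ≤ x → x < 2197 → cFi2.actRow x = true := by
  intro x hlo hhi
  by_cases h0 : x < 1167
  · exact cFi2_act16 x (by omega) h0
  by_cases h1 : x < 1236
  · exact cFi2_act17 x (by omega) h1
  by_cases h2 : x < 1304
  · exact cFi2_act18 x (by omega) h2
  by_cases h3 : x < 1373
  · exact cFi2_act19 x (by omega) h3
  by_cases h4 : x < 1442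
  · exact cFi2_act20 x (by omega) h4
  by_cases h5 : x < 1511
  · exact cFi2_act21 x (by omega) h5
  by_cases h6 : x < 1579
  · exact cFi2_act22 x (by omega) h6
  by_cases h7 : x < 1648
  · exact cFi2_act23 x (by omega) h7
  by_cases h8 : x < 1717
  · exact cFi2_act24 x (by omega) h8
  by_cases h9 : x < 1785
  · exact cFi2_act25 x (by omega) h9
  by_cases h10 : x < 1854
  · exact cFi2_act26 x (by omega) h10
  by_cases h11 : x < 1923
  · exact cFi2_act27 x (by omega) h11
  by_cases h12 : x < 1991
  · exact cFi2_act28 x (by omega) h12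
  by_cases h13 : x < 2060
  · exact cFi2_act29 x (by omega) h13
  by_cases h14 : x < 2129
  · exact cFi2_act30 x (by omega) h14
  exact cFi2_act31 x (by omega) hhi

theorem cFi2_actG2 : ∀ x, 2197 ≤ x → x < 3296 → cFi2.actRow x = true := by
  intro x hlo hhi
  by_cases h0 : x < 2266
  · exact cFi2_act32 x (by omega) h0
  by_cases h1 : x < 2335
  · exact cFi2_act33 x (by omega) h1
  by_cases h2 : x < 2403
  · exact cFi2_act34 x (by omega) h2
  by_cases h3 : x < 2472
  · exact cFi2_act35 x (by omega) h3
  by_cases h4 : x < 2541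
  · exact cFi2_act36 x (by omega) h4
  by_cases h5 : x < 2609
  · exact cFi2_act37 x (by omega) h5
  by_cases h6 : x < 2678
  · exact cFi2_act38 x (by omega) h6
  by_cases h7 : x < 2747
  · exact cFi2_act39 x (by omega) h7
  by_cases h8 : x < 2816
  · exact cFi2_act40 x (by omega) h8
  by_cases h9 : x < 2884
  · exact cFi2_act41 x (by omega) h9
  by_cases h10 : x < 2953
  · exact cFi2_act42 x (by omega) h10
  by_cases h11 : x < 3022
  · exact cFi2_act43 x (by omega) h11
  by_cases h12 : x < 3090
  · exact cFi2_act44 x (by omega) h12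
  by_cases h13 : x < 3159
  · exact cFi2_act45 x (by omega) h13
  by_cases h14 : x < 3228
  · exact cFi2_act46 x (by omega) h14
  exact cFi2_act47 x (by omega) hhi

theorem cFi2_actG3 : ∀ x, 3296 ≤ x → x < 4395 → cFi2.actRow x = true := by
  intro x hlo hhi
  by_cases h0 : x < 3365
  · exact cFi2_act48 x (by omega) h0
  by_cases h1 : x < 3434
  · exact cFi2_act49 x (by omega) h1
  by_cases h2 : x < 3502
  · exact cFi2_act50 x (by omega) h2
  by_cases h3 : x < 3571
  · exact cFi2_act51 x (by omega) h3
  by_cases h4 : x < 3640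
  · exact cFi2_act52 x (by omega) h4
  by_cases h5 : x < 3708
  · exact cFi2_act53 x (by omega) h5
  by_cases h6 : x < 3777
  · exact cFi2_act54 x (by omega) h6
  by_cases h7 : x < 3846
  · exact cFi2_act55 x (by omega) h7
  by_cases h8 : x < 3914
  · exact cFi2_act56 x (by omega) h8
  by_cases h9 : x < 3983
  · exact cFi2_act57 x (by omega) h9
  by_cases h10 : x < 4052
  · exact cFi2_act58 x (by omega) h10
  by_cases h11 : x < 4120
  · exact cFi2_act59 x (by omega) h11
  by_cases h12 : x < 4189
  · exact cFi2_act60 x (by omega) h12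
  by_cases h13 : x < 4258
  · exact cFi2_act61 x (by omega) h13
  by_cases h14 : x < 4327
  · exact cFi2_act62 x (by omega) h14
  exact cFi2_act63 x (by omega) hhi

theorem cFi2_actG4 : ∀ x, 4395 ≤ x → x < 5494 → cFi2.actRow x = true := by
  intro x hlo hhi
  by_cases h0 : x < 4464
  · exact cFi2_act64 x (by omega) h0
  by_cases h1 : x < 4533
  · exact cFi2_act65 x (by omega) h1
  by_cases h2 : x < 4601
  · exact cFi2_act66 x (by omega) h2
  by_cases h3 : x < 4670
  · exact cFi2_act67 x (by omega) h3
  by_cases h4 : x < 4739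
  · exact cFi2_act68 x (by omega) h4
  by_cases h5 : x < 4807
  · exact cFi2_act69 x (by omega) h5
  by_cases h6 : x < 4876
  · exact cFi2_act70 x (by omega) h6
  by_cases h7 : x < 4945
  · exact cFi2_act71 x (by omega) h7
  by_cases h8 : x < 5013
  · exact cFi2_act72 x (by omega) h8
  by_cases h9 : x < 5082
  · exact cFi2_act73 x (by omega) h9
  by_cases h10 : x < 5151
  · exact cFi2_act74 x (by omega) h10
  by_cases h11 : x < 5219
  · exact cFi2_act75 x (by omega) h11
  by_cases h12 : x < 5288
  · exact cFi2_act76 x (by omega) h12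
  by_cases h13 : x < 5357
  · exact cFi2_act77 x (by omega) h13
  by_cases h14 : x < 5425
  · exact cFi2_act78 x (by omega) h14
  exact cFi2_act79 x (by omega) hhi

theorem cFi2_actG5 : ∀ x, 5494 ≤ x → x < 6593 → cFi2.actRow x = true := by
  intro x hlo hhi
  by_cases h0 : x < 5563
  · exact cFi2_act80 x (by omega) h0
  by_cases h1 : x < 5632
  · exact cFi2_act81 x (by omega) h1
  by_cases h2 : x < 5700
  · exact cFi2_act82 x (by omega) h2
  by_cases h3 : x < 5769
  · exact cFi2_act83 x (by omega) h3
  by_cases h4 : x < 5838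
  · exact cFi2_act84 x (by omega) h4
  by_cases h5 : x < 5906
  · exact cFi2_act85 x (by omega) h5
  by_cases h6 : x < 5975
  · exact cFi2_act86 x (by omega) h6
  by_cases h7 : x < 6044
  · exact cFi2_act87 x (by omega) h7
  by_cases h8 : x < 6112
  · exact cFi2_act88 x (by omega) h8
  by_cases h9 : x < 6181
  · exact cFi2_act89 x (by omega) h9
  by_cases h10 : x < 6250
  · exact cFi2_act90 x (by omega) h10
  by_cases h11 : x < 6318
  · exact cFi2_act91 x (by omega) h11
  by_cases h12 : x < 6387
  · exact cFi2_act92 x (by omega) h12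
  by_cases h13 : x < 6456
  · exact cFi2_act93 x (by omega) h13
  by_cases h14 : x < 6524
  · exact cFi2_act94 x (by omega) h14
  exact cFi2_act95 x (by omega) hhi

theorem cFi2_actG6 : ∀ x, 6593 ≤ x → x < 7692 → cFi2.actRow x = true := by
  intro x hlo hhi
  by_cases h0 : x < 6662
  · exact cFi2_act96 x (by omega) h0
  by_cases h1 : x < 6730
  · exact cFi2_act97 x (by omega) h1
  by_cases h2 : x < 6799
  · exact cFi2_act98 x (by omega) h2
  by_cases h3 : x < 6868
  · exact cFi2_act99 x (by omega) h3
  by_cases h4 : x < 6936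
  · exact cFi2_act100 x (by omega) h4
  by_cases h5 : x < 7005
  · exact cFi2_act101 x (by omega) h5
  by_cases h6 : x < 7074
  · exact cFi2_act102 x (by omega) h6
  by_cases h7 : x < 7143
  · exact cFi2_act103 x (by omega) h7
  by_cases h8 : x < 7211
  · exact cFi2_act104 x (by omega) h8
  by_cases h9 : x < 7280
  · exact cFi2_act105 x (by omega) h9
  by_cases h10 : x < 7349
  · exact cFi2_act106 x (by omega) h10
  by_cases h11 : x < 7417
  · exact cFi2_act107 x (by omega) h11
  by_cases h12 : x < 7486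
  · exact cFi2_act108 x (by omega) h12
  by_cases h13 : x < 7555
  · exact cFi2_act109 x (by omega) h13
  by_cases h14 : x < 7623
  · exact cFi2_act110 x (by omega) h14
  exact cFi2_act111 x (by omega) hhi

theorem cFi2_actG7 : ∀ x, 7692 ≤ x → x < 8791 → cFi2.actRow x = true := by
  intro x hlo hhi
  by_cases h0 : x < 7761
  · exact cFi2_act112 x (by omega) h0
  by_cases h1 : x < 7829
  · exact cFi2_act113 x (by omega) h1
  by_cases h2 : x < 7898
  · exact cFi2_act114 x (by omega) h2
  by_cases h3 : x < 7967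
  · exact cFi2_act115 x (by omega) h3
  by_cases h4 : x < 8035
  · exact cFi2_act116 x (by omega) h4
  by_cases h5 : x < 8104
  · exact cFi2_act117 x (by omega) h5
  by_cases h6 : x < 8173
  · exact cFi2_act118 x (by omega) h6
  by_cases h7 : x < 8241
  · exact cFi2_act119 x (by omega) h7
  by_cases h8 : x < 8310
  · exact cFi2_act120 x (by omega) h8
  by_cases h9 : x < 8379
  · exact cFi2_act121 x (by omega) h9
  by_cases h10 : x < 8448
  · exact cFi2_act122 x (by omega) h10
  by_cases h11 : x < 8516
  · exact cFi2_act123 x (by omega) h11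
  by_cases h12 : x < 8585
  · exact cFi2_act124 x (by omega) h12
  by_cases h13 : x < 8654
  · exact cFi2_act125 x (by omega) h13
  by_cases h14 : x < 8722
  · exact cFi2_act126 x (by omega) h14
  exact cFi2_act127 x (by omega) hhi

theorem cFi2_actG8 : ∀ x, 8791 ≤ x → x < 9890 → cFi2.actRow x = true := by
  intro x hlo hhi
  by_cases h0 : x < 8860
  · exact cFi2_act128 x (by omega) h0
  by_cases h1 : x < 8928
  · exact cFi2_act129 x (by omega) h1
  by_cases h2 : x < 8997
  · exact cFi2_act130 x (by omega) h2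
  by_cases h3 : x < 9066
  · exact cFi2_act131 x (by omega) h3
  by_cases h4 : x < 9134
  · exact cFi2_act132 x (by omega) h4
  by_cases h5 : x < 9203
  · exact cFi2_act133 x (by omega) h5
  by_cases h6 : x < 9272
  · exact cFi2_act134 x (by omega) h6
  by_cases h7 : x < 9340
  · exact cFi2_act135 x (by omega) h7
  by_cases h8 : x < 9409
  · exact cFi2_act136 x (by omega) h8
  by_cases h9 : x < 9478
  · exact cFi2_act137 x (by omega) h9
  by_cases h10 : x < 9546
  · exact cFi2_act138 x (by omega) h10
  by_cases h11 : x < 9615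
  · exact cFi2_act139 x (by omega) h11
  by_cases h12 : x < 9684
  · exact cFi2_act140 x (by omega) h12
  by_cases h13 : x < 9752
  · exact cFi2_act141 x (by omega) h13
  by_cases h14 : x < 9821
  · exact cFi2_act142 x (by omega) h14
  exact cFi2_act143 x (by omega) hhi

theorem cFi2_actG9 : ∀ x, 9890 ≤ x → x < 10989 → cFi2.actRow x = true := by
  intro x hlo hhi
  by_cases h0 : x < 9959
  · exact cFi2_act144 x (by omega) h0
  by_cases h1 : x < 10027
  · exact cFi2_act145 x (by omega) h1
  by_cases h2 : x < 10096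
  · exact cFi2_act146 x (by omega) h2
  by_cases h3 : x < 10165
  · exact cFi2_act147 x (by omega) h3
  by_cases h4 : x < 10233
  · exact cFi2_act148 x (by omega) h4
  by_cases h5 : x < 10302
  · exact cFi2_act149 x (by omega) h5
  by_cases h6 : x < 10371
  · exact cFi2_act150 x (by omega) h6
  by_cases h7 : x < 10439
  · exact cFi2_act151 x (by omega) h7
  by_cases h8 : x < 10508
  · exact cFi2_act152 x (by omega) h8
  by_cases h9 : x < 10577
  · exact cFi2_act153 x (by omega) h9
  by_cases h10 : x < 10645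
  · exact cFi2_act154 x (by omega) h10
  by_cases h11 : x < 10714
  · exact cFi2_act155 x (by omega) h11
  by_cases h12 : x < 10783
  · exact cFi2_act156 x (by omega) h12
  by_cases h13 : x < 10851
  · exact cFi2_act157 x (by omega) h13
  by_cases h14 : x < 10920
  · exact cFi2_act158 x (by omega) h14
  exact cFi2_act159 x (by omega) hhi

theorem cFi2_actG10 : ∀ x, 10989 ≤ x → x < 12088 → cFi2.actRow x = true := by
  intro x hlo hhi
  by_cases h0 : x < 11057
  · exact cFi2_act160 x (by omega) h0
  by_cases h1 : x < 11126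
  · exact cFi2_act161 x (by omega) h1
  by_cases h2 : x < 11195
  · exact cFi2_act162 x (by omega) h2
  by_cases h3 : x < 11264
  · exact cFi2_act163 x (by omega) h3
  by_cases h4 : x < 11332
  · exact cFi2_act164 x (by omega) h4
  by_cases h5 : x < 11401
  · exact cFi2_act165 x (by omega) h5
  by_cases h6 : x < 11470
  · exact cFi2_act166 x (by omega) h6
  by_cases h7 : x < 11538
  · exact cFi2_act167 x (by omega) h7
  by_cases h8 : x < 11607
  · exact cFi2_act168 x (by omega) h8
  by_cases h9 : x < 11676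
  · exact cFi2_act169 x (by omega) h9
  by_cases h10 : x < 11744
  · exact cFi2_act170 x (by omega) h10
  by_cases h11 : x < 11813
  · exact cFi2_act171 x (by omega) h11
  by_cases h12 : x < 11882
  · exact cFi2_act172 x (by omega) h12
  by_cases h13 : x < 11950
  · exact cFi2_act173 x (by omega) h13
  by_cases h14 : x < 12019
  · exact cFi2_act174 x (by omega) h14
  exact cFi2_act175 x (by omega) hhi

theorem cFi2_actG11 : ∀ x, 12088 ≤ x → x < 13187 → cFi2.actRow x = true := by
  intro x hlo hhi
  by_cases h0 : x < 12156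
  · exact cFi2_act176 x (by omega) h0
  by_cases h1 : x < 12225
  · exact cFi2_act177 x (by omega) h1
  by_cases h2 : x < 12294
  · exact cFi2_act178 x (by omega) h2
  by_cases h3 : x < 12362
  · exact cFi2_act179 x (by omega) h3
  by_cases h4 : x < 12431
  · exact cFi2_act180 x (by omega) h4
  by_cases h5 : x < 12500
  · exact cFi2_act181 x (by omega) h5
  by_cases h6 : x < 12568
  · exact cFi2_act182 x (by omega) h6
  by_cases h7 : x < 12637
  · exact cFi2_act183 x (by omega) h7
  by_cases h8 : x < 12706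
  · exact cFi2_act184 x (by omega) h8
  by_cases h9 : x < 12775
  · exact cFi2_act185 x (by omega) h9
  by_cases h10 : x < 12843
  · exact cFi2_act186 x (by omega) h10
  by_cases h11 : x < 12912
  · exact cFi2_act187 x (by omega) h11
  by_cases h12 : x < 12981
  · exact cFi2_act188 x (by omega) h12
  by_cases h13 : x < 13049
  · exact cFi2_act189 x (by omega) h13
  by_cases h14 : x < 13118
  · exact cFi2_act190 x (by omega) h14
  exact cFi2_act191 x (by omega) hhi

theorem cFi2_actG12 : ∀ x, 13187 ≤ x → x < 14080 → cFi2.actRow x = true := by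
  intro x hlo hhi
  by_cases h0 : x < 13255
  · exact cFi2_act192 x (by omega) h0
  by_cases h1 : x < 13324
  · exact cFi2_act193 x (by omega) h1
  by_cases h2 : x < 13393
  · exact cFi2_act194 x (by omega) h2
  by_cases h3 : x < 13461
  · exact cFi2_act195 x (by omega) h3
  by_cases h4 : x < 13530
  · exact cFi2_act196 x (by omega) h4
  by_cases h5 : x < 13599
  · exact cFi2_act197 x (by omega) h5
  by_cases h6 : x < 13667
  · exact cFi2_act198 x (by omega) h6
  by_cases h7 : x < 13736
  · exact cFi2_act199 x (by omega) h7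
  by_cases h8 : x < 13805
  · exact cFi2_act200 x (by omega) h8
  by_cases h9 : x < 13873
  · exact cFi2_act201 x (by omega) h9
  by_cases h10 : x < 13942
  · exact cFi2_act202 x (by omega) h10
  by_cases h11 : x < 14011
  · exact cFi2_act203 x (by omega) h11
  exact cFi2_act204 x (by omega) hhi

theorem cFi2_Act : cFi2.ActOk := by
  refine ⟨cFi2_Ok, cFi2_actBase, ?_⟩
  intro x hx
  by_cases h0 : x < 1098
  · exact cFi2_actG0 x (by omega) h0
  by_cases h1 : x < 2197
  · exact cFi2_actG1 x (by omega) h1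
  by_cases h2 : x < 3296
  · exact cFi2_actG2 x (by omega) h2
  by_cases h3 : x < 4395
  · exact cFi2_actG3 x (by omega) h3
  by_cases h4 : x < 5494
  · exact cFi2_actG4 x (by omega) h4
  by_cases h5 : x < 6593
  · exact cFi2_actG5 x (by omega) h5
  by_cases h6 : x < 7692
  · exact cFi2_actG6 x (by omega) h6
  by_cases h7 : x < 8791
  · exact cFi2_actG7 x (by omega) h7
  by_cases h8 : x < 9890
  · exact cFi2_actG8 x (by omega) h8
  by_cases h9 : x < 10989
  · exact cFi2_actG9 x (by omega) h9
  by_cases h10 : x < 12088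
  · exact cFi2_actG10 x (by omega) h10
  by_cases h11 : x < 13187
  · exact cFi2_actG11 x (by omega) h11
  exact cFi2_actG12 x (by omega) hx

theorem cFi2_finBase : cFi2.finBase = true := by decide +kernel

theorem cFi2_finrG0 : ∀ x, 0 ≤ x → x < 7040 → cFi2.finRow x = true := by
  intro x hlo hhi
  by_cases h0 : x < 440
  · exact cFi2_finr0 x (by omega) h0
  by_cases h1 : x < 880
  · exact cFi2_finr1 x (by omega) h1
  by_cases h2 : x < 1320
  · exact cFi2_finr2 x (by omega) h2
  by_cases h3 : x < 1760
  · exact cFi2_finr3 x (by omega) h3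
  by_cases h4 : x < 2200
  · exact cFi2_finr4 x (by omega) h4
  by_cases h5 : x < 2640
  · exact cFi2_finr5 x (by omega) h5
  by_cases h6 : x < 3080
  · exact cFi2_finr6 x (by omega) h6
  by_cases h7 : x < 3520
  · exact cFi2_finr7 x (by omega) h7
  by_cases h8 : x < 3960
  · exact cFi2_finr8 x (by omega) h8
  by_cases h9 : x < 4400
  · exact cFi2_finr9 x (by omega) h9
  by_cases h10 : x < 4840
  · exact cFi2_finr10 x (by omega) h10
  by_cases h11 : x < 5280
  · exact cFi2_finr11 x (by omega) h11
  by_cases h12 : x < 5720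
  · exact cFi2_finr12 x (by omega) h12
  by_cases h13 : x < 6160
  · exact cFi2_finr13 x (by omega) h13
  by_cases h14 : x < 6600
  · exact cFi2_finr14 x (by omega) h14
  exact cFi2_finr15 x (by omega) hhi

theorem cFi2_finrG1 : ∀ x, 7040 ≤ x → x < 14080 → cFi2.finRow x = true := by
  intro x hlo hhi
  by_cases h0 : x < 7480
  · exact cFi2_finr16 x (by omega) h0
  by_cases h1 : x < 7920
  · exact cFi2_finr17 x (by omega) h1
  by_cases h2 : x < 8360
  · exact cFi2_finr18 x (by omega) h2
  by_cases h3 : x < 8800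
  · exact cFi2_finr19 x (by omega) h3
  by_cases h4 : x < 9240
  · exact cFi2_finr20 x (by omega) h4
  by_cases h5 : x < 9680
  · exact cFi2_finr21 x (by omega) h5
  by_cases h6 : x < 10120
  · exact cFi2_finr22 x (by omega) h6
  by_cases h7 : x < 10560
  · exact cFi2_finr23 x (by omega) h7
  by_cases h8 : x < 11000
  · exact cFi2_finr24 x (by omega) h8
  by_cases h9 : x < 11440
  · exact cFi2_finr25 x (by omega) h9
  by_cases h10 : x < 11880
  · exact cFi2_finr26 x (by omega) h10
  by_cases h11 : x < 12320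
  · exact cFi2_finr27 x (by omega) h11
  by_cases h12 : x < 12760
  · exact cFi2_finr28 x (by omega) h12
  by_cases h13 : x < 13200
  · exact cFi2_finr29 x (by omega) h13
  by_cases h14 : x < 13640
  · exact cFi2_finr30 x (by omega) h14
  exact cFi2_finr31 x (by omega) hhi

theorem cFi2_finRows : ∀ x, x < cFi2.n → cFi2.finRow x = true := by
  intro x hx
  by_cases h0 : x < 7040
  · exact cFi2_finrG0 x (by omega) h0
  exact cFi2_finrG1 x (by omega) hx

theorem cFi2_finnG0 : ∀ x, 0 ≤ x → x < 20011 → cFi2.finNode x = true := by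
  intro x hlo hhi
  by_cases h0 : x < 2858
  · exact cFi2_finn0 x (by omega) h0
  by_cases h1 : x < 5717
  · exact cFi2_finn1 x (by omega) h1
  by_cases h2 : x < 8576
  · exact cFi2_finn2 x (by omega) h2
  by_cases h3 : x < 11434
  · exact cFi2_finn3 x (by omega) h3
  by_cases h4 : x < 14293
  · exact cFi2_finn4 x (by omega) h4
  by_cases h5 : x < 17152
  · exact cFi2_finn5 x (by omega) h5
  exact cFi2_finn6 x (by omega) hhi

theorem cFi2_finNodes : ∀ x, x < cFi2.N → cFi2.finNode x = true := by
  intro x hx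
  exact cFi2_finnG0 x (by omega) hx

theorem cFi2_fin : cFi2.finOK = true :=
  VCert.finOK_of _ cFi2_finBase cFi2_finRows cFi2_finNodes

theorem oFi2_colrG0 : ∀ x, 0 ≤ x → x < 14080 → oFi2.colRow cFi2 x = true := by
  intro x hlo hhi
  by_cases h0 : x < 2011
  · exact oFi2_colr0 x (by omega) h0
  by_cases h1 : x < 4022
  · exact oFi2_colr1 x (by omega) h1
  by_cases h2 : x < 6034
  · exact oFi2_colr2 x (by omega) h2
  by_cases h3 : x < 8045
  · exact oFi2_colr3 x (by omega) h3
  by_cases h4 : x < 10057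
  · exact oFi2_colr4 x (by omega) h4
  by_cases h5 : x < 12068
  · exact oFi2_colr5 x (by omega) h5
  exact oFi2_colr6 x (by omega) hhi

theorem oFi2_col : oFi2.colOK cFi2 = true := by
  refine OrbCert.colOK_of _ _ ?_
  intro x hx
  exact oFi2_colrG0 x (by omega) hx

theorem oFi2_treeBase1 : oFi2.treeBase cFi2 1 1 = true := by decide +kernel

theorem oFi2_tr1_G0 : ∀ x, 0 ≤ x → x < 14080 → oFi2.treeRow cFi2 1 1 x = true := by
  intro x hlo hhi
  by_cases h0 : x < 1760
  · exact oFi2_tr1_0 x (by omega) h0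
  by_cases h1 : x < 3520
  · exact oFi2_tr1_1 x (by omega) h1
  by_cases h2 : x < 5280
  · exact oFi2_tr1_2 x (by omega) h2
  by_cases h3 : x < 7040
  · exact oFi2_tr1_3 x (by omega) h3
  by_cases h4 : x < 8800
  · exact oFi2_tr1_4 x (by omega) h4
  by_cases h5 : x < 10560
  · exact oFi2_tr1_5 x (by omega) h5
  by_cases h6 : x < 12320
  · exact oFi2_tr1_6 x (by omega) h6
  exact oFi2_tr1_7 x (by omega) hhi

theorem oFi2_tree1 : oFi2.treeOK cFi2 1 1 = true := by
  refine OrbCert.treeOK_of _ _ _ _ oFi2_treeBase1 ?_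
  intro x hx
  exact oFi2_tr1_G0 x (by omega) hx

theorem oFi2_cnt1 : ((Finset.range cFi2.n).filter (fun x => oFi2.C x = 1)).card = 3159 := by
  decide +kernel

theorem oFi2_treeBase2 : oFi2.treeBase cFi2 191 2 = true := by decide +kernel

theorem oFi2_tr2_G0 : ∀ x, 0 ≤ x → x < 14080 → oFi2.treeRow cFi2 191 2 x = true := by
  intro x hlo hhi
  by_cases h0 : x < 1760
  · exact oFi2_tr2_0 x (by omega) h0
  by_cases h1 : x < 3520
  · exact oFi2_tr2_1 x (by omega) h1
  by_cases h2 : x < 5280
  · exact oFi2_tr2_2 x (by omega) h2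
  by_cases h3 : x < 7040
  · exact oFi2_tr2_3 x (by omega) h3
  by_cases h4 : x < 8800
  · exact oFi2_tr2_4 x (by omega) h4
  by_cases h5 : x < 10560
  · exact oFi2_tr2_5 x (by omega) h5
  by_cases h6 : x < 12320
  · exact oFi2_tr2_6 x (by omega) h6
  exact oFi2_tr2_7 x (by omega) hhi

theorem oFi2_tree2 : oFi2.treeOK cFi2 191 2 = true := by
  refine OrbCert.treeOK_of _ _ _ _ oFi2_treeBase2 ?_
  intro x hx
  exact oFi2_tr2_G0 x (by omega) hx

theorem oFi2_cnt2 : ((Finset.range cFi2.n).filter (fun x => oFi2.C x = 2)).card = 10920 := by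
  decide +kernel

end Cfsg.Agent.Lib.Lead.VTC
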