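import Cfsg.Agent.Lib.Lead.VTCFi2
import Cfsg.Agent.Lib.Lead.VTC3

set_option autoImplicit false
set_option maxRecDepth 100000

namespace Cfsg.Agent.Lib.Lead.VTC

theorem cFi2_finr0 : ∀ x, 0 ≤ x → x < 2011 → cFi2.finRow x = true :=
  VCert.of_range' _ 0 2011 (by decide +kernel)

theorem cFi2_finr3 : ∀ x, 6034 ≤ x → x < 8045 → cFi2.finRow x = true :=
  VCert.of_range' _ 6034 8045 (by decide +kernel)

theorem cFi2_finr6 : ∀ x, 12068 ≤ x → x < 14080 → cFi2.finRow x = true :=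
  VCert.of_range' _ 12068 14080 (by decide +kernel)

theorem oFi2_colr1 : ∀ x, 3520 ≤ x → x < 7040 → oFi2.colRow cFi2 x = true :=
  VCert.of_range' _ 3520 7040 (by decide +kernel)

theorem oFi2_tr1_0 : ∀ x, 0 ≤ x → x < 14080 → oFi2.treeRow cFi2 1 1 x = true :=
  VCert.of_range' _ 0 14080 (by decide +kernel)


end Cfsg.Agent.Lib.Lead.VTC
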