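import Cfsg.Agent.Lib.Lead.VTCFi2
import Cfsg.Agent.Lib.Lead.VTC3

set_option autoImplicit false
set_option maxRecDepth 100000

namespace Cfsg.Agent.Lib.Lead.VTC

theorem cFi2_finr1 : ∀ x, 2011 ≤ x → x < 4022 → cFi2.finRow x = true :=
  VCert.of_range' _ 2011 4022 (by decide +kernel)

theorem cFi2_finr4 : ∀ x, 8045 ≤ x → x < 10057 → cFi2.finRow x = true :=
  VCert.of_range' _ 8045 10057 (by decide +kernel)

theorem cFi2_finn0 : ∀ x, 0 ≤ x → x < 20011 → cFi2.finNode x = true :=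
  VCert.of_range' _ 0 20011 (by decide +kernel)

theorem oFi2_colr2 : ∀ x, 7040 ≤ x → x < 10560 → oFi2.colRow cFi2 x = true :=
  VCert.of_range' _ 7040 10560 (by decide +kernel)

theorem oFi2_tr2_0 : ∀ x, 0 ≤ x → x < 14080 → oFi2.treeRow cFi2 191 2 x = true :=
  VCert.of_range' _ 0 14080 (by decide +kernel)


end Cfsg.Agent.Lib.Lead.VTC
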