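import Cfsg.Agent.Lib.Lead.VTCFi2
import Cfsg.Agent.Lib.Lead.VTC3

set_option autoImplicit false
set_option maxRecDepth 100000

namespace Cfsg.Agent.Lib.Lead.VTC

theorem cFi2_finr2 : ∀ x, 4022 ≤ x → x < 6034 → cFi2.finRow x = true :=
  VCert.of_range' _ 4022 6034 (by decide +kernel)

theorem cFi2_finr5 : ∀ x, 10057 ≤ x → x < 12068 → cFi2.finRow x = true :=
  VCert.of_range' _ 10057 12068 (by decide +kernel)

theorem oFi2_colr0 : ∀ x, 0 ≤ x → x < 3520 → oFi2.colRow cFi2 x = true :=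
  VCert.of_range' _ 0 3520 (by decide +kernel)

theorem oFi2_colr3 : ∀ x, 10560 ≤ x → x < 14080 → oFi2.colRow cFi2 x = true :=
  VCert.of_range' _ 10560 14080 (by decide +kernel)


end Cfsg.Agent.Lib.Lead.VTC
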