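import Cfsg.Agent.Lib.Lead.VTCFi2

set_option autoImplicit false
set_option maxRecDepth 100000

namespace Cfsg.Agent.Lib.Lead.VTC

theorem cFi2_ok0 : ∀ x, 0 ≤ x → x < 1000 → cFi2.rowOK x = true :=
  VCert.of_range' _ 0 1000 (by decide +kernel)

theorem cFi2_ok4 : ∀ x, 4002 ≤ x → x < 5002 → cFi2.rowOK x = true :=
  VCert.of_range' _ 4002 5002 (by decide +kernel)

theorem cFi2_ok8 : ∀ x, 8004 ≤ x → x < 9004 → cFi2.rowOK x = true :=
  VCert.of_range' _ 8004 9004 (by decide +kernel)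

theorem cFi2_ok12 : ∀ x, 12006 ≤ x → x < 13007 → cFi2.rowOK x = true :=
  VCert.of_range' _ 12006 13007 (by decide +kernel)

theorem cFi2_ok16 : ∀ x, 16008 ≤ x → x < 17009 → cFi2.rowOK x = true :=
  VCert.of_range' _ 16008 17009 (by decide +kernel)

theorem cFi2_act0 : ∀ x, 0 ≤ x → x < 502 → cFi2.actRow x = true :=
  VCert.of_range' _ 0 502 (by decide +kernel)

theorem cFi2_act4 : ∀ x, 2011 ≤ x → x < 2514 → cFi2.actRow x = true :=
  VCert.of_range' _ 2011 2514 (by decide +kernel)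

theorem cFi2_act8 : ∀ x, 4022 ≤ x → x < 4525 → cFi2.actRow x = true :=
  VCert.of_range' _ 4022 4525 (by decide +kernel)

theorem cFi2_act12 : ∀ x, 6034 ≤ x → x < 6537 → cFi2.actRow x = true :=
  VCert.of_range' _ 6034 6537 (by decide +kernel)

theorem cFi2_act16 : ∀ x, 8045 ≤ x → x < 8548 → cFi2.actRow x = true :=
  VCert.of_range' _ 8045 8548 (by decide +kernel)

theorem cFi2_act20 : ∀ x, 10057 ≤ x → x < 10560 → cFi2.actRow x = true :=
  VCert.of_range' _ 10057 10560 (by decide +kernel)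

theorem cFi2_act24 : ∀ x, 12068 ≤ x → x < 12571 → cFi2.actRow x = true :=
  VCert.of_range' _ 12068 12571 (by decide +kernel)


end Cfsg.Agent.Lib.Lead.VTC
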