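import Cfsg.Agent.Lib.Lead.VTCFi2

set_option autoImplicit false
set_option maxRecDepth 100000

namespace Cfsg.Agent.Lib.Lead.VTC

theorem cFi2_ok1 : ∀ x, 1000 ≤ x → x < 2001 → cFi2.rowOK x = true :=
  VCert.of_range' _ 1000 2001 (by decide +kernel)

theorem cFi2_ok5 : ∀ x, 5002 ≤ x → x < 6003 → cFi2.rowOK x = true :=
  VCert.of_range' _ 5002 6003 (by decide +kernel)

theorem cFi2_ok9 : ∀ x, 9004 ≤ x → x < 10005 → cFi2.rowOK x = true :=
  VCert.of_range' _ 9004 10005 (by decide +kernel)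

theorem cFi2_ok13 : ∀ x, 13007 ≤ x → x < 14007 → cFi2.rowOK x = true :=
  VCert.of_range' _ 13007 14007 (by decide +kernel)

theorem cFi2_ok17 : ∀ x, 17009 ≤ x → x < 18009 → cFi2.rowOK x = true :=
  VCert.of_range' _ 17009 18009 (by decide +kernel)

theorem cFi2_act1 : ∀ x, 502 ≤ x → x < 1005 → cFi2.actRow x = true :=
  VCert.of_range' _ 502 1005 (by decide +kernel)

theorem cFi2_act5 : ∀ x, 2514 ≤ x → x < 3017 → cFi2.actRow x = true :=
  VCert.of_range' _ 2514 3017 (by decide +kernel)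

theorem cFi2_act9 : ∀ x, 4525 ≤ x → x < 5028 → cFi2.actRow x = true :=
  VCert.of_range' _ 4525 5028 (by decide +kernel)

theorem cFi2_act13 : ∀ x, 6537 ≤ x → x < 7040 → cFi2.actRow x = true :=
  VCert.of_range' _ 6537 7040 (by decide +kernel)

theorem cFi2_act17 : ∀ x, 8548 ≤ x → x < 9051 → cFi2.actRow x = true :=
  VCert.of_range' _ 8548 9051 (by decide +kernel)

theorem cFi2_act21 : ∀ x, 10560 ≤ x → x < 11062 → cFi2.actRow x = true :=
  VCert.of_range' _ 10560 11062 (by decide +kernel)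

theorem cFi2_act25 : ∀ x, 12571 ≤ x → x < 13074 → cFi2.actRow x = true :=
  VCert.of_range' _ 12571 13074 (by decide +kernel)


end Cfsg.Agent.Lib.Lead.VTC
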