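import Cfsg.Agent.Lib.Lead.VTCFi2

set_option autoImplicit false
set_option maxRecDepth 100000

namespace Cfsg.Agent.Lib.Lead.VTC

theorem cFi2_ok2 : ∀ x, 2001 ≤ x → x < 3001 → cFi2.rowOK x = true :=
  VCert.of_range' _ 2001 3001 (by decide +kernel)

theorem cFi2_ok6 : ∀ x, 6003 ≤ x → x < 7003 → cFi2.rowOK x = true :=
  VCert.of_range' _ 6003 7003 (by decide +kernel)

theorem cFi2_ok10 : ∀ x, 10005 ≤ x → x < 11006 → cFi2.rowOK x = true :=
  VCert.of_range' _ 10005 11006 (by decide +kernel)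

theorem cFi2_ok14 : ∀ x, 14007 ≤ x → x < 15008 → cFi2.rowOK x = true :=
  VCert.of_range' _ 14007 15008 (by decide +kernel)

theorem cFi2_ok18 : ∀ x, 18009 ≤ x → x < 19010 → cFi2.rowOK x = true :=
  VCert.of_range' _ 18009 19010 (by decide +kernel)

theorem cFi2_act2 : ∀ x, 1005 ≤ x → x < 1508 → cFi2.actRow x = true :=
  VCert.of_range' _ 1005 1508 (by decide +kernel)

theorem cFi2_act6 : ∀ x, 3017 ≤ x → x < 3520 → cFi2.actRow x = true :=
  VCert.of_range' _ 3017 3520 (by decide +kernel)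

theorem cFi2_act10 : ∀ x, 5028 ≤ x → x < 5531 → cFi2.actRow x = true :=
  VCert.of_range' _ 5028 5531 (by decide +kernel)

theorem cFi2_act14 : ∀ x, 7040 ≤ x → x < 7542 → cFi2.actRow x = true :=
  VCert.of_range' _ 7040 7542 (by decide +kernel)

theorem cFi2_act18 : ∀ x, 9051 ≤ x → x < 9554 → cFi2.actRow x = true :=
  VCert.of_range' _ 9051 9554 (by decide +kernel)

theorem cFi2_act22 : ∀ x, 11062 ≤ x → x < 11565 → cFi2.actRow x = true :=
  VCert.of_range' _ 11062 11565 (by decide +kernel)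

theorem cFi2_act26 : ∀ x, 13074 ≤ x → x < 13577 → cFi2.actRow x = true :=
  VCert.of_range' _ 13074 13577 (by decide +kernel)


end Cfsg.Agent.Lib.Lead.VTC
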