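import Cfsg.Agent.Lib.Lead.VTCFi2

set_option autoImplicit false
set_option maxRecDepth 100000

namespace Cfsg.Agent.Lib.Lead.VTC

theorem cFi2_ok3 : ∀ x, 3001 ≤ x → x < 4002 → cFi2.rowOK x = true :=
  VCert.of_range' _ 3001 4002 (by decide +kernel)

theorem cFi2_ok7 : ∀ x, 7003 ≤ x → x < 8004 → cFi2.rowOK x = true :=
  VCert.of_range' _ 7003 8004 (by decide +kernel)

theorem cFi2_ok11 : ∀ x, 11006 ≤ x → x < 12006 → cFi2.rowOK x = true :=
  VCert.of_range' _ 11006 12006 (by decide +kernel)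

theorem cFi2_ok15 : ∀ x, 15008 ≤ x → x < 16008 → cFi2.rowOK x = true :=
  VCert.of_range' _ 15008 16008 (by decide +kernel)

theorem cFi2_ok19 : ∀ x, 19010 ≤ x → x < 20011 → cFi2.rowOK x = true :=
  VCert.of_range' _ 19010 20011 (by decide +kernel)

theorem cFi2_act3 : ∀ x, 1508 ≤ x → x < 2011 → cFi2.actRow x = true :=
  VCert.of_range' _ 1508 2011 (by decide +kernel)

theorem cFi2_act7 : ∀ x, 3520 ≤ x → x < 4022 → cFi2.actRow x = true :=
  VCert.of_range' _ 3520 4022 (by decide +kernel)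

theorem cFi2_act11 : ∀ x, 5531 ≤ x → x < 6034 → cFi2.actRow x = true :=
  VCert.of_range' _ 5531 6034 (by decide +kernel)

theorem cFi2_act15 : ∀ x, 7542 ≤ x → x < 8045 → cFi2.actRow x = true :=
  VCert.of_range' _ 7542 8045 (by decide +kernel)

theorem cFi2_act19 : ∀ x, 9554 ≤ x → x < 10057 → cFi2.actRow x = true :=
  VCert.of_range' _ 9554 10057 (by decide +kernel)

theorem cFi2_act23 : ∀ x, 11565 ≤ x → x < 12068 → cFi2.actRow x = true :=
  VCert.of_range' _ 11565 12068 (by decide +kernel)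

theorem cFi2_act27 : ∀ x, 13577 ≤ x → x < 14080 → cFi2.actRow x = true :=
  VCert.of_range' _ 13577 14080 (by decide +kernel)


end Cfsg.Agent.Lib.Lead.VTC
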