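import Cfsg.Agent.Lib.Lead.VTCFi22G
import Cfsg.Agent.Lib.Lead.VTCFi2C

set_option autoImplicit false

namespace Cfsg.Agent.Lib.Lead.VTC

open Cfsg.Agent.Lib.Lead.WTC Cfsg.Agent.Lib.Lead.WTC.Cert Cfsg.Spor

theorem fi2_subg {M : Type} [Group M] (f : Fi22.Gen → M) (_hf : ∀ x, f x * f x = 1) :
    [Fi22.b, Fi22.c, Fi22.d, Fi22.e, Fi22.f, Fi22.g, Fi22.h, Fi22.i].map (FreeGroup.lift f) =
      Fi2SubSpec.map (fun p => (wd (fun s => f (fivGen s)) p.1) ^ p.2) := by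
  simp [Fi2SubSpec, wd, fivGen]

theorem fi2_main (S : Set (FreeGroup Fi22.Gen))
    (hS : S = {z | z ∈ [Fi22.b, Fi22.c, Fi22.d, Fi22.e, Fi22.f, Fi22.g, Fi22.h, Fi22.i]}) :
    ((Subgroup.closure S).map
      (PresentedGroup.mk (coxRelators Fi22.edges ∪ {r | r ∈ Fi22.extra}))).index = 14080 := by
  subst hS
  have hrels : cFi2.rels = (fivCoxSpec ++ fivExtraSpec).map expand := rfl
  have hsubs : cFi2.subs = Fi2SubSpec.map expand := rfl
  exact cox_index (edges := Fi22.edges) (extra := Fi22.extra) (c := cFi2) (gen := fivGen)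
    (idx := fivIdx) fivIdx_lt fivGen_idx fivIdx_gen fiv_nodes fivCoxSpec fivExtraSpec
    Fi2SubSpec hrels hsubs fiv_cox1 fiv_cox2 fiv_symm fiv_extra _ fi2_subg
    cFi2_Ok cFi2_fin cFi2_Act

end Cfsg.Agent.Lib.Lead.VTC
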