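import Cfsg.Agent.Lib.Lead.VTCFi2
import Cfsg.Agent.Lib.Lead.VTC3

set_option autoImplicit false
set_option maxRecDepth 100000

namespace Cfsg.Agent.Lib.Lead.VTC

theorem cFi2_ok7 : ∀ x, 1414 ≤ x → x < 1617 → cFi2.rowOK x = true :=
  VCert.of_range' _ 1414 1617 (by decide +kernel)

theorem cFi2_ok53 : ∀ x, 10712 ≤ x → x < 10915 → cFi2.rowOK x = true :=
  VCert.of_range' _ 10712 10915 (by decide +kernel)

theorem cFi2_ok98 : ∀ x, 19808 ≤ x → x < 20011 → cFi2.rowOK x = true :=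
  VCert.of_range' _ 19808 20011 (by decide +kernel)

theorem cFi2_finr10 : ∀ x, 4400 ≤ x → x < 4840 → cFi2.finRow x = true :=
  VCert.of_range' _ 4400 4840 (by decide +kernel)

theorem cFi2_finr16 : ∀ x, 7040 ≤ x → x < 7480 → cFi2.finRow x = true :=
  VCert.of_range' _ 7040 7480 (by decide +kernel)

theorem cFi2_finr22 : ∀ x, 9680 ≤ x → x < 10120 → cFi2.finRow x = true :=
  VCert.of_range' _ 9680 10120 (by decide +kernel)

theorem cFi2_finr28 : ∀ x, 12320 ≤ x → x < 12760 → cFi2.finRow x = true :=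
  VCert.of_range' _ 12320 12760 (by decide +kernel)

theorem cFi2_act4 : ∀ x, 274 ≤ x → x < 343 → cFi2.actRow x = true :=
  VCert.of_range' _ 274 343 (by decide +kernel)

theorem cFi2_act8 : ∀ x, 549 ≤ x → x < 618 → cFi2.actRow x = true :=
  VCert.of_range' _ 549 618 (by decide +kernel)

theorem cFi2_act17 : ∀ x, 1167 ≤ x → x < 1236 → cFi2.actRow x = true :=
  VCert.of_range' _ 1167 1236 (by decide +kernel)

theorem cFi2_act26 : ∀ x, 1785 ≤ x → x < 1854 → cFi2.actRow x = true :=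
  VCert.of_range' _ 1785 1854 (by decide +kernel)

theorem cFi2_act35 : ∀ x, 2403 ≤ x → x < 2472 → cFi2.actRow x = true :=
  VCert.of_range' _ 2403 2472 (by decide +kernel)

theorem cFi2_act43 : ∀ x, 2953 ≤ x → x < 3022 → cFi2.actRow x = true :=
  VCert.of_range' _ 2953 3022 (by decide +kernel)

theorem cFi2_act52 : ∀ x, 3571 ≤ x → x < 3640 → cFi2.actRow x = true :=
  VCert.of_range' _ 3571 3640 (by decide +kernel)

theorem cFi2_act61 : ∀ x, 4189 ≤ x → x < 4258 → cFi2.actRow x = true :=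
  VCert.of_range' _ 4189 4258 (by decide +kernel)

theorem cFi2_act70 : ∀ x, 4807 ≤ x → x < 4876 → cFi2.actRow x = true :=
  VCert.of_range' _ 4807 4876 (by decide +kernel)

theorem cFi2_act79 : ∀ x, 5425 ≤ x → x < 5494 → cFi2.actRow x = true :=
  VCert.of_range' _ 5425 5494 (by decide +kernel)

theorem cFi2_act87 : ∀ x, 5975 ≤ x → x < 6044 → cFi2.actRow x = true :=
  VCert.of_range' _ 5975 6044 (by decide +kernel)

theorem cFi2_act96 : ∀ x, 6593 ≤ x → x < 6662 → cFi2.actRow x = true :=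
  VCert.of_range' _ 6593 6662 (by decide +kernel)

theorem cFi2_act105 : ∀ x, 7211 ≤ x → x < 7280 → cFi2.actRow x = true :=
  VCert.of_range' _ 7211 7280 (by decide +kernel)

theorem cFi2_act114 : ∀ x, 7829 ≤ x → x < 7898 → cFi2.actRow x = true :=
  VCert.of_range' _ 7829 7898 (by decide +kernel)

theorem cFi2_act122 : ∀ x, 8379 ≤ x → x < 8448 → cFi2.actRow x = true :=
  VCert.of_range' _ 8379 8448 (by decide +kernel)

theorem cFi2_act131 : ∀ x, 8997 ≤ x → x < 9066 → cFi2.actRow x = true :=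
  VCert.of_range' _ 8997 9066 (by decide +kernel)

theorem cFi2_act140 : ∀ x, 9615 ≤ x → x < 9684 → cFi2.actRow x = true :=
  VCert.of_range' _ 9615 9684 (by decide +kernel)

theorem cFi2_act149 : ∀ x, 10233 ≤ x → x < 10302 → cFi2.actRow x = true :=
  VCert.of_range' _ 10233 10302 (by decide +kernel)

theorem cFi2_act158 : ∀ x, 10851 ≤ x → x < 10920 → cFi2.actRow x = true :=
  VCert.of_range' _ 10851 10920 (by decide +kernel)

theorem cFi2_act166 : ∀ x, 11401 ≤ x → x < 11470 → cFi2.actRow x = true :=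
  VCert.of_range' _ 11401 11470 (by decide +kernel)

theorem cFi2_act175 : ∀ x, 12019 ≤ x → x < 12088 → cFi2.actRow x = true :=
  VCert.of_range' _ 12019 12088 (by decide +kernel)

theorem cFi2_act184 : ∀ x, 12637 ≤ x → x < 12706 → cFi2.actRow x = true :=
  VCert.of_range' _ 12637 12706 (by decide +kernel)

theorem cFi2_act193 : ∀ x, 13255 ≤ x → x < 13324 → cFi2.actRow x = true :=
  VCert.of_range' _ 13255 13324 (by decide +kernel)

theorem cFi2_act202 : ∀ x, 13873 ≤ x → x < 13942 → cFi2.actRow x = true :=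
  VCert.of_range' _ 13873 13942 (by decide +kernel)

theorem cFi2_ok4 : ∀ x, 808 ≤ x → x < 1010 → cFi2.rowOK x = true :=
  VCert.of_range' _ 808 1010 (by decide +kernel)

theorem cFi2_ok11 : ∀ x, 2223 ≤ x → x < 2425 → cFi2.rowOK x = true :=
  VCert.of_range' _ 2223 2425 (by decide +kernel)

theorem cFi2_ok18 : ∀ x, 3638 ≤ x → x < 3840 → cFi2.rowOK x = true :=
  VCert.of_range' _ 3638 3840 (by decide +kernel)

theorem cFi2_ok25 : ∀ x, 5053 ≤ x → x < 5255 → cFi2.rowOK x = true :=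
  VCert.of_range' _ 5053 5255 (by decide +kernel)

theorem cFi2_ok32 : ∀ x, 6468 ≤ x → x < 6670 → cFi2.rowOK x = true :=
  VCert.of_range' _ 6468 6670 (by decide +kernel)

theorem cFi2_ok39 : ∀ x, 7883 ≤ x → x < 8085 → cFi2.rowOK x = true :=
  VCert.of_range' _ 7883 8085 (by decide +kernel)

theorem cFi2_ok46 : ∀ x, 9298 ≤ x → x < 9500 → cFi2.rowOK x = true :=
  VCert.of_range' _ 9298 9500 (by decide +kernel)

theorem cFi2_ok52 : ∀ x, 10510 ≤ x → x < 10712 → cFi2.rowOK x = true :=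
  VCert.of_range' _ 10510 10712 (by decide +kernel)

theorem cFi2_ok59 : ∀ x, 11925 ≤ x → x < 12127 → cFi2.rowOK x = true :=
  VCert.of_range' _ 11925 12127 (by decide +kernel)

theorem cFi2_ok66 : ∀ x, 13340 ≤ x → x < 13542 → cFi2.rowOK x = true :=
  VCert.of_range' _ 13340 13542 (by decide +kernel)

theorem cFi2_ok73 : ∀ x, 14755 ≤ x → x < 14957 → cFi2.rowOK x = true :=
  VCert.of_range' _ 14755 14957 (by decide +kernel)

theorem cFi2_ok80 : ∀ x, 16170 ≤ x → x < 16372 → cFi2.rowOK x = true :=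
  VCert.of_range' _ 16170 16372 (by decide +kernel)

theorem cFi2_ok87 : ∀ x, 17585 ≤ x → x < 17787 → cFi2.rowOK x = true :=
  VCert.of_range' _ 17585 17787 (by decide +kernel)

theorem cFi2_ok94 : ∀ x, 19000 ≤ x → x < 19202 → cFi2.rowOK x = true :=
  VCert.of_range' _ 19000 19202 (by decide +kernel)

theorem cFi2_act6 : ∀ x, 412 ≤ x → x < 480 → cFi2.actRow x = true :=
  VCert.of_range' _ 412 480 (by decide +kernel)

theorem cFi2_act22 : ∀ x, 1511 ≤ x → x < 1579 → cFi2.actRow x = true :=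
  VCert.of_range' _ 1511 1579 (by decide +kernel)

theorem cFi2_act41 : ∀ x, 2816 ≤ x → x < 2884 → cFi2.actRow x = true :=
  VCert.of_range' _ 2816 2884 (by decide +kernel)

theorem cFi2_act59 : ∀ x, 4052 ≤ x → x < 4120 → cFi2.actRow x = true :=
  VCert.of_range' _ 4052 4120 (by decide +kernel)

theorem cFi2_act78 : ∀ x, 5357 ≤ x → x < 5425 → cFi2.actRow x = true :=
  VCert.of_range' _ 5357 5425 (by decide +kernel)

theorem cFi2_act97 : ∀ x, 6662 ≤ x → x < 6730 → cFi2.actRow x = true :=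
  VCert.of_range' _ 6662 6730 (by decide +kernel)

theorem cFi2_act116 : ∀ x, 7967 ≤ x → x < 8035 → cFi2.actRow x = true :=
  VCert.of_range' _ 7967 8035 (by decide +kernel)

theorem cFi2_act135 : ∀ x, 9272 ≤ x → x < 9340 → cFi2.actRow x = true :=
  VCert.of_range' _ 9272 9340 (by decide +kernel)

theorem cFi2_act154 : ∀ x, 10577 ≤ x → x < 10645 → cFi2.actRow x = true :=
  VCert.of_range' _ 10577 10645 (by decide +kernel)

theorem cFi2_act173 : ∀ x, 11882 ≤ x → x < 11950 → cFi2.actRow x = true :=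
  VCert.of_range' _ 11882 11950 (by decide +kernel)

theorem cFi2_act192 : ∀ x, 13187 ≤ x → x < 13255 → cFi2.actRow x = true :=
  VCert.of_range' _ 13187 13255 (by decide +kernel)

theorem oFi2_colr6 : ∀ x, 12068 ≤ x → x < 14080 → oFi2.colRow cFi2 x = true :=
  VCert.of_range' _ 12068 14080 (by decide +kernel)

theorem oFi2_tr1_1 : ∀ x, 1760 ≤ x → x < 3520 → oFi2.treeRow cFi2 1 1 x = true :=
  VCert.of_range' _ 1760 3520 (by decide +kernel)

theorem oFi2_tr1_6 : ∀ x, 10560 ≤ x → x < 12320 → oFi2.treeRow cFi2 1 1 x = true :=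
  VCert.of_range' _ 10560 12320 (by decide +kernel)

theorem oFi2_tr2_4 : ∀ x, 7040 ≤ x → x < 8800 → oFi2.treeRow cFi2 191 2 x = true :=
  VCert.of_range' _ 7040 8800 (by decide +kernel)

theorem cFi2_finn4 : ∀ x, 11434 ≤ x → x < 14293 → cFi2.finNode x = true :=
  VCert.of_range' _ 11434 14293 (by decide +kernel)


end Cfsg.Agent.Lib.Lead.VTC
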