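import Cfsg.Agent.Lib.Lead.VTCFi2bD0
import Cfsg.Agent.Lib.Lead.VTC2

set_option autoImplicit false
set_option maxRecDepth 100000

namespace Cfsg.Agent.Lib.Lead.VTC

open Cfsg.Agent.Lib.Lead.WTC

def Fi2bRelSpec : List (List ℕ × ℕ) := [([0, 0], 1), ([1, 1], 1), ([2, 2], 1), ([3, 3], 1), ([4, 4], 1), ([5, 5], 1), ([6, 6], 1), ([7, 7], 1), ([8, 8], 1), ([0, 1], 3), ([0, 2], 2), ([0, 3], 2), ([0, 4], 2), ([0, 5], 2), ([0, 6], 2), ([0, 7], 2), ([0, 8], 2), ([1, 2], 3), ([1, 3], 2), ([1, 4], 2), ([1, 5], 2), ([1, 6], 2), ([1, 7], 2), ([1, 8], 2), ([2, 3], 3), ([2, 4], 2), ([2, 5], 2), ([2, 6], 2), ([2, 7], 2), ([2, 8], 2), ([3, 4], 3), ([3, 5], 2), ([3, 6], 2), ([3, 7], 3), ([3, 8], 2), ([4, 5], 3), ([4, 6], 2), ([4, 7], 2), ([4, 8], 2), ([5, 6], 3), ([5, 7], 2), ([5, 8], 2), ([6, 7],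 2), ([6, 8], 2), ([7, 8], 3), ([3, 2, 1, 3, 4, 5, 3, 7, 8], 10), ([0, 1, 2, 3, 4, 5, 7], 9), ([1, 2, 3, 4, 5, 6, 7], 9)]

def Fi2bSubSpec : List (List ℕ × ℕ) := [([0], 1), ([2], 1), ([3], 1), ([4], 1), ([5], 1), ([6], 1), ([7], 1), ([8], 1), ([0, 1, 2, 3, 4, 7], 5)]

noncomputable def cFi2b : VCert where
  N := 3534
  n := 3510
  k := 9
  fuel := 4
  nrel := 48
  nsub := 9
  ft := fun s => (Bool.rec (Bool.rec (Bool.rec (Bool.rec (Bool.rec (Bool.rec (Bool.rec (Bool.rec (Bool.rec (fun _ => 0) Fi2b_ft8 (Nat.beq s 8)) Fi2b_ft7 (Nat.beq s 7)) Fi2b_ft6 (Nat.beq s 6)) Fi2b_ft5 (Nat.beq s 5)) Fi2b_ft4 (Nat.beq s 4)) Fi2b_ft3 (Nat.beq s 3)) Fi2b_ft2 (Nat.beq s 2)) Fi2b_ft1 (Nat.beq s 1)) Fi2b_ft0 (Nat.beq s 0))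
  rk := fun s => (Bool.rec (Bool.rec (Bool.rec (Bool.rec (Bool.rec (Bool.rec (Bool.rec (Bool.rec (Bool.rec (fun _ => 0) Fi2b_rk8 (Nat.beq s 8)) Fi2b_rk7 (Nat.beq s 7)) Fi2b_rk6 (Nat.beq s 6)) Fi2b_rk5 (Nat.beq s 5)) Fi2b_rk4 (Nat.beq s 4)) Fi2b_rk3 (Nat.beq s 3)) Fi2b_rk2 (Nat.beq s 2)) Fi2b_rk1 (Nat.beq s 1)) Fi2b_rk0 (Nat.beq s 0))
  js := fun s => (Bool.rec (Bool.rec (Bool.rec (Bool.rec (Bool.rec (Bool.rec (Bool.rec (Bool.rec (Bool.rec (fun _ => 0) Fi2b_js8 (Nat.beq s 8)) Fi2b_js7 (Nat.beq s 7)) Fi2b_js6 (Nat.beq s 6)) Fi2b_js5 (Nat.beq s 5)) Fi2b_js4 (Nat.beq s 4)) Fi2b_js3 (Nat.beq s 3)) Fi2b_js2 (Nat.beq s 2)) Fi2b_js1 (Nat.beq s 1)) Fi2b_js0 (Nat.beq s 0))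
  par := Fi2b_par
  sg := Fi2b_sg
  al := Fi2b_al
  qr := Fi2b_qr
  qz := Fi2b_qz
  qj := Fi2b_qj
  nd := Fi2b_nd
  ci := Fi2b_ci
  tab := fun s => (Bool.rec (Bool.rec (Bool.rec (Bool.rec (Bool.rec (Bool.rec (Bool.rec (Bool.rec (Bool.rec (fun _ => 0) Fi2b_tab8 (Nat.beq s 8)) Fi2b_tab7 (Nat.beq s 7)) Fi2b_tab6 (Nat.beq s 6)) Fi2b_tab5 (Nat.beq s 5)) Fi2b_tab4 (Nat.beq s 4)) Fi2b_tab3 (Nat.beq s 3)) Fi2b_tab2 (Nat.beq s 2)) Fi2b_tab1 (Nat.beq s 1)) Fi2b_tab0 (Nat.beq s 0))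
  wt := fun j => (Bool.rec (Bool.rec (Bool.rec (Bool.rec (Bool.rec 0x0 (Bool.rec 0x11 0x22 (Nat.ble 2 j)) (Nat.ble 1 j)) (Bool.rec (Bool.rec 0x33 0x44 (Nat.ble 4 j)) (Bool.rec 0x55 0x66 (Nat.ble 6 j)) (Nat.ble 5 j)) (Nat.ble 3 j)) (Bool.rec (Bool.rec 0x77 (Bool.rec 0x88 0x101010 (Nat.ble 9 j)) (Nat.ble 8 j)) (Bool.rec (Bool.rec 0x2020 0x3030 (Nat.ble 11 j)) (Bool.rec 0x4040 0x5050 (Nat.ble 13 j)) (Nat.ble 12 j)) (Nat.ble 10 j)) (Nat.ble 7 j)) (Bool.rec (Bool.rec (Bool.rec 0x6060 (Bool.rec 0x7070 0x8080 (Nat.ble 16 j)) (Nat.ble 15 j)) (Bool.rec (Bool.rec 0x212121 0x3131 (Nat.ble 18 j)) (Bool.rec 0x4141 0x5151 (Nat.ble 20 j)) (Nat.ble 19 j)) (Nat.ble 17 j)) (Bool.rec (Bool.rec 0x6161 (Bool.rec 0x7171 0x8181 (Nat.ble 23 j)) (Nat.ble 22 j)) (Bool.rec (Bool.rec 0x323232 0x4242 (Nat.ble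 25 j)) (Bool.rec 0x5252 0x6262 (Nat.ble 27 j)) (Nat.ble 26 j)) (Nat.ble 24 j)) (Nat.ble 21 j)) (Nat.ble 14 j)) (Bool.rec (Bool.rec (Bool.rec (Bool.rec 0x7272 (Bool.rec 0x8282 0x434343 (Nat.ble 30 j)) (Nat.ble 29 j)) (Bool.rec (Bool.rec 0x5353 0x6363 (Nat.ble 32 j)) (Bool.rec 0x737373 0x8383 (Nat.ble 34 j)) (Nat.ble 33 j)) (Nat.ble 31 j)) (Bool.rec (Bool.rec 0x545454 (Bool.rec 0x6464 0x7474 (Nat.ble 37 j)) (Nat.ble 36 j)) (Bool.rec (Bool.rec 0x8484 0x656565 (Nat.ble 39 j)) (Bool.rec 0x7575 0x8585 (Nat.ble 41 j)) (Nat.ble 40 j)) (Nat.ble 38 j)) (Nat.ble 35 j)) (Bool.rec (Bool.rec (Bool.rec 0x7676 (Bool.rec 0x8686 0x878787 (Nat.ble 44 j)) (Nat.ble 43 j)) (Bool.rec (Bool.rec 0x873543123873543123873543123873543123873543123873543123873543123873543123873543123873543123 0x754321075432107543210754321075432107543210754321075432107543210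 (Nat.ble 46 j)) (Bool.rec 0x765432176543217654321765432176543217654321765432176543217654321 0x0 (Nat.ble 48 j)) (Nat.ble 47 j)) (Nat.ble 45 j)) (Bool.rec (Bool.rec (Bool.rec 0x2 0x3 (Nat.ble 50 j)) (Bool.rec 0x4 0x5 (Nat.ble 52 j)) (Nat.ble 51 j)) (Bool.rec (Bool.rec 0x6 0x7 (Nat.ble 54 j)) (Bool.rec 0x8 0x743210743210743210743210743210 (Nat.ble 56 j)) (Nat.ble 55 j)) (Nat.ble 53 j)) (Nat.ble 49 j)) (Nat.ble 42 j)) (Nat.ble 28 j))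
  wl := fun j => (Bool.rec (Bool.rec (Bool.rec (Bool.rec (Bool.rec 2 (Bool.rec 2 2 (Nat.ble 2 j)) (Nat.ble 1 j)) (Bool.rec (Bool.rec 2 2 (Nat.ble 4 j)) (Bool.rec 2 2 (Nat.ble 6 j)) (Nat.ble 5 j)) (Nat.ble 3 j)) (Bool.rec (Bool.rec 2 (Bool.rec 2 6 (Nat.ble 9 j)) (Nat.ble 8 j)) (Bool.rec (Bool.rec 4 4 (Nat.ble 11 j)) (Bool.rec 4 4 (Nat.ble 13 j)) (Nat.ble 12 j)) (Nat.ble 10 j)) (Nat.ble 7 j)) (Bool.rec (Bool.rec (Bool.rec 4 (Bool.rec 4 4 (Nat.ble 16 j)) (Nat.ble 15 j)) (Bool.rec (Bool.rec 6 4 (Nat.ble 18 j)) (Bool.rec 4 4 (Nat.ble 20 j)) (Nat.ble 19 j)) (Nat.ble 17 j)) (Bool.rec (Bool.rec 4 (Bool.rec 4 4 (Nat.ble 23 j)) (Nat.ble 22 j)) (Bool.rec (Bool.rec 6 4 (Nat.ble 25 j)) (Bool.rec 4 4 (Nat.ble 27 j)) (Nat.ble 26 j)) (Nat.ble 24 j)) (Nat.ble 21 j)) (Nat.ble 14 j)) (Bool.rec (Bool.rec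 (Bool.rec (Bool.rec 4 (Bool.rec 4 6 (Nat.ble 30 j)) (Nat.ble 29 j)) (Bool.rec (Bool.rec 4 4 (Nat.ble 32 j)) (Bool.rec 6 4 (Nat.ble 34 j)) (Nat.ble 33 j)) (Nat.ble 31 j)) (Bool.rec (Bool.rec 6 (Bool.rec 4 4 (Nat.ble 37 j)) (Nat.ble 36 j)) (Bool.rec (Bool.rec 4 6 (Nat.ble 39 j)) (Bool.rec 4 4 (Nat.ble 41 j)) (Nat.ble 40 j)) (Nat.ble 38 j)) (Nat.ble 35 j)) (Bool.rec (Bool.rec (Bool.rec 4 (Bool.rec 4 6 (Nat.ble 44 j)) (Nat.ble 43 j)) (Bool.rec (Bool.rec 90 63 (Nat.ble 46 j)) (Bool.rec 63 1 (Nat.ble 48 j)) (Nat.ble 47 j)) (Nat.ble 45 j)) (Bool.rec (Bool.rec (Bool.rec 1 1 (Nat.ble 50 j)) (Bool.rec 1 1 (Nat.ble 52 j)) (Nat.ble 51 j)) (Bool.rec (Bool.rec 1 1 (Nat.ble 54 j)) (Bool.rec 1 30 (Nat.ble 56 j)) (Nat.ble 55 j)) (Nat.ble 53 j)) (Nat.ble 49 j)) (Nat.ble 42 j)) (Nat.ble 28 j))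
  rels := Fi2bRelSpec.map expand
  subs := Fi2bSubSpec.map expand

noncomputable def oFi2b : OrbCert where
  col := Fi2b_col
  opar := Fi2b_opar
  ow := Fi2b_ow
  odep := Fi2b_odep

end Cfsg.Agent.Lib.Lead.VTC
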