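import Cfsg.Agent.Lib.Lead.VTCFi2b
import Cfsg.Agent.Lib.Lead.VTC3

set_option autoImplicit false
set_option maxRecDepth 100000

namespace Cfsg.Agent.Lib.Lead.VTC

theorem cFi2b_finr1 : ∀ x, 1755 ≤ x → x < 3510 → cFi2b.finRow x = true :=
  VCert.of_range' _ 1755 3510 (by decide +kernel)

theorem oFi2b_colr0 : ∀ x, 0 ≤ x → x < 1170 → oFi2b.colRow cFi2b x = true :=
  VCert.of_range' _ 0 1170 (by decide +kernel)

theorem oFi2b_colr2 : ∀ x, 2340 ≤ x → x < 3510 → oFi2b.colRow cFi2b x = true :=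
  VCert.of_range' _ 2340 3510 (by decide +kernel)

theorem oFi2b_tr1_1 : ∀ x, 1755 ≤ x → x < 3510 → oFi2b.treeRow cFi2b 1 1 x = true :=
  VCert.of_range' _ 1755 3510 (by decide +kernel)

theorem oFi2b_tr2_1 : ∀ x, 1755 ≤ x → x < 3510 → oFi2b.treeRow cFi2b 7 2 x = true :=
  VCert.of_range' _ 1755 3510 (by decide +kernel)


end Cfsg.Agent.Lib.Lead.VTC
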