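import Cfsg.Agent.Lib.Lead.VTCFi2b

set_option autoImplicit false
set_option maxRecDepth 100000

namespace Cfsg.Agent.Lib.Lead.VTC

theorem cFi2b_ok1 : ∀ x, 589 ≤ x → x < 1178 → cFi2b.rowOK x = true :=
  VCert.of_range' _ 589 1178 (by decide +kernel)

theorem cFi2b_ok4 : ∀ x, 2356 ≤ x → x < 2945 → cFi2b.rowOK x = true :=
  VCert.of_range' _ 2356 2945 (by decide +kernel)

theorem cFi2b_act1 : ∀ x, 292 ≤ x → x < 585 → cFi2b.actRow x = true :=
  VCert.of_range' _ 292 585 (by decide +kernel)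

theorem cFi2b_act4 : ∀ x, 1170 ≤ x → x < 1462 → cFi2b.actRow x = true :=
  VCert.of_range' _ 1170 1462 (by decide +kernel)

theorem cFi2b_act7 : ∀ x, 2047 ≤ x → x < 2340 → cFi2b.actRow x = true :=
  VCert.of_range' _ 2047 2340 (by decide +kernel)

theorem cFi2b_act10 : ∀ x, 2925 ≤ x → x < 3217 → cFi2b.actRow x = true :=
  VCert.of_range' _ 2925 3217 (by decide +kernel)


end Cfsg.Agent.Lib.Lead.VTC
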