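import Cfsg.Agent.Lib.Lead.VTCFi2b

set_option autoImplicit false
set_option maxRecDepth 100000

namespace Cfsg.Agent.Lib.Lead.VTC

theorem cFi2b_ok2 : ∀ x, 1178 ≤ x → x < 1767 → cFi2b.rowOK x = true :=
  VCert.of_range' _ 1178 1767 (by decide +kernel)

theorem cFi2b_ok5 : ∀ x, 2945 ≤ x → x < 3534 → cFi2b.rowOK x = true :=
  VCert.of_range' _ 2945 3534 (by decide +kernel)

theorem cFi2b_act2 : ∀ x, 585 ≤ x → x < 877 → cFi2b.actRow x = true :=
  VCert.of_range' _ 585 877 (by decide +kernel)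

theorem cFi2b_act5 : ∀ x, 1462 ≤ x → x < 1755 → cFi2b.actRow x = true :=
  VCert.of_range' _ 1462 1755 (by decide +kernel)

theorem cFi2b_act8 : ∀ x, 2340 ≤ x → x < 2632 → cFi2b.actRow x = true :=
  VCert.of_range' _ 2340 2632 (by decide +kernel)

theorem cFi2b_act11 : ∀ x, 3217 ≤ x → x < 3510 → cFi2b.actRow x = true :=
  VCert.of_range' _ 3217 3510 (by decide +kernel)


end Cfsg.Agent.Lib.Lead.VTC
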