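import Cfsg.Agent.Lib.Lead.VTCFi2bK0
import Cfsg.Agent.Lib.Lead.VTCFi2bK1
import Cfsg.Agent.Lib.Lead.VTCFi2bK2
import Cfsg.Agent.Lib.Lead.VTCFi2bF0
import Cfsg.Agent.Lib.Lead.VTCFi2bF1

set_option autoImplicit false
set_option maxRecDepth 100000

namespace Cfsg.Agent.Lib.Lead.VTC

theorem cFi2b_base : cFi2b.baseOK = true := by decide +kernel

theorem cFi2b_Ok : cFi2b.Ok := by
  refine ⟨cFi2b_base, ?_⟩
  intro x hx
  by_cases h0 : x < 589
  · exact cFi2b_ok0 x (by omega) h0
  by_cases h1 : x < 1178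
  · exact cFi2b_ok1 x (by omega) h1
  by_cases h2 : x < 1767
  · exact cFi2b_ok2 x (by omega) h2
  by_cases h3 : x < 2356
  · exact cFi2b_ok3 x (by omega) h3
  by_cases h4 : x < 2945
  · exact cFi2b_ok4 x (by omega) h4
  exact cFi2b_ok5 x (by omega) hx

theorem cFi2b_actBase : cFi2b.actBase = true := by decide +kernel

theorem cFi2b_Act : cFi2b.ActOk := by
  refine ⟨cFi2b_Ok, cFi2b_actBase, ?_⟩
  intro x hx
  by_cases h0 : x < 292
  · exact cFi2b_act0 x (by omega) h0
  by_cases h1 : x < 585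
  · exact cFi2b_act1 x (by omega) h1
  by_cases h2 : x < 877
  · exact cFi2b_act2 x (by omega) h2
  by_cases h3 : x < 1170
  · exact cFi2b_act3 x (by omega) h3
  by_cases h4 : x < 1462
  · exact cFi2b_act4 x (by omega) h4
  by_cases h5 : x < 1755
  · exact cFi2b_act5 x (by omega) h5
  by_cases h6 : x < 2047
  · exact cFi2b_act6 x (by omega) h6
  by_cases h7 : x < 2340
  · exact cFi2b_act7 x (by omega) h7
  by_cases h8 : x < 2632
  · exact cFi2b_act8 x (by omega) h8
  by_cases h9 : x < 2925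
  · exact cFi2b_act9 x (by omega) h9
  by_cases h10 : x < 3217
  · exact cFi2b_act10 x (by omega) h10
  exact cFi2b_act11 x (by omega) hx

theorem cFi2b_finBase : cFi2b.finBase = true := by decide +kernel

theorem cFi2b_fin : cFi2b.finOK = true := by
  refine VCert.finOK_of _ cFi2b_finBase ?_ ?_
  · intro x hx
    by_cases h0 : x < 1755
    · exact cFi2b_finr0 x (by omega) h0
    exact cFi2b_finr1 x (by omega) hx
  · intro x hx
    exact cFi2b_finn0 x (by omega) hx

theorem oFi2b_col : oFi2b.colOK cFi2b = true := by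
  refine OrbCert.colOK_of _ _ ?_
  intro x hx
  by_cases h0 : x < 1170
  · exact oFi2b_colr0 x (by omega) h0
  by_cases h1 : x < 2340
  · exact oFi2b_colr1 x (by omega) h1
  exact oFi2b_colr2 x (by omega) hx

theorem oFi2b_treeBase1 : oFi2b.treeBase cFi2b 1 1 = true := by decide +kernel

theorem oFi2b_tree1 : oFi2b.treeOK cFi2b 1 1 = true := by
  refine OrbCert.treeOK_of _ _ _ _ oFi2b_treeBase1 ?_
  intro x hx
  by_cases h0 : x < 1755
  · exact oFi2b_tr1_0 x (by omega) h0
  exact oFi2b_tr1_1 x (by omega) hx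

theorem oFi2b_cnt1 : ((Finset.range cFi2b.n).filter (fun x => oFi2b.C x = 1)).card = 2816 := by
  decide +kernel

theorem oFi2b_treeBase2 : oFi2b.treeBase cFi2b 7 2 = true := by decide +kernel

theorem oFi2b_tree2 : oFi2b.treeOK cFi2b 7 2 = true := by
  refine OrbCert.treeOK_of _ _ _ _ oFi2b_treeBase2 ?_
  intro x hx
  by_cases h0 : x < 1755
  · exact oFi2b_tr2_0 x (by omega) h0
  exact oFi2b_tr2_1 x (by omega) hx

theorem oFi2b_cnt2 : ((Finset.range cFi2b.n).filter (fun x => oFi2b.C x = 2)).card = 693 := by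
  decide +kernel

end Cfsg.Agent.Lib.Lead.VTC
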