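import Cfsg.Agent.Lib.Lead.VTCFi2b

set_option autoImplicit false
set_option maxRecDepth 100000

namespace Cfsg.Agent.Lib.Lead.VTC

theorem cFi2b_ok0 : ∀ x, 0 ≤ x → x < 589 → cFi2b.rowOK x = true :=
  VCert.of_range' _ 0 589 (by decide +kernel)

theorem cFi2b_ok3 : ∀ x, 1767 ≤ x → x < 2356 → cFi2b.rowOK x = true :=
  VCert.of_range' _ 1767 2356 (by decide +kernel)

theorem cFi2b_act0 : ∀ x, 0 ≤ x → x < 292 → cFi2b.actRow x = true :=
  VCert.of_range' _ 0 292 (by decide +kernel)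

theorem cFi2b_act3 : ∀ x, 877 ≤ x → x < 1170 → cFi2b.actRow x = true :=
  VCert.of_range' _ 877 1170 (by decide +kernel)

theorem cFi2b_act6 : ∀ x, 1755 ≤ x → x < 2047 → cFi2b.actRow x = true :=
  VCert.of_range' _ 1755 2047 (by decide +kernel)

theorem cFi2b_act9 : ∀ x, 2632 ≤ x → x < 2925 → cFi2b.actRow x = true :=
  VCert.of_range' _ 2632 2925 (by decide +kernel)


end Cfsg.Agent.Lib.Lead.VTC
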