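import Cfsg.Agent.Lib.Lead.VTCFi22G
import Cfsg.Agent.Lib.Lead.VTCFi2bC

set_option autoImplicit false

namespace Cfsg.Agent.Lib.Lead.VTC

open Cfsg.Agent.Lib.Lead.WTC Cfsg.Agent.Lib.Lead.WTC.Cert Cfsg.Spor

theorem fi2b_subg {M : Type} [Group M] (f : Fi22.Gen → M) (_hf : ∀ x, f x * f x = 1) :
    [Fi22.a, Fi22.c, Fi22.d, Fi22.e, Fi22.f, Fi22.g, Fi22.h, Fi22.i,
      (Fi22.a * Fi22.b * Fi22.c * Fi22.d * Fi22.e * Fi22.h) ^ 5].map (FreeGroup.lift f) =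
      Fi2bSubSpec.map (fun p => (wd (fun s => f (fivGen s)) p.1) ^ p.2) := by
  simp [Fi2bSubSpec, wd, fivGen, mul_assoc]

theorem fi2b_main (S : Set (FreeGroup Fi22.Gen))
    (hS : S = {z | z ∈ [Fi22.a, Fi22.c, Fi22.d, Fi22.e, Fi22.f, Fi22.g, Fi22.h, Fi22.i,
      (Fi22.a * Fi22.b * Fi22.c * Fi22.d * Fi22.e * Fi22.h) ^ 5]}) :
    ((Subgroup.closure S).map
      (PresentedGroup.mk (coxRelators Fi22.edges ∪ {r | r ∈ Fi22.extra}))).index = 3510 ∧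
    ∃ q₁ q₂ : Cfsg.Spor.Fi22 ⧸ ((Subgroup.closure S).map
        (PresentedGroup.mk (coxRelators Fi22.edges ∪ {r | r ∈ Fi22.extra}))),
      (MulAction.orbit ((Subgroup.closure S).map
        (PresentedGroup.mk (coxRelators Fi22.edges ∪ {r | r ∈ Fi22.extra}))) q₁).ncard = 693 ∧
      (MulAction.orbit ((Subgroup.closure S).map
        (PresentedGroup.mk (coxRelators Fi22.edges ∪ {r | r ∈ Fi22.extra}))) q₂).ncard = 2816 := by
  subst hS
  have hrels : cFi2b.rels = (fivCoxSpec ++ fivExtraSpec).map expand := rfl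
  have hsubs : cFi2b.subs = Fi2bSubSpec.map expand := rfl
  refine ⟨?_, ?_⟩
  · exact cox_index (edges := Fi22.edges) (extra := Fi22.extra) (c := cFi2b) (gen := fivGen)
      (idx := fivIdx) fivIdx_lt fivGen_idx fivIdx_gen fiv_nodes fivCoxSpec fivExtraSpec
      Fi2bSubSpec hrels hsubs fiv_cox1 fiv_cox2 fiv_symm fiv_extra _ fi2b_subg
      cFi2b_Ok cFi2b_fin cFi2b_Act
  · obtain ⟨q₁, h1⟩ := cox_orbit (edges := Fi22.edges) (extra := Fi22.extra) (c := cFi2b)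
      (gen := fivGen) (idx := fivIdx) fivIdx_lt fivGen_idx fivIdx_gen fiv_nodes fivCoxSpec
      fivExtraSpec Fi2bSubSpec hrels hsubs fiv_cox1 fiv_cox2 fiv_symm fiv_extra _ fi2b_subg
      cFi2b_Ok cFi2b_fin cFi2b_Act oFi2b 7 2 oFi2b_col oFi2b_tree2
    obtain ⟨q₂, h2⟩ := cox_orbit (edges := Fi22.edges) (extra := Fi22.extra) (c := cFi2b)
      (gen := fivGen) (idx := fivIdx) fivIdx_lt fivGen_idx fivIdx_gen fiv_nodes fivCoxSpec
      fivExtraSpec Fi2bSubSpec hrels hsubs fiv_cox1 fiv_cox2 fiv_symm fiv_extra _ fi2b_subg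
      cFi2b_Ok cFi2b_fin cFi2b_Act oFi2b 1 1 oFi2b_col oFi2b_tree1
    exact ⟨q₁, q₂, h1.trans oFi2b_cnt2, h2.trans oFi2b_cnt1⟩

end Cfsg.Agent.Lib.Lead.VTC
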