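import Mathlib
import Cfsg.Agent.Lib.Lead.VTC2
import Cfsg.Prelude.Def_SporCoxeter

set_option autoImplicit false

/-! Generic glue: index and suborbit lengths of a subgroup of a Coxeter-style presented group
(`Cfsg.Spor.CoxPresented`) from a verified certificate. -/

namespace Cfsg.Agent.Lib.Lead.VTC

open Cfsg.Agent.Lib.Lead.WTC Cfsg.Agent.Lib.Lead.WTC.Cert Cfsg.Spor

theorem wd_congr {M : Type*} [Group M] {f f' : ℕ → M} {l : List ℕ} (h : ∀ u ∈ l, f u = f' u) :
    wd f l = wd f' l := by
  induction l with
  | nil => rfl
  | cons u l ih =>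
    rw [wd_cons, wd_cons, h u List.mem_cons_self, ih (fun v hv => h v (List.mem_cons_of_mem _ hv))]

theorem pow_swap_one {M : Type*} [Group M] (a b : M) (m : ℕ) (h : (a * b) ^ m = 1) :
    (b * a) ^ m = 1 := by
  have h1 : ∀ k : ℕ, (b * a) ^ k = a⁻¹ * (a * b) ^ k * a := by
    intro k
    induction k with
    | zero => simp
    | succ k ih => rw [pow_succ, ih, pow_succ]; group
  rw [h1, h]; group

theorem lift_of_eq_mk {α : Type*} (rels : Set (FreeGroup α)) (z : FreeGroup α) :
    FreeGroup.lift (PresentedGroup.of (rels := rels)) z = PresentedGroup.mk rels z := by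
  have : FreeGroup.lift (PresentedGroup.of (rels := rels)) = PresentedGroup.mk rels := by
    ext x
    rw [FreeGroup.lift_apply_of]
    rfl
  rw [this]

/-- the relators of a Coxeter-style presentation -/
abbrev relSet {α : Type} [DecidableEq α] (edges : List (α × ℕ × α)) (extra : List (FreeGroup α)) :
    Set (FreeGroup α) := coxRelators edges ∪ {r | r ∈ extra}

section glue
variable {α : Type} [DecidableEq α] (edges : List (α × ℕ × α)) (extra : List (FreeGroup α))
  (c : VCert) (gen : ℕ → α) (idx : α → ℕ)
  (hidx : ∀ x, idx x < c.k) (hgi : ∀ x, gen (idx x) = x) (hig : ∀ s, s < c.k → idx (gen s) = s)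
  (hnodes : ∀ x, x ∈ coxNodes edges)
  (coxSpec extraSpec subSpec : List (List ℕ × ℕ))
  (hrels : c.rels = (coxSpec ++ extraSpec).map expand) (hsubs : c.subs = subSpec.map expand)
  (hcox1 : ∀ p ∈ coxSpec, ∃ s, s < c.k ∧ ∃ t, t < c.k ∧
    p = ([s, t], coxLabel edges (gen s) (gen t)))
  (hcox2 : ∀ x y, idx x ≤ idx y → ([idx x, idx y], coxLabel edges x y) ∈ coxSpec)
  (hsymm : ∀ x y, coxLabel edges y x = coxLabel edges x y)
  (hextra : ∀ {M : Type} [Group M] (f : α → M), (∀ x, f x * f x = 1) →
    extra.map (FreeGroup.lift f) = extraSpec.map (fun p => (wd (fun s => f (gen s)) p.1) ^ p.2))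
  (subGens : List (FreeGroup α))
  (hsubg : ∀ {M : Type} [Group M] (f : α → M), (∀ x, f x * f x = 1) →
    subGens.map (FreeGroup.lift f) = subSpec.map (fun p => (wd (fun s => f (gen s)) p.1) ^ p.2))
  (hok : c.Ok) (hfin : c.finOK = true) (hact : c.ActOk)


include hnodes in
theorem cox_rel (x y : α) :
    ((PresentedGroup.of x : PresentedGroup (relSet edges extra)) * PresentedGroup.of y) ^ (coxLabel edges x y) = 1 := by
  have hmem : (FreeGroup.of x * FreeGroup.of y) ^ (coxLabel edges x y) ∈ (relSet edges extra) :=
    Or.inl ⟨x, hnodes x, y, hnodes y, rfl⟩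
  have h := PresentedGroup.one_of_mem hmem
  rw [map_pow, map_mul] at h
  exact h

include hnodes in
theorem of_sq (x : α) : (PresentedGroup.of x : PresentedGroup (relSet edges extra)) * PresentedGroup.of x = 1 := by
  have h := cox_rel edges extra hnodes x x
  have h1 : coxLabel edges x x = 1 := by simp [coxLabel]
  rw [h1, pow_one] at h
  exact h

/-- the images of the generators, indexed by letters -/
noncomputable def gG (s : ℕ) : PresentedGroup (relSet edges extra) := PresentedGroup.of (gen s)

include hnodes in
theorem gG_sq (s : ℕ) (_hs : s < c.k) : gG edges extra gen s * gG edges extra gen s = 1 :=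
  of_sq edges extra hnodes (gen s)

include hnodes hrels hcox1 hextra in
theorem gG_rel : ∀ w ∈ c.rels, wd (gG edges extra gen) w = 1 := by
  intro w hw
  rw [hrels] at hw
  obtain ⟨p, hp, rfl⟩ := List.mem_map.mp hw
  rw [wd_expand]
  rcases List.mem_append.mp hp with hp | hp
  · obtain ⟨s, _, t, _, rfl⟩ := hcox1 p hp
    have h := cox_rel edges extra hnodes (gen s) (gen t)
    simp only [wd, List.map_cons, List.map_nil, List.prod_cons, List.prod_nil, mul_one]
    exact h
  · have h1 := hextra (M := PresentedGroup (relSet edges extra)) PresentedGroup.of (of_sq edges extra hnodes)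
    have h2 : (wd (gG edges extra gen) p.1) ^ p.2 ∈
        extraSpec.map (fun p => (wd (fun s => (PresentedGroup.of (gen s) : PresentedGroup (relSet edges extra))) p.1) ^ p.2) :=
      List.mem_map.mpr ⟨p, hp, rfl⟩
    rw [← h1] at h2
    obtain ⟨r, hr, hr2⟩ := List.mem_map.mp h2
    rw [← hr2, lift_of_eq_mk]
    exact PresentedGroup.one_of_mem (Or.inr hr)

include hidx hgi in
theorem gG_gen : Subgroup.closure {y : PresentedGroup (relSet edges extra) | ∃ s, s < c.k ∧ y = gG edges extra gen s} = ⊤ := by
  rw [eq_top_iff, ← PresentedGroup.closure_range_of]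
  apply Subgroup.closure_mono
  rintro _ ⟨x, rfl⟩
  exact ⟨idx x, hidx x, by unfold gG; rw [hgi]⟩

/-- the generating permutations, indexed by letters through `gen` and `idx` -/
noncomputable def sig' (s : ℕ) : Equiv.Perm (Fin c.n) := c.σ hact (idx (gen s))

include hig in
theorem sig'_eq {s : ℕ} (hs : s < c.k) : sig' c gen idx hact s = c.σ hact s := by
  unfold sig'; rw [hig s hs]

include hig in
theorem sig'_word : ∀ w ∈ c.rels, wd (sig' c gen idx hact) w = 1 := by
  intro w hw
  rw [wd_congr (f' := c.σ hact) (fun u hu => sig'_eq c gen idx hig hact (c.actOK_rel_lt hact w hw u hu))]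
  exact c.σ_word hact w hw

include hidx in
theorem sigx_sq (x : α) : c.σ hact (idx x) * c.σ hact (idx x) = 1 := c.σ_sq hact (hidx x)

include hidx hgi hig hrels hcox2 hsymm hextra in
theorem lift_rel : ∀ r ∈ (relSet edges extra), FreeGroup.lift (fun x => c.σ hact (idx x)) r = 1 := by
  intro r hr
  have hgs : ∀ s, (fun x => c.σ hact (idx x)) (gen s) = sig' c gen idx hact s := fun s => rfl
  rcases hr with ⟨x, _, y, _, rfl⟩ | hr
  · rw [map_pow, map_mul, FreeGroup.lift_apply_of, FreeGroup.lift_apply_of]
    have key : ∀ x y : α, idx x ≤ idx y →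
        (c.σ hact (idx x) * c.σ hact (idx y)) ^ (coxLabel edges x y) = 1 := by
      intro x y hxy
      have hm : expand ([idx x, idx y], coxLabel edges x y) ∈ c.rels := by
        rw [hrels]
        exact List.mem_map.mpr ⟨_, List.mem_append_left _ (hcox2 x y hxy), rfl⟩
      have h := c.σ_word hact _ hm
      rw [wd_expand] at h
      simp only [wd, List.map_cons, List.map_nil, List.prod_cons, List.prod_nil, mul_one] at h
      exact h
    rcases le_total (idx x) (idx y) with hxy | hxy
    · exact key x y hxy
    · have h := key y x hxy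
      rw [hsymm] at h
      exact pow_swap_one _ _ _ h
  · have hr' : r ∈ extra := hr
    have h1 := hextra (M := Equiv.Perm (Fin c.n)) (fun x => c.σ hact (idx x))
      (sigx_sq c idx hidx hact)
    have h2 : FreeGroup.lift (fun x => c.σ hact (idx x)) r ∈
        extra.map (FreeGroup.lift (fun x => c.σ hact (idx x))) := List.mem_map.mpr ⟨r, hr', rfl⟩
    rw [h1] at h2
    obtain ⟨p, hp, hp2⟩ := List.mem_map.mp h2
    rw [← hp2]
    have hm : expand p ∈ c.rels := by
      rw [hrels]
      exact List.mem_map.mpr ⟨_, List.mem_append_right _ hp, rfl⟩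
    have h3 := sig'_word c gen idx hig hact _ hm
    rw [wd_expand] at h3
    exact h3

/-- the permutation representation on the cosets -/
noncomputable def rhoG : PresentedGroup (relSet edges extra) →* Equiv.Perm (Fin c.n) :=
  PresentedGroup.toGroup
    (lift_rel edges extra c gen idx hidx hgi hig coxSpec extraSpec hrels hcox2 hsymm hextra hact)

include hig in
theorem rhoG_val (s : ℕ) (hs : s < c.k) (x : Fin c.n) :
    (rhoG edges extra c gen idx hidx hgi hig coxSpec extraSpec hrels hcox2 hsymm hextra hact
      (gG edges extra gen s) x).val = c.T x s := by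
  unfold rhoG gG
  rw [PresentedGroup.toGroup.of]
  show (c.σ hact (idx (gen s)) x).val = c.T x s
  rw [hig s hs]
  exact c.σ_val hact hs x

/-- the subgroup of the statement -/
abbrev subH : Subgroup (PresentedGroup (relSet edges extra)) :=
  (Subgroup.closure {z | z ∈ subGens}).map (PresentedGroup.mk (relSet edges extra))

include hnodes hsubs hsubg in
theorem subH_eq : subH edges extra subGens =
    Subgroup.closure {y : PresentedGroup (relSet edges extra) | ∃ w ∈ c.subs, y = wd (gG edges extra gen) w} := by
  have h1 := hsubg (M := PresentedGroup (relSet edges extra)) PresentedGroup.of (of_sq edges extra hnodes)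
  unfold subH
  rw [MonoidHom.map_closure]
  congr 1
  ext y
  constructor
  · rintro ⟨z, hz, rfl⟩
    have h2 : PresentedGroup.mk (relSet edges extra) z ∈ subGens.map (FreeGroup.lift (PresentedGroup.of (rels := (relSet edges extra)))) :=
      List.mem_map.mpr ⟨z, hz, lift_of_eq_mk _ z⟩
    rw [h1] at h2
    obtain ⟨p, hp, hp2⟩ := List.mem_map.mp h2
    refine ⟨expand p, ?_, ?_⟩
    · rw [hsubs]; exact List.mem_map.mpr ⟨p, hp, rfl⟩
    · rw [wd_expand]; exact hp2.symm
  · rintro ⟨w, hw, rfl⟩
    rw [hsubs] at hw
    obtain ⟨p, hp, rfl⟩ := List.mem_map.mp hw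
    have h2 : (wd (gG edges extra gen) p.1) ^ p.2 ∈
        subSpec.map (fun p => (wd (fun s => (PresentedGroup.of (gen s) : PresentedGroup (relSet edges extra))) p.1) ^ p.2) :=
      List.mem_map.mpr ⟨p, hp, rfl⟩
    rw [← h1] at h2
    obtain ⟨z, hz, hz2⟩ := List.mem_map.mp h2
    refine ⟨z, hz, ?_⟩
    rw [wd_expand, ← hz2, lift_of_eq_mk]

include hidx hgi hig hnodes hrels hsubs hcox1 hcox2 hsymm hextra hsubg hok hfin hact in
theorem cox_index : (subH edges extra subGens).index = c.n := by
  have hn : 0 < c.n := (c.finOK_base hfin).2.2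
  exact index_eq c (gG edges extra gen) (subH edges extra subGens)
    (rhoG edges extra c gen idx hidx hgi hig coxSpec extraSpec hrels hcox2 hsymm hextra hact)
    hok hfin hact hn
    (rhoG_val edges extra c gen idx hidx hgi hig coxSpec extraSpec hrels hcox2 hsymm hextra hact)
    (gG_gen edges extra c gen idx hidx hgi)
    (gG_sq edges extra c gen hnodes)
    (gG_rel edges extra c gen hnodes coxSpec extraSpec hrels hcox1 hextra)
    (subH_eq edges extra c gen hnodes subSpec hsubs subGens hsubg)

include hidx hgi hig hnodes hrels hsubs hcox1 hcox2 hsymm hextra hsubg hok hfin hact in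
theorem cox_orbit (o : OrbCert) (r cl : ℕ) (hcol : o.colOK c = true)
    (htree : o.treeOK c r cl = true) :
    ∃ q : PresentedGroup (relSet edges extra) ⧸ subH edges extra subGens,
      (MulAction.orbit (subH edges extra subGens) q).ncard =
        ((Finset.range c.n).filter (fun x => o.C x = cl)).card := by
  have hn : 0 < c.n := (c.finOK_base hfin).2.2
  exact orbit_card c (gG edges extra gen) (subH edges extra subGens)
    (rhoG edges extra c gen idx hidx hgi hig coxSpec extraSpec hrels hcox2 hsymm hextra hact)
    hok hfin hact hn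
    (rhoG_val edges extra c gen idx hidx hgi hig coxSpec extraSpec hrels hcox2 hsymm hextra hact)
    (gG_gen edges extra c gen idx hidx hgi)
    (gG_sq edges extra c gen hnodes)
    (gG_rel edges extra c gen hnodes coxSpec extraSpec hrels hcox1 hextra)
    (subH_eq edges extra c gen hnodes subSpec hsubs subGens hsubg) o r cl hcol htree

include hidx hgi hig hnodes hrels hsubs hcox1 hcox2 hsymm hextra hsubg hok hfin hact in
theorem cox_orbit2 (o : OrbCert) (r cl r' cl' : ℕ) (hcol : o.colOK c = true)
    (htree : o.treeOK c r cl = true) (htree' : o.treeOK c r' cl' = true) (hne : cl ≠ cl') :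
    ∃ q q' : PresentedGroup (relSet edges extra) ⧸ subH edges extra subGens,
      MulAction.orbit (subH edges extra subGens) q ≠ MulAction.orbit (subH edges extra subGens) q' ∧
      (MulAction.orbit (subH edges extra subGens) q).ncard =
        ((Finset.range c.n).filter (fun x => o.C x = cl)).card ∧
      (MulAction.orbit (subH edges extra subGens) q').ncard =
        ((Finset.range c.n).filter (fun x => o.C x = cl')).card := by
  have hn : 0 < c.n := (c.finOK_base hfin).2.2
  exact orbit_card2 c (gG edges extra gen) (subH edges extra subGens)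
    (rhoG edges extra c gen idx hidx hgi hig coxSpec extraSpec hrels hcox2 hsymm hextra hact)
    hok hfin hact hn
    (rhoG_val edges extra c gen idx hidx hgi hig coxSpec extraSpec hrels hcox2 hsymm hextra hact)
    (gG_gen edges extra c gen idx hidx hgi)
    (gG_sq edges extra c gen hnodes)
    (gG_rel edges extra c gen hnodes coxSpec extraSpec hrels hcox1 hextra)
    (subH_eq edges extra c gen hnodes subSpec hsubs subGens hsubg) o r cl r' cl' hcol htree htree' hne

end glue

end Cfsg.Agent.Lib.Lead.VTC
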