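import Cfsg.Agent.Lib.Lead.VTCSuz2D0
import Cfsg.Agent.Lib.Lead.VTCSuz2D1
import Cfsg.Agent.Lib.Lead.VTC2

set_option autoImplicit false
set_option maxRecDepth 100000

namespace Cfsg.Agent.Lib.Lead.VTC

open Cfsg.Agent.Lib.Lead.WTC

def Suz2RelSpec : List (List ℕ × ℕ) := [([0, 0], 1), ([1, 1], 1), ([2, 2], 1), ([3, 3], 1), ([4, 4], 1), ([5, 5], 1), ([6, 6], 1), ([0, 1], 5), ([0, 2], 2), ([0, 3], 2), ([0, 4], 2), ([0, 5], 2), ([0, 6], 2), ([1, 2], 3), ([1, 3], 2), ([1, 4], 2), ([1, 5], 3), ([1, 6], 3), ([2, 3], 8), ([2, 4], 2), ([2, 5], 2), ([2, 6], 2), ([3, 4], 3), ([3, 5], 2), ([3, 6], 2), ([4, 5], 2), ([4, 6], 2), ([5, 6], 4), ([0, 3, 2, 3, 2, 3, 2, 3, 2], 1), ([0, 6, 5, 6, 5], 1), ([0, 1, 2, 5], 5), ([1, 5, 6], 5), ([1, 2, 3, 2, 3, 1, 2, 3, 2, 3, 1, 2, 3, 2, 3, 1, 2, 3, 2, 3, 1, 2,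 3, 2, 3, 4], 3)]

def Suz2SubSpec : List (List ℕ × ℕ) := [([0], 1), ([1], 1), ([2], 1), ([3], 1), ([5], 1), ([6], 1)]

noncomputable def cSuz2 : VCert where
  N := 33378
  n := 22880
  k := 7
  fuel := 4
  nrel := 33
  nsub := 6
  ft := fun s => (Bool.rec (Bool.rec (Bool.rec (Bool.rec (Bool.rec (Bool.rec (Bool.rec (fun _ => 0) Suz2_ft6 (Nat.beq s 6)) Suz2_ft5 (Nat.beq s 5)) Suz2_ft4 (Nat.beq s 4)) Suz2_ft3 (Nat.beq s 3)) Suz2_ft2 (Nat.beq s 2)) Suz2_ft1 (Nat.beq s 1)) Suz2_ft0 (Nat.beq s 0))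
  rk := fun s => (Bool.rec (Bool.rec (Bool.rec (Bool.rec (Bool.rec (Bool.rec (Bool.rec (fun _ => 0) Suz2_rk6 (Nat.beq s 6)) Suz2_rk5 (Nat.beq s 5)) Suz2_rk4 (Nat.beq s 4)) Suz2_rk3 (Nat.beq s 3)) Suz2_rk2 (Nat.beq s 2)) Suz2_rk1 (Nat.beq s 1)) Suz2_rk0 (Nat.beq s 0))
  js := fun s => (Bool.rec (Bool.rec (Bool.rec (Bool.rec (Bool.rec (Bool.rec (Bool.rec (fun _ => 0) Suz2_js6 (Nat.beq s 6)) Suz2_js5 (Nat.beq s 5)) Suz2_js4 (Nat.beq s 4)) Suz2_js3 (Nat.beq s 3)) Suz2_js2 (Nat.beq s 2)) Suz2_js1 (Nat.beq s 1)) Suz2_js0 (Nat.beq s 0))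
  par := Suz2_par
  sg := Suz2_sg
  al := Suz2_al
  qr := Suz2_qr
  qz := Suz2_qz
  qj := Suz2_qj
  nd := Suz2_nd
  ci := Suz2_ci
  tab := fun s => (Bool.rec (Bool.rec (Bool.rec (Bool.rec (Bool.rec (Bool.rec (Bool.rec (fun _ => 0) Suz2_tab6 (Nat.beq s 6)) Suz2_tab5 (Nat.beq s 5)) Suz2_tab4 (Nat.beq s 4)) Suz2_tab3 (Nat.beq s 3)) Suz2_tab2 (Nat.beq s 2)) Suz2_tab1 (Nat.beq s 1)) Suz2_tab0 (Nat.beq s 0))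
  wt := fun j => (Bool.rec (Bool.rec (Bool.rec (Bool.rec (Bool.rec 0x0 0x11 (Nat.ble 1 j)) (Bool.rec 0x22 0x33 (Nat.ble 3 j)) (Nat.ble 2 j)) (Bool.rec (Bool.rec 0x44 0x55 (Nat.ble 5 j)) (Bool.rec 0x66 (Bool.rec 0x1010101010 0x2020 (Nat.ble 8 j)) (Nat.ble 7 j)) (Nat.ble 6 j)) (Nat.ble 4 j)) (Bool.rec (Bool.rec (Bool.rec 0x3030 0x4040 (Nat.ble 10 j)) (Bool.rec 0x5050 (Bool.rec 0x6060 0x212121 (Nat.ble 13 j)) (Nat.ble 12 j)) (Nat.ble 11 j)) (Bool.rec (Bool.rec 0x3131 0x4141 (Nat.ble 15 j)) (Bool.rec 0x515151 (Bool.rec 0x616161 0x3232323232323232 (Nat.ble 18 j)) (Nat.ble 17 j)) (Nat.ble 16 j)) (Nat.ble 14 j)) (Nat.ble 9 j)) (Bool.rec (Bool.rec (Bool.rec (Bool.rec 0x4242 0x5252 (Nat.ble 20 j)) (Bool.rec 0x6262 (Bool.rec 0x434343 0x5353 (Nat.ble 23 j)) (Nat.ble 22 j)) (Nat.ble 21 j)) (Bool.rec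 (Bool.rec 0x6363 0x5454 (Nat.ble 25 j)) (Bool.rec 0x6464 (Bool.rec 0x65656565 0x232323230 (Nat.ble 28 j)) (Nat.ble 27 j)) (Nat.ble 26 j)) (Nat.ble 24 j)) (Bool.rec (Bool.rec (Bool.rec 0x56560 0x52105210521052105210 (Nat.ble 30 j)) (Bool.rec 0x651651651651651 (Bool.rec 0x432321323213232132321323214323213232132321323213232143232132321323213232132321 0x0 (Nat.ble 33 j)) (Nat.ble 32 j)) (Nat.ble 31 j)) (Bool.rec (Bool.rec 0x1 0x2 (Nat.ble 35 j)) (Bool.rec 0x3 (Bool.rec 0x5 0x6 (Nat.ble 38 j)) (Nat.ble 37 j)) (Nat.ble 36 j)) (Nat.ble 34 j)) (Nat.ble 29 j)) (Nat.ble 19 j))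
  wl := fun j => (Bool.rec (Bool.rec (Bool.rec (Bool.rec (Bool.rec 2 2 (Nat.ble 1 j)) (Bool.rec 2 2 (Nat.ble 3 j)) (Nat.ble 2 j)) (Bool.rec (Bool.rec 2 2 (Nat.ble 5 j)) (Bool.rec 2 (Bool.rec 10 4 (Nat.ble 8 j)) (Nat.ble 7 j)) (Nat.ble 6 j)) (Nat.ble 4 j)) (Bool.rec (Bool.rec (Bool.rec 4 4 (Nat.ble 10 j)) (Bool.rec 4 (Bool.rec 4 6 (Nat.ble 13 j)) (Nat.ble 12 j)) (Nat.ble 11 j)) (Bool.rec (Bool.rec 4 4 (Nat.ble 15 j)) (Bool.rec 6 (Bool.rec 6 16 (Nat.ble 18 j)) (Nat.ble 17 j)) (Nat.ble 16 j)) (Nat.ble 14 j)) (Nat.ble 9 j)) (Bool.rec (Bool.rec (Bool.rec (Bool.rec 4 4 (Nat.ble 20 j)) (Bool.rec 4 (Bool.rec 6 4 (Nat.ble 23 j)) (Nat.ble 22 j)) (Nat.ble 21 j)) (Bool.rec (Bool.rec 4 4 (Nat.ble 25 j)) (Bool.rec 4 (Bool.rec 8 9 (Nat.ble 28 j)) (Nat.ble 27 j)) (Nat.ble 26 j)) (Nat.ble 24 j)) (Bool.rec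 (Bool.rec (Bool.rec 5 20 (Nat.ble 30 j)) (Bool.rec 15 (Bool.rec 78 1 (Nat.ble 33 j)) (Nat.ble 32 j)) (Nat.ble 31 j)) (Bool.rec (Bool.rec 1 1 (Nat.ble 35 j)) (Bool.rec 1 (Bool.rec 1 1 (Nat.ble 38 j)) (Nat.ble 37 j)) (Nat.ble 36 j)) (Nat.ble 34 j)) (Nat.ble 29 j)) (Nat.ble 19 j))
  rels := Suz2RelSpec.map expand
  subs := Suz2SubSpec.map expand

noncomputable def oSuz2 : OrbCert where
  col := Suz2_col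
  opar := Suz2_opar
  ow := Suz2_ow
  odep := Suz2_odep

end Cfsg.Agent.Lib.Lead.VTC
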