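import Cfsg.Agent.Lib.Lead.VTCSuz2
import Cfsg.Agent.Lib.Lead.VTC3

set_option autoImplicit false
set_option maxRecDepth 100000

namespace Cfsg.Agent.Lib.Lead.VTC

theorem cSuz2_finr2 : ∀ x, 933 ≤ x → x < 1400 → cSuz2.finRow x = true :=
  VCert.of_range' _ 933 1400 (by decide +kernel)

theorem cSuz2_finr12 : ∀ x, 5603 ≤ x → x < 6070 → cSuz2.finRow x = true :=
  VCert.of_range' _ 5603 6070 (by decide +kernel)

theorem cSuz2_finr23 : ∀ x, 10739 ≤ x → x < 11206 → cSuz2.finRow x = true :=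
  VCert.of_range' _ 10739 11206 (by decide +kernel)

theorem cSuz2_finr34 : ∀ x, 15875 ≤ x → x < 16342 → cSuz2.finRow x = true :=
  VCert.of_range' _ 15875 16342 (by decide +kernel)

theorem cSuz2_finr44 : ∀ x, 20545 ≤ x → x < 21012 → cSuz2.finRow x = true :=
  VCert.of_range' _ 20545 21012 (by decide +kernel)

theorem cSuz2_ok29 : ∀ x, 4791 ≤ x → x < 4957 → cSuz2.rowOK x = true :=
  VCert.of_range' _ 4791 4957 (by decide +kernel)

theorem cSuz2_ok71 : ∀ x, 11731 ≤ x → x < 11897 → cSuz2.rowOK x = true :=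
  VCert.of_range' _ 11731 11897 (by decide +kernel)

theorem cSuz2_ok113 : ∀ x, 18671 ≤ x → x < 18837 → cSuz2.rowOK x = true :=
  VCert.of_range' _ 18671 18837 (by decide +kernel)

theorem cSuz2_ok155 : ∀ x, 25611 ≤ x → x < 25777 → cSuz2.rowOK x = true :=
  VCert.of_range' _ 25611 25777 (by decide +kernel)

theorem cSuz2_ok197 : ∀ x, 32551 ≤ x → x < 32717 → cSuz2.rowOK x = true :=
  VCert.of_range' _ 32551 32717 (by decide +kernel)

theorem cSuz2_act10 : ∀ x, 828 ≤ x → x < 911 → cSuz2.actRow x = true :=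
  VCert.of_range' _ 828 911 (by decide +kernel)

theorem cSuz2_act21 : ∀ x, 1740 ≤ x → x < 1823 → cSuz2.actRow x = true :=
  VCert.of_range' _ 1740 1823 (by decide +kernel)

theorem cSuz2_act32 : ∀ x, 2652 ≤ x → x < 2735 → cSuz2.actRow x = true :=
  VCert.of_range' _ 2652 2735 (by decide +kernel)

theorem cSuz2_act43 : ∀ x, 3564 ≤ x → x < 3647 → cSuz2.actRow x = true :=
  VCert.of_range' _ 3564 3647 (by decide +kernel)

theorem cSuz2_act54 : ∀ x, 4476 ≤ x → x < 4559 → cSuz2.actRow x = true :=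
  VCert.of_range' _ 4476 4559 (by decide +kernel)

theorem cSuz2_act65 : ∀ x, 5388 ≤ x → x < 5471 → cSuz2.actRow x = true :=
  VCert.of_range' _ 5388 5471 (by decide +kernel)

theorem cSuz2_act76 : ∀ x, 6300 ≤ x → x < 6383 → cSuz2.actRow x = true :=
  VCert.of_range' _ 6300 6383 (by decide +kernel)

theorem cSuz2_act87 : ∀ x, 7212 ≤ x → x < 7295 → cSuz2.actRow x = true :=
  VCert.of_range' _ 7212 7295 (by decide +kernel)

theorem cSuz2_act99 : ∀ x, 8206 ≤ x → x < 8289 → cSuz2.actRow x = true :=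
  VCert.of_range' _ 8206 8289 (by decide +kernel)

theorem cSuz2_act110 : ∀ x, 9118 ≤ x → x < 9201 → cSuz2.actRow x = true :=
  VCert.of_range' _ 9118 9201 (by decide +kernel)

theorem cSuz2_act121 : ∀ x, 10030 ≤ x → x < 10113 → cSuz2.actRow x = true :=
  VCert.of_range' _ 10030 10113 (by decide +kernel)

theorem cSuz2_act132 : ∀ x, 10942 ≤ x → x < 11025 → cSuz2.actRow x = true :=
  VCert.of_range' _ 10942 11025 (by decide +kernel)

theorem cSuz2_act143 : ∀ x, 11854 ≤ x → x < 11937 → cSuz2.actRow x = true :=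
  VCert.of_range' _ 11854 11937 (by decide +kernel)

theorem cSuz2_act154 : ∀ x, 12766 ≤ x → x < 12849 → cSuz2.actRow x = true :=
  VCert.of_range' _ 12766 12849 (by decide +kernel)

theorem cSuz2_act165 : ∀ x, 13678 ≤ x → x < 13761 → cSuz2.actRow x = true :=
  VCert.of_range' _ 13678 13761 (by decide +kernel)

theorem cSuz2_act176 : ∀ x, 14590 ≤ x → x < 14673 → cSuz2.actRow x = true :=
  VCert.of_range' _ 14590 14673 (by decide +kernel)

theorem cSuz2_act188 : ∀ x, 15584 ≤ x → x < 15667 → cSuz2.actRow x = true :=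
  VCert.of_range' _ 15584 15667 (by decide +kernel)

theorem cSuz2_act199 : ∀ x, 16496 ≤ x → x < 16579 → cSuz2.actRow x = true :=
  VCert.of_range' _ 16496 16579 (by decide +kernel)

theorem cSuz2_act210 : ∀ x, 17408 ≤ x → x < 17491 → cSuz2.actRow x = true :=
  VCert.of_range' _ 17408 17491 (by decide +kernel)

theorem cSuz2_act221 : ∀ x, 18320 ≤ x → x < 18403 → cSuz2.actRow x = true :=
  VCert.of_range' _ 18320 18403 (by decide +kernel)

theorem cSuz2_act232 : ∀ x, 19232 ≤ x → x < 19315 → cSuz2.actRow x = true :=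
  VCert.of_range' _ 19232 19315 (by decide +kernel)

theorem cSuz2_act243 : ∀ x, 20144 ≤ x → x < 20227 → cSuz2.actRow x = true :=
  VCert.of_range' _ 20144 20227 (by decide +kernel)

theorem cSuz2_act254 : ∀ x, 21056 ≤ x → x < 21139 → cSuz2.actRow x = true :=
  VCert.of_range' _ 21056 21139 (by decide +kernel)

theorem cSuz2_act265 : ∀ x, 21968 ≤ x → x < 22051 → cSuz2.actRow x = true :=
  VCert.of_range' _ 21968 22051 (by decide +kernel)

theorem cSuz2_ok0 : ∀ x, 0 ≤ x → x < 165 → cSuz2.rowOK x = true :=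
  VCert.of_range' _ 0 165 (by decide +kernel)

theorem cSuz2_ok6 : ∀ x, 991 ≤ x → x < 1156 → cSuz2.rowOK x = true :=
  VCert.of_range' _ 991 1156 (by decide +kernel)

theorem cSuz2_ok19 : ∀ x, 3139 ≤ x → x < 3304 → cSuz2.rowOK x = true :=
  VCert.of_range' _ 3139 3304 (by decide +kernel)

theorem cSuz2_ok32 : ∀ x, 5287 ≤ x → x < 5452 → cSuz2.rowOK x = true :=
  VCert.of_range' _ 5287 5452 (by decide +kernel)

theorem cSuz2_ok45 : ∀ x, 7435 ≤ x → x < 7600 → cSuz2.rowOK x = true :=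
  VCert.of_range' _ 7435 7600 (by decide +kernel)

theorem cSuz2_ok59 : ∀ x, 9749 ≤ x → x < 9914 → cSuz2.rowOK x = true :=
  VCert.of_range' _ 9749 9914 (by decide +kernel)

theorem cSuz2_ok72 : ∀ x, 11897 ≤ x → x < 12062 → cSuz2.rowOK x = true :=
  VCert.of_range' _ 11897 12062 (by decide +kernel)

theorem cSuz2_ok85 : ∀ x, 14045 ≤ x → x < 14210 → cSuz2.rowOK x = true :=
  VCert.of_range' _ 14045 14210 (by decide +kernel)

theorem cSuz2_ok98 : ∀ x, 16193 ≤ x → x < 16358 → cSuz2.rowOK x = true :=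
  VCert.of_range' _ 16193 16358 (by decide +kernel)

theorem cSuz2_ok111 : ∀ x, 18341 ≤ x → x < 18506 → cSuz2.rowOK x = true :=
  VCert.of_range' _ 18341 18506 (by decide +kernel)

theorem cSuz2_ok124 : ∀ x, 20489 ≤ x → x < 20654 → cSuz2.rowOK x = true :=
  VCert.of_range' _ 20489 20654 (by decide +kernel)

theorem cSuz2_ok137 : ∀ x, 22637 ≤ x → x < 22802 → cSuz2.rowOK x = true :=
  VCert.of_range' _ 22637 22802 (by decide +kernel)

theorem cSuz2_ok150 : ∀ x, 24785 ≤ x → x < 24950 → cSuz2.rowOK x = true :=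
  VCert.of_range' _ 24785 24950 (by decide +kernel)

theorem cSuz2_ok163 : ∀ x, 26933 ≤ x → x < 27098 → cSuz2.rowOK x = true :=
  VCert.of_range' _ 26933 27098 (by decide +kernel)

theorem cSuz2_ok177 : ∀ x, 29247 ≤ x → x < 29412 → cSuz2.rowOK x = true :=
  VCert.of_range' _ 29247 29412 (by decide +kernel)

theorem cSuz2_ok190 : ∀ x, 31395 ≤ x → x < 31560 → cSuz2.rowOK x = true :=
  VCert.of_range' _ 31395 31560 (by decide +kernel)

theorem cSuz2_act19 : ∀ x, 1575 ≤ x → x < 1657 → cSuz2.actRow x = true :=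
  VCert.of_range' _ 1575 1657 (by decide +kernel)

theorem cSuz2_act118 : ∀ x, 9782 ≤ x → x < 9864 → cSuz2.actRow x = true :=
  VCert.of_range' _ 9782 9864 (by decide +kernel)

theorem cSuz2_act216 : ∀ x, 17906 ≤ x → x < 17988 → cSuz2.actRow x = true :=
  VCert.of_range' _ 17906 17988 (by decide +kernel)

theorem oSuz2_colr0 : ∀ x, 0 ≤ x → x < 3268 → oSuz2.colRow cSuz2 x = true :=
  VCert.of_range' _ 0 3268 (by decide +kernel)

theorem oSuz2_tr2_7 : ∀ x, 13346 ≤ x → x < 15253 → oSuz2.treeRow cSuz2 10 2 x = true :=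
  VCert.of_range' _ 13346 15253 (by decide +kernel)

theorem oSuz2_tr3_10 : ∀ x, 19066 ≤ x → x < 20973 → oSuz2.treeRow cSuz2 67 3 x = true :=
  VCert.of_range' _ 19066 20973 (by decide +kernel)

theorem oSuz2_tr1_0 : ∀ x, 0 ≤ x → x < 1906 → oSuz2.treeRow cSuz2 1 1 x = true :=
  VCert.of_range' _ 0 1906 (by decide +kernel)

theorem oSuz2_tr3_6 : ∀ x, 11440 ≤ x → x < 13346 → oSuz2.treeRow cSuz2 67 3 x = true :=
  VCert.of_range' _ 11440 13346 (by decide +kernel)

theorem cSuz2_finn0 : ∀ x, 0 ≤ x → x < 3034 → cSuz2.finNode x = true :=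
  VCert.of_range' _ 0 3034 (by decide +kernel)


end Cfsg.Agent.Lib.Lead.VTC
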