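import Cfsg.Agent.Lib.Lead.VTCSuz2
import Cfsg.Agent.Lib.Lead.VTC3

set_option autoImplicit false
set_option maxRecDepth 100000

namespace Cfsg.Agent.Lib.Lead.VTC

theorem cSuz2_finr3 : ∀ x, 1400 ≤ x → x < 1867 → cSuz2.finRow x = true :=
  VCert.of_range' _ 1400 1867 (by decide +kernel)

theorem cSuz2_finr13 : ∀ x, 6070 ≤ x → x < 6537 → cSuz2.finRow x = true :=
  VCert.of_range' _ 6070 6537 (by decide +kernel)

theorem cSuz2_finr24 : ∀ x, 11206 ≤ x → x < 11673 → cSuz2.finRow x = true :=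
  VCert.of_range' _ 11206 11673 (by decide +kernel)

theorem cSuz2_finr35 : ∀ x, 16342 ≤ x → x < 16809 → cSuz2.finRow x = true :=
  VCert.of_range' _ 16342 16809 (by decide +kernel)

theorem cSuz2_finr45 : ∀ x, 21012 ≤ x → x < 21479 → cSuz2.finRow x = true :=
  VCert.of_range' _ 21012 21479 (by decide +kernel)

theorem cSuz2_ok33 : ∀ x, 5452 ≤ x → x < 5618 → cSuz2.rowOK x = true :=
  VCert.of_range' _ 5452 5618 (by decide +kernel)

theorem cSuz2_ok75 : ∀ x, 12392 ≤ x → x < 12558 → cSuz2.rowOK x = true :=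
  VCert.of_range' _ 12392 12558 (by decide +kernel)

theorem cSuz2_ok117 : ∀ x, 19332 ≤ x → x < 19498 → cSuz2.rowOK x = true :=
  VCert.of_range' _ 19332 19498 (by decide +kernel)

theorem cSuz2_ok159 : ∀ x, 26272 ≤ x → x < 26438 → cSuz2.rowOK x = true :=
  VCert.of_range' _ 26272 26438 (by decide +kernel)

theorem cSuz2_ok201 : ∀ x, 33212 ≤ x → x < 33378 → cSuz2.rowOK x = true :=
  VCert.of_range' _ 33212 33378 (by decide +kernel)

theorem cSuz2_act11 : ∀ x, 911 ≤ x → x < 994 → cSuz2.actRow x = true :=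
  VCert.of_range' _ 911 994 (by decide +kernel)

theorem cSuz2_act22 : ∀ x, 1823 ≤ x → x < 1906 → cSuz2.actRow x = true :=
  VCert.of_range' _ 1823 1906 (by decide +kernel)

theorem cSuz2_act33 : ∀ x, 2735 ≤ x → x < 2818 → cSuz2.actRow x = true :=
  VCert.of_range' _ 2735 2818 (by decide +kernel)

theorem cSuz2_act44 : ∀ x, 3647 ≤ x → x < 3730 → cSuz2.actRow x = true :=
  VCert.of_range' _ 3647 3730 (by decide +kernel)

theorem cSuz2_act55 : ∀ x, 4559 ≤ x → x < 4642 → cSuz2.actRow x = true :=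
  VCert.of_range' _ 4559 4642 (by decide +kernel)

theorem cSuz2_act66 : ∀ x, 5471 ≤ x → x < 5554 → cSuz2.actRow x = true :=
  VCert.of_range' _ 5471 5554 (by decide +kernel)

theorem cSuz2_act77 : ∀ x, 6383 ≤ x → x < 6466 → cSuz2.actRow x = true :=
  VCert.of_range' _ 6383 6466 (by decide +kernel)

theorem cSuz2_act89 : ∀ x, 7377 ≤ x → x < 7460 → cSuz2.actRow x = true :=
  VCert.of_range' _ 7377 7460 (by decide +kernel)

theorem cSuz2_act100 : ∀ x, 8289 ≤ x → x < 8372 → cSuz2.actRow x = true :=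
  VCert.of_range' _ 8289 8372 (by decide +kernel)

theorem cSuz2_act111 : ∀ x, 9201 ≤ x → x < 9284 → cSuz2.actRow x = true :=
  VCert.of_range' _ 9201 9284 (by decide +kernel)

theorem cSuz2_act122 : ∀ x, 10113 ≤ x → x < 10196 → cSuz2.actRow x = true :=
  VCert.of_range' _ 10113 10196 (by decide +kernel)

theorem cSuz2_act133 : ∀ x, 11025 ≤ x → x < 11108 → cSuz2.actRow x = true :=
  VCert.of_range' _ 11025 11108 (by decide +kernel)

theorem cSuz2_act144 : ∀ x, 11937 ≤ x → x < 12020 → cSuz2.actRow x = true :=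
  VCert.of_range' _ 11937 12020 (by decide +kernel)

theorem cSuz2_act155 : ∀ x, 12849 ≤ x → x < 12932 → cSuz2.actRow x = true :=
  VCert.of_range' _ 12849 12932 (by decide +kernel)

theorem cSuz2_act166 : ∀ x, 13761 ≤ x → x < 13844 → cSuz2.actRow x = true :=
  VCert.of_range' _ 13761 13844 (by decide +kernel)

theorem cSuz2_act178 : ∀ x, 14755 ≤ x → x < 14838 → cSuz2.actRow x = true :=
  VCert.of_range' _ 14755 14838 (by decide +kernel)

theorem cSuz2_act189 : ∀ x, 15667 ≤ x → x < 15750 → cSuz2.actRow x = true :=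
  VCert.of_range' _ 15667 15750 (by decide +kernel)

theorem cSuz2_act200 : ∀ x, 16579 ≤ x → x < 16662 → cSuz2.actRow x = true :=
  VCert.of_range' _ 16579 16662 (by decide +kernel)

theorem cSuz2_act211 : ∀ x, 17491 ≤ x → x < 17574 → cSuz2.actRow x = true :=
  VCert.of_range' _ 17491 17574 (by decide +kernel)

theorem cSuz2_act222 : ∀ x, 18403 ≤ x → x < 18486 → cSuz2.actRow x = true :=
  VCert.of_range' _ 18403 18486 (by decide +kernel)

theorem cSuz2_act233 : ∀ x, 19315 ≤ x → x < 19398 → cSuz2.actRow x = true :=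
  VCert.of_range' _ 19315 19398 (by decide +kernel)

theorem cSuz2_act244 : ∀ x, 20227 ≤ x → x < 20310 → cSuz2.actRow x = true :=
  VCert.of_range' _ 20227 20310 (by decide +kernel)

theorem cSuz2_act255 : ∀ x, 21139 ≤ x → x < 21222 → cSuz2.actRow x = true :=
  VCert.of_range' _ 21139 21222 (by decide +kernel)

theorem cSuz2_act267 : ∀ x, 22133 ≤ x → x < 22216 → cSuz2.actRow x = true :=
  VCert.of_range' _ 22133 22216 (by decide +kernel)

theorem cSuz2_ok1 : ∀ x, 165 ≤ x → x < 330 → cSuz2.rowOK x = true :=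
  VCert.of_range' _ 165 330 (by decide +kernel)

theorem cSuz2_ok7 : ∀ x, 1156 ≤ x → x < 1321 → cSuz2.rowOK x = true :=
  VCert.of_range' _ 1156 1321 (by decide +kernel)

theorem cSuz2_ok20 : ∀ x, 3304 ≤ x → x < 3469 → cSuz2.rowOK x = true :=
  VCert.of_range' _ 3304 3469 (by decide +kernel)

theorem cSuz2_ok34 : ∀ x, 5618 ≤ x → x < 5783 → cSuz2.rowOK x = true :=
  VCert.of_range' _ 5618 5783 (by decide +kernel)

theorem cSuz2_ok47 : ∀ x, 7766 ≤ x → x < 7931 → cSuz2.rowOK x = true :=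
  VCert.of_range' _ 7766 7931 (by decide +kernel)

theorem cSuz2_ok60 : ∀ x, 9914 ≤ x → x < 10079 → cSuz2.rowOK x = true :=
  VCert.of_range' _ 9914 10079 (by decide +kernel)

theorem cSuz2_ok73 : ∀ x, 12062 ≤ x → x < 12227 → cSuz2.rowOK x = true :=
  VCert.of_range' _ 12062 12227 (by decide +kernel)

theorem cSuz2_ok86 : ∀ x, 14210 ≤ x → x < 14375 → cSuz2.rowOK x = true :=
  VCert.of_range' _ 14210 14375 (by decide +kernel)

theorem cSuz2_ok99 : ∀ x, 16358 ≤ x → x < 16523 → cSuz2.rowOK x = true :=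
  VCert.of_range' _ 16358 16523 (by decide +kernel)

theorem cSuz2_ok112 : ∀ x, 18506 ≤ x → x < 18671 → cSuz2.rowOK x = true :=
  VCert.of_range' _ 18506 18671 (by decide +kernel)

theorem cSuz2_ok125 : ∀ x, 20654 ≤ x → x < 20819 → cSuz2.rowOK x = true :=
  VCert.of_range' _ 20654 20819 (by decide +kernel)

theorem cSuz2_ok139 : ∀ x, 22968 ≤ x → x < 23133 → cSuz2.rowOK x = true :=
  VCert.of_range' _ 22968 23133 (by decide +kernel)

theorem cSuz2_ok152 : ∀ x, 25116 ≤ x → x < 25281 → cSuz2.rowOK x = true :=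
  VCert.of_range' _ 25116 25281 (by decide +kernel)

theorem cSuz2_ok165 : ∀ x, 27264 ≤ x → x < 27429 → cSuz2.rowOK x = true :=
  VCert.of_range' _ 27264 27429 (by decide +kernel)

theorem cSuz2_ok178 : ∀ x, 29412 ≤ x → x < 29577 → cSuz2.rowOK x = true :=
  VCert.of_range' _ 29412 29577 (by decide +kernel)

theorem cSuz2_ok191 : ∀ x, 31560 ≤ x → x < 31725 → cSuz2.rowOK x = true :=
  VCert.of_range' _ 31560 31725 (by decide +kernel)

theorem cSuz2_act29 : ∀ x, 2404 ≤ x → x < 2486 → cSuz2.actRow x = true :=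
  VCert.of_range' _ 2404 2486 (by decide +kernel)

theorem cSuz2_act128 : ∀ x, 10611 ≤ x → x < 10693 → cSuz2.actRow x = true :=
  VCert.of_range' _ 10611 10693 (by decide +kernel)

theorem cSuz2_act226 : ∀ x, 18735 ≤ x → x < 18817 → cSuz2.actRow x = true :=
  VCert.of_range' _ 18735 18817 (by decide +kernel)

theorem oSuz2_colr2 : ∀ x, 6537 ≤ x → x < 9805 → oSuz2.colRow cSuz2 x = true :=
  VCert.of_range' _ 6537 9805 (by decide +kernel)

theorem oSuz2_tr2_8 : ∀ x, 15253 ≤ x → x < 17160 → oSuz2.treeRow cSuz2 10 2 x = true :=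
  VCert.of_range' _ 15253 17160 (by decide +kernel)

theorem oSuz2_tr3_11 : ∀ x, 20973 ≤ x → x < 22880 → oSuz2.treeRow cSuz2 67 3 x = true :=
  VCert.of_range' _ 20973 22880 (by decide +kernel)

theorem oSuz2_tr1_3 : ∀ x, 5720 ≤ x → x < 7626 → oSuz2.treeRow cSuz2 1 1 x = true :=
  VCert.of_range' _ 5720 7626 (by decide +kernel)

theorem oSuz2_tr3_9 : ∀ x, 17160 ≤ x → x < 19066 → oSuz2.treeRow cSuz2 67 3 x = true :=
  VCert.of_range' _ 17160 19066 (by decide +kernel)

theorem cSuz2_finn1 : ∀ x, 3034 ≤ x → x < 6068 → cSuz2.finNode x = true :=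
  VCert.of_range' _ 3034 6068 (by decide +kernel)


end Cfsg.Agent.Lib.Lead.VTC
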