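import Cfsg.Agent.Lib.Lead.VTCSuz2
import Cfsg.Agent.Lib.Lead.VTC3

set_option autoImplicit false
set_option maxRecDepth 100000

namespace Cfsg.Agent.Lib.Lead.VTC

theorem cSuz2_finr4 : ∀ x, 1867 ≤ x → x < 2334 → cSuz2.finRow x = true :=
  VCert.of_range' _ 1867 2334 (by decide +kernel)

theorem cSuz2_finr14 : ∀ x, 6537 ≤ x → x < 7004 → cSuz2.finRow x = true :=
  VCert.of_range' _ 6537 7004 (by decide +kernel)

theorem cSuz2_finr25 : ∀ x, 11673 ≤ x → x < 12140 → cSuz2.finRow x = true :=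
  VCert.of_range' _ 11673 12140 (by decide +kernel)

theorem cSuz2_finr36 : ∀ x, 16809 ≤ x → x < 17276 → cSuz2.finRow x = true :=
  VCert.of_range' _ 16809 17276 (by decide +kernel)

theorem cSuz2_finr46 : ∀ x, 21479 ≤ x → x < 21946 → cSuz2.finRow x = true :=
  VCert.of_range' _ 21479 21946 (by decide +kernel)

theorem cSuz2_ok37 : ∀ x, 6113 ≤ x → x < 6279 → cSuz2.rowOK x = true :=
  VCert.of_range' _ 6113 6279 (by decide +kernel)

theorem cSuz2_ok79 : ∀ x, 13053 ≤ x → x < 13219 → cSuz2.rowOK x = true :=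
  VCert.of_range' _ 13053 13219 (by decide +kernel)

theorem cSuz2_ok122 : ∀ x, 20158 ≤ x → x < 20324 → cSuz2.rowOK x = true :=
  VCert.of_range' _ 20158 20324 (by decide +kernel)

theorem cSuz2_ok164 : ∀ x, 27098 ≤ x → x < 27264 → cSuz2.rowOK x = true :=
  VCert.of_range' _ 27098 27264 (by decide +kernel)

theorem cSuz2_act1 : ∀ x, 82 ≤ x → x < 165 → cSuz2.actRow x = true :=
  VCert.of_range' _ 82 165 (by decide +kernel)

theorem cSuz2_act12 : ∀ x, 994 ≤ x → x < 1077 → cSuz2.actRow x = true :=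
  VCert.of_range' _ 994 1077 (by decide +kernel)

theorem cSuz2_act23 : ∀ x, 1906 ≤ x → x < 1989 → cSuz2.actRow x = true :=
  VCert.of_range' _ 1906 1989 (by decide +kernel)

theorem cSuz2_act34 : ∀ x, 2818 ≤ x → x < 2901 → cSuz2.actRow x = true :=
  VCert.of_range' _ 2818 2901 (by decide +kernel)

theorem cSuz2_act45 : ∀ x, 3730 ≤ x → x < 3813 → cSuz2.actRow x = true :=
  VCert.of_range' _ 3730 3813 (by decide +kernel)

theorem cSuz2_act56 : ∀ x, 4642 ≤ x → x < 4725 → cSuz2.actRow x = true :=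
  VCert.of_range' _ 4642 4725 (by decide +kernel)

theorem cSuz2_act67 : ∀ x, 5554 ≤ x → x < 5637 → cSuz2.actRow x = true :=
  VCert.of_range' _ 5554 5637 (by decide +kernel)

theorem cSuz2_act79 : ∀ x, 6548 ≤ x → x < 6631 → cSuz2.actRow x = true :=
  VCert.of_range' _ 6548 6631 (by decide +kernel)

theorem cSuz2_act90 : ∀ x, 7460 ≤ x → x < 7543 → cSuz2.actRow x = true :=
  VCert.of_range' _ 7460 7543 (by decide +kernel)

theorem cSuz2_act101 : ∀ x, 8372 ≤ x → x < 8455 → cSuz2.actRow x = true :=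
  VCert.of_range' _ 8372 8455 (by decide +kernel)

theorem cSuz2_act112 : ∀ x, 9284 ≤ x → x < 9367 → cSuz2.actRow x = true :=
  VCert.of_range' _ 9284 9367 (by decide +kernel)

theorem cSuz2_act123 : ∀ x, 10196 ≤ x → x < 10279 → cSuz2.actRow x = true :=
  VCert.of_range' _ 10196 10279 (by decide +kernel)

theorem cSuz2_act134 : ∀ x, 11108 ≤ x → x < 11191 → cSuz2.actRow x = true :=
  VCert.of_range' _ 11108 11191 (by decide +kernel)

theorem cSuz2_act145 : ∀ x, 12020 ≤ x → x < 12103 → cSuz2.actRow x = true :=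
  VCert.of_range' _ 12020 12103 (by decide +kernel)

theorem cSuz2_act156 : ∀ x, 12932 ≤ x → x < 13015 → cSuz2.actRow x = true :=
  VCert.of_range' _ 12932 13015 (by decide +kernel)

theorem cSuz2_act168 : ∀ x, 13926 ≤ x → x < 14009 → cSuz2.actRow x = true :=
  VCert.of_range' _ 13926 14009 (by decide +kernel)

theorem cSuz2_act179 : ∀ x, 14838 ≤ x → x < 14921 → cSuz2.actRow x = true :=
  VCert.of_range' _ 14838 14921 (by decide +kernel)

theorem cSuz2_act190 : ∀ x, 15750 ≤ x → x < 15833 → cSuz2.actRow x = true :=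
  VCert.of_range' _ 15750 15833 (by decide +kernel)

theorem cSuz2_act201 : ∀ x, 16662 ≤ x → x < 16745 → cSuz2.actRow x = true :=
  VCert.of_range' _ 16662 16745 (by decide +kernel)

theorem cSuz2_act212 : ∀ x, 17574 ≤ x → x < 17657 → cSuz2.actRow x = true :=
  VCert.of_range' _ 17574 17657 (by decide +kernel)

theorem cSuz2_act223 : ∀ x, 18486 ≤ x → x < 18569 → cSuz2.actRow x = true :=
  VCert.of_range' _ 18486 18569 (by decide +kernel)

theorem cSuz2_act234 : ∀ x, 19398 ≤ x → x < 19481 → cSuz2.actRow x = true :=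
  VCert.of_range' _ 19398 19481 (by decide +kernel)

theorem cSuz2_act245 : ∀ x, 20310 ≤ x → x < 20393 → cSuz2.actRow x = true :=
  VCert.of_range' _ 20310 20393 (by decide +kernel)

theorem cSuz2_act257 : ∀ x, 21304 ≤ x → x < 21387 → cSuz2.actRow x = true :=
  VCert.of_range' _ 21304 21387 (by decide +kernel)

theorem cSuz2_act268 : ∀ x, 22216 ≤ x → x < 22299 → cSuz2.actRow x = true :=
  VCert.of_range' _ 22216 22299 (by decide +kernel)

theorem cSuz2_ok2 : ∀ x, 330 ≤ x → x < 495 → cSuz2.rowOK x = true :=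
  VCert.of_range' _ 330 495 (by decide +kernel)

theorem cSuz2_ok9 : ∀ x, 1487 ≤ x → x < 1652 → cSuz2.rowOK x = true :=
  VCert.of_range' _ 1487 1652 (by decide +kernel)

theorem cSuz2_ok22 : ∀ x, 3635 ≤ x → x < 3800 → cSuz2.rowOK x = true :=
  VCert.of_range' _ 3635 3800 (by decide +kernel)

theorem cSuz2_ok35 : ∀ x, 5783 ≤ x → x < 5948 → cSuz2.rowOK x = true :=
  VCert.of_range' _ 5783 5948 (by decide +kernel)

theorem cSuz2_ok48 : ∀ x, 7931 ≤ x → x < 8096 → cSuz2.rowOK x = true :=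
  VCert.of_range' _ 7931 8096 (by decide +kernel)

theorem cSuz2_ok61 : ∀ x, 10079 ≤ x → x < 10244 → cSuz2.rowOK x = true :=
  VCert.of_range' _ 10079 10244 (by decide +kernel)

theorem cSuz2_ok74 : ∀ x, 12227 ≤ x → x < 12392 → cSuz2.rowOK x = true :=
  VCert.of_range' _ 12227 12392 (by decide +kernel)

theorem cSuz2_ok87 : ∀ x, 14375 ≤ x → x < 14540 → cSuz2.rowOK x = true :=
  VCert.of_range' _ 14375 14540 (by decide +kernel)

theorem cSuz2_ok101 : ∀ x, 16689 ≤ x → x < 16854 → cSuz2.rowOK x = true :=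
  VCert.of_range' _ 16689 16854 (by decide +kernel)

theorem cSuz2_ok114 : ∀ x, 18837 ≤ x → x < 19002 → cSuz2.rowOK x = true :=
  VCert.of_range' _ 18837 19002 (by decide +kernel)

theorem cSuz2_ok127 : ∀ x, 20985 ≤ x → x < 21150 → cSuz2.rowOK x = true :=
  VCert.of_range' _ 20985 21150 (by decide +kernel)

theorem cSuz2_ok140 : ∀ x, 23133 ≤ x → x < 23298 → cSuz2.rowOK x = true :=
  VCert.of_range' _ 23133 23298 (by decide +kernel)

theorem cSuz2_ok153 : ∀ x, 25281 ≤ x → x < 25446 → cSuz2.rowOK x = true :=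
  VCert.of_range' _ 25281 25446 (by decide +kernel)

theorem cSuz2_ok166 : ∀ x, 27429 ≤ x → x < 27594 → cSuz2.rowOK x = true :=
  VCert.of_range' _ 27429 27594 (by decide +kernel)

theorem cSuz2_ok179 : ∀ x, 29577 ≤ x → x < 29742 → cSuz2.rowOK x = true :=
  VCert.of_range' _ 29577 29742 (by decide +kernel)

theorem cSuz2_ok192 : ∀ x, 31725 ≤ x → x < 31890 → cSuz2.rowOK x = true :=
  VCert.of_range' _ 31725 31890 (by decide +kernel)

theorem cSuz2_act39 : ∀ x, 3233 ≤ x → x < 3315 → cSuz2.actRow x = true :=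
  VCert.of_range' _ 3233 3315 (by decide +kernel)

theorem cSuz2_act138 : ∀ x, 11440 ≤ x → x < 11522 → cSuz2.actRow x = true :=
  VCert.of_range' _ 11440 11522 (by decide +kernel)

theorem cSuz2_act236 : ∀ x, 19564 ≤ x → x < 19646 → cSuz2.actRow x = true :=
  VCert.of_range' _ 19564 19646 (by decide +kernel)

theorem oSuz2_colr4 : ∀ x, 13074 ≤ x → x < 16342 → oSuz2.colRow cSuz2 x = true :=
  VCert.of_range' _ 13074 16342 (by decide +kernel)

theorem oSuz2_tr2_10 : ∀ x, 19066 ≤ x → x < 20973 → oSuz2.treeRow cSuz2 10 2 x = true :=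
  VCert.of_range' _ 19066 20973 (by decide +kernel)

theorem oSuz2_tr4_1 : ∀ x, 1906 ≤ x → x < 3813 → oSuz2.treeRow cSuz2 7122 4 x = true :=
  VCert.of_range' _ 1906 3813 (by decide +kernel)

theorem oSuz2_tr1_6 : ∀ x, 11440 ≤ x → x < 13346 → oSuz2.treeRow cSuz2 1 1 x = true :=
  VCert.of_range' _ 11440 13346 (by decide +kernel)

theorem oSuz2_tr4_0 : ∀ x, 0 ≤ x → x < 1906 → oSuz2.treeRow cSuz2 7122 4 x = true :=
  VCert.of_range' _ 0 1906 (by decide +kernel)

theorem cSuz2_finn3 : ∀ x, 9103 ≤ x → x < 12137 → cSuz2.finNode x = true :=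
  VCert.of_range' _ 9103 12137 (by decide +kernel)


end Cfsg.Agent.Lib.Lead.VTC
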