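import Cfsg.Agent.Lib.Lead.VTCSuz2
import Cfsg.Agent.Lib.Lead.VTC3

set_option autoImplicit false
set_option maxRecDepth 100000

namespace Cfsg.Agent.Lib.Lead.VTC

theorem cSuz2_finr5 : ∀ x, 2334 ≤ x → x < 2801 → cSuz2.finRow x = true :=
  VCert.of_range' _ 2334 2801 (by decide +kernel)

theorem cSuz2_finr15 : ∀ x, 7004 ≤ x → x < 7471 → cSuz2.finRow x = true :=
  VCert.of_range' _ 7004 7471 (by decide +kernel)

theorem cSuz2_finr26 : ∀ x, 12140 ≤ x → x < 12607 → cSuz2.finRow x = true :=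
  VCert.of_range' _ 12140 12607 (by decide +kernel)

theorem cSuz2_finr37 : ∀ x, 17276 ≤ x → x < 17743 → cSuz2.finRow x = true :=
  VCert.of_range' _ 17276 17743 (by decide +kernel)

theorem cSuz2_finr47 : ∀ x, 21946 ≤ x → x < 22413 → cSuz2.finRow x = true :=
  VCert.of_range' _ 21946 22413 (by decide +kernel)

theorem cSuz2_ok42 : ∀ x, 6939 ≤ x → x < 7105 → cSuz2.rowOK x = true :=
  VCert.of_range' _ 6939 7105 (by decide +kernel)

theorem cSuz2_ok84 : ∀ x, 13879 ≤ x → x < 14045 → cSuz2.rowOK x = true :=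
  VCert.of_range' _ 13879 14045 (by decide +kernel)

theorem cSuz2_ok126 : ∀ x, 20819 ≤ x → x < 20985 → cSuz2.rowOK x = true :=
  VCert.of_range' _ 20819 20985 (by decide +kernel)

theorem cSuz2_ok168 : ∀ x, 27759 ≤ x → x < 27925 → cSuz2.rowOK x = true :=
  VCert.of_range' _ 27759 27925 (by decide +kernel)

theorem cSuz2_act2 : ∀ x, 165 ≤ x → x < 248 → cSuz2.actRow x = true :=
  VCert.of_range' _ 165 248 (by decide +kernel)

theorem cSuz2_act13 : ∀ x, 1077 ≤ x → x < 1160 → cSuz2.actRow x = true :=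
  VCert.of_range' _ 1077 1160 (by decide +kernel)

theorem cSuz2_act24 : ∀ x, 1989 ≤ x → x < 2072 → cSuz2.actRow x = true :=
  VCert.of_range' _ 1989 2072 (by decide +kernel)

theorem cSuz2_act35 : ∀ x, 2901 ≤ x → x < 2984 → cSuz2.actRow x = true :=
  VCert.of_range' _ 2901 2984 (by decide +kernel)

theorem cSuz2_act46 : ∀ x, 3813 ≤ x → x < 3896 → cSuz2.actRow x = true :=
  VCert.of_range' _ 3813 3896 (by decide +kernel)

theorem cSuz2_act57 : ∀ x, 4725 ≤ x → x < 4808 → cSuz2.actRow x = true :=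
  VCert.of_range' _ 4725 4808 (by decide +kernel)

theorem cSuz2_act68 : ∀ x, 5637 ≤ x → x < 5720 → cSuz2.actRow x = true :=
  VCert.of_range' _ 5637 5720 (by decide +kernel)

theorem cSuz2_act80 : ∀ x, 6631 ≤ x → x < 6714 → cSuz2.actRow x = true :=
  VCert.of_range' _ 6631 6714 (by decide +kernel)

theorem cSuz2_act91 : ∀ x, 7543 ≤ x → x < 7626 → cSuz2.actRow x = true :=
  VCert.of_range' _ 7543 7626 (by decide +kernel)

theorem cSuz2_act102 : ∀ x, 8455 ≤ x → x < 8538 → cSuz2.actRow x = true :=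
  VCert.of_range' _ 8455 8538 (by decide +kernel)

theorem cSuz2_act113 : ∀ x, 9367 ≤ x → x < 9450 → cSuz2.actRow x = true :=
  VCert.of_range' _ 9367 9450 (by decide +kernel)

theorem cSuz2_act124 : ∀ x, 10279 ≤ x → x < 10362 → cSuz2.actRow x = true :=
  VCert.of_range' _ 10279 10362 (by decide +kernel)

theorem cSuz2_act135 : ∀ x, 11191 ≤ x → x < 11274 → cSuz2.actRow x = true :=
  VCert.of_range' _ 11191 11274 (by decide +kernel)

theorem cSuz2_act146 : ∀ x, 12103 ≤ x → x < 12186 → cSuz2.actRow x = true :=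
  VCert.of_range' _ 12103 12186 (by decide +kernel)

theorem cSuz2_act158 : ∀ x, 13097 ≤ x → x < 13180 → cSuz2.actRow x = true :=
  VCert.of_range' _ 13097 13180 (by decide +kernel)

theorem cSuz2_act169 : ∀ x, 14009 ≤ x → x < 14092 → cSuz2.actRow x = true :=
  VCert.of_range' _ 14009 14092 (by decide +kernel)

theorem cSuz2_act180 : ∀ x, 14921 ≤ x → x < 15004 → cSuz2.actRow x = true :=
  VCert.of_range' _ 14921 15004 (by decide +kernel)

theorem cSuz2_act191 : ∀ x, 15833 ≤ x → x < 15916 → cSuz2.actRow x = true :=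
  VCert.of_range' _ 15833 15916 (by decide +kernel)

theorem cSuz2_act202 : ∀ x, 16745 ≤ x → x < 16828 → cSuz2.actRow x = true :=
  VCert.of_range' _ 16745 16828 (by decide +kernel)

theorem cSuz2_act213 : ∀ x, 17657 ≤ x → x < 17740 → cSuz2.actRow x = true :=
  VCert.of_range' _ 17657 17740 (by decide +kernel)

theorem cSuz2_act224 : ∀ x, 18569 ≤ x → x < 18652 → cSuz2.actRow x = true :=
  VCert.of_range' _ 18569 18652 (by decide +kernel)

theorem cSuz2_act235 : ∀ x, 19481 ≤ x → x < 19564 → cSuz2.actRow x = true :=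
  VCert.of_range' _ 19481 19564 (by decide +kernel)

theorem cSuz2_act247 : ∀ x, 20475 ≤ x → x < 20558 → cSuz2.actRow x = true :=
  VCert.of_range' _ 20475 20558 (by decide +kernel)

theorem cSuz2_act258 : ∀ x, 21387 ≤ x → x < 21470 → cSuz2.actRow x = true :=
  VCert.of_range' _ 21387 21470 (by decide +kernel)

theorem cSuz2_act269 : ∀ x, 22299 ≤ x → x < 22382 → cSuz2.actRow x = true :=
  VCert.of_range' _ 22299 22382 (by decide +kernel)

theorem cSuz2_ok3 : ∀ x, 495 ≤ x → x < 660 → cSuz2.rowOK x = true :=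
  VCert.of_range' _ 495 660 (by decide +kernel)

theorem cSuz2_ok10 : ∀ x, 1652 ≤ x → x < 1817 → cSuz2.rowOK x = true :=
  VCert.of_range' _ 1652 1817 (by decide +kernel)

theorem cSuz2_ok23 : ∀ x, 3800 ≤ x → x < 3965 → cSuz2.rowOK x = true :=
  VCert.of_range' _ 3800 3965 (by decide +kernel)

theorem cSuz2_ok36 : ∀ x, 5948 ≤ x → x < 6113 → cSuz2.rowOK x = true :=
  VCert.of_range' _ 5948 6113 (by decide +kernel)

theorem cSuz2_ok49 : ∀ x, 8096 ≤ x → x < 8261 → cSuz2.rowOK x = true :=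
  VCert.of_range' _ 8096 8261 (by decide +kernel)

theorem cSuz2_ok62 : ∀ x, 10244 ≤ x → x < 10409 → cSuz2.rowOK x = true :=
  VCert.of_range' _ 10244 10409 (by decide +kernel)

theorem cSuz2_ok76 : ∀ x, 12558 ≤ x → x < 12723 → cSuz2.rowOK x = true :=
  VCert.of_range' _ 12558 12723 (by decide +kernel)

theorem cSuz2_ok89 : ∀ x, 14706 ≤ x → x < 14871 → cSuz2.rowOK x = true :=
  VCert.of_range' _ 14706 14871 (by decide +kernel)

theorem cSuz2_ok102 : ∀ x, 16854 ≤ x → x < 17019 → cSuz2.rowOK x = true :=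
  VCert.of_range' _ 16854 17019 (by decide +kernel)

theorem cSuz2_ok115 : ∀ x, 19002 ≤ x → x < 19167 → cSuz2.rowOK x = true :=
  VCert.of_range' _ 19002 19167 (by decide +kernel)

theorem cSuz2_ok128 : ∀ x, 21150 ≤ x → x < 21315 → cSuz2.rowOK x = true :=
  VCert.of_range' _ 21150 21315 (by decide +kernel)

theorem cSuz2_ok141 : ∀ x, 23298 ≤ x → x < 23463 → cSuz2.rowOK x = true :=
  VCert.of_range' _ 23298 23463 (by decide +kernel)

theorem cSuz2_ok154 : ∀ x, 25446 ≤ x → x < 25611 → cSuz2.rowOK x = true :=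
  VCert.of_range' _ 25446 25611 (by decide +kernel)

theorem cSuz2_ok167 : ∀ x, 27594 ≤ x → x < 27759 → cSuz2.rowOK x = true :=
  VCert.of_range' _ 27594 27759 (by decide +kernel)

theorem cSuz2_ok181 : ∀ x, 29908 ≤ x → x < 30073 → cSuz2.rowOK x = true :=
  VCert.of_range' _ 29908 30073 (by decide +kernel)

theorem cSuz2_ok194 : ∀ x, 32056 ≤ x → x < 32221 → cSuz2.rowOK x = true :=
  VCert.of_range' _ 32056 32221 (by decide +kernel)

theorem cSuz2_act49 : ∀ x, 4062 ≤ x → x < 4144 → cSuz2.actRow x = true :=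
  VCert.of_range' _ 4062 4144 (by decide +kernel)

theorem cSuz2_act147 : ∀ x, 12186 ≤ x → x < 12268 → cSuz2.actRow x = true :=
  VCert.of_range' _ 12186 12268 (by decide +kernel)

theorem cSuz2_act246 : ∀ x, 20393 ≤ x → x < 20475 → cSuz2.actRow x = true :=
  VCert.of_range' _ 20393 20475 (by decide +kernel)

theorem oSuz2_tr1_1 : ∀ x, 1906 ≤ x → x < 3813 → oSuz2.treeRow cSuz2 1 1 x = true :=
  VCert.of_range' _ 1906 3813 (by decide +kernel)

theorem oSuz2_tr1_10 : ∀ x, 19066 ≤ x → x < 20973 → oSuz2.treeRow cSuz2 1 1 x = true :=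
  VCert.of_range' _ 19066 20973 (by decide +kernel)

theorem oSuz2_tr3_1 : ∀ x, 1906 ≤ x → x < 3813 → oSuz2.treeRow cSuz2 67 3 x = true :=
  VCert.of_range' _ 1906 3813 (by decide +kernel)

theorem oSuz2_tr4_4 : ∀ x, 7626 ≤ x → x < 9533 → oSuz2.treeRow cSuz2 7122 4 x = true :=
  VCert.of_range' _ 7626 9533 (by decide +kernel)

theorem oSuz2_tr2_0 : ∀ x, 0 ≤ x → x < 1906 → oSuz2.treeRow cSuz2 10 2 x = true :=
  VCert.of_range' _ 0 1906 (by decide +kernel)

theorem oSuz2_tr4_6 : ∀ x, 11440 ≤ x → x < 13346 → oSuz2.treeRow cSuz2 7122 4 x = true :=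
  VCert.of_range' _ 11440 13346 (by decide +kernel)


end Cfsg.Agent.Lib.Lead.VTC
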