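import Cfsg.Agent.Lib.Lead.VTCSuz2
import Cfsg.Agent.Lib.Lead.VTC3

set_option autoImplicit false
set_option maxRecDepth 100000

namespace Cfsg.Agent.Lib.Lead.VTC

theorem cSuz2_finr6 : ∀ x, 2801 ≤ x → x < 3268 → cSuz2.finRow x = true :=
  VCert.of_range' _ 2801 3268 (by decide +kernel)

theorem cSuz2_finr17 : ∀ x, 7937 ≤ x → x < 8404 → cSuz2.finRow x = true :=
  VCert.of_range' _ 7937 8404 (by decide +kernel)

theorem cSuz2_finr27 : ∀ x, 12607 ≤ x → x < 13074 → cSuz2.finRow x = true :=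
  VCert.of_range' _ 12607 13074 (by decide +kernel)

theorem cSuz2_finr38 : ∀ x, 17743 ≤ x → x < 18210 → cSuz2.finRow x = true :=
  VCert.of_range' _ 17743 18210 (by decide +kernel)

theorem cSuz2_finr48 : ∀ x, 22413 ≤ x → x < 22880 → cSuz2.finRow x = true :=
  VCert.of_range' _ 22413 22880 (by decide +kernel)

theorem cSuz2_ok46 : ∀ x, 7600 ≤ x → x < 7766 → cSuz2.rowOK x = true :=
  VCert.of_range' _ 7600 7766 (by decide +kernel)

theorem cSuz2_ok88 : ∀ x, 14540 ≤ x → x < 14706 → cSuz2.rowOK x = true :=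
  VCert.of_range' _ 14540 14706 (by decide +kernel)

theorem cSuz2_ok130 : ∀ x, 21480 ≤ x → x < 21646 → cSuz2.rowOK x = true :=
  VCert.of_range' _ 21480 21646 (by decide +kernel)

theorem cSuz2_ok172 : ∀ x, 28420 ≤ x → x < 28586 → cSuz2.rowOK x = true :=
  VCert.of_range' _ 28420 28586 (by decide +kernel)

theorem cSuz2_act3 : ∀ x, 248 ≤ x → x < 331 → cSuz2.actRow x = true :=
  VCert.of_range' _ 248 331 (by decide +kernel)

theorem cSuz2_act14 : ∀ x, 1160 ≤ x → x < 1243 → cSuz2.actRow x = true :=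
  VCert.of_range' _ 1160 1243 (by decide +kernel)

theorem cSuz2_act25 : ∀ x, 2072 ≤ x → x < 2155 → cSuz2.actRow x = true :=
  VCert.of_range' _ 2072 2155 (by decide +kernel)

theorem cSuz2_act36 : ∀ x, 2984 ≤ x → x < 3067 → cSuz2.actRow x = true :=
  VCert.of_range' _ 2984 3067 (by decide +kernel)

theorem cSuz2_act47 : ∀ x, 3896 ≤ x → x < 3979 → cSuz2.actRow x = true :=
  VCert.of_range' _ 3896 3979 (by decide +kernel)

theorem cSuz2_act58 : ∀ x, 4808 ≤ x → x < 4891 → cSuz2.actRow x = true :=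
  VCert.of_range' _ 4808 4891 (by decide +kernel)

theorem cSuz2_act70 : ∀ x, 5802 ≤ x → x < 5885 → cSuz2.actRow x = true :=
  VCert.of_range' _ 5802 5885 (by decide +kernel)

theorem cSuz2_act81 : ∀ x, 6714 ≤ x → x < 6797 → cSuz2.actRow x = true :=
  VCert.of_range' _ 6714 6797 (by decide +kernel)

theorem cSuz2_act92 : ∀ x, 7626 ≤ x → x < 7709 → cSuz2.actRow x = true :=
  VCert.of_range' _ 7626 7709 (by decide +kernel)

theorem cSuz2_act103 : ∀ x, 8538 ≤ x → x < 8621 → cSuz2.actRow x = true :=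
  VCert.of_range' _ 8538 8621 (by decide +kernel)

theorem cSuz2_act114 : ∀ x, 9450 ≤ x → x < 9533 → cSuz2.actRow x = true :=
  VCert.of_range' _ 9450 9533 (by decide +kernel)

theorem cSuz2_act125 : ∀ x, 10362 ≤ x → x < 10445 → cSuz2.actRow x = true :=
  VCert.of_range' _ 10362 10445 (by decide +kernel)

theorem cSuz2_act136 : ∀ x, 11274 ≤ x → x < 11357 → cSuz2.actRow x = true :=
  VCert.of_range' _ 11274 11357 (by decide +kernel)

theorem cSuz2_act148 : ∀ x, 12268 ≤ x → x < 12351 → cSuz2.actRow x = true :=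
  VCert.of_range' _ 12268 12351 (by decide +kernel)

theorem cSuz2_act159 : ∀ x, 13180 ≤ x → x < 13263 → cSuz2.actRow x = true :=
  VCert.of_range' _ 13180 13263 (by decide +kernel)

theorem cSuz2_act170 : ∀ x, 14092 ≤ x → x < 14175 → cSuz2.actRow x = true :=
  VCert.of_range' _ 14092 14175 (by decide +kernel)

theorem cSuz2_act181 : ∀ x, 15004 ≤ x → x < 15087 → cSuz2.actRow x = true :=
  VCert.of_range' _ 15004 15087 (by decide +kernel)

theorem cSuz2_act192 : ∀ x, 15916 ≤ x → x < 15999 → cSuz2.actRow x = true :=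
  VCert.of_range' _ 15916 15999 (by decide +kernel)

theorem cSuz2_act203 : ∀ x, 16828 ≤ x → x < 16911 → cSuz2.actRow x = true :=
  VCert.of_range' _ 16828 16911 (by decide +kernel)

theorem cSuz2_act214 : ∀ x, 17740 ≤ x → x < 17823 → cSuz2.actRow x = true :=
  VCert.of_range' _ 17740 17823 (by decide +kernel)

theorem cSuz2_act225 : ∀ x, 18652 ≤ x → x < 18735 → cSuz2.actRow x = true :=
  VCert.of_range' _ 18652 18735 (by decide +kernel)

theorem cSuz2_act237 : ∀ x, 19646 ≤ x → x < 19729 → cSuz2.actRow x = true :=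
  VCert.of_range' _ 19646 19729 (by decide +kernel)

theorem cSuz2_act248 : ∀ x, 20558 ≤ x → x < 20641 → cSuz2.actRow x = true :=
  VCert.of_range' _ 20558 20641 (by decide +kernel)

theorem cSuz2_act259 : ∀ x, 21470 ≤ x → x < 21553 → cSuz2.actRow x = true :=
  VCert.of_range' _ 21470 21553 (by decide +kernel)

theorem cSuz2_act270 : ∀ x, 22382 ≤ x → x < 22465 → cSuz2.actRow x = true :=
  VCert.of_range' _ 22382 22465 (by decide +kernel)

theorem cSuz2_ok5 : ∀ x, 826 ≤ x → x < 991 → cSuz2.rowOK x = true :=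
  VCert.of_range' _ 826 991 (by decide +kernel)

theorem cSuz2_ok11 : ∀ x, 1817 ≤ x → x < 1982 → cSuz2.rowOK x = true :=
  VCert.of_range' _ 1817 1982 (by decide +kernel)

theorem cSuz2_ok24 : ∀ x, 3965 ≤ x → x < 4130 → cSuz2.rowOK x = true :=
  VCert.of_range' _ 3965 4130 (by decide +kernel)

theorem cSuz2_ok38 : ∀ x, 6279 ≤ x → x < 6444 → cSuz2.rowOK x = true :=
  VCert.of_range' _ 6279 6444 (by decide +kernel)

theorem cSuz2_ok51 : ∀ x, 8427 ≤ x → x < 8592 → cSuz2.rowOK x = true :=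
  VCert.of_range' _ 8427 8592 (by decide +kernel)

theorem cSuz2_ok64 : ∀ x, 10575 ≤ x → x < 10740 → cSuz2.rowOK x = true :=
  VCert.of_range' _ 10575 10740 (by decide +kernel)

theorem cSuz2_ok77 : ∀ x, 12723 ≤ x → x < 12888 → cSuz2.rowOK x = true :=
  VCert.of_range' _ 12723 12888 (by decide +kernel)

theorem cSuz2_ok90 : ∀ x, 14871 ≤ x → x < 15036 → cSuz2.rowOK x = true :=
  VCert.of_range' _ 14871 15036 (by decide +kernel)

theorem cSuz2_ok103 : ∀ x, 17019 ≤ x → x < 17184 → cSuz2.rowOK x = true :=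
  VCert.of_range' _ 17019 17184 (by decide +kernel)

theorem cSuz2_ok116 : ∀ x, 19167 ≤ x → x < 19332 → cSuz2.rowOK x = true :=
  VCert.of_range' _ 19167 19332 (by decide +kernel)

theorem cSuz2_ok129 : ∀ x, 21315 ≤ x → x < 21480 → cSuz2.rowOK x = true :=
  VCert.of_range' _ 21315 21480 (by decide +kernel)

theorem cSuz2_ok142 : ∀ x, 23463 ≤ x → x < 23628 → cSuz2.rowOK x = true :=
  VCert.of_range' _ 23463 23628 (by decide +kernel)

theorem cSuz2_ok156 : ∀ x, 25777 ≤ x → x < 25942 → cSuz2.rowOK x = true :=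
  VCert.of_range' _ 25777 25942 (by decide +kernel)

theorem cSuz2_ok169 : ∀ x, 27925 ≤ x → x < 28090 → cSuz2.rowOK x = true :=
  VCert.of_range' _ 27925 28090 (by decide +kernel)

theorem cSuz2_ok182 : ∀ x, 30073 ≤ x → x < 30238 → cSuz2.rowOK x = true :=
  VCert.of_range' _ 30073 30238 (by decide +kernel)

theorem cSuz2_ok195 : ∀ x, 32221 ≤ x → x < 32386 → cSuz2.rowOK x = true :=
  VCert.of_range' _ 32221 32386 (by decide +kernel)

theorem cSuz2_act59 : ∀ x, 4891 ≤ x → x < 4973 → cSuz2.actRow x = true :=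
  VCert.of_range' _ 4891 4973 (by decide +kernel)

theorem cSuz2_act157 : ∀ x, 13015 ≤ x → x < 13097 → cSuz2.actRow x = true :=
  VCert.of_range' _ 13015 13097 (by decide +kernel)

theorem cSuz2_act256 : ∀ x, 21222 ≤ x → x < 21304 → cSuz2.actRow x = true :=
  VCert.of_range' _ 21222 21304 (by decide +kernel)

theorem oSuz2_tr1_2 : ∀ x, 3813 ≤ x → x < 5720 → oSuz2.treeRow cSuz2 1 1 x = true :=
  VCert.of_range' _ 3813 5720 (by decide +kernel)

theorem oSuz2_tr1_11 : ∀ x, 20973 ≤ x → x < 22880 → oSuz2.treeRow cSuz2 1 1 x = true :=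
  VCert.of_range' _ 20973 22880 (by decide +kernel)

theorem oSuz2_tr3_2 : ∀ x, 3813 ≤ x → x < 5720 → oSuz2.treeRow cSuz2 67 3 x = true :=
  VCert.of_range' _ 3813 5720 (by decide +kernel)

theorem oSuz2_tr4_5 : ∀ x, 9533 ≤ x → x < 11440 → oSuz2.treeRow cSuz2 7122 4 x = true :=
  VCert.of_range' _ 9533 11440 (by decide +kernel)

theorem oSuz2_tr2_3 : ∀ x, 5720 ≤ x → x < 7626 → oSuz2.treeRow cSuz2 10 2 x = true :=
  VCert.of_range' _ 5720 7626 (by decide +kernel)

theorem oSuz2_tr4_9 : ∀ x, 17160 ≤ x → x < 19066 → oSuz2.treeRow cSuz2 7122 4 x = true :=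
  VCert.of_range' _ 17160 19066 (by decide +kernel)


end Cfsg.Agent.Lib.Lead.VTC
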