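import Cfsg.Agent.Lib.Lead.VTCSuz2
import Cfsg.Agent.Lib.Lead.VTC3

set_option autoImplicit false
set_option maxRecDepth 100000

namespace Cfsg.Agent.Lib.Lead.VTC

theorem cSuz2_finr7 : ∀ x, 3268 ≤ x → x < 3735 → cSuz2.finRow x = true :=
  VCert.of_range' _ 3268 3735 (by decide +kernel)

theorem cSuz2_finr18 : ∀ x, 8404 ≤ x → x < 8871 → cSuz2.finRow x = true :=
  VCert.of_range' _ 8404 8871 (by decide +kernel)

theorem cSuz2_finr28 : ∀ x, 13074 ≤ x → x < 13541 → cSuz2.finRow x = true :=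
  VCert.of_range' _ 13074 13541 (by decide +kernel)

theorem cSuz2_finr39 : ∀ x, 18210 ≤ x → x < 18677 → cSuz2.finRow x = true :=
  VCert.of_range' _ 18210 18677 (by decide +kernel)

theorem cSuz2_finr0 : ∀ x, 0 ≤ x → x < 466 → cSuz2.finRow x = true :=
  VCert.of_range' _ 0 466 (by decide +kernel)

theorem cSuz2_ok12 : ∀ x, 1982 ≤ x → x < 2148 → cSuz2.rowOK x = true :=
  VCert.of_range' _ 1982 2148 (by decide +kernel)

theorem cSuz2_ok54 : ∀ x, 8922 ≤ x → x < 9088 → cSuz2.rowOK x = true :=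
  VCert.of_range' _ 8922 9088 (by decide +kernel)

theorem cSuz2_ok96 : ∀ x, 15862 ≤ x → x < 16028 → cSuz2.rowOK x = true :=
  VCert.of_range' _ 15862 16028 (by decide +kernel)

theorem cSuz2_ok138 : ∀ x, 22802 ≤ x → x < 22968 → cSuz2.rowOK x = true :=
  VCert.of_range' _ 22802 22968 (by decide +kernel)

theorem cSuz2_ok180 : ∀ x, 29742 ≤ x → x < 29908 → cSuz2.rowOK x = true :=
  VCert.of_range' _ 29742 29908 (by decide +kernel)

theorem cSuz2_act5 : ∀ x, 414 ≤ x → x < 497 → cSuz2.actRow x = true :=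
  VCert.of_range' _ 414 497 (by decide +kernel)

theorem cSuz2_act16 : ∀ x, 1326 ≤ x → x < 1409 → cSuz2.actRow x = true :=
  VCert.of_range' _ 1326 1409 (by decide +kernel)

theorem cSuz2_act27 : ∀ x, 2238 ≤ x → x < 2321 → cSuz2.actRow x = true :=
  VCert.of_range' _ 2238 2321 (by decide +kernel)

theorem cSuz2_act38 : ∀ x, 3150 ≤ x → x < 3233 → cSuz2.actRow x = true :=
  VCert.of_range' _ 3150 3233 (by decide +kernel)

theorem cSuz2_act50 : ∀ x, 4144 ≤ x → x < 4227 → cSuz2.actRow x = true :=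
  VCert.of_range' _ 4144 4227 (by decide +kernel)

theorem cSuz2_act61 : ∀ x, 5056 ≤ x → x < 5139 → cSuz2.actRow x = true :=
  VCert.of_range' _ 5056 5139 (by decide +kernel)

theorem cSuz2_act72 : ∀ x, 5968 ≤ x → x < 6051 → cSuz2.actRow x = true :=
  VCert.of_range' _ 5968 6051 (by decide +kernel)

theorem cSuz2_act83 : ∀ x, 6880 ≤ x → x < 6963 → cSuz2.actRow x = true :=
  VCert.of_range' _ 6880 6963 (by decide +kernel)

theorem cSuz2_act94 : ∀ x, 7792 ≤ x → x < 7875 → cSuz2.actRow x = true :=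
  VCert.of_range' _ 7792 7875 (by decide +kernel)

theorem cSuz2_act105 : ∀ x, 8704 ≤ x → x < 8787 → cSuz2.actRow x = true :=
  VCert.of_range' _ 8704 8787 (by decide +kernel)

theorem cSuz2_act116 : ∀ x, 9616 ≤ x → x < 9699 → cSuz2.actRow x = true :=
  VCert.of_range' _ 9616 9699 (by decide +kernel)

theorem cSuz2_act127 : ∀ x, 10528 ≤ x → x < 10611 → cSuz2.actRow x = true :=
  VCert.of_range' _ 10528 10611 (by decide +kernel)

theorem cSuz2_act139 : ∀ x, 11522 ≤ x → x < 11605 → cSuz2.actRow x = true :=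
  VCert.of_range' _ 11522 11605 (by decide +kernel)

theorem cSuz2_act150 : ∀ x, 12434 ≤ x → x < 12517 → cSuz2.actRow x = true :=
  VCert.of_range' _ 12434 12517 (by decide +kernel)

theorem cSuz2_act161 : ∀ x, 13346 ≤ x → x < 13429 → cSuz2.actRow x = true :=
  VCert.of_range' _ 13346 13429 (by decide +kernel)

theorem cSuz2_act172 : ∀ x, 14258 ≤ x → x < 14341 → cSuz2.actRow x = true :=
  VCert.of_range' _ 14258 14341 (by decide +kernel)

theorem cSuz2_act183 : ∀ x, 15170 ≤ x → x < 15253 → cSuz2.actRow x = true :=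
  VCert.of_range' _ 15170 15253 (by decide +kernel)

theorem cSuz2_act194 : ∀ x, 16082 ≤ x → x < 16165 → cSuz2.actRow x = true :=
  VCert.of_range' _ 16082 16165 (by decide +kernel)

theorem cSuz2_act205 : ∀ x, 16994 ≤ x → x < 17077 → cSuz2.actRow x = true :=
  VCert.of_range' _ 16994 17077 (by decide +kernel)

theorem cSuz2_act217 : ∀ x, 17988 ≤ x → x < 18071 → cSuz2.actRow x = true :=
  VCert.of_range' _ 17988 18071 (by decide +kernel)

theorem cSuz2_act228 : ∀ x, 18900 ≤ x → x < 18983 → cSuz2.actRow x = true :=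
  VCert.of_range' _ 18900 18983 (by decide +kernel)

theorem cSuz2_act239 : ∀ x, 19812 ≤ x → x < 19895 → cSuz2.actRow x = true :=
  VCert.of_range' _ 19812 19895 (by decide +kernel)

theorem cSuz2_act250 : ∀ x, 20724 ≤ x → x < 20807 → cSuz2.actRow x = true :=
  VCert.of_range' _ 20724 20807 (by decide +kernel)

theorem cSuz2_act261 : ∀ x, 21636 ≤ x → x < 21719 → cSuz2.actRow x = true :=
  VCert.of_range' _ 21636 21719 (by decide +kernel)

theorem cSuz2_act272 : ∀ x, 22548 ≤ x → x < 22631 → cSuz2.actRow x = true :=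
  VCert.of_range' _ 22548 22631 (by decide +kernel)

theorem cSuz2_ok14 : ∀ x, 2313 ≤ x → x < 2478 → cSuz2.rowOK x = true :=
  VCert.of_range' _ 2313 2478 (by decide +kernel)

theorem cSuz2_ok27 : ∀ x, 4461 ≤ x → x < 4626 → cSuz2.rowOK x = true :=
  VCert.of_range' _ 4461 4626 (by decide +kernel)

theorem cSuz2_ok40 : ∀ x, 6609 ≤ x → x < 6774 → cSuz2.rowOK x = true :=
  VCert.of_range' _ 6609 6774 (by decide +kernel)

theorem cSuz2_ok53 : ∀ x, 8757 ≤ x → x < 8922 → cSuz2.rowOK x = true :=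
  VCert.of_range' _ 8757 8922 (by decide +kernel)

theorem cSuz2_ok66 : ∀ x, 10905 ≤ x → x < 11070 → cSuz2.rowOK x = true :=
  VCert.of_range' _ 10905 11070 (by decide +kernel)

theorem cSuz2_ok80 : ∀ x, 13219 ≤ x → x < 13384 → cSuz2.rowOK x = true :=
  VCert.of_range' _ 13219 13384 (by decide +kernel)

theorem cSuz2_ok93 : ∀ x, 15367 ≤ x → x < 15532 → cSuz2.rowOK x = true :=
  VCert.of_range' _ 15367 15532 (by decide +kernel)

theorem cSuz2_ok106 : ∀ x, 17515 ≤ x → x < 17680 → cSuz2.rowOK x = true :=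
  VCert.of_range' _ 17515 17680 (by decide +kernel)

theorem cSuz2_ok119 : ∀ x, 19663 ≤ x → x < 19828 → cSuz2.rowOK x = true :=
  VCert.of_range' _ 19663 19828 (by decide +kernel)

theorem cSuz2_ok132 : ∀ x, 21811 ≤ x → x < 21976 → cSuz2.rowOK x = true :=
  VCert.of_range' _ 21811 21976 (by decide +kernel)

theorem cSuz2_ok145 : ∀ x, 23959 ≤ x → x < 24124 → cSuz2.rowOK x = true :=
  VCert.of_range' _ 23959 24124 (by decide +kernel)

theorem cSuz2_ok158 : ∀ x, 26107 ≤ x → x < 26272 → cSuz2.rowOK x = true :=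
  VCert.of_range' _ 26107 26272 (by decide +kernel)

theorem cSuz2_ok171 : ∀ x, 28255 ≤ x → x < 28420 → cSuz2.rowOK x = true :=
  VCert.of_range' _ 28255 28420 (by decide +kernel)

theorem cSuz2_ok184 : ∀ x, 30403 ≤ x → x < 30568 → cSuz2.rowOK x = true :=
  VCert.of_range' _ 30403 30568 (by decide +kernel)

theorem cSuz2_ok198 : ∀ x, 32717 ≤ x → x < 32882 → cSuz2.rowOK x = true :=
  VCert.of_range' _ 32717 32882 (by decide +kernel)

theorem cSuz2_act78 : ∀ x, 6466 ≤ x → x < 6548 → cSuz2.actRow x = true :=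
  VCert.of_range' _ 6466 6548 (by decide +kernel)

theorem cSuz2_act177 : ∀ x, 14673 ≤ x → x < 14755 → cSuz2.actRow x = true :=
  VCert.of_range' _ 14673 14755 (by decide +kernel)

theorem oSuz2_colr1 : ∀ x, 3268 ≤ x → x < 6537 → oSuz2.colRow cSuz2 x = true :=
  VCert.of_range' _ 3268 6537 (by decide +kernel)

theorem oSuz2_tr1_4 : ∀ x, 7626 ≤ x → x < 9533 → oSuz2.treeRow cSuz2 1 1 x = true :=
  VCert.of_range' _ 7626 9533 (by decide +kernel)

theorem oSuz2_tr2_1 : ∀ x, 1906 ≤ x → x < 3813 → oSuz2.treeRow cSuz2 10 2 x = true :=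
  VCert.of_range' _ 1906 3813 (by decide +kernel)

theorem oSuz2_tr3_4 : ∀ x, 7626 ≤ x → x < 9533 → oSuz2.treeRow cSuz2 67 3 x = true :=
  VCert.of_range' _ 7626 9533 (by decide +kernel)

theorem oSuz2_tr4_7 : ∀ x, 13346 ≤ x → x < 15253 → oSuz2.treeRow cSuz2 7122 4 x = true :=
  VCert.of_range' _ 13346 15253 (by decide +kernel)

theorem oSuz2_tr2_6 : ∀ x, 11440 ≤ x → x < 13346 → oSuz2.treeRow cSuz2 10 2 x = true :=
  VCert.of_range' _ 11440 13346 (by decide +kernel)

theorem cSuz2_finn2 : ∀ x, 6068 ≤ x → x < 9103 → cSuz2.finNode x = true :=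
  VCert.of_range' _ 6068 9103 (by decide +kernel)

theorem cSuz2_finn6 : ∀ x, 18206 ≤ x → x < 21240 → cSuz2.finNode x = true :=
  VCert.of_range' _ 18206 21240 (by decide +kernel)


end Cfsg.Agent.Lib.Lead.VTC
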