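import Cfsg.Agent.Lib.Lead.VTCSuz2
import Cfsg.Agent.Lib.Lead.VTC3

set_option autoImplicit false
set_option maxRecDepth 100000

namespace Cfsg.Agent.Lib.Lead.VTC

theorem cSuz2_finr8 : ∀ x, 3735 ≤ x → x < 4202 → cSuz2.finRow x = true :=
  VCert.of_range' _ 3735 4202 (by decide +kernel)

theorem cSuz2_finr19 : ∀ x, 8871 ≤ x → x < 9338 → cSuz2.finRow x = true :=
  VCert.of_range' _ 8871 9338 (by decide +kernel)

theorem cSuz2_finr29 : ∀ x, 13541 ≤ x → x < 14008 → cSuz2.finRow x = true :=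
  VCert.of_range' _ 13541 14008 (by decide +kernel)

theorem cSuz2_finr40 : ∀ x, 18677 ≤ x → x < 19144 → cSuz2.finRow x = true :=
  VCert.of_range' _ 18677 19144 (by decide +kernel)

theorem cSuz2_finr16 : ∀ x, 7471 ≤ x → x < 7937 → cSuz2.finRow x = true :=
  VCert.of_range' _ 7471 7937 (by decide +kernel)

theorem cSuz2_ok16 : ∀ x, 2643 ≤ x → x < 2809 → cSuz2.rowOK x = true :=
  VCert.of_range' _ 2643 2809 (by decide +kernel)

theorem cSuz2_ok58 : ∀ x, 9583 ≤ x → x < 9749 → cSuz2.rowOK x = true :=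
  VCert.of_range' _ 9583 9749 (by decide +kernel)

theorem cSuz2_ok100 : ∀ x, 16523 ≤ x → x < 16689 → cSuz2.rowOK x = true :=
  VCert.of_range' _ 16523 16689 (by decide +kernel)

theorem cSuz2_ok143 : ∀ x, 23628 ≤ x → x < 23794 → cSuz2.rowOK x = true :=
  VCert.of_range' _ 23628 23794 (by decide +kernel)

theorem cSuz2_ok185 : ∀ x, 30568 ≤ x → x < 30734 → cSuz2.rowOK x = true :=
  VCert.of_range' _ 30568 30734 (by decide +kernel)

theorem cSuz2_act6 : ∀ x, 497 ≤ x → x < 580 → cSuz2.actRow x = true :=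
  VCert.of_range' _ 497 580 (by decide +kernel)

theorem cSuz2_act17 : ∀ x, 1409 ≤ x → x < 1492 → cSuz2.actRow x = true :=
  VCert.of_range' _ 1409 1492 (by decide +kernel)

theorem cSuz2_act28 : ∀ x, 2321 ≤ x → x < 2404 → cSuz2.actRow x = true :=
  VCert.of_range' _ 2321 2404 (by decide +kernel)

theorem cSuz2_act40 : ∀ x, 3315 ≤ x → x < 3398 → cSuz2.actRow x = true :=
  VCert.of_range' _ 3315 3398 (by decide +kernel)

theorem cSuz2_act51 : ∀ x, 4227 ≤ x → x < 4310 → cSuz2.actRow x = true :=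
  VCert.of_range' _ 4227 4310 (by decide +kernel)

theorem cSuz2_act62 : ∀ x, 5139 ≤ x → x < 5222 → cSuz2.actRow x = true :=
  VCert.of_range' _ 5139 5222 (by decide +kernel)

theorem cSuz2_act73 : ∀ x, 6051 ≤ x → x < 6134 → cSuz2.actRow x = true :=
  VCert.of_range' _ 6051 6134 (by decide +kernel)

theorem cSuz2_act84 : ∀ x, 6963 ≤ x → x < 7046 → cSuz2.actRow x = true :=
  VCert.of_range' _ 6963 7046 (by decide +kernel)

theorem cSuz2_act95 : ∀ x, 7875 ≤ x → x < 7958 → cSuz2.actRow x = true :=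
  VCert.of_range' _ 7875 7958 (by decide +kernel)

theorem cSuz2_act106 : ∀ x, 8787 ≤ x → x < 8870 → cSuz2.actRow x = true :=
  VCert.of_range' _ 8787 8870 (by decide +kernel)

theorem cSuz2_act117 : ∀ x, 9699 ≤ x → x < 9782 → cSuz2.actRow x = true :=
  VCert.of_range' _ 9699 9782 (by decide +kernel)

theorem cSuz2_act129 : ∀ x, 10693 ≤ x → x < 10776 → cSuz2.actRow x = true :=
  VCert.of_range' _ 10693 10776 (by decide +kernel)

theorem cSuz2_act140 : ∀ x, 11605 ≤ x → x < 11688 → cSuz2.actRow x = true :=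
  VCert.of_range' _ 11605 11688 (by decide +kernel)

theorem cSuz2_act151 : ∀ x, 12517 ≤ x → x < 12600 → cSuz2.actRow x = true :=
  VCert.of_range' _ 12517 12600 (by decide +kernel)

theorem cSuz2_act162 : ∀ x, 13429 ≤ x → x < 13512 → cSuz2.actRow x = true :=
  VCert.of_range' _ 13429 13512 (by decide +kernel)

theorem cSuz2_act173 : ∀ x, 14341 ≤ x → x < 14424 → cSuz2.actRow x = true :=
  VCert.of_range' _ 14341 14424 (by decide +kernel)

theorem cSuz2_act184 : ∀ x, 15253 ≤ x → x < 15336 → cSuz2.actRow x = true :=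
  VCert.of_range' _ 15253 15336 (by decide +kernel)

theorem cSuz2_act195 : ∀ x, 16165 ≤ x → x < 16248 → cSuz2.actRow x = true :=
  VCert.of_range' _ 16165 16248 (by decide +kernel)

theorem cSuz2_act206 : ∀ x, 17077 ≤ x → x < 17160 → cSuz2.actRow x = true :=
  VCert.of_range' _ 17077 17160 (by decide +kernel)

theorem cSuz2_act218 : ∀ x, 18071 ≤ x → x < 18154 → cSuz2.actRow x = true :=
  VCert.of_range' _ 18071 18154 (by decide +kernel)

theorem cSuz2_act229 : ∀ x, 18983 ≤ x → x < 19066 → cSuz2.actRow x = true :=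
  VCert.of_range' _ 18983 19066 (by decide +kernel)

theorem cSuz2_act240 : ∀ x, 19895 ≤ x → x < 19978 → cSuz2.actRow x = true :=
  VCert.of_range' _ 19895 19978 (by decide +kernel)

theorem cSuz2_act251 : ∀ x, 20807 ≤ x → x < 20890 → cSuz2.actRow x = true :=
  VCert.of_range' _ 20807 20890 (by decide +kernel)

theorem cSuz2_act262 : ∀ x, 21719 ≤ x → x < 21802 → cSuz2.actRow x = true :=
  VCert.of_range' _ 21719 21802 (by decide +kernel)

theorem cSuz2_act273 : ∀ x, 22631 ≤ x → x < 22714 → cSuz2.actRow x = true :=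
  VCert.of_range' _ 22631 22714 (by decide +kernel)

theorem cSuz2_ok15 : ∀ x, 2478 ≤ x → x < 2643 → cSuz2.rowOK x = true :=
  VCert.of_range' _ 2478 2643 (by decide +kernel)

theorem cSuz2_ok28 : ∀ x, 4626 ≤ x → x < 4791 → cSuz2.rowOK x = true :=
  VCert.of_range' _ 4626 4791 (by decide +kernel)

theorem cSuz2_ok41 : ∀ x, 6774 ≤ x → x < 6939 → cSuz2.rowOK x = true :=
  VCert.of_range' _ 6774 6939 (by decide +kernel)

theorem cSuz2_ok55 : ∀ x, 9088 ≤ x → x < 9253 → cSuz2.rowOK x = true :=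
  VCert.of_range' _ 9088 9253 (by decide +kernel)

theorem cSuz2_ok68 : ∀ x, 11236 ≤ x → x < 11401 → cSuz2.rowOK x = true :=
  VCert.of_range' _ 11236 11401 (by decide +kernel)

theorem cSuz2_ok81 : ∀ x, 13384 ≤ x → x < 13549 → cSuz2.rowOK x = true :=
  VCert.of_range' _ 13384 13549 (by decide +kernel)

theorem cSuz2_ok94 : ∀ x, 15532 ≤ x → x < 15697 → cSuz2.rowOK x = true :=
  VCert.of_range' _ 15532 15697 (by decide +kernel)

theorem cSuz2_ok107 : ∀ x, 17680 ≤ x → x < 17845 → cSuz2.rowOK x = true :=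
  VCert.of_range' _ 17680 17845 (by decide +kernel)

theorem cSuz2_ok120 : ∀ x, 19828 ≤ x → x < 19993 → cSuz2.rowOK x = true :=
  VCert.of_range' _ 19828 19993 (by decide +kernel)

theorem cSuz2_ok133 : ∀ x, 21976 ≤ x → x < 22141 → cSuz2.rowOK x = true :=
  VCert.of_range' _ 21976 22141 (by decide +kernel)

theorem cSuz2_ok146 : ∀ x, 24124 ≤ x → x < 24289 → cSuz2.rowOK x = true :=
  VCert.of_range' _ 24124 24289 (by decide +kernel)

theorem cSuz2_ok160 : ∀ x, 26438 ≤ x → x < 26603 → cSuz2.rowOK x = true :=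
  VCert.of_range' _ 26438 26603 (by decide +kernel)

theorem cSuz2_ok173 : ∀ x, 28586 ≤ x → x < 28751 → cSuz2.rowOK x = true :=
  VCert.of_range' _ 28586 28751 (by decide +kernel)

theorem cSuz2_ok186 : ∀ x, 30734 ≤ x → x < 30899 → cSuz2.rowOK x = true :=
  VCert.of_range' _ 30734 30899 (by decide +kernel)

theorem cSuz2_ok199 : ∀ x, 32882 ≤ x → x < 33047 → cSuz2.rowOK x = true :=
  VCert.of_range' _ 32882 33047 (by decide +kernel)

theorem cSuz2_act88 : ∀ x, 7295 ≤ x → x < 7377 → cSuz2.actRow x = true :=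
  VCert.of_range' _ 7295 7377 (by decide +kernel)

theorem cSuz2_act187 : ∀ x, 15502 ≤ x → x < 15584 → cSuz2.actRow x = true :=
  VCert.of_range' _ 15502 15584 (by decide +kernel)

theorem oSuz2_colr3 : ∀ x, 9805 ≤ x → x < 13074 → oSuz2.colRow cSuz2 x = true :=
  VCert.of_range' _ 9805 13074 (by decide +kernel)

theorem oSuz2_tr1_5 : ∀ x, 9533 ≤ x → x < 11440 → oSuz2.treeRow cSuz2 1 1 x = true :=
  VCert.of_range' _ 9533 11440 (by decide +kernel)

theorem oSuz2_tr2_2 : ∀ x, 3813 ≤ x → x < 5720 → oSuz2.treeRow cSuz2 10 2 x = true :=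
  VCert.of_range' _ 3813 5720 (by decide +kernel)

theorem oSuz2_tr3_5 : ∀ x, 9533 ≤ x → x < 11440 → oSuz2.treeRow cSuz2 67 3 x = true :=
  VCert.of_range' _ 9533 11440 (by decide +kernel)

theorem oSuz2_tr4_8 : ∀ x, 15253 ≤ x → x < 17160 → oSuz2.treeRow cSuz2 7122 4 x = true :=
  VCert.of_range' _ 15253 17160 (by decide +kernel)

theorem oSuz2_tr2_9 : ∀ x, 17160 ≤ x → x < 19066 → oSuz2.treeRow cSuz2 10 2 x = true :=
  VCert.of_range' _ 17160 19066 (by decide +kernel)

theorem cSuz2_finn5 : ∀ x, 15171 ≤ x → x < 18206 → cSuz2.finNode x = true :=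
  VCert.of_range' _ 15171 18206 (by decide +kernel)

theorem cSuz2_finn7 : ∀ x, 21240 ≤ x → x < 24274 → cSuz2.finNode x = true :=
  VCert.of_range' _ 21240 24274 (by decide +kernel)


end Cfsg.Agent.Lib.Lead.VTC
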