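import Cfsg.Agent.Lib.Lead.VTCSuz2
import Cfsg.Agent.Lib.Lead.VTC3

set_option autoImplicit false
set_option maxRecDepth 100000

namespace Cfsg.Agent.Lib.Lead.VTC

theorem cSuz2_finr9 : ∀ x, 4202 ≤ x → x < 4669 → cSuz2.finRow x = true :=
  VCert.of_range' _ 4202 4669 (by decide +kernel)

theorem cSuz2_finr20 : ∀ x, 9338 ≤ x → x < 9805 → cSuz2.finRow x = true :=
  VCert.of_range' _ 9338 9805 (by decide +kernel)

theorem cSuz2_finr30 : ∀ x, 14008 ≤ x → x < 14475 → cSuz2.finRow x = true :=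
  VCert.of_range' _ 14008 14475 (by decide +kernel)

theorem cSuz2_finr41 : ∀ x, 19144 ≤ x → x < 19611 → cSuz2.finRow x = true :=
  VCert.of_range' _ 19144 19611 (by decide +kernel)

theorem cSuz2_finr32 : ∀ x, 14942 ≤ x → x < 15408 → cSuz2.finRow x = true :=
  VCert.of_range' _ 14942 15408 (by decide +kernel)

theorem cSuz2_ok21 : ∀ x, 3469 ≤ x → x < 3635 → cSuz2.rowOK x = true :=
  VCert.of_range' _ 3469 3635 (by decide +kernel)

theorem cSuz2_ok63 : ∀ x, 10409 ≤ x → x < 10575 → cSuz2.rowOK x = true :=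
  VCert.of_range' _ 10409 10575 (by decide +kernel)

theorem cSuz2_ok105 : ∀ x, 17349 ≤ x → x < 17515 → cSuz2.rowOK x = true :=
  VCert.of_range' _ 17349 17515 (by decide +kernel)

theorem cSuz2_ok147 : ∀ x, 24289 ≤ x → x < 24455 → cSuz2.rowOK x = true :=
  VCert.of_range' _ 24289 24455 (by decide +kernel)

theorem cSuz2_ok189 : ∀ x, 31229 ≤ x → x < 31395 → cSuz2.rowOK x = true :=
  VCert.of_range' _ 31229 31395 (by decide +kernel)

theorem cSuz2_act7 : ∀ x, 580 ≤ x → x < 663 → cSuz2.actRow x = true :=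
  VCert.of_range' _ 580 663 (by decide +kernel)

theorem cSuz2_act18 : ∀ x, 1492 ≤ x → x < 1575 → cSuz2.actRow x = true :=
  VCert.of_range' _ 1492 1575 (by decide +kernel)

theorem cSuz2_act30 : ∀ x, 2486 ≤ x → x < 2569 → cSuz2.actRow x = true :=
  VCert.of_range' _ 2486 2569 (by decide +kernel)

theorem cSuz2_act41 : ∀ x, 3398 ≤ x → x < 3481 → cSuz2.actRow x = true :=
  VCert.of_range' _ 3398 3481 (by decide +kernel)

theorem cSuz2_act52 : ∀ x, 4310 ≤ x → x < 4393 → cSuz2.actRow x = true :=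
  VCert.of_range' _ 4310 4393 (by decide +kernel)

theorem cSuz2_act63 : ∀ x, 5222 ≤ x → x < 5305 → cSuz2.actRow x = true :=
  VCert.of_range' _ 5222 5305 (by decide +kernel)

theorem cSuz2_act74 : ∀ x, 6134 ≤ x → x < 6217 → cSuz2.actRow x = true :=
  VCert.of_range' _ 6134 6217 (by decide +kernel)

theorem cSuz2_act85 : ∀ x, 7046 ≤ x → x < 7129 → cSuz2.actRow x = true :=
  VCert.of_range' _ 7046 7129 (by decide +kernel)

theorem cSuz2_act96 : ∀ x, 7958 ≤ x → x < 8041 → cSuz2.actRow x = true :=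
  VCert.of_range' _ 7958 8041 (by decide +kernel)

theorem cSuz2_act107 : ∀ x, 8870 ≤ x → x < 8953 → cSuz2.actRow x = true :=
  VCert.of_range' _ 8870 8953 (by decide +kernel)

theorem cSuz2_act119 : ∀ x, 9864 ≤ x → x < 9947 → cSuz2.actRow x = true :=
  VCert.of_range' _ 9864 9947 (by decide +kernel)

theorem cSuz2_act130 : ∀ x, 10776 ≤ x → x < 10859 → cSuz2.actRow x = true :=
  VCert.of_range' _ 10776 10859 (by decide +kernel)

theorem cSuz2_act141 : ∀ x, 11688 ≤ x → x < 11771 → cSuz2.actRow x = true :=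
  VCert.of_range' _ 11688 11771 (by decide +kernel)

theorem cSuz2_act152 : ∀ x, 12600 ≤ x → x < 12683 → cSuz2.actRow x = true :=
  VCert.of_range' _ 12600 12683 (by decide +kernel)

theorem cSuz2_act163 : ∀ x, 13512 ≤ x → x < 13595 → cSuz2.actRow x = true :=
  VCert.of_range' _ 13512 13595 (by decide +kernel)

theorem cSuz2_act174 : ∀ x, 14424 ≤ x → x < 14507 → cSuz2.actRow x = true :=
  VCert.of_range' _ 14424 14507 (by decide +kernel)

theorem cSuz2_act185 : ∀ x, 15336 ≤ x → x < 15419 → cSuz2.actRow x = true :=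
  VCert.of_range' _ 15336 15419 (by decide +kernel)

theorem cSuz2_act196 : ∀ x, 16248 ≤ x → x < 16331 → cSuz2.actRow x = true :=
  VCert.of_range' _ 16248 16331 (by decide +kernel)

theorem cSuz2_act208 : ∀ x, 17242 ≤ x → x < 17325 → cSuz2.actRow x = true :=
  VCert.of_range' _ 17242 17325 (by decide +kernel)

theorem cSuz2_act219 : ∀ x, 18154 ≤ x → x < 18237 → cSuz2.actRow x = true :=
  VCert.of_range' _ 18154 18237 (by decide +kernel)

theorem cSuz2_act230 : ∀ x, 19066 ≤ x → x < 19149 → cSuz2.actRow x = true :=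
  VCert.of_range' _ 19066 19149 (by decide +kernel)

theorem cSuz2_act241 : ∀ x, 19978 ≤ x → x < 20061 → cSuz2.actRow x = true :=
  VCert.of_range' _ 19978 20061 (by decide +kernel)

theorem cSuz2_act252 : ∀ x, 20890 ≤ x → x < 20973 → cSuz2.actRow x = true :=
  VCert.of_range' _ 20890 20973 (by decide +kernel)

theorem cSuz2_act263 : ∀ x, 21802 ≤ x → x < 21885 → cSuz2.actRow x = true :=
  VCert.of_range' _ 21802 21885 (by decide +kernel)

theorem cSuz2_act274 : ∀ x, 22714 ≤ x → x < 22797 → cSuz2.actRow x = true :=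
  VCert.of_range' _ 22714 22797 (by decide +kernel)

theorem cSuz2_ok17 : ∀ x, 2809 ≤ x → x < 2974 → cSuz2.rowOK x = true :=
  VCert.of_range' _ 2809 2974 (by decide +kernel)

theorem cSuz2_ok30 : ∀ x, 4957 ≤ x → x < 5122 → cSuz2.rowOK x = true :=
  VCert.of_range' _ 4957 5122 (by decide +kernel)

theorem cSuz2_ok43 : ∀ x, 7105 ≤ x → x < 7270 → cSuz2.rowOK x = true :=
  VCert.of_range' _ 7105 7270 (by decide +kernel)

theorem cSuz2_ok56 : ∀ x, 9253 ≤ x → x < 9418 → cSuz2.rowOK x = true :=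
  VCert.of_range' _ 9253 9418 (by decide +kernel)

theorem cSuz2_ok69 : ∀ x, 11401 ≤ x → x < 11566 → cSuz2.rowOK x = true :=
  VCert.of_range' _ 11401 11566 (by decide +kernel)

theorem cSuz2_ok82 : ∀ x, 13549 ≤ x → x < 13714 → cSuz2.rowOK x = true :=
  VCert.of_range' _ 13549 13714 (by decide +kernel)

theorem cSuz2_ok95 : ∀ x, 15697 ≤ x → x < 15862 → cSuz2.rowOK x = true :=
  VCert.of_range' _ 15697 15862 (by decide +kernel)

theorem cSuz2_ok108 : ∀ x, 17845 ≤ x → x < 18010 → cSuz2.rowOK x = true :=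
  VCert.of_range' _ 17845 18010 (by decide +kernel)

theorem cSuz2_ok121 : ∀ x, 19993 ≤ x → x < 20158 → cSuz2.rowOK x = true :=
  VCert.of_range' _ 19993 20158 (by decide +kernel)

theorem cSuz2_ok135 : ∀ x, 22307 ≤ x → x < 22472 → cSuz2.rowOK x = true :=
  VCert.of_range' _ 22307 22472 (by decide +kernel)

theorem cSuz2_ok148 : ∀ x, 24455 ≤ x → x < 24620 → cSuz2.rowOK x = true :=
  VCert.of_range' _ 24455 24620 (by decide +kernel)

theorem cSuz2_ok161 : ∀ x, 26603 ≤ x → x < 26768 → cSuz2.rowOK x = true :=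
  VCert.of_range' _ 26603 26768 (by decide +kernel)

theorem cSuz2_ok174 : ∀ x, 28751 ≤ x → x < 28916 → cSuz2.rowOK x = true :=
  VCert.of_range' _ 28751 28916 (by decide +kernel)

theorem cSuz2_ok187 : ∀ x, 30899 ≤ x → x < 31064 → cSuz2.rowOK x = true :=
  VCert.of_range' _ 30899 31064 (by decide +kernel)

theorem cSuz2_ok200 : ∀ x, 33047 ≤ x → x < 33212 → cSuz2.rowOK x = true :=
  VCert.of_range' _ 33047 33212 (by decide +kernel)

theorem cSuz2_act98 : ∀ x, 8124 ≤ x → x < 8206 → cSuz2.actRow x = true :=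
  VCert.of_range' _ 8124 8206 (by decide +kernel)

theorem cSuz2_act197 : ∀ x, 16331 ≤ x → x < 16413 → cSuz2.actRow x = true :=
  VCert.of_range' _ 16331 16413 (by decide +kernel)

theorem oSuz2_colr5 : ∀ x, 16342 ≤ x → x < 19611 → oSuz2.colRow cSuz2 x = true :=
  VCert.of_range' _ 16342 19611 (by decide +kernel)

theorem oSuz2_tr1_7 : ∀ x, 13346 ≤ x → x < 15253 → oSuz2.treeRow cSuz2 1 1 x = true :=
  VCert.of_range' _ 13346 15253 (by decide +kernel)

theorem oSuz2_tr2_4 : ∀ x, 7626 ≤ x → x < 9533 → oSuz2.treeRow cSuz2 10 2 x = true :=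
  VCert.of_range' _ 7626 9533 (by decide +kernel)

theorem oSuz2_tr3_7 : ∀ x, 13346 ≤ x → x < 15253 → oSuz2.treeRow cSuz2 67 3 x = true :=
  VCert.of_range' _ 13346 15253 (by decide +kernel)

theorem oSuz2_tr4_10 : ∀ x, 19066 ≤ x → x < 20973 → oSuz2.treeRow cSuz2 7122 4 x = true :=
  VCert.of_range' _ 19066 20973 (by decide +kernel)

theorem oSuz2_tr3_0 : ∀ x, 0 ≤ x → x < 1906 → oSuz2.treeRow cSuz2 67 3 x = true :=
  VCert.of_range' _ 0 1906 (by decide +kernel)

theorem cSuz2_finn8 : ∀ x, 24274 ≤ x → x < 27309 → cSuz2.finNode x = true :=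
  VCert.of_range' _ 24274 27309 (by decide +kernel)

theorem cSuz2_finn9 : ∀ x, 27309 ≤ x → x < 30343 → cSuz2.finNode x = true :=
  VCert.of_range' _ 27309 30343 (by decide +kernel)


end Cfsg.Agent.Lib.Lead.VTC
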