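import Cfsg.Agent.Lib.Lead.VTCSuz2
import Cfsg.Agent.Lib.Lead.VTC3

set_option autoImplicit false
set_option maxRecDepth 100000

namespace Cfsg.Agent.Lib.Lead.VTC

theorem cSuz2_finr10 : ∀ x, 4669 ≤ x → x < 5136 → cSuz2.finRow x = true :=
  VCert.of_range' _ 4669 5136 (by decide +kernel)

theorem cSuz2_finr21 : ∀ x, 9805 ≤ x → x < 10272 → cSuz2.finRow x = true :=
  VCert.of_range' _ 9805 10272 (by decide +kernel)

theorem cSuz2_finr31 : ∀ x, 14475 ≤ x → x < 14942 → cSuz2.finRow x = true :=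
  VCert.of_range' _ 14475 14942 (by decide +kernel)

theorem cSuz2_finr42 : ∀ x, 19611 ≤ x → x < 20078 → cSuz2.finRow x = true :=
  VCert.of_range' _ 19611 20078 (by decide +kernel)

theorem cSuz2_ok4 : ∀ x, 660 ≤ x → x < 826 → cSuz2.rowOK x = true :=
  VCert.of_range' _ 660 826 (by decide +kernel)

theorem cSuz2_ok8 : ∀ x, 1321 ≤ x → x < 1487 → cSuz2.rowOK x = true :=
  VCert.of_range' _ 1321 1487 (by decide +kernel)

theorem cSuz2_ok50 : ∀ x, 8261 ≤ x → x < 8427 → cSuz2.rowOK x = true :=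
  VCert.of_range' _ 8261 8427 (by decide +kernel)

theorem cSuz2_ok92 : ∀ x, 15201 ≤ x → x < 15367 → cSuz2.rowOK x = true :=
  VCert.of_range' _ 15201 15367 (by decide +kernel)

theorem cSuz2_ok134 : ∀ x, 22141 ≤ x → x < 22307 → cSuz2.rowOK x = true :=
  VCert.of_range' _ 22141 22307 (by decide +kernel)

theorem cSuz2_ok176 : ∀ x, 29081 ≤ x → x < 29247 → cSuz2.rowOK x = true :=
  VCert.of_range' _ 29081 29247 (by decide +kernel)

theorem cSuz2_act4 : ∀ x, 331 ≤ x → x < 414 → cSuz2.actRow x = true :=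
  VCert.of_range' _ 331 414 (by decide +kernel)

theorem cSuz2_act15 : ∀ x, 1243 ≤ x → x < 1326 → cSuz2.actRow x = true :=
  VCert.of_range' _ 1243 1326 (by decide +kernel)

theorem cSuz2_act26 : ∀ x, 2155 ≤ x → x < 2238 → cSuz2.actRow x = true :=
  VCert.of_range' _ 2155 2238 (by decide +kernel)

theorem cSuz2_act37 : ∀ x, 3067 ≤ x → x < 3150 → cSuz2.actRow x = true :=
  VCert.of_range' _ 3067 3150 (by decide +kernel)

theorem cSuz2_act48 : ∀ x, 3979 ≤ x → x < 4062 → cSuz2.actRow x = true :=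
  VCert.of_range' _ 3979 4062 (by decide +kernel)

theorem cSuz2_act60 : ∀ x, 4973 ≤ x → x < 5056 → cSuz2.actRow x = true :=
  VCert.of_range' _ 4973 5056 (by decide +kernel)

theorem cSuz2_act71 : ∀ x, 5885 ≤ x → x < 5968 → cSuz2.actRow x = true :=
  VCert.of_range' _ 5885 5968 (by decide +kernel)

theorem cSuz2_act82 : ∀ x, 6797 ≤ x → x < 6880 → cSuz2.actRow x = true :=
  VCert.of_range' _ 6797 6880 (by decide +kernel)

theorem cSuz2_act93 : ∀ x, 7709 ≤ x → x < 7792 → cSuz2.actRow x = true :=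
  VCert.of_range' _ 7709 7792 (by decide +kernel)

theorem cSuz2_act104 : ∀ x, 8621 ≤ x → x < 8704 → cSuz2.actRow x = true :=
  VCert.of_range' _ 8621 8704 (by decide +kernel)

theorem cSuz2_act115 : ∀ x, 9533 ≤ x → x < 9616 → cSuz2.actRow x = true :=
  VCert.of_range' _ 9533 9616 (by decide +kernel)

theorem cSuz2_act126 : ∀ x, 10445 ≤ x → x < 10528 → cSuz2.actRow x = true :=
  VCert.of_range' _ 10445 10528 (by decide +kernel)

theorem cSuz2_act137 : ∀ x, 11357 ≤ x → x < 11440 → cSuz2.actRow x = true :=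
  VCert.of_range' _ 11357 11440 (by decide +kernel)

theorem cSuz2_act149 : ∀ x, 12351 ≤ x → x < 12434 → cSuz2.actRow x = true :=
  VCert.of_range' _ 12351 12434 (by decide +kernel)

theorem cSuz2_act160 : ∀ x, 13263 ≤ x → x < 13346 → cSuz2.actRow x = true :=
  VCert.of_range' _ 13263 13346 (by decide +kernel)

theorem cSuz2_act171 : ∀ x, 14175 ≤ x → x < 14258 → cSuz2.actRow x = true :=
  VCert.of_range' _ 14175 14258 (by decide +kernel)

theorem cSuz2_act182 : ∀ x, 15087 ≤ x → x < 15170 → cSuz2.actRow x = true :=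
  VCert.of_range' _ 15087 15170 (by decide +kernel)

theorem cSuz2_act193 : ∀ x, 15999 ≤ x → x < 16082 → cSuz2.actRow x = true :=
  VCert.of_range' _ 15999 16082 (by decide +kernel)

theorem cSuz2_act204 : ∀ x, 16911 ≤ x → x < 16994 → cSuz2.actRow x = true :=
  VCert.of_range' _ 16911 16994 (by decide +kernel)

theorem cSuz2_act215 : ∀ x, 17823 ≤ x → x < 17906 → cSuz2.actRow x = true :=
  VCert.of_range' _ 17823 17906 (by decide +kernel)

theorem cSuz2_act227 : ∀ x, 18817 ≤ x → x < 18900 → cSuz2.actRow x = true :=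
  VCert.of_range' _ 18817 18900 (by decide +kernel)

theorem cSuz2_act238 : ∀ x, 19729 ≤ x → x < 19812 → cSuz2.actRow x = true :=
  VCert.of_range' _ 19729 19812 (by decide +kernel)

theorem cSuz2_act249 : ∀ x, 20641 ≤ x → x < 20724 → cSuz2.actRow x = true :=
  VCert.of_range' _ 20641 20724 (by decide +kernel)

theorem cSuz2_act260 : ∀ x, 21553 ≤ x → x < 21636 → cSuz2.actRow x = true :=
  VCert.of_range' _ 21553 21636 (by decide +kernel)

theorem cSuz2_act271 : ∀ x, 22465 ≤ x → x < 22548 → cSuz2.actRow x = true :=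
  VCert.of_range' _ 22465 22548 (by decide +kernel)

theorem cSuz2_ok13 : ∀ x, 2148 ≤ x → x < 2313 → cSuz2.rowOK x = true :=
  VCert.of_range' _ 2148 2313 (by decide +kernel)

theorem cSuz2_ok26 : ∀ x, 4296 ≤ x → x < 4461 → cSuz2.rowOK x = true :=
  VCert.of_range' _ 4296 4461 (by decide +kernel)

theorem cSuz2_ok39 : ∀ x, 6444 ≤ x → x < 6609 → cSuz2.rowOK x = true :=
  VCert.of_range' _ 6444 6609 (by decide +kernel)

theorem cSuz2_ok52 : ∀ x, 8592 ≤ x → x < 8757 → cSuz2.rowOK x = true :=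
  VCert.of_range' _ 8592 8757 (by decide +kernel)

theorem cSuz2_ok65 : ∀ x, 10740 ≤ x → x < 10905 → cSuz2.rowOK x = true :=
  VCert.of_range' _ 10740 10905 (by decide +kernel)

theorem cSuz2_ok78 : ∀ x, 12888 ≤ x → x < 13053 → cSuz2.rowOK x = true :=
  VCert.of_range' _ 12888 13053 (by decide +kernel)

theorem cSuz2_ok91 : ∀ x, 15036 ≤ x → x < 15201 → cSuz2.rowOK x = true :=
  VCert.of_range' _ 15036 15201 (by decide +kernel)

theorem cSuz2_ok104 : ∀ x, 17184 ≤ x → x < 17349 → cSuz2.rowOK x = true :=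
  VCert.of_range' _ 17184 17349 (by decide +kernel)

theorem cSuz2_ok118 : ∀ x, 19498 ≤ x → x < 19663 → cSuz2.rowOK x = true :=
  VCert.of_range' _ 19498 19663 (by decide +kernel)

theorem cSuz2_ok131 : ∀ x, 21646 ≤ x → x < 21811 → cSuz2.rowOK x = true :=
  VCert.of_range' _ 21646 21811 (by decide +kernel)

theorem cSuz2_ok144 : ∀ x, 23794 ≤ x → x < 23959 → cSuz2.rowOK x = true :=
  VCert.of_range' _ 23794 23959 (by decide +kernel)

theorem cSuz2_ok157 : ∀ x, 25942 ≤ x → x < 26107 → cSuz2.rowOK x = true :=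
  VCert.of_range' _ 25942 26107 (by decide +kernel)

theorem cSuz2_ok170 : ∀ x, 28090 ≤ x → x < 28255 → cSuz2.rowOK x = true :=
  VCert.of_range' _ 28090 28255 (by decide +kernel)

theorem cSuz2_ok183 : ∀ x, 30238 ≤ x → x < 30403 → cSuz2.rowOK x = true :=
  VCert.of_range' _ 30238 30403 (by decide +kernel)

theorem cSuz2_ok196 : ∀ x, 32386 ≤ x → x < 32551 → cSuz2.rowOK x = true :=
  VCert.of_range' _ 32386 32551 (by decide +kernel)

theorem cSuz2_act69 : ∀ x, 5720 ≤ x → x < 5802 → cSuz2.actRow x = true :=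
  VCert.of_range' _ 5720 5802 (by decide +kernel)

theorem cSuz2_act167 : ∀ x, 13844 ≤ x → x < 13926 → cSuz2.actRow x = true :=
  VCert.of_range' _ 13844 13926 (by decide +kernel)

theorem cSuz2_act266 : ∀ x, 22051 ≤ x → x < 22133 → cSuz2.actRow x = true :=
  VCert.of_range' _ 22051 22133 (by decide +kernel)

theorem oSuz2_tr1_8 : ∀ x, 15253 ≤ x → x < 17160 → oSuz2.treeRow cSuz2 1 1 x = true :=
  VCert.of_range' _ 15253 17160 (by decide +kernel)

theorem oSuz2_tr2_5 : ∀ x, 9533 ≤ x → x < 11440 → oSuz2.treeRow cSuz2 10 2 x = true :=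
  VCert.of_range' _ 9533 11440 (by decide +kernel)

theorem oSuz2_tr3_8 : ∀ x, 15253 ≤ x → x < 17160 → oSuz2.treeRow cSuz2 67 3 x = true :=
  VCert.of_range' _ 15253 17160 (by decide +kernel)

theorem oSuz2_tr4_11 : ∀ x, 20973 ≤ x → x < 22880 → oSuz2.treeRow cSuz2 7122 4 x = true :=
  VCert.of_range' _ 20973 22880 (by decide +kernel)

theorem oSuz2_tr3_3 : ∀ x, 5720 ≤ x → x < 7626 → oSuz2.treeRow cSuz2 67 3 x = true :=
  VCert.of_range' _ 5720 7626 (by decide +kernel)

theorem cSuz2_finn10 : ∀ x, 30343 ≤ x → x < 33378 → cSuz2.finNode x = true :=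
  VCert.of_range' _ 30343 33378 (by decide +kernel)


end Cfsg.Agent.Lib.Lead.VTC
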