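import Cfsg.Agent.Lib.Lead.VTCSuz2Q0
import Cfsg.Agent.Lib.Lead.VTCSuz2Q1
import Cfsg.Agent.Lib.Lead.VTCSuz2Q2
import Cfsg.Agent.Lib.Lead.VTCSuz2Q3
import Cfsg.Agent.Lib.Lead.VTCSuz2Q4
import Cfsg.Agent.Lib.Lead.VTCSuz2Q5
import Cfsg.Agent.Lib.Lead.VTCSuz2Q6
import Cfsg.Agent.Lib.Lead.VTCSuz2Q7
import Cfsg.Agent.Lib.Lead.VTCSuz2Q8
import Cfsg.Agent.Lib.Lead.VTCSuz2Q9

set_option autoImplicit false
set_option maxRecDepth 100000

namespace Cfsg.Agent.Lib.Lead.VTC

theorem cSuz2_base : cSuz2.baseOK = true := by decide +kernel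

theorem cSuz2_okG0 : ∀ x, 0 ≤ x → x < 2643 → cSuz2.rowOK x = true := by
  intro x hlo hhi
  by_cases h0 : x < 165
  · exact cSuz2_ok0 x (by omega) h0
  by_cases h1 : x < 330
  · exact cSuz2_ok1 x (by omega) h1
  by_cases h2 : x < 495
  · exact cSuz2_ok2 x (by omega) h2
  by_cases h3 : x < 660
  · exact cSuz2_ok3 x (by omega) h3
  by_cases h4 : x < 826
  · exact cSuz2_ok4 x (by omega) h4
  by_cases h5 : x < 991
  · exact cSuz2_ok5 x (by omega) h5
  by_cases h6 : x < 1156
  · exact cSuz2_ok6 x (by omega) h6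
  by_cases h7 : x < 1321
  · exact cSuz2_ok7 x (by omega) h7
  by_cases h8 : x < 1487
  · exact cSuz2_ok8 x (by omega) h8
  by_cases h9 : x < 1652
  · exact cSuz2_ok9 x (by omega) h9
  by_cases h10 : x < 1817
  · exact cSuz2_ok10 x (by omega) h10
  by_cases h11 : x < 1982
  · exact cSuz2_ok11 x (by omega) h11
  by_cases h12 : x < 2148
  · exact cSuz2_ok12 x (by omega) h12
  by_cases h13 : x < 2313
  · exact cSuz2_ok13 x (by omega) h13
  by_cases h14 : x < 2478
  · exact cSuz2_ok14 x (by omega) h14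
  exact cSuz2_ok15 x (by omega) hhi

theorem cSuz2_okG1 : ∀ x, 2643 ≤ x → x < 5287 → cSuz2.rowOK x = true := by
  intro x hlo hhi
  by_cases h0 : x < 2809
  · exact cSuz2_ok16 x (by omega) h0
  by_cases h1 : x < 2974
  · exact cSuz2_ok17 x (by omega) h1
  by_cases h2 : x < 3139
  · exact cSuz2_ok18 x (by omega) h2
  by_cases h3 : x < 3304
  · exact cSuz2_ok19 x (by omega) h3
  by_cases h4 : x < 3469
  · exact cSuz2_ok20 x (by omega) h4
  by_cases h5 : x < 3635
  · exact cSuz2_ok21 x (by omega) h5
  by_cases h6 : x < 3800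
  · exact cSuz2_ok22 x (by omega) h6
  by_cases h7 : x < 3965
  · exact cSuz2_ok23 x (by omega) h7
  by_cases h8 : x < 4130
  · exact cSuz2_ok24 x (by omega) h8
  by_cases h9 : x < 4296
  · exact cSuz2_ok25 x (by omega) h9
  by_cases h10 : x < 4461
  · exact cSuz2_ok26 x (by omega) h10
  by_cases h11 : x < 4626
  · exact cSuz2_ok27 x (by omega) h11
  by_cases h12 : x < 4791
  · exact cSuz2_ok28 x (by omega) h12
  by_cases h13 : x < 4957
  · exact cSuz2_ok29 x (by omega) h13
  by_cases h14 : x < 5122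
  · exact cSuz2_ok30 x (by omega) h14
  exact cSuz2_ok31 x (by omega) hhi

theorem cSuz2_okG2 : ∀ x, 5287 ≤ x → x < 7931 → cSuz2.rowOK x = true := by
  intro x hlo hhi
  by_cases h0 : x < 5452
  · exact cSuz2_ok32 x (by omega) h0
  by_cases h1 : x < 5618
  · exact cSuz2_ok33 x (by omega) h1
  by_cases h2 : x < 5783
  · exact cSuz2_ok34 x (by omega) h2
  by_cases h3 : x < 5948
  · exact cSuz2_ok35 x (by omega) h3
  by_cases h4 : x < 6113
  · exact cSuz2_ok36 x (by omega) h4
  by_cases h5 : x < 6279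
  · exact cSuz2_ok37 x (by omega) h5
  by_cases h6 : x < 6444
  · exact cSuz2_ok38 x (by omega) h6
  by_cases h7 : x < 6609
  · exact cSuz2_ok39 x (by omega) h7
  by_cases h8 : x < 6774
  · exact cSuz2_ok40 x (by omega) h8
  by_cases h9 : x < 6939
  · exact cSuz2_ok41 x (by omega) h9
  by_cases h10 : x < 7105
  · exact cSuz2_ok42 x (by omega) h10
  by_cases h11 : x < 7270
  · exact cSuz2_ok43 x (by omega) h11
  by_cases h12 : x < 7435
  · exact cSuz2_ok44 x (by omega) h12
  by_cases h13 : x < 7600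
  · exact cSuz2_ok45 x (by omega) h13
  by_cases h14 : x < 7766
  · exact cSuz2_ok46 x (by omega) h14
  exact cSuz2_ok47 x (by omega) hhi

theorem cSuz2_okG3 : ∀ x, 7931 ≤ x → x < 10575 → cSuz2.rowOK x = true := by
  intro x hlo hhi
  by_cases h0 : x < 8096
  · exact cSuz2_ok48 x (by omega) h0
  by_cases h1 : x < 8261
  · exact cSuz2_ok49 x (by omega) h1
  by_cases h2 : x < 8427
  · exact cSuz2_ok50 x (by omega) h2
  by_cases h3 : x < 8592
  · exact cSuz2_ok51 x (by omega) h3
  by_cases h4 : x < 8757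
  · exact cSuz2_ok52 x (by omega) h4
  by_cases h5 : x < 8922
  · exact cSuz2_ok53 x (by omega) h5
  by_cases h6 : x < 9088
  · exact cSuz2_ok54 x (by omega) h6
  by_cases h7 : x < 9253
  · exact cSuz2_ok55 x (by omega) h7
  by_cases h8 : x < 9418
  · exact cSuz2_ok56 x (by omega) h8
  by_cases h9 : x < 9583
  · exact cSuz2_ok57 x (by omega) h9
  by_cases h10 : x < 9749
  · exact cSuz2_ok58 x (by omega) h10
  by_cases h11 : x < 9914
  · exact cSuz2_ok59 x (by omega) h11
  by_cases h12 : x < 10079
  · exact cSuz2_ok60 x (by omega) h12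
  by_cases h13 : x < 10244
  · exact cSuz2_ok61 x (by omega) h13
  by_cases h14 : x < 10409
  · exact cSuz2_ok62 x (by omega) h14
  exact cSuz2_ok63 x (by omega) hhi

theorem cSuz2_okG4 : ∀ x, 10575 ≤ x → x < 13219 → cSuz2.rowOK x = true := by
  intro x hlo hhi
  by_cases h0 : x < 10740
  · exact cSuz2_ok64 x (by omega) h0
  by_cases h1 : x < 10905
  · exact cSuz2_ok65 x (by omega) h1
  by_cases h2 : x < 11070
  · exact cSuz2_ok66 x (by omega) h2
  by_cases h3 : x < 11236
  · exact cSuz2_ok67 x (by omega) h3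
  by_cases h4 : x < 11401
  · exact cSuz2_ok68 x (by omega) h4
  by_cases h5 : x < 11566
  · exact cSuz2_ok69 x (by omega) h5
  by_cases h6 : x < 11731
  · exact cSuz2_ok70 x (by omega) h6
  by_cases h7 : x < 11897
  · exact cSuz2_ok71 x (by omega) h7
  by_cases h8 : x < 12062
  · exact cSuz2_ok72 x (by omega) h8
  by_cases h9 : x < 12227
  · exact cSuz2_ok73 x (by omega) h9
  by_cases h10 : x < 12392
  · exact cSuz2_ok74 x (by omega) h10
  by_cases h11 : x < 12558
  · exact cSuz2_ok75 x (by omega) h11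
  by_cases h12 : x < 12723
  · exact cSuz2_ok76 x (by omega) h12
  by_cases h13 : x < 12888
  · exact cSuz2_ok77 x (by omega) h13
  by_cases h14 : x < 13053
  · exact cSuz2_ok78 x (by omega) h14
  exact cSuz2_ok79 x (by omega) hhi

theorem cSuz2_okG5 : ∀ x, 13219 ≤ x → x < 15862 → cSuz2.rowOK x = true := by
  intro x hlo hhi
  by_cases h0 : x < 13384
  · exact cSuz2_ok80 x (by omega) h0
  by_cases h1 : x < 13549
  · exact cSuz2_ok81 x (by omega) h1
  by_cases h2 : x < 13714
  · exact cSuz2_ok82 x (by omega) h2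
  by_cases h3 : x < 13879
  · exact cSuz2_ok83 x (by omega) h3
  by_cases h4 : x < 14045
  · exact cSuz2_ok84 x (by omega) h4
  by_cases h5 : x < 14210
  · exact cSuz2_ok85 x (by omega) h5
  by_cases h6 : x < 14375
  · exact cSuz2_ok86 x (by omega) h6
  by_cases h7 : x < 14540
  · exact cSuz2_ok87 x (by omega) h7
  by_cases h8 : x < 14706
  · exact cSuz2_ok88 x (by omega) h8
  by_cases h9 : x < 14871
  · exact cSuz2_ok89 x (by omega) h9
  by_cases h10 : x < 15036
  · exact cSuz2_ok90 x (by omega) h10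
  by_cases h11 : x < 15201
  · exact cSuz2_ok91 x (by omega) h11
  by_cases h12 : x < 15367
  · exact cSuz2_ok92 x (by omega) h12
  by_cases h13 : x < 15532
  · exact cSuz2_ok93 x (by omega) h13
  by_cases h14 : x < 15697
  · exact cSuz2_ok94 x (by omega) h14
  exact cSuz2_ok95 x (by omega) hhi

theorem cSuz2_okG6 : ∀ x, 15862 ≤ x → x < 18506 → cSuz2.rowOK x = true := by
  intro x hlo hhi
  by_cases h0 : x < 16028
  · exact cSuz2_ok96 x (by omega) h0
  by_cases h1 : x < 16193
  · exact cSuz2_ok97 x (by omega) h1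
  by_cases h2 : x < 16358
  · exact cSuz2_ok98 x (by omega) h2
  by_cases h3 : x < 16523
  · exact cSuz2_ok99 x (by omega) h3
  by_cases h4 : x < 16689
  · exact cSuz2_ok100 x (by omega) h4
  by_cases h5 : x < 16854
  · exact cSuz2_ok101 x (by omega) h5
  by_cases h6 : x < 17019
  · exact cSuz2_ok102 x (by omega) h6
  by_cases h7 : x < 17184
  · exact cSuz2_ok103 x (by omega) h7
  by_cases h8 : x < 17349
  · exact cSuz2_ok104 x (by omega) h8
  by_cases h9 : x < 17515
  · exact cSuz2_ok105 x (by omega) h9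
  by_cases h10 : x < 17680
  · exact cSuz2_ok106 x (by omega) h10
  by_cases h11 : x < 17845
  · exact cSuz2_ok107 x (by omega) h11
  by_cases h12 : x < 18010
  · exact cSuz2_ok108 x (by omega) h12
  by_cases h13 : x < 18176
  · exact cSuz2_ok109 x (by omega) h13
  by_cases h14 : x < 18341
  · exact cSuz2_ok110 x (by omega) h14
  exact cSuz2_ok111 x (by omega) hhi

theorem cSuz2_okG7 : ∀ x, 18506 ≤ x → x < 21150 → cSuz2.rowOK x = true := by
  intro x hlo hhi
  by_cases h0 : x < 18671
  · exact cSuz2_ok112 x (by omega) h0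
  by_cases h1 : x < 18837
  · exact cSuz2_ok113 x (by omega) h1
  by_cases h2 : x < 19002
  · exact cSuz2_ok114 x (by omega) h2
  by_cases h3 : x < 19167
  · exact cSuz2_ok115 x (by omega) h3
  by_cases h4 : x < 19332
  · exact cSuz2_ok116 x (by omega) h4
  by_cases h5 : x < 19498
  · exact cSuz2_ok117 x (by omega) h5
  by_cases h6 : x < 19663
  · exact cSuz2_ok118 x (by omega) h6
  by_cases h7 : x < 19828
  · exact cSuz2_ok119 x (by omega) h7
  by_cases h8 : x < 19993
  · exact cSuz2_ok120 x (by omega) h8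
  by_cases h9 : x < 20158
  · exact cSuz2_ok121 x (by omega) h9
  by_cases h10 : x < 20324
  · exact cSuz2_ok122 x (by omega) h10
  by_cases h11 : x < 20489
  · exact cSuz2_ok123 x (by omega) h11
  by_cases h12 : x < 20654
  · exact cSuz2_ok124 x (by omega) h12
  by_cases h13 : x < 20819
  · exact cSuz2_ok125 x (by omega) h13
  by_cases h14 : x < 20985
  · exact cSuz2_ok126 x (by omega) h14
  exact cSuz2_ok127 x (by omega) hhi

theorem cSuz2_okG8 : ∀ x, 21150 ≤ x → x < 23794 → cSuz2.rowOK x = true := by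
  intro x hlo hhi
  by_cases h0 : x < 21315
  · exact cSuz2_ok128 x (by omega) h0
  by_cases h1 : x < 21480
  · exact cSuz2_ok129 x (by omega) h1
  by_cases h2 : x < 21646
  · exact cSuz2_ok130 x (by omega) h2
  by_cases h3 : x < 21811
  · exact cSuz2_ok131 x (by omega) h3
  by_cases h4 : x < 21976
  · exact cSuz2_ok132 x (by omega) h4
  by_cases h5 : x < 22141
  · exact cSuz2_ok133 x (by omega) h5
  by_cases h6 : x < 22307
  · exact cSuz2_ok134 x (by omega) h6
  by_cases h7 : x < 22472
  · exact cSuz2_ok135 x (by omega) h7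
  by_cases h8 : x < 22637
  · exact cSuz2_ok136 x (by omega) h8
  by_cases h9 : x < 22802
  · exact cSuz2_ok137 x (by omega) h9
  by_cases h10 : x < 22968
  · exact cSuz2_ok138 x (by omega) h10
  by_cases h11 : x < 23133
  · exact cSuz2_ok139 x (by omega) h11
  by_cases h12 : x < 23298
  · exact cSuz2_ok140 x (by omega) h12
  by_cases h13 : x < 23463
  · exact cSuz2_ok141 x (by omega) h13
  by_cases h14 : x < 23628
  · exact cSuz2_ok142 x (by omega) h14
  exact cSuz2_ok143 x (by omega) hhi

theorem cSuz2_okG9 : ∀ x, 23794 ≤ x → x < 26438 → cSuz2.rowOK x = true := by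
  intro x hlo hhi
  by_cases h0 : x < 23959
  · exact cSuz2_ok144 x (by omega) h0
  by_cases h1 : x < 24124
  · exact cSuz2_ok145 x (by omega) h1
  by_cases h2 : x < 24289
  · exact cSuz2_ok146 x (by omega) h2
  by_cases h3 : x < 24455
  · exact cSuz2_ok147 x (by omega) h3
  by_cases h4 : x < 24620
  · exact cSuz2_ok148 x (by omega) h4
  by_cases h5 : x < 24785
  · exact cSuz2_ok149 x (by omega) h5
  by_cases h6 : x < 24950
  · exact cSuz2_ok150 x (by omega) h6
  by_cases h7 : x < 25116
  · exact cSuz2_ok151 x (by omega) h7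
  by_cases h8 : x < 25281
  · exact cSuz2_ok152 x (by omega) h8
  by_cases h9 : x < 25446
  · exact cSuz2_ok153 x (by omega) h9
  by_cases h10 : x < 25611
  · exact cSuz2_ok154 x (by omega) h10
  by_cases h11 : x < 25777
  · exact cSuz2_ok155 x (by omega) h11
  by_cases h12 : x < 25942
  · exact cSuz2_ok156 x (by omega) h12
  by_cases h13 : x < 26107
  · exact cSuz2_ok157 x (by omega) h13
  by_cases h14 : x < 26272
  · exact cSuz2_ok158 x (by omega) h14
  exact cSuz2_ok159 x (by omega) hhi

theorem cSuz2_okG10 : ∀ x, 26438 ≤ x → x < 29081 → cSuz2.rowOK x = true := by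
  intro x hlo hhi
  by_cases h0 : x < 26603
  · exact cSuz2_ok160 x (by omega) h0
  by_cases h1 : x < 26768
  · exact cSuz2_ok161 x (by omega) h1
  by_cases h2 : x < 26933
  · exact cSuz2_ok162 x (by omega) h2
  by_cases h3 : x < 27098
  · exact cSuz2_ok163 x (by omega) h3
  by_cases h4 : x < 27264
  · exact cSuz2_ok164 x (by omega) h4
  by_cases h5 : x < 27429
  · exact cSuz2_ok165 x (by omega) h5
  by_cases h6 : x < 27594
  · exact cSuz2_ok166 x (by omega) h6
  by_cases h7 : x < 27759
  · exact cSuz2_ok167 x (by omega) h7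
  by_cases h8 : x < 27925
  · exact cSuz2_ok168 x (by omega) h8
  by_cases h9 : x < 28090
  · exact cSuz2_ok169 x (by omega) h9
  by_cases h10 : x < 28255
  · exact cSuz2_ok170 x (by omega) h10
  by_cases h11 : x < 28420
  · exact cSuz2_ok171 x (by omega) h11
  by_cases h12 : x < 28586
  · exact cSuz2_ok172 x (by omega) h12
  by_cases h13 : x < 28751
  · exact cSuz2_ok173 x (by omega) h13
  by_cases h14 : x < 28916
  · exact cSuz2_ok174 x (by omega) h14
  exact cSuz2_ok175 x (by omega) hhi

theorem cSuz2_okG11 : ∀ x, 29081 ≤ x → x < 31725 → cSuz2.rowOK x = true := by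
  intro x hlo hhi
  by_cases h0 : x < 29247
  · exact cSuz2_ok176 x (by omega) h0
  by_cases h1 : x < 29412
  · exact cSuz2_ok177 x (by omega) h1
  by_cases h2 : x < 29577
  · exact cSuz2_ok178 x (by omega) h2
  by_cases h3 : x < 29742
  · exact cSuz2_ok179 x (by omega) h3
  by_cases h4 : x < 29908
  · exact cSuz2_ok180 x (by omega) h4
  by_cases h5 : x < 30073
  · exact cSuz2_ok181 x (by omega) h5
  by_cases h6 : x < 30238
  · exact cSuz2_ok182 x (by omega) h6
  by_cases h7 : x < 30403
  · exact cSuz2_ok183 x (by omega) h7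
  by_cases h8 : x < 30568
  · exact cSuz2_ok184 x (by omega) h8
  by_cases h9 : x < 30734
  · exact cSuz2_ok185 x (by omega) h9
  by_cases h10 : x < 30899
  · exact cSuz2_ok186 x (by omega) h10
  by_cases h11 : x < 31064
  · exact cSuz2_ok187 x (by omega) h11
  by_cases h12 : x < 31229
  · exact cSuz2_ok188 x (by omega) h12
  by_cases h13 : x < 31395
  · exact cSuz2_ok189 x (by omega) h13
  by_cases h14 : x < 31560
  · exact cSuz2_ok190 x (by omega) h14
  exact cSuz2_ok191 x (by omega) hhi

theorem cSuz2_okG12 : ∀ x, 31725 ≤ x → x < 33378 → cSuz2.rowOK x = true := by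
  intro x hlo hhi
  by_cases h0 : x < 31890
  · exact cSuz2_ok192 x (by omega) h0
  by_cases h1 : x < 32056
  · exact cSuz2_ok193 x (by omega) h1
  by_cases h2 : x < 32221
  · exact cSuz2_ok194 x (by omega) h2
  by_cases h3 : x < 32386
  · exact cSuz2_ok195 x (by omega) h3
  by_cases h4 : x < 32551
  · exact cSuz2_ok196 x (by omega) h4
  by_cases h5 : x < 32717
  · exact cSuz2_ok197 x (by omega) h5
  by_cases h6 : x < 32882
  · exact cSuz2_ok198 x (by omega) h6
  by_cases h7 : x < 33047
  · exact cSuz2_ok199 x (by omega) h7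
  by_cases h8 : x < 33212
  · exact cSuz2_ok200 x (by omega) h8
  exact cSuz2_ok201 x (by omega) hhi

theorem cSuz2_Ok : cSuz2.Ok := by
  refine ⟨cSuz2_base, ?_⟩
  intro x hx
  by_cases h0 : x < 2643
  · exact cSuz2_okG0 x (by omega) h0
  by_cases h1 : x < 5287
  · exact cSuz2_okG1 x (by omega) h1
  by_cases h2 : x < 7931
  · exact cSuz2_okG2 x (by omega) h2
  by_cases h3 : x < 10575
  · exact cSuz2_okG3 x (by omega) h3
  by_cases h4 : x < 13219
  · exact cSuz2_okG4 x (by omega) h4
  by_cases h5 : x < 15862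
  · exact cSuz2_okG5 x (by omega) h5
  by_cases h6 : x < 18506
  · exact cSuz2_okG6 x (by omega) h6
  by_cases h7 : x < 21150
  · exact cSuz2_okG7 x (by omega) h7
  by_cases h8 : x < 23794
  · exact cSuz2_okG8 x (by omega) h8
  by_cases h9 : x < 26438
  · exact cSuz2_okG9 x (by omega) h9
  by_cases h10 : x < 29081
  · exact cSuz2_okG10 x (by omega) h10
  by_cases h11 : x < 31725
  · exact cSuz2_okG11 x (by omega) h11
  exact cSuz2_okG12 x (by omega) hx

theorem cSuz2_actBase : cSuz2.actBase = true := by decide +kernel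

theorem cSuz2_actG0 : ∀ x, 0 ≤ x → x < 1326 → cSuz2.actRow x = true := by
  intro x hlo hhi
  by_cases h0 : x < 82
  · exact cSuz2_act0 x (by omega) h0
  by_cases h1 : x < 165
  · exact cSuz2_act1 x (by omega) h1
  by_cases h2 : x < 248
  · exact cSuz2_act2 x (by omega) h2
  by_cases h3 : x < 331
  · exact cSuz2_act3 x (by omega) h3
  by_cases h4 : x < 414
  · exact cSuz2_act4 x (by omega) h4
  by_cases h5 : x < 497
  · exact cSuz2_act5 x (by omega) h5
  by_cases h6 : x < 580
  · exact cSuz2_act6 x (by omega) h6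
  by_cases h7 : x < 663
  · exact cSuz2_act7 x (by omega) h7
  by_cases h8 : x < 746
  · exact cSuz2_act8 x (by omega) h8
  by_cases h9 : x < 828
  · exact cSuz2_act9 x (by omega) h9
  by_cases h10 : x < 911
  · exact cSuz2_act10 x (by omega) h10
  by_cases h11 : x < 994
  · exact cSuz2_act11 x (by omega) h11
  by_cases h12 : x < 1077
  · exact cSuz2_act12 x (by omega) h12
  by_cases h13 : x < 1160
  · exact cSuz2_act13 x (by omega) h13
  by_cases h14 : x < 1243
  · exact cSuz2_act14 x (by omega) h14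
  exact cSuz2_act15 x (by omega) hhi

theorem cSuz2_actG1 : ∀ x, 1326 ≤ x → x < 2652 → cSuz2.actRow x = true := by
  intro x hlo hhi
  by_cases h0 : x < 1409
  · exact cSuz2_act16 x (by omega) h0
  by_cases h1 : x < 1492
  · exact cSuz2_act17 x (by omega) h1
  by_cases h2 : x < 1575
  · exact cSuz2_act18 x (by omega) h2
  by_cases h3 : x < 1657
  · exact cSuz2_act19 x (by omega) h3
  by_cases h4 : x < 1740
  · exact cSuz2_act20 x (by omega) h4
  by_cases h5 : x < 1823
  · exact cSuz2_act21 x (by omega) h5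
  by_cases h6 : x < 1906
  · exact cSuz2_act22 x (by omega) h6
  by_cases h7 : x < 1989
  · exact cSuz2_act23 x (by omega) h7
  by_cases h8 : x < 2072
  · exact cSuz2_act24 x (by omega) h8
  by_cases h9 : x < 2155
  · exact cSuz2_act25 x (by omega) h9
  by_cases h10 : x < 2238
  · exact cSuz2_act26 x (by omega) h10
  by_cases h11 : x < 2321
  · exact cSuz2_act27 x (by omega) h11
  by_cases h12 : x < 2404
  · exact cSuz2_act28 x (by omega) h12
  by_cases h13 : x < 2486
  · exact cSuz2_act29 x (by omega) h13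
  by_cases h14 : x < 2569
  · exact cSuz2_act30 x (by omega) h14
  exact cSuz2_act31 x (by omega) hhi

theorem cSuz2_actG2 : ∀ x, 2652 ≤ x → x < 3979 → cSuz2.actRow x = true := by
  intro x hlo hhi
  by_cases h0 : x < 2735
  · exact cSuz2_act32 x (by omega) h0
  by_cases h1 : x < 2818
  · exact cSuz2_act33 x (by omega) h1
  by_cases h2 : x < 2901
  · exact cSuz2_act34 x (by omega) h2
  by_cases h3 : x < 2984
  · exact cSuz2_act35 x (by omega) h3
  by_cases h4 : x < 3067
  · exact cSuz2_act36 x (by omega) h4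
  by_cases h5 : x < 3150
  · exact cSuz2_act37 x (by omega) h5
  by_cases h6 : x < 3233
  · exact cSuz2_act38 x (by omega) h6
  by_cases h7 : x < 3315
  · exact cSuz2_act39 x (by omega) h7
  by_cases h8 : x < 3398
  · exact cSuz2_act40 x (by omega) h8
  by_cases h9 : x < 3481
  · exact cSuz2_act41 x (by omega) h9
  by_cases h10 : x < 3564
  · exact cSuz2_act42 x (by omega) h10
  by_cases h11 : x < 3647
  · exact cSuz2_act43 x (by omega) h11
  by_cases h12 : x < 3730
  · exact cSuz2_act44 x (by omega) h12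
  by_cases h13 : x < 3813
  · exact cSuz2_act45 x (by omega) h13
  by_cases h14 : x < 3896
  · exact cSuz2_act46 x (by omega) h14
  exact cSuz2_act47 x (by omega) hhi

theorem cSuz2_actG3 : ∀ x, 3979 ≤ x → x < 5305 → cSuz2.actRow x = true := by
  intro x hlo hhi
  by_cases h0 : x < 4062
  · exact cSuz2_act48 x (by omega) h0
  by_cases h1 : x < 4144
  · exact cSuz2_act49 x (by omega) h1
  by_cases h2 : x < 4227
  · exact cSuz2_act50 x (by omega) h2
  by_cases h3 : x < 4310
  · exact cSuz2_act51 x (by omega) h3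
  by_cases h4 : x < 4393
  · exact cSuz2_act52 x (by omega) h4
  by_cases h5 : x < 4476
  · exact cSuz2_act53 x (by omega) h5
  by_cases h6 : x < 4559
  · exact cSuz2_act54 x (by omega) h6
  by_cases h7 : x < 4642
  · exact cSuz2_act55 x (by omega) h7
  by_cases h8 : x < 4725
  · exact cSuz2_act56 x (by omega) h8
  by_cases h9 : x < 4808
  · exact cSuz2_act57 x (by omega) h9
  by_cases h10 : x < 4891
  · exact cSuz2_act58 x (by omega) h10
  by_cases h11 : x < 4973
  · exact cSuz2_act59 x (by omega) h11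
  by_cases h12 : x < 5056
  · exact cSuz2_act60 x (by omega) h12
  by_cases h13 : x < 5139
  · exact cSuz2_act61 x (by omega) h13
  by_cases h14 : x < 5222
  · exact cSuz2_act62 x (by omega) h14
  exact cSuz2_act63 x (by omega) hhi

theorem cSuz2_actG4 : ∀ x, 5305 ≤ x → x < 6631 → cSuz2.actRow x = true := by
  intro x hlo hhi
  by_cases h0 : x < 5388
  · exact cSuz2_act64 x (by omega) h0
  by_cases h1 : x < 5471
  · exact cSuz2_act65 x (by omega) h1
  by_cases h2 : x < 5554
  · exact cSuz2_act66 x (by omega) h2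
  by_cases h3 : x < 5637
  · exact cSuz2_act67 x (by omega) h3
  by_cases h4 : x < 5720
  · exact cSuz2_act68 x (by omega) h4
  by_cases h5 : x < 5802
  · exact cSuz2_act69 x (by omega) h5
  by_cases h6 : x < 5885
  · exact cSuz2_act70 x (by omega) h6
  by_cases h7 : x < 5968
  · exact cSuz2_act71 x (by omega) h7
  by_cases h8 : x < 6051
  · exact cSuz2_act72 x (by omega) h8
  by_cases h9 : x < 6134
  · exact cSuz2_act73 x (by omega) h9
  by_cases h10 : x < 6217
  · exact cSuz2_act74 x (by omega) h10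
  by_cases h11 : x < 6300
  · exact cSuz2_act75 x (by omega) h11
  by_cases h12 : x < 6383
  · exact cSuz2_act76 x (by omega) h12
  by_cases h13 : x < 6466
  · exact cSuz2_act77 x (by omega) h13
  by_cases h14 : x < 6548
  · exact cSuz2_act78 x (by omega) h14
  exact cSuz2_act79 x (by omega) hhi

theorem cSuz2_actG5 : ∀ x, 6631 ≤ x → x < 7958 → cSuz2.actRow x = true := by
  intro x hlo hhi
  by_cases h0 : x < 6714
  · exact cSuz2_act80 x (by omega) h0
  by_cases h1 : x < 6797
  · exact cSuz2_act81 x (by omega) h1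
  by_cases h2 : x < 6880
  · exact cSuz2_act82 x (by omega) h2
  by_cases h3 : x < 6963
  · exact cSuz2_act83 x (by omega) h3
  by_cases h4 : x < 7046
  · exact cSuz2_act84 x (by omega) h4
  by_cases h5 : x < 7129
  · exact cSuz2_act85 x (by omega) h5
  by_cases h6 : x < 7212
  · exact cSuz2_act86 x (by omega) h6
  by_cases h7 : x < 7295
  · exact cSuz2_act87 x (by omega) h7
  by_cases h8 : x < 7377
  · exact cSuz2_act88 x (by omega) h8
  by_cases h9 : x < 7460
  · exact cSuz2_act89 x (by omega) h9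
  by_cases h10 : x < 7543
  · exact cSuz2_act90 x (by omega) h10
  by_cases h11 : x < 7626
  · exact cSuz2_act91 x (by omega) h11
  by_cases h12 : x < 7709
  · exact cSuz2_act92 x (by omega) h12
  by_cases h13 : x < 7792
  · exact cSuz2_act93 x (by omega) h13
  by_cases h14 : x < 7875
  · exact cSuz2_act94 x (by omega) h14
  exact cSuz2_act95 x (by omega) hhi

theorem cSuz2_actG6 : ∀ x, 7958 ≤ x → x < 9284 → cSuz2.actRow x = true := by
  intro x hlo hhi
  by_cases h0 : x < 8041
  · exact cSuz2_act96 x (by omega) h0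
  by_cases h1 : x < 8124
  · exact cSuz2_act97 x (by omega) h1
  by_cases h2 : x < 8206
  · exact cSuz2_act98 x (by omega) h2
  by_cases h3 : x < 8289
  · exact cSuz2_act99 x (by omega) h3
  by_cases h4 : x < 8372
  · exact cSuz2_act100 x (by omega) h4
  by_cases h5 : x < 8455
  · exact cSuz2_act101 x (by omega) h5
  by_cases h6 : x < 8538
  · exact cSuz2_act102 x (by omega) h6
  by_cases h7 : x < 8621
  · exact cSuz2_act103 x (by omega) h7
  by_cases h8 : x < 8704
  · exact cSuz2_act104 x (by omega) h8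
  by_cases h9 : x < 8787
  · exact cSuz2_act105 x (by omega) h9
  by_cases h10 : x < 8870
  · exact cSuz2_act106 x (by omega) h10
  by_cases h11 : x < 8953
  · exact cSuz2_act107 x (by omega) h11
  by_cases h12 : x < 9035
  · exact cSuz2_act108 x (by omega) h12
  by_cases h13 : x < 9118
  · exact cSuz2_act109 x (by omega) h13
  by_cases h14 : x < 9201
  · exact cSuz2_act110 x (by omega) h14
  exact cSuz2_act111 x (by omega) hhi

theorem cSuz2_actG7 : ∀ x, 9284 ≤ x → x < 10611 → cSuz2.actRow x = true := by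
  intro x hlo hhi
  by_cases h0 : x < 9367
  · exact cSuz2_act112 x (by omega) h0
  by_cases h1 : x < 9450
  · exact cSuz2_act113 x (by omega) h1
  by_cases h2 : x < 9533
  · exact cSuz2_act114 x (by omega) h2
  by_cases h3 : x < 9616
  · exact cSuz2_act115 x (by omega) h3
  by_cases h4 : x < 9699
  · exact cSuz2_act116 x (by omega) h4
  by_cases h5 : x < 9782
  · exact cSuz2_act117 x (by omega) h5
  by_cases h6 : x < 9864
  · exact cSuz2_act118 x (by omega) h6
  by_cases h7 : x < 9947
  · exact cSuz2_act119 x (by omega) h7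
  by_cases h8 : x < 10030
  · exact cSuz2_act120 x (by omega) h8
  by_cases h9 : x < 10113
  · exact cSuz2_act121 x (by omega) h9
  by_cases h10 : x < 10196
  · exact cSuz2_act122 x (by omega) h10
  by_cases h11 : x < 10279
  · exact cSuz2_act123 x (by omega) h11
  by_cases h12 : x < 10362
  · exact cSuz2_act124 x (by omega) h12
  by_cases h13 : x < 10445
  · exact cSuz2_act125 x (by omega) h13
  by_cases h14 : x < 10528
  · exact cSuz2_act126 x (by omega) h14
  exact cSuz2_act127 x (by omega) hhi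

theorem cSuz2_actG8 : ∀ x, 10611 ≤ x → x < 11937 → cSuz2.actRow x = true := by
  intro x hlo hhi
  by_cases h0 : x < 10693
  · exact cSuz2_act128 x (by omega) h0
  by_cases h1 : x < 10776
  · exact cSuz2_act129 x (by omega) h1
  by_cases h2 : x < 10859
  · exact cSuz2_act130 x (by omega) h2
  by_cases h3 : x < 10942
  · exact cSuz2_act131 x (by omega) h3
  by_cases h4 : x < 11025
  · exact cSuz2_act132 x (by omega) h4
  by_cases h5 : x < 11108
  · exact cSuz2_act133 x (by omega) h5
  by_cases h6 : x < 11191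
  · exact cSuz2_act134 x (by omega) h6
  by_cases h7 : x < 11274
  · exact cSuz2_act135 x (by omega) h7
  by_cases h8 : x < 11357
  · exact cSuz2_act136 x (by omega) h8
  by_cases h9 : x < 11440
  · exact cSuz2_act137 x (by omega) h9
  by_cases h10 : x < 11522
  · exact cSuz2_act138 x (by omega) h10
  by_cases h11 : x < 11605
  · exact cSuz2_act139 x (by omega) h11
  by_cases h12 : x < 11688
  · exact cSuz2_act140 x (by omega) h12
  by_cases h13 : x < 11771
  · exact cSuz2_act141 x (by omega) h13
  by_cases h14 : x < 11854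
  · exact cSuz2_act142 x (by omega) h14
  exact cSuz2_act143 x (by omega) hhi

theorem cSuz2_actG9 : ∀ x, 11937 ≤ x → x < 13263 → cSuz2.actRow x = true := by
  intro x hlo hhi
  by_cases h0 : x < 12020
  · exact cSuz2_act144 x (by omega) h0
  by_cases h1 : x < 12103
  · exact cSuz2_act145 x (by omega) h1
  by_cases h2 : x < 12186
  · exact cSuz2_act146 x (by omega) h2
  by_cases h3 : x < 12268
  · exact cSuz2_act147 x (by omega) h3
  by_cases h4 : x < 12351
  · exact cSuz2_act148 x (by omega) h4
  by_cases h5 : x < 12434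
  · exact cSuz2_act149 x (by omega) h5
  by_cases h6 : x < 12517
  · exact cSuz2_act150 x (by omega) h6
  by_cases h7 : x < 12600
  · exact cSuz2_act151 x (by omega) h7
  by_cases h8 : x < 12683
  · exact cSuz2_act152 x (by omega) h8
  by_cases h9 : x < 12766
  · exact cSuz2_act153 x (by omega) h9
  by_cases h10 : x < 12849
  · exact cSuz2_act154 x (by omega) h10
  by_cases h11 : x < 12932
  · exact cSuz2_act155 x (by omega) h11
  by_cases h12 : x < 13015
  · exact cSuz2_act156 x (by omega) h12
  by_cases h13 : x < 13097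
  · exact cSuz2_act157 x (by omega) h13
  by_cases h14 : x < 13180
  · exact cSuz2_act158 x (by omega) h14
  exact cSuz2_act159 x (by omega) hhi

theorem cSuz2_actG10 : ∀ x, 13263 ≤ x → x < 14590 → cSuz2.actRow x = true := by
  intro x hlo hhi
  by_cases h0 : x < 13346
  · exact cSuz2_act160 x (by omega) h0
  by_cases h1 : x < 13429
  · exact cSuz2_act161 x (by omega) h1
  by_cases h2 : x < 13512
  · exact cSuz2_act162 x (by omega) h2
  by_cases h3 : x < 13595
  · exact cSuz2_act163 x (by omega) h3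
  by_cases h4 : x < 13678
  · exact cSuz2_act164 x (by omega) h4
  by_cases h5 : x < 13761
  · exact cSuz2_act165 x (by omega) h5
  by_cases h6 : x < 13844
  · exact cSuz2_act166 x (by omega) h6
  by_cases h7 : x < 13926
  · exact cSuz2_act167 x (by omega) h7
  by_cases h8 : x < 14009
  · exact cSuz2_act168 x (by omega) h8
  by_cases h9 : x < 14092
  · exact cSuz2_act169 x (by omega) h9
  by_cases h10 : x < 14175
  · exact cSuz2_act170 x (by omega) h10
  by_cases h11 : x < 14258
  · exact cSuz2_act171 x (by omega) h11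
  by_cases h12 : x < 14341
  · exact cSuz2_act172 x (by omega) h12
  by_cases h13 : x < 14424
  · exact cSuz2_act173 x (by omega) h13
  by_cases h14 : x < 14507
  · exact cSuz2_act174 x (by omega) h14
  exact cSuz2_act175 x (by omega) hhi

theorem cSuz2_actG11 : ∀ x, 14590 ≤ x → x < 15916 → cSuz2.actRow x = true := by
  intro x hlo hhi
  by_cases h0 : x < 14673
  · exact cSuz2_act176 x (by omega) h0
  by_cases h1 : x < 14755
  · exact cSuz2_act177 x (by omega) h1
  by_cases h2 : x < 14838
  · exact cSuz2_act178 x (by omega) h2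
  by_cases h3 : x < 14921
  · exact cSuz2_act179 x (by omega) h3
  by_cases h4 : x < 15004
  · exact cSuz2_act180 x (by omega) h4
  by_cases h5 : x < 15087
  · exact cSuz2_act181 x (by omega) h5
  by_cases h6 : x < 15170
  · exact cSuz2_act182 x (by omega) h6
  by_cases h7 : x < 15253
  · exact cSuz2_act183 x (by omega) h7
  by_cases h8 : x < 15336
  · exact cSuz2_act184 x (by omega) h8
  by_cases h9 : x < 15419
  · exact cSuz2_act185 x (by omega) h9
  by_cases h10 : x < 15502
  · exact cSuz2_act186 x (by omega) h10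
  by_cases h11 : x < 15584
  · exact cSuz2_act187 x (by omega) h11
  by_cases h12 : x < 15667
  · exact cSuz2_act188 x (by omega) h12
  by_cases h13 : x < 15750
  · exact cSuz2_act189 x (by omega) h13
  by_cases h14 : x < 15833
  · exact cSuz2_act190 x (by omega) h14
  exact cSuz2_act191 x (by omega) hhi

theorem cSuz2_actG12 : ∀ x, 15916 ≤ x → x < 17242 → cSuz2.actRow x = true := by
  intro x hlo hhi
  by_cases h0 : x < 15999
  · exact cSuz2_act192 x (by omega) h0
  by_cases h1 : x < 16082
  · exact cSuz2_act193 x (by omega) h1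
  by_cases h2 : x < 16165
  · exact cSuz2_act194 x (by omega) h2
  by_cases h3 : x < 16248
  · exact cSuz2_act195 x (by omega) h3
  by_cases h4 : x < 16331
  · exact cSuz2_act196 x (by omega) h4
  by_cases h5 : x < 16413
  · exact cSuz2_act197 x (by omega) h5
  by_cases h6 : x < 16496
  · exact cSuz2_act198 x (by omega) h6
  by_cases h7 : x < 16579
  · exact cSuz2_act199 x (by omega) h7
  by_cases h8 : x < 16662
  · exact cSuz2_act200 x (by omega) h8
  by_cases h9 : x < 16745
  · exact cSuz2_act201 x (by omega) h9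
  by_cases h10 : x < 16828
  · exact cSuz2_act202 x (by omega) h10
  by_cases h11 : x < 16911
  · exact cSuz2_act203 x (by omega) h11
  by_cases h12 : x < 16994
  · exact cSuz2_act204 x (by omega) h12
  by_cases h13 : x < 17077
  · exact cSuz2_act205 x (by omega) h13
  by_cases h14 : x < 17160
  · exact cSuz2_act206 x (by omega) h14
  exact cSuz2_act207 x (by omega) hhi

theorem cSuz2_actG13 : ∀ x, 17242 ≤ x → x < 18569 → cSuz2.actRow x = true := by
  intro x hlo hhi
  by_cases h0 : x < 17325
  · exact cSuz2_act208 x (by omega) h0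
  by_cases h1 : x < 17408
  · exact cSuz2_act209 x (by omega) h1
  by_cases h2 : x < 17491
  · exact cSuz2_act210 x (by omega) h2
  by_cases h3 : x < 17574
  · exact cSuz2_act211 x (by omega) h3
  by_cases h4 : x < 17657
  · exact cSuz2_act212 x (by omega) h4
  by_cases h5 : x < 17740
  · exact cSuz2_act213 x (by omega) h5
  by_cases h6 : x < 17823
  · exact cSuz2_act214 x (by omega) h6
  by_cases h7 : x < 17906
  · exact cSuz2_act215 x (by omega) h7
  by_cases h8 : x < 17988
  · exact cSuz2_act216 x (by omega) h8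
  by_cases h9 : x < 18071
  · exact cSuz2_act217 x (by omega) h9
  by_cases h10 : x < 18154
  · exact cSuz2_act218 x (by omega) h10
  by_cases h11 : x < 18237
  · exact cSuz2_act219 x (by omega) h11
  by_cases h12 : x < 18320
  · exact cSuz2_act220 x (by omega) h12
  by_cases h13 : x < 18403
  · exact cSuz2_act221 x (by omega) h13
  by_cases h14 : x < 18486
  · exact cSuz2_act222 x (by omega) h14
  exact cSuz2_act223 x (by omega) hhi

theorem cSuz2_actG14 : ∀ x, 18569 ≤ x → x < 19895 → cSuz2.actRow x = true := by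
  intro x hlo hhi
  by_cases h0 : x < 18652
  · exact cSuz2_act224 x (by omega) h0
  by_cases h1 : x < 18735
  · exact cSuz2_act225 x (by omega) h1
  by_cases h2 : x < 18817
  · exact cSuz2_act226 x (by omega) h2
  by_cases h3 : x < 18900
  · exact cSuz2_act227 x (by omega) h3
  by_cases h4 : x < 18983
  · exact cSuz2_act228 x (by omega) h4
  by_cases h5 : x < 19066
  · exact cSuz2_act229 x (by omega) h5
  by_cases h6 : x < 19149
  · exact cSuz2_act230 x (by omega) h6
  by_cases h7 : x < 19232
  · exact cSuz2_act231 x (by omega) h7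
  by_cases h8 : x < 19315
  · exact cSuz2_act232 x (by omega) h8
  by_cases h9 : x < 19398
  · exact cSuz2_act233 x (by omega) h9
  by_cases h10 : x < 19481
  · exact cSuz2_act234 x (by omega) h10
  by_cases h11 : x < 19564
  · exact cSuz2_act235 x (by omega) h11
  by_cases h12 : x < 19646
  · exact cSuz2_act236 x (by omega) h12
  by_cases h13 : x < 19729
  · exact cSuz2_act237 x (by omega) h13
  by_cases h14 : x < 19812
  · exact cSuz2_act238 x (by omega) h14
  exact cSuz2_act239 x (by omega) hhi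

theorem cSuz2_actG15 : ∀ x, 19895 ≤ x → x < 21222 → cSuz2.actRow x = true := by
  intro x hlo hhi
  by_cases h0 : x < 19978
  · exact cSuz2_act240 x (by omega) h0
  by_cases h1 : x < 20061
  · exact cSuz2_act241 x (by omega) h1
  by_cases h2 : x < 20144
  · exact cSuz2_act242 x (by omega) h2
  by_cases h3 : x < 20227
  · exact cSuz2_act243 x (by omega) h3
  by_cases h4 : x < 20310
  · exact cSuz2_act244 x (by omega) h4
  by_cases h5 : x < 20393
  · exact cSuz2_act245 x (by omega) h5
  by_cases h6 : x < 20475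
  · exact cSuz2_act246 x (by omega) h6
  by_cases h7 : x < 20558
  · exact cSuz2_act247 x (by omega) h7
  by_cases h8 : x < 20641
  · exact cSuz2_act248 x (by omega) h8
  by_cases h9 : x < 20724
  · exact cSuz2_act249 x (by omega) h9
  by_cases h10 : x < 20807
  · exact cSuz2_act250 x (by omega) h10
  by_cases h11 : x < 20890
  · exact cSuz2_act251 x (by omega) h11
  by_cases h12 : x < 20973
  · exact cSuz2_act252 x (by omega) h12
  by_cases h13 : x < 21056
  · exact cSuz2_act253 x (by omega) h13
  by_cases h14 : x < 21139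
  · exact cSuz2_act254 x (by omega) h14
  exact cSuz2_act255 x (by omega) hhi

theorem cSuz2_actG16 : ∀ x, 21222 ≤ x → x < 22548 → cSuz2.actRow x = true := by
  intro x hlo hhi
  by_cases h0 : x < 21304
  · exact cSuz2_act256 x (by omega) h0
  by_cases h1 : x < 21387
  · exact cSuz2_act257 x (by omega) h1
  by_cases h2 : x < 21470
  · exact cSuz2_act258 x (by omega) h2
  by_cases h3 : x < 21553
  · exact cSuz2_act259 x (by omega) h3
  by_cases h4 : x < 21636
  · exact cSuz2_act260 x (by omega) h4
  by_cases h5 : x < 21719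
  · exact cSuz2_act261 x (by omega) h5
  by_cases h6 : x < 21802
  · exact cSuz2_act262 x (by omega) h6
  by_cases h7 : x < 21885
  · exact cSuz2_act263 x (by omega) h7
  by_cases h8 : x < 21968
  · exact cSuz2_act264 x (by omega) h8
  by_cases h9 : x < 22051
  · exact cSuz2_act265 x (by omega) h9
  by_cases h10 : x < 22133
  · exact cSuz2_act266 x (by omega) h10
  by_cases h11 : x < 22216
  · exact cSuz2_act267 x (by omega) h11
  by_cases h12 : x < 22299
  · exact cSuz2_act268 x (by omega) h12
  by_cases h13 : x < 22382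
  · exact cSuz2_act269 x (by omega) h13
  by_cases h14 : x < 22465
  · exact cSuz2_act270 x (by omega) h14
  exact cSuz2_act271 x (by omega) hhi

theorem cSuz2_actG17 : ∀ x, 22548 ≤ x → x < 22880 → cSuz2.actRow x = true := by
  intro x hlo hhi
  by_cases h0 : x < 22631
  · exact cSuz2_act272 x (by omega) h0
  by_cases h1 : x < 22714
  · exact cSuz2_act273 x (by omega) h1
  by_cases h2 : x < 22797
  · exact cSuz2_act274 x (by omega) h2
  exact cSuz2_act275 x (by omega) hhi

theorem cSuz2_Act : cSuz2.ActOk := by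
  refine ⟨cSuz2_Ok, cSuz2_actBase, ?_⟩
  intro x hx
  by_cases h0 : x < 1326
  · exact cSuz2_actG0 x (by omega) h0
  by_cases h1 : x < 2652
  · exact cSuz2_actG1 x (by omega) h1
  by_cases h2 : x < 3979
  · exact cSuz2_actG2 x (by omega) h2
  by_cases h3 : x < 5305
  · exact cSuz2_actG3 x (by omega) h3
  by_cases h4 : x < 6631
  · exact cSuz2_actG4 x (by omega) h4
  by_cases h5 : x < 7958
  · exact cSuz2_actG5 x (by omega) h5
  by_cases h6 : x < 9284
  · exact cSuz2_actG6 x (by omega) h6
  by_cases h7 : x < 10611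
  · exact cSuz2_actG7 x (by omega) h7
  by_cases h8 : x < 11937
  · exact cSuz2_actG8 x (by omega) h8
  by_cases h9 : x < 13263
  · exact cSuz2_actG9 x (by omega) h9
  by_cases h10 : x < 14590
  · exact cSuz2_actG10 x (by omega) h10
  by_cases h11 : x < 15916
  · exact cSuz2_actG11 x (by omega) h11
  by_cases h12 : x < 17242
  · exact cSuz2_actG12 x (by omega) h12
  by_cases h13 : x < 18569
  · exact cSuz2_actG13 x (by omega) h13
  by_cases h14 : x < 19895
  · exact cSuz2_actG14 x (by omega) h14
  by_cases h15 : x < 21222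
  · exact cSuz2_actG15 x (by omega) h15
  by_cases h16 : x < 22548
  · exact cSuz2_actG16 x (by omega) h16
  exact cSuz2_actG17 x (by omega) hx

theorem cSuz2_finBase : cSuz2.finBase = true := by decide +kernel

theorem cSuz2_finrG0 : ∀ x, 0 ≤ x → x < 7471 → cSuz2.finRow x = true := by
  intro x hlo hhi
  by_cases h0 : x < 466
  · exact cSuz2_finr0 x (by omega) h0
  by_cases h1 : x < 933
  · exact cSuz2_finr1 x (by omega) h1
  by_cases h2 : x < 1400
  · exact cSuz2_finr2 x (by omega) h2
  by_cases h3 : x < 1867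
  · exact cSuz2_finr3 x (by omega) h3
  by_cases h4 : x < 2334
  · exact cSuz2_finr4 x (by omega) h4
  by_cases h5 : x < 2801
  · exact cSuz2_finr5 x (by omega) h5
  by_cases h6 : x < 3268
  · exact cSuz2_finr6 x (by omega) h6
  by_cases h7 : x < 3735
  · exact cSuz2_finr7 x (by omega) h7
  by_cases h8 : x < 4202
  · exact cSuz2_finr8 x (by omega) h8
  by_cases h9 : x < 4669
  · exact cSuz2_finr9 x (by omega) h9
  by_cases h10 : x < 5136
  · exact cSuz2_finr10 x (by omega) h10
  by_cases h11 : x < 5603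
  · exact cSuz2_finr11 x (by omega) h11
  by_cases h12 : x < 6070
  · exact cSuz2_finr12 x (by omega) h12
  by_cases h13 : x < 6537
  · exact cSuz2_finr13 x (by omega) h13
  by_cases h14 : x < 7004
  · exact cSuz2_finr14 x (by omega) h14
  exact cSuz2_finr15 x (by omega) hhi

theorem cSuz2_finrG1 : ∀ x, 7471 ≤ x → x < 14942 → cSuz2.finRow x = true := by
  intro x hlo hhi
  by_cases h0 : x < 7937
  · exact cSuz2_finr16 x (by omega) h0
  by_cases h1 : x < 8404
  · exact cSuz2_finr17 x (by omega) h1
  by_cases h2 : x < 8871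
  · exact cSuz2_finr18 x (by omega) h2
  by_cases h3 : x < 9338
  · exact cSuz2_finr19 x (by omega) h3
  by_cases h4 : x < 9805
  · exact cSuz2_finr20 x (by omega) h4
  by_cases h5 : x < 10272
  · exact cSuz2_finr21 x (by omega) h5
  by_cases h6 : x < 10739
  · exact cSuz2_finr22 x (by omega) h6
  by_cases h7 : x < 11206
  · exact cSuz2_finr23 x (by omega) h7
  by_cases h8 : x < 11673
  · exact cSuz2_finr24 x (by omega) h8
  by_cases h9 : x < 12140
  · exact cSuz2_finr25 x (by omega) h9
  by_cases h10 : x < 12607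
  · exact cSuz2_finr26 x (by omega) h10
  by_cases h11 : x < 13074
  · exact cSuz2_finr27 x (by omega) h11
  by_cases h12 : x < 13541
  · exact cSuz2_finr28 x (by omega) h12
  by_cases h13 : x < 14008
  · exact cSuz2_finr29 x (by omega) h13
  by_cases h14 : x < 14475
  · exact cSuz2_finr30 x (by omega) h14
  exact cSuz2_finr31 x (by omega) hhi

theorem cSuz2_finrG2 : ∀ x, 14942 ≤ x → x < 22413 → cSuz2.finRow x = true := by
  intro x hlo hhi
  by_cases h0 : x < 15408
  · exact cSuz2_finr32 x (by omega) h0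
  by_cases h1 : x < 15875
  · exact cSuz2_finr33 x (by omega) h1
  by_cases h2 : x < 16342
  · exact cSuz2_finr34 x (by omega) h2
  by_cases h3 : x < 16809
  · exact cSuz2_finr35 x (by omega) h3
  by_cases h4 : x < 17276
  · exact cSuz2_finr36 x (by omega) h4
  by_cases h5 : x < 17743
  · exact cSuz2_finr37 x (by omega) h5
  by_cases h6 : x < 18210
  · exact cSuz2_finr38 x (by omega) h6
  by_cases h7 : x < 18677
  · exact cSuz2_finr39 x (by omega) h7
  by_cases h8 : x < 19144
  · exact cSuz2_finr40 x (by omega) h8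
  by_cases h9 : x < 19611
  · exact cSuz2_finr41 x (by omega) h9
  by_cases h10 : x < 20078
  · exact cSuz2_finr42 x (by omega) h10
  by_cases h11 : x < 20545
  · exact cSuz2_finr43 x (by omega) h11
  by_cases h12 : x < 21012
  · exact cSuz2_finr44 x (by omega) h12
  by_cases h13 : x < 21479
  · exact cSuz2_finr45 x (by omega) h13
  by_cases h14 : x < 21946
  · exact cSuz2_finr46 x (by omega) h14
  exact cSuz2_finr47 x (by omega) hhi

theorem cSuz2_finrG3 : ∀ x, 22413 ≤ x → x < 22880 → cSuz2.finRow x = true := by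
  intro x hlo hhi
  exact cSuz2_finr48 x (by omega) hhi

theorem cSuz2_finRows : ∀ x, x < cSuz2.n → cSuz2.finRow x = true := by
  intro x hx
  by_cases h0 : x < 7471
  · exact cSuz2_finrG0 x (by omega) h0
  by_cases h1 : x < 14942
  · exact cSuz2_finrG1 x (by omega) h1
  by_cases h2 : x < 22413
  · exact cSuz2_finrG2 x (by omega) h2
  exact cSuz2_finrG3 x (by omega) hx

theorem cSuz2_finnG0 : ∀ x, 0 ≤ x → x < 33378 → cSuz2.finNode x = true := by
  intro x hlo hhi
  by_cases h0 : x < 3034
  · exact cSuz2_finn0 x (by omega) h0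
  by_cases h1 : x < 6068
  · exact cSuz2_finn1 x (by omega) h1
  by_cases h2 : x < 9103
  · exact cSuz2_finn2 x (by omega) h2
  by_cases h3 : x < 12137
  · exact cSuz2_finn3 x (by omega) h3
  by_cases h4 : x < 15171
  · exact cSuz2_finn4 x (by omega) h4
  by_cases h5 : x < 18206
  · exact cSuz2_finn5 x (by omega) h5
  by_cases h6 : x < 21240
  · exact cSuz2_finn6 x (by omega) h6
  by_cases h7 : x < 24274
  · exact cSuz2_finn7 x (by omega) h7
  by_cases h8 : x < 27309
  · exact cSuz2_finn8 x (by omega) h8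
  by_cases h9 : x < 30343
  · exact cSuz2_finn9 x (by omega) h9
  exact cSuz2_finn10 x (by omega) hhi

theorem cSuz2_finNodes : ∀ x, x < cSuz2.N → cSuz2.finNode x = true := by
  intro x hx
  exact cSuz2_finnG0 x (by omega) hx

theorem cSuz2_fin : cSuz2.finOK = true :=
  VCert.finOK_of _ cSuz2_finBase cSuz2_finRows cSuz2_finNodes

theorem oSuz2_colrG0 : ∀ x, 0 ≤ x → x < 22880 → oSuz2.colRow cSuz2 x = true := by
  intro x hlo hhi
  by_cases h0 : x < 3268
  · exact oSuz2_colr0 x (by omega) h0
  by_cases h1 : x < 6537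
  · exact oSuz2_colr1 x (by omega) h1
  by_cases h2 : x < 9805
  · exact oSuz2_colr2 x (by omega) h2
  by_cases h3 : x < 13074
  · exact oSuz2_colr3 x (by omega) h3
  by_cases h4 : x < 16342
  · exact oSuz2_colr4 x (by omega) h4
  by_cases h5 : x < 19611
  · exact oSuz2_colr5 x (by omega) h5
  exact oSuz2_colr6 x (by omega) hhi

theorem oSuz2_col : oSuz2.colOK cSuz2 = true := by
  refine OrbCert.colOK_of _ _ ?_
  intro x hx
  exact oSuz2_colrG0 x (by omega) hx

theorem oSuz2_treeBase1 : oSuz2.treeBase cSuz2 1 1 = true := by decide +kernel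

theorem oSuz2_tr1_G0 : ∀ x, 0 ≤ x → x < 22880 → oSuz2.treeRow cSuz2 1 1 x = true := by
  intro x hlo hhi
  by_cases h0 : x < 1906
  · exact oSuz2_tr1_0 x (by omega) h0
  by_cases h1 : x < 3813
  · exact oSuz2_tr1_1 x (by omega) h1
  by_cases h2 : x < 5720
  · exact oSuz2_tr1_2 x (by omega) h2
  by_cases h3 : x < 7626
  · exact oSuz2_tr1_3 x (by omega) h3
  by_cases h4 : x < 9533
  · exact oSuz2_tr1_4 x (by omega) h4
  by_cases h5 : x < 11440
  · exact oSuz2_tr1_5 x (by omega) h5
  by_cases h6 : x < 13346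
  · exact oSuz2_tr1_6 x (by omega) h6
  by_cases h7 : x < 15253
  · exact oSuz2_tr1_7 x (by omega) h7
  by_cases h8 : x < 17160
  · exact oSuz2_tr1_8 x (by omega) h8
  by_cases h9 : x < 19066
  · exact oSuz2_tr1_9 x (by omega) h9
  by_cases h10 : x < 20973
  · exact oSuz2_tr1_10 x (by omega) h10
  exact oSuz2_tr1_11 x (by omega) hhi

theorem oSuz2_tree1 : oSuz2.treeOK cSuz2 1 1 = true := by
  refine OrbCert.treeOK_of _ _ _ _ oSuz2_treeBase1 ?_
  intro x hx
  exact oSuz2_tr1_G0 x (by omega) hx

theorem oSuz2_cnt1 : ((Finset.range cSuz2.n).filter (fun x => oSuz2.C x = 1)).card = 486 := by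
  decide +kernel

theorem oSuz2_treeBase2 : oSuz2.treeBase cSuz2 10 2 = true := by decide +kernel

theorem oSuz2_tr2_G0 : ∀ x, 0 ≤ x → x < 22880 → oSuz2.treeRow cSuz2 10 2 x = true := by
  intro x hlo hhi
  by_cases h0 : x < 1906
  · exact oSuz2_tr2_0 x (by omega) h0
  by_cases h1 : x < 3813
  · exact oSuz2_tr2_1 x (by omega) h1
  by_cases h2 : x < 5720
  · exact oSuz2_tr2_2 x (by omega) h2
  by_cases h3 : x < 7626
  · exact oSuz2_tr2_3 x (by omega) h3
  by_cases h4 : x < 9533
  · exact oSuz2_tr2_4 x (by omega) h4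
  by_cases h5 : x < 11440
  · exact oSuz2_tr2_5 x (by omega) h5
  by_cases h6 : x < 13346
  · exact oSuz2_tr2_6 x (by omega) h6
  by_cases h7 : x < 15253
  · exact oSuz2_tr2_7 x (by omega) h7
  by_cases h8 : x < 17160
  · exact oSuz2_tr2_8 x (by omega) h8
  by_cases h9 : x < 19066
  · exact oSuz2_tr2_9 x (by omega) h9
  by_cases h10 : x < 20973
  · exact oSuz2_tr2_10 x (by omega) h10
  exact oSuz2_tr2_11 x (by omega) hhi

theorem oSuz2_tree2 : oSuz2.treeOK cSuz2 10 2 = true := by
  refine OrbCert.treeOK_of _ _ _ _ oSuz2_treeBase2 ?_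
  intro x hx
  exact oSuz2_tr2_G0 x (by omega) hx

theorem oSuz2_cnt2 : ((Finset.range cSuz2.n).filter (fun x => oSuz2.C x = 2)).card = 8505 := by
  decide +kernel

theorem oSuz2_treeBase3 : oSuz2.treeBase cSuz2 67 3 = true := by decide +kernel

theorem oSuz2_tr3_G0 : ∀ x, 0 ≤ x → x < 22880 → oSuz2.treeRow cSuz2 67 3 x = true := by
  intro x hlo hhi
  by_cases h0 : x < 1906
  · exact oSuz2_tr3_0 x (by omega) h0
  by_cases h1 : x < 3813
  · exact oSuz2_tr3_1 x (by omega) h1
  by_cases h2 : x < 5720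
  · exact oSuz2_tr3_2 x (by omega) h2
  by_cases h3 : x < 7626
  · exact oSuz2_tr3_3 x (by omega) h3
  by_cases h4 : x < 9533
  · exact oSuz2_tr3_4 x (by omega) h4
  by_cases h5 : x < 11440
  · exact oSuz2_tr3_5 x (by omega) h5
  by_cases h6 : x < 13346
  · exact oSuz2_tr3_6 x (by omega) h6
  by_cases h7 : x < 15253
  · exact oSuz2_tr3_7 x (by omega) h7
  by_cases h8 : x < 17160
  · exact oSuz2_tr3_8 x (by omega) h8
  by_cases h9 : x < 19066
  · exact oSuz2_tr3_9 x (by omega) h9
  by_cases h10 : x < 20973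
  · exact oSuz2_tr3_10 x (by omega) h10
  exact oSuz2_tr3_11 x (by omega) hhi

theorem oSuz2_tree3 : oSuz2.treeOK cSuz2 67 3 = true := by
  refine OrbCert.treeOK_of _ _ _ _ oSuz2_treeBase3 ?_
  intro x hx
  exact oSuz2_tr3_G0 x (by omega) hx

theorem oSuz2_cnt3 : ((Finset.range cSuz2.n).filter (fun x => oSuz2.C x = 3)).card = 13608 := by
  decide +kernel

theorem oSuz2_treeBase4 : oSuz2.treeBase cSuz2 7122 4 = true := by decide +kernel

theorem oSuz2_tr4_G0 : ∀ x, 0 ≤ x → x < 22880 → oSuz2.treeRow cSuz2 7122 4 x = true := by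
  intro x hlo hhi
  by_cases h0 : x < 1906
  · exact oSuz2_tr4_0 x (by omega) h0
  by_cases h1 : x < 3813
  · exact oSuz2_tr4_1 x (by omega) h1
  by_cases h2 : x < 5720
  · exact oSuz2_tr4_2 x (by omega) h2
  by_cases h3 : x < 7626
  · exact oSuz2_tr4_3 x (by omega) h3
  by_cases h4 : x < 9533
  · exact oSuz2_tr4_4 x (by omega) h4
  by_cases h5 : x < 11440
  · exact oSuz2_tr4_5 x (by omega) h5
  by_cases h6 : x < 13346
  · exact oSuz2_tr4_6 x (by omega) h6
  by_cases h7 : x < 15253
  · exact oSuz2_tr4_7 x (by omega) h7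
  by_cases h8 : x < 17160
  · exact oSuz2_tr4_8 x (by omega) h8
  by_cases h9 : x < 19066
  · exact oSuz2_tr4_9 x (by omega) h9
  by_cases h10 : x < 20973
  · exact oSuz2_tr4_10 x (by omega) h10
  exact oSuz2_tr4_11 x (by omega) hhi

theorem oSuz2_tree4 : oSuz2.treeOK cSuz2 7122 4 = true := by
  refine OrbCert.treeOK_of _ _ _ _ oSuz2_treeBase4 ?_
  intro x hx
  exact oSuz2_tr4_G0 x (by omega) hx

theorem oSuz2_cnt4 : ((Finset.range cSuz2.n).filter (fun x => oSuz2.C x = 4)).card = 280 := by
  decide +kernel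

end Cfsg.Agent.Lib.Lead.VTC
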