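import Cfsg.Agent.Lib.Lead.VTCSuz2
import Cfsg.Agent.Lib.Lead.VTC3

set_option autoImplicit false
set_option maxRecDepth 100000

namespace Cfsg.Agent.Lib.Lead.VTC

theorem cSuz2_finr0 : ∀ x, 0 ≤ x → x < 2542 → cSuz2.finRow x = true :=
  VCert.of_range' _ 0 2542 (by decide +kernel)

theorem cSuz2_finr3 : ∀ x, 7626 ≤ x → x < 10168 → cSuz2.finRow x = true :=
  VCert.of_range' _ 7626 10168 (by decide +kernel)

theorem cSuz2_finr6 : ∀ x, 15253 ≤ x → x < 17795 → cSuz2.finRow x = true :=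
  VCert.of_range' _ 15253 17795 (by decide +kernel)

theorem cSuz2_finn0 : ∀ x, 0 ≤ x → x < 16689 → cSuz2.finNode x = true :=
  VCert.of_range' _ 0 16689 (by decide +kernel)

theorem oSuz2_colr1 : ∀ x, 4576 ≤ x → x < 9152 → oSuz2.colRow cSuz2 x = true :=
  VCert.of_range' _ 4576 9152 (by decide +kernel)

theorem oSuz2_colr4 : ∀ x, 18304 ≤ x → x < 22880 → oSuz2.colRow cSuz2 x = true :=
  VCert.of_range' _ 18304 22880 (by decide +kernel)

theorem oSuz2_tr2_0 : ∀ x, 0 ≤ x → x < 11440 → oSuz2.treeRow cSuz2 10 2 x = true :=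
  VCert.of_range' _ 0 11440 (by decide +kernel)

theorem oSuz2_tr3_1 : ∀ x, 11440 ≤ x → x < 22880 → oSuz2.treeRow cSuz2 67 3 x = true :=
  VCert.of_range' _ 11440 22880 (by decide +kernel)


end Cfsg.Agent.Lib.Lead.VTC
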