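import Cfsg.Agent.Lib.Lead.VTCSuz2
import Cfsg.Agent.Lib.Lead.VTC3

set_option autoImplicit false
set_option maxRecDepth 100000

namespace Cfsg.Agent.Lib.Lead.VTC

theorem cSuz2_finr1 : ∀ x, 2542 ≤ x → x < 5084 → cSuz2.finRow x = true :=
  VCert.of_range' _ 2542 5084 (by decide +kernel)

theorem cSuz2_finr4 : ∀ x, 10168 ≤ x → x < 12711 → cSuz2.finRow x = true :=
  VCert.of_range' _ 10168 12711 (by decide +kernel)

theorem cSuz2_finr7 : ∀ x, 17795 ≤ x → x < 20337 → cSuz2.finRow x = true :=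
  VCert.of_range' _ 17795 20337 (by decide +kernel)

theorem cSuz2_finn1 : ∀ x, 16689 ≤ x → x < 33378 → cSuz2.finNode x = true :=
  VCert.of_range' _ 16689 33378 (by decide +kernel)

theorem oSuz2_colr2 : ∀ x, 9152 ≤ x → x < 13728 → oSuz2.colRow cSuz2 x = true :=
  VCert.of_range' _ 9152 13728 (by decide +kernel)

theorem oSuz2_tr1_0 : ∀ x, 0 ≤ x → x < 11440 → oSuz2.treeRow cSuz2 1 1 x = true :=
  VCert.of_range' _ 0 11440 (by decide +kernel)

theorem oSuz2_tr2_1 : ∀ x, 11440 ≤ x → x < 22880 → oSuz2.treeRow cSuz2 10 2 x = true :=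
  VCert.of_range' _ 11440 22880 (by decide +kernel)

theorem oSuz2_tr4_0 : ∀ x, 0 ≤ x → x < 11440 → oSuz2.treeRow cSuz2 7122 4 x = true :=
  VCert.of_range' _ 0 11440 (by decide +kernel)


end Cfsg.Agent.Lib.Lead.VTC
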