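import Cfsg.Agent.Lib.Lead.VTCSuz2
import Cfsg.Agent.Lib.Lead.VTC3

set_option autoImplicit false
set_option maxRecDepth 100000

namespace Cfsg.Agent.Lib.Lead.VTC

theorem cSuz2_finr2 : ∀ x, 5084 ≤ x → x < 7626 → cSuz2.finRow x = true :=
  VCert.of_range' _ 5084 7626 (by decide +kernel)

theorem cSuz2_finr5 : ∀ x, 12711 ≤ x → x < 15253 → cSuz2.finRow x = true :=
  VCert.of_range' _ 12711 15253 (by decide +kernel)

theorem cSuz2_finr8 : ∀ x, 20337 ≤ x → x < 22880 → cSuz2.finRow x = true :=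
  VCert.of_range' _ 20337 22880 (by decide +kernel)

theorem oSuz2_colr0 : ∀ x, 0 ≤ x → x < 4576 → oSuz2.colRow cSuz2 x = true :=
  VCert.of_range' _ 0 4576 (by decide +kernel)

theorem oSuz2_colr3 : ∀ x, 13728 ≤ x → x < 18304 → oSuz2.colRow cSuz2 x = true :=
  VCert.of_range' _ 13728 18304 (by decide +kernel)

theorem oSuz2_tr1_1 : ∀ x, 11440 ≤ x → x < 22880 → oSuz2.treeRow cSuz2 1 1 x = true :=
  VCert.of_range' _ 11440 22880 (by decide +kernel)

theorem oSuz2_tr3_0 : ∀ x, 0 ≤ x → x < 11440 → oSuz2.treeRow cSuz2 67 3 x = true :=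
  VCert.of_range' _ 0 11440 (by decide +kernel)

theorem oSuz2_tr4_1 : ∀ x, 11440 ≤ x → x < 22880 → oSuz2.treeRow cSuz2 7122 4 x = true :=
  VCert.of_range' _ 11440 22880 (by decide +kernel)


end Cfsg.Agent.Lib.Lead.VTC
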