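import Cfsg.Agent.Lib.Lead.VTCSuz2

set_option autoImplicit false
set_option maxRecDepth 100000

namespace Cfsg.Agent.Lib.Lead.VTC

theorem cSuz2_ok0 : ∀ x, 0 ≤ x → x < 981 → cSuz2.rowOK x = true :=
  VCert.of_range' _ 0 981 (by decide +kernel)

theorem cSuz2_ok4 : ∀ x, 3926 ≤ x → x < 4908 → cSuz2.rowOK x = true :=
  VCert.of_range' _ 3926 4908 (by decide +kernel)

theorem cSuz2_ok8 : ∀ x, 7853 ≤ x → x < 8835 → cSuz2.rowOK x = true :=
  VCert.of_range' _ 7853 8835 (by decide +kernel)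

theorem cSuz2_ok12 : ∀ x, 11780 ≤ x → x < 12762 → cSuz2.rowOK x = true :=
  VCert.of_range' _ 11780 12762 (by decide +kernel)

theorem cSuz2_ok16 : ∀ x, 15707 ≤ x → x < 16689 → cSuz2.rowOK x = true :=
  VCert.of_range' _ 15707 16689 (by decide +kernel)

theorem cSuz2_ok20 : ∀ x, 19634 ≤ x → x < 20615 → cSuz2.rowOK x = true :=
  VCert.of_range' _ 19634 20615 (by decide +kernel)

theorem cSuz2_ok24 : ∀ x, 23560 ≤ x → x < 24542 → cSuz2.rowOK x = true :=
  VCert.of_range' _ 23560 24542 (by decide +kernel)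

theorem cSuz2_ok28 : ∀ x, 27487 ≤ x → x < 28469 → cSuz2.rowOK x = true :=
  VCert.of_range' _ 27487 28469 (by decide +kernel)

theorem cSuz2_ok32 : ∀ x, 31414 ≤ x → x < 32396 → cSuz2.rowOK x = true :=
  VCert.of_range' _ 31414 32396 (by decide +kernel)

theorem cSuz2_act2 : ∀ x, 1577 ≤ x → x < 2366 → cSuz2.actRow x = true :=
  VCert.of_range' _ 1577 2366 (by decide +kernel)

theorem cSuz2_act6 : ∀ x, 4733 ≤ x → x < 5522 → cSuz2.actRow x = true :=
  VCert.of_range' _ 4733 5522 (by decide +kernel)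

theorem cSuz2_act10 : ∀ x, 7889 ≤ x → x < 8678 → cSuz2.actRow x = true :=
  VCert.of_range' _ 7889 8678 (by decide +kernel)

theorem cSuz2_act14 : ∀ x, 11045 ≤ x → x < 11834 → cSuz2.actRow x = true :=
  VCert.of_range' _ 11045 11834 (by decide +kernel)

theorem cSuz2_act18 : ∀ x, 14201 ≤ x → x < 14990 → cSuz2.actRow x = true :=
  VCert.of_range' _ 14201 14990 (by decide +kernel)

theorem cSuz2_act22 : ∀ x, 17357 ≤ x → x < 18146 → cSuz2.actRow x = true :=
  VCert.of_range' _ 17357 18146 (by decide +kernel)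

theorem cSuz2_act26 : ∀ x, 20513 ≤ x → x < 21302 → cSuz2.actRow x = true :=
  VCert.of_range' _ 20513 21302 (by decide +kernel)


end Cfsg.Agent.Lib.Lead.VTC
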