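import Cfsg.Agent.Lib.Lead.VTCSuz2

set_option autoImplicit false
set_option maxRecDepth 100000

namespace Cfsg.Agent.Lib.Lead.VTC

theorem cSuz2_ok1 : ∀ x, 981 ≤ x → x < 1963 → cSuz2.rowOK x = true :=
  VCert.of_range' _ 981 1963 (by decide +kernel)

theorem cSuz2_ok5 : ∀ x, 4908 ≤ x → x < 5890 → cSuz2.rowOK x = true :=
  VCert.of_range' _ 4908 5890 (by decide +kernel)

theorem cSuz2_ok9 : ∀ x, 8835 ≤ x → x < 9817 → cSuz2.rowOK x = true :=
  VCert.of_range' _ 8835 9817 (by decide +kernel)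

theorem cSuz2_ok13 : ∀ x, 12762 ≤ x → x < 13743 → cSuz2.rowOK x = true :=
  VCert.of_range' _ 12762 13743 (by decide +kernel)

theorem cSuz2_ok17 : ∀ x, 16689 ≤ x → x < 17670 → cSuz2.rowOK x = true :=
  VCert.of_range' _ 16689 17670 (by decide +kernel)

theorem cSuz2_ok21 : ∀ x, 20615 ≤ x → x < 21597 → cSuz2.rowOK x = true :=
  VCert.of_range' _ 20615 21597 (by decide +kernel)

theorem cSuz2_ok25 : ∀ x, 24542 ≤ x → x < 25524 → cSuz2.rowOK x = true :=
  VCert.of_range' _ 24542 25524 (by decide +kernel)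

theorem cSuz2_ok29 : ∀ x, 28469 ≤ x → x < 29451 → cSuz2.rowOK x = true :=
  VCert.of_range' _ 28469 29451 (by decide +kernel)

theorem cSuz2_ok33 : ∀ x, 32396 ≤ x → x < 33378 → cSuz2.rowOK x = true :=
  VCert.of_range' _ 32396 33378 (by decide +kernel)

theorem cSuz2_act3 : ∀ x, 2366 ≤ x → x < 3155 → cSuz2.actRow x = true :=
  VCert.of_range' _ 2366 3155 (by decide +kernel)

theorem cSuz2_act7 : ∀ x, 5522 ≤ x → x < 6311 → cSuz2.actRow x = true :=
  VCert.of_range' _ 5522 6311 (by decide +kernel)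

theorem cSuz2_act11 : ∀ x, 8678 ≤ x → x < 9467 → cSuz2.actRow x = true :=
  VCert.of_range' _ 8678 9467 (by decide +kernel)

theorem cSuz2_act15 : ∀ x, 11834 ≤ x → x < 12623 → cSuz2.actRow x = true :=
  VCert.of_range' _ 11834 12623 (by decide +kernel)

theorem cSuz2_act19 : ∀ x, 14990 ≤ x → x < 15779 → cSuz2.actRow x = true :=
  VCert.of_range' _ 14990 15779 (by decide +kernel)

theorem cSuz2_act23 : ∀ x, 18146 ≤ x → x < 18935 → cSuz2.actRow x = true :=
  VCert.of_range' _ 18146 18935 (by decide +kernel)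

theorem cSuz2_act27 : ∀ x, 21302 ≤ x → x < 22091 → cSuz2.actRow x = true :=
  VCert.of_range' _ 21302 22091 (by decide +kernel)


end Cfsg.Agent.Lib.Lead.VTC
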