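import Cfsg.Agent.Lib.Lead.VTCSuz2

set_option autoImplicit false
set_option maxRecDepth 100000

namespace Cfsg.Agent.Lib.Lead.VTC

theorem cSuz2_ok2 : ∀ x, 1963 ≤ x → x < 2945 → cSuz2.rowOK x = true :=
  VCert.of_range' _ 1963 2945 (by decide +kernel)

theorem cSuz2_ok6 : ∀ x, 5890 ≤ x → x < 6871 → cSuz2.rowOK x = true :=
  VCert.of_range' _ 5890 6871 (by decide +kernel)

theorem cSuz2_ok10 : ∀ x, 9817 ≤ x → x < 10798 → cSuz2.rowOK x = true :=
  VCert.of_range' _ 9817 10798 (by decide +kernel)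

theorem cSuz2_ok14 : ∀ x, 13743 ≤ x → x < 14725 → cSuz2.rowOK x = true :=
  VCert.of_range' _ 13743 14725 (by decide +kernel)

theorem cSuz2_ok18 : ∀ x, 17670 ≤ x → x < 18652 → cSuz2.rowOK x = true :=
  VCert.of_range' _ 17670 18652 (by decide +kernel)

theorem cSuz2_ok22 : ∀ x, 21597 ≤ x → x < 22579 → cSuz2.rowOK x = true :=
  VCert.of_range' _ 21597 22579 (by decide +kernel)

theorem cSuz2_ok26 : ∀ x, 25524 ≤ x → x < 26506 → cSuz2.rowOK x = true :=
  VCert.of_range' _ 25524 26506 (by decide +kernel)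

theorem cSuz2_ok30 : ∀ x, 29451 ≤ x → x < 30432 → cSuz2.rowOK x = true :=
  VCert.of_range' _ 29451 30432 (by decide +kernel)

theorem cSuz2_act0 : ∀ x, 0 ≤ x → x < 788 → cSuz2.actRow x = true :=
  VCert.of_range' _ 0 788 (by decide +kernel)

theorem cSuz2_act4 : ∀ x, 3155 ≤ x → x < 3944 → cSuz2.actRow x = true :=
  VCert.of_range' _ 3155 3944 (by decide +kernel)

theorem cSuz2_act8 : ∀ x, 6311 ≤ x → x < 7100 → cSuz2.actRow x = true :=
  VCert.of_range' _ 6311 7100 (by decide +kernel)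

theorem cSuz2_act12 : ∀ x, 9467 ≤ x → x < 10256 → cSuz2.actRow x = true :=
  VCert.of_range' _ 9467 10256 (by decide +kernel)

theorem cSuz2_act16 : ∀ x, 12623 ≤ x → x < 13412 → cSuz2.actRow x = true :=
  VCert.of_range' _ 12623 13412 (by decide +kernel)

theorem cSuz2_act20 : ∀ x, 15779 ≤ x → x < 16568 → cSuz2.actRow x = true :=
  VCert.of_range' _ 15779 16568 (by decide +kernel)

theorem cSuz2_act24 : ∀ x, 18935 ≤ x → x < 19724 → cSuz2.actRow x = true :=
  VCert.of_range' _ 18935 19724 (by decide +kernel)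

theorem cSuz2_act28 : ∀ x, 22091 ≤ x → x < 22880 → cSuz2.actRow x = true :=
  VCert.of_range' _ 22091 22880 (by decide +kernel)


end Cfsg.Agent.Lib.Lead.VTC
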