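import Cfsg.Agent.Lib.Lead.VTCSuz2

set_option autoImplicit false
set_option maxRecDepth 100000

namespace Cfsg.Agent.Lib.Lead.VTC

theorem cSuz2_ok3 : ∀ x, 2945 ≤ x → x < 3926 → cSuz2.rowOK x = true :=
  VCert.of_range' _ 2945 3926 (by decide +kernel)

theorem cSuz2_ok7 : ∀ x, 6871 ≤ x → x < 7853 → cSuz2.rowOK x = true :=
  VCert.of_range' _ 6871 7853 (by decide +kernel)

theorem cSuz2_ok11 : ∀ x, 10798 ≤ x → x < 11780 → cSuz2.rowOK x = true :=
  VCert.of_range' _ 10798 11780 (by decide +kernel)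

theorem cSuz2_ok15 : ∀ x, 14725 ≤ x → x < 15707 → cSuz2.rowOK x = true :=
  VCert.of_range' _ 14725 15707 (by decide +kernel)

theorem cSuz2_ok19 : ∀ x, 18652 ≤ x → x < 19634 → cSuz2.rowOK x = true :=
  VCert.of_range' _ 18652 19634 (by decide +kernel)

theorem cSuz2_ok23 : ∀ x, 22579 ≤ x → x < 23560 → cSuz2.rowOK x = true :=
  VCert.of_range' _ 22579 23560 (by decide +kernel)

theorem cSuz2_ok27 : ∀ x, 26506 ≤ x → x < 27487 → cSuz2.rowOK x = true :=
  VCert.of_range' _ 26506 27487 (by decide +kernel)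

theorem cSuz2_ok31 : ∀ x, 30432 ≤ x → x < 31414 → cSuz2.rowOK x = true :=
  VCert.of_range' _ 30432 31414 (by decide +kernel)

theorem cSuz2_act1 : ∀ x, 788 ≤ x → x < 1577 → cSuz2.actRow x = true :=
  VCert.of_range' _ 788 1577 (by decide +kernel)

theorem cSuz2_act5 : ∀ x, 3944 ≤ x → x < 4733 → cSuz2.actRow x = true :=
  VCert.of_range' _ 3944 4733 (by decide +kernel)

theorem cSuz2_act9 : ∀ x, 7100 ≤ x → x < 7889 → cSuz2.actRow x = true :=
  VCert.of_range' _ 7100 7889 (by decide +kernel)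

theorem cSuz2_act13 : ∀ x, 10256 ≤ x → x < 11045 → cSuz2.actRow x = true :=
  VCert.of_range' _ 10256 11045 (by decide +kernel)

theorem cSuz2_act17 : ∀ x, 13412 ≤ x → x < 14201 → cSuz2.actRow x = true :=
  VCert.of_range' _ 13412 14201 (by decide +kernel)

theorem cSuz2_act21 : ∀ x, 16568 ≤ x → x < 17357 → cSuz2.actRow x = true :=
  VCert.of_range' _ 16568 17357 (by decide +kernel)

theorem cSuz2_act25 : ∀ x, 19724 ≤ x → x < 20513 → cSuz2.actRow x = true :=
  VCert.of_range' _ 19724 20513 (by decide +kernel)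


end Cfsg.Agent.Lib.Lead.VTC
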