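import Cfsg.Agent.Lib.Lead.VTCSuzG
import Cfsg.Agent.Lib.Lead.VTCSuz2C

set_option autoImplicit false

namespace Cfsg.Agent.Lib.Lead.VTC

open Cfsg.Agent.Lib.Lead.WTC Cfsg.Agent.Lib.Lead.WTC.Cert Cfsg.Spor

theorem suz2_subg {M : Type} [Group M] (f : Suz.Gen → M) (_hf : ∀ x, f x * f x = 1) :
    [Suz.a, Suz.b, Suz.c, Suz.d, Suz.f, Suz.g].map (FreeGroup.lift f) =
      Suz2SubSpec.map (fun p => (wd (fun s => f (suzGen s)) p.1) ^ p.2) := by
  simp [Suz2SubSpec, wd, suzGen]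

theorem suz2_main (S : Set (FreeGroup Suz.Gen))
    (hS : S = {z | z ∈ [Suz.a, Suz.b, Suz.c, Suz.d, Suz.f, Suz.g]}) :
    ((Subgroup.closure S).map
      (PresentedGroup.mk (coxRelators Suz.edges ∪ {r | r ∈ Suz.extra}))).index = 22880 := by
  subst hS
  have hrels : cSuz2.rels = (suzCoxSpec ++ suzExtraSpec).map expand := rfl
  have hsubs : cSuz2.subs = Suz2SubSpec.map expand := rfl
  exact cox_index (edges := Suz.edges) (extra := Suz.extra) (c := cSuz2) (gen := suzGen)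
    (idx := suzIdx) suzIdx_lt suzGen_idx suzIdx_gen suz_nodes suzCoxSpec suzExtraSpec
    Suz2SubSpec hrels hsubs suz_cox1 suz_cox2 suz_symm suz_extra _ suz2_subg
    cSuz2_Ok cSuz2_fin cSuz2_Act

end Cfsg.Agent.Lib.Lead.VTC
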