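import Cfsg.Agent.Lib.Lead.VTCSuz2
import Cfsg.Agent.Lib.Lead.VTC3

set_option autoImplicit false
set_option maxRecDepth 100000

namespace Cfsg.Agent.Lib.Lead.VTC

theorem cSuz2_finr1 : ∀ x, 466 ≤ x → x < 933 → cSuz2.finRow x = true :=
  VCert.of_range' _ 466 933 (by decide +kernel)

theorem cSuz2_finr11 : ∀ x, 5136 ≤ x → x < 5603 → cSuz2.finRow x = true :=
  VCert.of_range' _ 5136 5603 (by decide +kernel)

theorem cSuz2_finr22 : ∀ x, 10272 ≤ x → x < 10739 → cSuz2.finRow x = true :=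
  VCert.of_range' _ 10272 10739 (by decide +kernel)

theorem cSuz2_finr33 : ∀ x, 15408 ≤ x → x < 15875 → cSuz2.finRow x = true :=
  VCert.of_range' _ 15408 15875 (by decide +kernel)

theorem cSuz2_finr43 : ∀ x, 20078 ≤ x → x < 20545 → cSuz2.finRow x = true :=
  VCert.of_range' _ 20078 20545 (by decide +kernel)

theorem cSuz2_ok25 : ∀ x, 4130 ≤ x → x < 4296 → cSuz2.rowOK x = true :=
  VCert.of_range' _ 4130 4296 (by decide +kernel)

theorem cSuz2_ok67 : ∀ x, 11070 ≤ x → x < 11236 → cSuz2.rowOK x = true :=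
  VCert.of_range' _ 11070 11236 (by decide +kernel)

theorem cSuz2_ok109 : ∀ x, 18010 ≤ x → x < 18176 → cSuz2.rowOK x = true :=
  VCert.of_range' _ 18010 18176 (by decide +kernel)

theorem cSuz2_ok151 : ∀ x, 24950 ≤ x → x < 25116 → cSuz2.rowOK x = true :=
  VCert.of_range' _ 24950 25116 (by decide +kernel)

theorem cSuz2_ok193 : ∀ x, 31890 ≤ x → x < 32056 → cSuz2.rowOK x = true :=
  VCert.of_range' _ 31890 32056 (by decide +kernel)

theorem cSuz2_act8 : ∀ x, 663 ≤ x → x < 746 → cSuz2.actRow x = true :=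
  VCert.of_range' _ 663 746 (by decide +kernel)

theorem cSuz2_act20 : ∀ x, 1657 ≤ x → x < 1740 → cSuz2.actRow x = true :=
  VCert.of_range' _ 1657 1740 (by decide +kernel)

theorem cSuz2_act31 : ∀ x, 2569 ≤ x → x < 2652 → cSuz2.actRow x = true :=
  VCert.of_range' _ 2569 2652 (by decide +kernel)

theorem cSuz2_act42 : ∀ x, 3481 ≤ x → x < 3564 → cSuz2.actRow x = true :=
  VCert.of_range' _ 3481 3564 (by decide +kernel)

theorem cSuz2_act53 : ∀ x, 4393 ≤ x → x < 4476 → cSuz2.actRow x = true :=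
  VCert.of_range' _ 4393 4476 (by decide +kernel)

theorem cSuz2_act64 : ∀ x, 5305 ≤ x → x < 5388 → cSuz2.actRow x = true :=
  VCert.of_range' _ 5305 5388 (by decide +kernel)

theorem cSuz2_act75 : ∀ x, 6217 ≤ x → x < 6300 → cSuz2.actRow x = true :=
  VCert.of_range' _ 6217 6300 (by decide +kernel)

theorem cSuz2_act86 : ∀ x, 7129 ≤ x → x < 7212 → cSuz2.actRow x = true :=
  VCert.of_range' _ 7129 7212 (by decide +kernel)

theorem cSuz2_act97 : ∀ x, 8041 ≤ x → x < 8124 → cSuz2.actRow x = true :=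
  VCert.of_range' _ 8041 8124 (by decide +kernel)

theorem cSuz2_act109 : ∀ x, 9035 ≤ x → x < 9118 → cSuz2.actRow x = true :=
  VCert.of_range' _ 9035 9118 (by decide +kernel)

theorem cSuz2_act120 : ∀ x, 9947 ≤ x → x < 10030 → cSuz2.actRow x = true :=
  VCert.of_range' _ 9947 10030 (by decide +kernel)

theorem cSuz2_act131 : ∀ x, 10859 ≤ x → x < 10942 → cSuz2.actRow x = true :=
  VCert.of_range' _ 10859 10942 (by decide +kernel)

theorem cSuz2_act142 : ∀ x, 11771 ≤ x → x < 11854 → cSuz2.actRow x = true :=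
  VCert.of_range' _ 11771 11854 (by decide +kernel)

theorem cSuz2_act153 : ∀ x, 12683 ≤ x → x < 12766 → cSuz2.actRow x = true :=
  VCert.of_range' _ 12683 12766 (by decide +kernel)

theorem cSuz2_act164 : ∀ x, 13595 ≤ x → x < 13678 → cSuz2.actRow x = true :=
  VCert.of_range' _ 13595 13678 (by decide +kernel)

theorem cSuz2_act175 : ∀ x, 14507 ≤ x → x < 14590 → cSuz2.actRow x = true :=
  VCert.of_range' _ 14507 14590 (by decide +kernel)

theorem cSuz2_act186 : ∀ x, 15419 ≤ x → x < 15502 → cSuz2.actRow x = true :=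
  VCert.of_range' _ 15419 15502 (by decide +kernel)

theorem cSuz2_act198 : ∀ x, 16413 ≤ x → x < 16496 → cSuz2.actRow x = true :=
  VCert.of_range' _ 16413 16496 (by decide +kernel)

theorem cSuz2_act209 : ∀ x, 17325 ≤ x → x < 17408 → cSuz2.actRow x = true :=
  VCert.of_range' _ 17325 17408 (by decide +kernel)

theorem cSuz2_act220 : ∀ x, 18237 ≤ x → x < 18320 → cSuz2.actRow x = true :=
  VCert.of_range' _ 18237 18320 (by decide +kernel)

theorem cSuz2_act231 : ∀ x, 19149 ≤ x → x < 19232 → cSuz2.actRow x = true :=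
  VCert.of_range' _ 19149 19232 (by decide +kernel)

theorem cSuz2_act242 : ∀ x, 20061 ≤ x → x < 20144 → cSuz2.actRow x = true :=
  VCert.of_range' _ 20061 20144 (by decide +kernel)

theorem cSuz2_act253 : ∀ x, 20973 ≤ x → x < 21056 → cSuz2.actRow x = true :=
  VCert.of_range' _ 20973 21056 (by decide +kernel)

theorem cSuz2_act264 : ∀ x, 21885 ≤ x → x < 21968 → cSuz2.actRow x = true :=
  VCert.of_range' _ 21885 21968 (by decide +kernel)

theorem cSuz2_act275 : ∀ x, 22797 ≤ x → x < 22880 → cSuz2.actRow x = true :=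
  VCert.of_range' _ 22797 22880 (by decide +kernel)

theorem cSuz2_ok18 : ∀ x, 2974 ≤ x → x < 3139 → cSuz2.rowOK x = true :=
  VCert.of_range' _ 2974 3139 (by decide +kernel)

theorem cSuz2_ok31 : ∀ x, 5122 ≤ x → x < 5287 → cSuz2.rowOK x = true :=
  VCert.of_range' _ 5122 5287 (by decide +kernel)

theorem cSuz2_ok44 : ∀ x, 7270 ≤ x → x < 7435 → cSuz2.rowOK x = true :=
  VCert.of_range' _ 7270 7435 (by decide +kernel)

theorem cSuz2_ok57 : ∀ x, 9418 ≤ x → x < 9583 → cSuz2.rowOK x = true :=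
  VCert.of_range' _ 9418 9583 (by decide +kernel)

theorem cSuz2_ok70 : ∀ x, 11566 ≤ x → x < 11731 → cSuz2.rowOK x = true :=
  VCert.of_range' _ 11566 11731 (by decide +kernel)

theorem cSuz2_ok83 : ∀ x, 13714 ≤ x → x < 13879 → cSuz2.rowOK x = true :=
  VCert.of_range' _ 13714 13879 (by decide +kernel)

theorem cSuz2_ok97 : ∀ x, 16028 ≤ x → x < 16193 → cSuz2.rowOK x = true :=
  VCert.of_range' _ 16028 16193 (by decide +kernel)

theorem cSuz2_ok110 : ∀ x, 18176 ≤ x → x < 18341 → cSuz2.rowOK x = true :=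
  VCert.of_range' _ 18176 18341 (by decide +kernel)

theorem cSuz2_ok123 : ∀ x, 20324 ≤ x → x < 20489 → cSuz2.rowOK x = true :=
  VCert.of_range' _ 20324 20489 (by decide +kernel)

theorem cSuz2_ok136 : ∀ x, 22472 ≤ x → x < 22637 → cSuz2.rowOK x = true :=
  VCert.of_range' _ 22472 22637 (by decide +kernel)

theorem cSuz2_ok149 : ∀ x, 24620 ≤ x → x < 24785 → cSuz2.rowOK x = true :=
  VCert.of_range' _ 24620 24785 (by decide +kernel)

theorem cSuz2_ok162 : ∀ x, 26768 ≤ x → x < 26933 → cSuz2.rowOK x = true :=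
  VCert.of_range' _ 26768 26933 (by decide +kernel)

theorem cSuz2_ok175 : ∀ x, 28916 ≤ x → x < 29081 → cSuz2.rowOK x = true :=
  VCert.of_range' _ 28916 29081 (by decide +kernel)

theorem cSuz2_ok188 : ∀ x, 31064 ≤ x → x < 31229 → cSuz2.rowOK x = true :=
  VCert.of_range' _ 31064 31229 (by decide +kernel)

theorem cSuz2_act0 : ∀ x, 0 ≤ x → x < 82 → cSuz2.actRow x = true :=
  VCert.of_range' _ 0 82 (by decide +kernel)

theorem cSuz2_act9 : ∀ x, 746 ≤ x → x < 828 → cSuz2.actRow x = true :=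
  VCert.of_range' _ 746 828 (by decide +kernel)

theorem cSuz2_act108 : ∀ x, 8953 ≤ x → x < 9035 → cSuz2.actRow x = true :=
  VCert.of_range' _ 8953 9035 (by decide +kernel)

theorem cSuz2_act207 : ∀ x, 17160 ≤ x → x < 17242 → cSuz2.actRow x = true :=
  VCert.of_range' _ 17160 17242 (by decide +kernel)

theorem oSuz2_colr6 : ∀ x, 19611 ≤ x → x < 22880 → oSuz2.colRow cSuz2 x = true :=
  VCert.of_range' _ 19611 22880 (by decide +kernel)

theorem oSuz2_tr2_11 : ∀ x, 20973 ≤ x → x < 22880 → oSuz2.treeRow cSuz2 10 2 x = true :=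
  VCert.of_range' _ 20973 22880 (by decide +kernel)

theorem oSuz2_tr4_2 : ∀ x, 3813 ≤ x → x < 5720 → oSuz2.treeRow cSuz2 7122 4 x = true :=
  VCert.of_range' _ 3813 5720 (by decide +kernel)

theorem oSuz2_tr1_9 : ∀ x, 17160 ≤ x → x < 19066 → oSuz2.treeRow cSuz2 1 1 x = true :=
  VCert.of_range' _ 17160 19066 (by decide +kernel)

theorem oSuz2_tr4_3 : ∀ x, 5720 ≤ x → x < 7626 → oSuz2.treeRow cSuz2 7122 4 x = true :=
  VCert.of_range' _ 5720 7626 (by decide +kernel)

theorem cSuz2_finn4 : ∀ x, 12137 ≤ x → x < 15171 → cSuz2.finNode x = true :=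
  VCert.of_range' _ 12137 15171 (by decide +kernel)


end Cfsg.Agent.Lib.Lead.VTC
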