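import Cfsg.Agent.Lib.Lead.VTCGlue
import Cfsg.Prelude.Def_Spor_Suz

set_option autoImplicit false

/-! The presented Suzuki group: glue between the Prelude presentation and letter words. -/

namespace Cfsg.Agent.Lib.Lead.VTC

open Cfsg.Agent.Lib.Lead.WTC Cfsg.Agent.Lib.Lead.WTC.Cert Cfsg.Spor

def suzGen : ℕ → Suz.Gen
  | 0 => .a | 1 => .b | 2 => .c | 3 => .d | 4 => .e | 5 => .f | _ => .g

def suzIdx : Suz.Gen → ℕ
  | .a => 0 | .b => 1 | .c => 2 | .d => 3 | .e => 4 | .f => 5 | .g => 6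

def suzCoxSpec : List (List ℕ × ℕ) := [([0, 0], 1), ([1, 1], 1), ([2, 2], 1), ([3, 3], 1), ([4, 4], 1), ([5, 5], 1), ([6, 6], 1), ([0, 1], 5), ([0, 2], 2), ([0, 3], 2), ([0, 4], 2), ([0, 5], 2), ([0, 6], 2), ([1, 2], 3), ([1, 3], 2), ([1, 4], 2), ([1, 5], 3), ([1, 6], 3), ([2, 3], 8), ([2, 4], 2), ([2, 5], 2), ([2, 6], 2), ([3, 4], 3), ([3, 5], 2), ([3, 6], 2), ([4, 5], 2), ([4, 6], 2), ([5, 6], 4)]

def suzExtraSpec : List (List ℕ × ℕ) := [([0, 3, 2, 3, 2, 3, 2, 3, 2], 1), ([0, 6, 5, 6, 5], 1), ([0, 1, 2, 5], 5), ([1, 5, 6], 5), ([1, 2, 3, 2, 3, 1, 2, 3, 2, 3, 1, 2, 3, 2, 3, 1, 2, 3, 2, 3, 1, 2, 3, 2, 3, 4], 3)]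

theorem suzIdx_lt (x : Suz.Gen) : suzIdx x < 7 := by cases x <;> decide

theorem suzGen_idx (x : Suz.Gen) : suzGen (suzIdx x) = x := by cases x <;> rfl

theorem suzIdx_gen (s : ℕ) (hs : s < 7) : suzIdx (suzGen s) = s := by
  interval_cases s <;> rfl

theorem suz_nodes (x : Suz.Gen) : x ∈ coxNodes Suz.edges := by cases x <;> decide

theorem suz_cox1 : ∀ p ∈ suzCoxSpec, ∃ s, s < 7 ∧ ∃ t, t < 7 ∧
    p = ([s, t], coxLabel Suz.edges (suzGen s) (suzGen t)) := by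
  decide

theorem suz_cox2 (x y : Suz.Gen) (h : suzIdx x ≤ suzIdx y) :
    ([suzIdx x, suzIdx y], coxLabel Suz.edges x y) ∈ suzCoxSpec := by
  revert h
  cases x <;> cases y <;> decide

theorem suz_symm (x y : Suz.Gen) : coxLabel Suz.edges y x = coxLabel Suz.edges x y := by
  cases x <;> cases y <;> rfl

theorem suz_extra {M : Type} [Group M] (f : Suz.Gen → M) (hf : ∀ x, f x * f x = 1) :
    Suz.extra.map (FreeGroup.lift f) =
      suzExtraSpec.map (fun p => (wd (fun s => f (suzGen s)) p.1) ^ p.2) := by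
  have hinv : ∀ x, (f x)⁻¹ = f x := fun x => inv_eq_of_mul_eq_one_right (hf x)
  simp only [Suz.extra, suzExtraSpec, List.map_cons, List.map_nil, map_mul, map_pow, map_inv,
    FreeGroup.lift_apply_of, wd, List.prod_cons, List.prod_nil, suzGen, pow_succ, pow_zero,
    one_mul, mul_one, mul_inv_rev, hinv, mul_assoc]

end Cfsg.Agent.Lib.Lead.VTC
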