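import Cfsg.Agent.Lib.Lead.WTCFi22

set_option autoImplicit false

namespace Cfsg.Agent.Lib.Lead.WTC

set_option maxRecDepth 100000 in
theorem oFi_col : oFi.colOK cFi = true := by decide +kernel

set_option maxRecDepth 100000 in
theorem oFi_tree1 : oFi.treeOK cFi 1 1 = true := by decide +kernel

set_option maxRecDepth 100000 in
theorem oFi_tree2 : oFi.treeOK cFi 7 2 = true := by decide +kernel

set_option maxRecDepth 100000 in
theorem oFi_cnt1 : ((Finset.range cFi.n).filter (fun x => oFi.C x = 1)).card = 2816 := by
  decide +kernel

set_option maxRecDepth 100000 in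
theorem oFi_cnt2 : ((Finset.range cFi.n).filter (fun x => oFi.C x = 2)).card = 693 := by
  decide +kernel

end Cfsg.Agent.Lib.Lead.WTC
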