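import Cfsg.Agent.Lib.Lead.WTCFi22b
import Cfsg.Agent.Lib.Lead.WTCFi22c
import Cfsg.Agent.Lib.Lead.WTCFi22d
import Cfsg.Prelude.Def_Spor_Fi22

set_option autoImplicit false

namespace Cfsg.Agent.Lib.Lead.WTC

open Cfsg.Spor Cert

def fiGen : ℕ → Fi22.Gen
  | 0 => .a | 1 => .b | 2 => .c | 3 => .d | 4 => .e | 5 => .f | 6 => .g | 7 => .h | _ => .i

def fiIdx : Fi22.Gen → ℕ
  | .a => 0 | .b => 1 | .c => 2 | .d => 3 | .e => 4 | .f => 5 | .g => 6 | .h => 7 | .i => 8

abbrev fiRR : Set (FreeGroup Fi22.Gen) := coxRelators Fi22.edges ∪ {r | r ∈ Fi22.extra}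

noncomputable def fiG (s : ℕ) : Fi22 := PresentedGroup.of (fiGen s)

theorem fiIdx_lt (x : Fi22.Gen) : fiIdx x < 9 := by cases x <;> decide

theorem fiGen_idx (x : Fi22.Gen) : fiGen (fiIdx x) = x := by cases x <;> rfl

theorem fiIdx_gen {s : ℕ} (hs : s < 9) : fiIdx (fiGen s) = s := by
  interval_cases s <;> rfl

theorem fi_nodes (x : Fi22.Gen) : x ∈ coxNodes Fi22.edges := by cases x <;> decide

theorem fi_cox_rel (x y : Fi22.Gen) :
    ((PresentedGroup.of x : Fi22) * PresentedGroup.of y) ^ (coxLabel Fi22.edges x y) = 1 := by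
  have hmem : (FreeGroup.of x * FreeGroup.of y) ^ (coxLabel Fi22.edges x y) ∈ fiRR :=
    Or.inl ⟨x, fi_nodes x, y, fi_nodes y, rfl⟩
  have h := PresentedGroup.one_of_mem hmem
  rw [map_pow, map_mul] at h
  exact h

theorem fi_label_self (x : Fi22.Gen) : coxLabel Fi22.edges x x = 1 := by
  simp [coxLabel]

theorem fi_label_symm (x y : Fi22.Gen) :
    coxLabel Fi22.edges y x = coxLabel Fi22.edges x y := by
  cases x <;> cases y <;> rfl

theorem fi_sq (s : ℕ) (_hs : s < cFi.k) : fiG s * fiG s = 1 := by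
  have h := fi_cox_rel (fiGen s) (fiGen s)
  rw [fi_label_self, pow_one] at h
  exact h

theorem fi_spec_char : ∀ p ∈ fiRelSpec,
    (∃ s, s < 9 ∧ ∃ t, t < 9 ∧ p = ([s, t], coxLabel Fi22.edges (fiGen s) (fiGen t))) ∨
      p = ([3, 2, 1, 3, 4, 5, 3, 7, 8], 10) ∨ p = ([0, 1, 2, 3, 4, 5, 7], 9) ∨
      p = ([1, 2, 3, 4, 5, 6, 7], 9) := by
  decide

theorem fi_extra1 : ((fiG 3 * fiG 2 * fiG 1 * fiG 3 * fiG 4 * fiG 5 * fiG 3 * fiG 7 * fiG 8) ^ 10 : Fi22) = 1 := by
  have hmem : (Fi22.d * Fi22.c * Fi22.b * Fi22.d * Fi22.e * Fi22.f * Fi22.d * Fi22.h * Fi22.i) ^ 10 ∈ fiRR :=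
    Or.inr (by simp [Fi22.extra])
  have h := PresentedGroup.one_of_mem hmem
  rw [map_pow] at h
  simp only [map_mul] at h
  exact h

theorem fi_extra2 : ((fiG 0 * fiG 1 * fiG 2 * fiG 3 * fiG 4 * fiG 5 * fiG 7) ^ 9 : Fi22) = 1 := by
  have hmem : (Fi22.a * Fi22.b * Fi22.c * Fi22.d * Fi22.e * Fi22.f * Fi22.h) ^ 9 ∈ fiRR :=
    Or.inr (by simp [Fi22.extra])
  have h := PresentedGroup.one_of_mem hmem
  rw [map_pow] at h
  simp only [map_mul] at h
  exact h

theorem fi_extra3 : ((fiG 1 * fiG 2 * fiG 3 * fiG 4 * fiG 5 * fiG 6 * fiG 7) ^ 9 : Fi22) = 1 := by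
  have hmem : (Fi22.b * Fi22.c * Fi22.d * Fi22.e * Fi22.f * Fi22.g * Fi22.h) ^ 9 ∈ fiRR :=
    Or.inr (by simp [Fi22.extra])
  have h := PresentedGroup.one_of_mem hmem
  rw [map_pow] at h
  simp only [map_mul] at h
  exact h

theorem fi_rel : ∀ w ∈ cFi.rels, wd fiG w = 1 := by
  intro w hw
  obtain ⟨p, hp, rfl⟩ := List.mem_map.mp hw
  rw [wd_expand]
  rcases fi_spec_char p hp with ⟨s, _, t, _, rfl⟩ | rfl | rfl | rfl
  · have h := fi_cox_rel (fiGen s) (fiGen t)
    simp only [wd, List.map_cons, List.map_nil, List.prod_cons, List.prod_nil, mul_one]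
    exact h
  · simp only [wd, List.map_cons, List.map_nil, List.prod_cons, List.prod_nil, mul_one]
    have h := fi_extra1
    simp only [mul_assoc] at h ⊢
    exact h
  · simp only [wd, List.map_cons, List.map_nil, List.prod_cons, List.prod_nil, mul_one]
    have h := fi_extra2
    simp only [mul_assoc] at h ⊢
    exact h
  · simp only [wd, List.map_cons, List.map_nil, List.prod_cons, List.prod_nil, mul_one]
    have h := fi_extra3
    simp only [mul_assoc] at h ⊢
    exact h

theorem fi_gen : Subgroup.closure {y : Fi22 | ∃ s, s < cFi.k ∧ y = fiG s} = ⊤ := by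
  rw [eq_top_iff, ← PresentedGroup.closure_range_of]
  apply Subgroup.closure_mono
  rintro _ ⟨x, rfl⟩
  exact ⟨fiIdx x, fiIdx_lt x, by unfold fiG; rw [fiGen_idx]⟩

theorem pow_swap_eq_one {M : Type*} [Group M] (a b : M) (m : ℕ) (h : (a * b) ^ m = 1) :
    (b * a) ^ m = 1 := by
  have h1 : ∀ k : ℕ, (b * a) ^ k = a⁻¹ * (a * b) ^ k * a := by
    intro k
    induction k with
    | zero => simp
    | succ k ih => rw [pow_succ, ih, pow_succ]; group
  rw [h1, h]; group

theorem fi_pair_mem (x y : Fi22.Gen) (h : fiIdx x ≤ fiIdx y) :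
    ([fiIdx x, fiIdx y], coxLabel Fi22.edges x y) ∈ fiRelSpec := by
  revert h
  cases x <;> cases y <;> decide

/-- The generating permutations. -/
noncomputable def fiSig (x : Fi22.Gen) : Equiv.Perm (Fin cFi.n) := cFi.σ cFi_act (fiIdx x)

theorem fiSig_cox (x y : Fi22.Gen) : (fiSig x * fiSig y) ^ (coxLabel Fi22.edges x y) = 1 := by
  have key : ∀ x y : Fi22.Gen, fiIdx x ≤ fiIdx y →
      (fiSig x * fiSig y) ^ (coxLabel Fi22.edges x y) = 1 := by
    intro x y hxy
    have hm : expand ([fiIdx x, fiIdx y], coxLabel Fi22.edges x y) ∈ cFi.rels :=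
      List.mem_map.mpr ⟨_, fi_pair_mem x y hxy, rfl⟩
    have h := cFi.σ_word cFi_act _ hm
    rw [wd_expand] at h
    simp only [wd, List.map_cons, List.map_nil, List.prod_cons, List.prod_nil, mul_one] at h
    exact h
  rcases le_total (fiIdx x) (fiIdx y) with hxy | hxy
  · exact key x y hxy
  · have h := key y x hxy
    rw [fi_label_symm] at h
    exact pow_swap_eq_one _ _ _ h

theorem fiSig_extra (p : List ℕ × ℕ) (hp : p ∈ fiRelSpec) :
    (wd (cFi.σ cFi_act) p.1) ^ p.2 = 1 := by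
  have hm : expand p ∈ cFi.rels := List.mem_map.mpr ⟨_, hp, rfl⟩
  have h := cFi.σ_word cFi_act _ hm
  rw [wd_expand] at h
  exact h

theorem fi_lift : ∀ r ∈ fiRR, FreeGroup.lift fiSig r = 1 := by
  intro r hr
  rcases hr with ⟨x, _, y, _, rfl⟩ | hr
  · rw [map_pow, map_mul, FreeGroup.lift_apply_of, FreeGroup.lift_apply_of]
    exact fiSig_cox x y
  · have hr' : r ∈ Fi22.extra := hr
    simp only [Fi22.extra, List.mem_cons, List.not_mem_nil, or_false] at hr'
    rcases hr' with rfl | rfl | rfl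
    · have h := fiSig_extra ([3, 2, 1, 3, 4, 5, 3, 7, 8], 10) (by decide)
      simp only [wd, List.map_cons, List.map_nil, List.prod_cons, List.prod_nil, mul_one] at h
      rw [map_pow]
      simp only [map_mul, FreeGroup.lift_apply_of, mul_assoc]
      exact h
    · have h := fiSig_extra ([0, 1, 2, 3, 4, 5, 7], 9) (by decide)
      simp only [wd, List.map_cons, List.map_nil, List.prod_cons, List.prod_nil, mul_one] at h
      rw [map_pow]
      simp only [map_mul, FreeGroup.lift_apply_of, mul_assoc]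
      exact h
    · have h := fiSig_extra ([1, 2, 3, 4, 5, 6, 7], 9) (by decide)
      simp only [wd, List.map_cons, List.map_nil, List.prod_cons, List.prod_nil, mul_one] at h
      rw [map_pow]
      simp only [map_mul, FreeGroup.lift_apply_of, mul_assoc]
      exact h

noncomputable def fiRho : Fi22 →* Equiv.Perm (Fin cFi.n) := PresentedGroup.toGroup fi_lift

theorem fiRho_val (s : ℕ) (hs : s < cFi.k) (x : Fin cFi.n) :
    (fiRho (fiG s) x).val = cFi.T x s := by
  unfold fiRho fiG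
  rw [PresentedGroup.toGroup.of]
  unfold fiSig
  rw [fiIdx_gen hs]
  exact cFi.σ_val cFi_act hs x

/-- The subgroup of the statement. -/
abbrev fiH : Subgroup Fi22 :=
  (Subgroup.closure ({Fi22.a, Fi22.c, Fi22.d, Fi22.e, Fi22.f, Fi22.g, Fi22.h, Fi22.i,
    (Fi22.a * Fi22.b * Fi22.c * Fi22.d * Fi22.e * Fi22.h) ^ 5} : Set (FreeGroup Fi22.Gen))).map
    (PresentedGroup.mk fiRR)

theorem fi_sub_mem : ∀ p ∈ fiSubSpec, (wd fiG p.1) ^ p.2 ∈ fiH := by
  intro p hp
  have hmk : ∀ z ∈ ({Fi22.a, Fi22.c, Fi22.d, Fi22.e, Fi22.f, Fi22.g, Fi22.h, Fi22.i,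
      (Fi22.a * Fi22.b * Fi22.c * Fi22.d * Fi22.e * Fi22.h) ^ 5} : Set (FreeGroup Fi22.Gen)),
      PresentedGroup.mk fiRR z ∈ fiH :=
    fun z hz => Subgroup.mem_map_of_mem _ (Subgroup.subset_closure hz)
  simp only [fiSubSpec, List.mem_cons, List.not_mem_nil, or_false] at hp
  rcases hp with rfl | rfl | rfl | rfl | rfl | rfl | rfl | rfl | rfl
  · have := hmk Fi22.a (by simp)
    simpa [wd, fiG, fiGen, PresentedGroup.of] using this
  · have := hmk Fi22.c (by simp)
    simpa [wd, fiG, fiGen, PresentedGroup.of] using this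
  · have := hmk Fi22.d (by simp)
    simpa [wd, fiG, fiGen, PresentedGroup.of] using this
  · have := hmk Fi22.e (by simp)
    simpa [wd, fiG, fiGen, PresentedGroup.of] using this
  · have := hmk Fi22.f (by simp)
    simpa [wd, fiG, fiGen, PresentedGroup.of] using this
  · have := hmk Fi22.g (by simp)
    simpa [wd, fiG, fiGen, PresentedGroup.of] using this
  · have := hmk Fi22.h (by simp)
    simpa [wd, fiG, fiGen, PresentedGroup.of] using this
  · have := hmk Fi22.i (by simp)
    simpa [wd, fiG, fiGen, PresentedGroup.of] using this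
  · have := hmk ((Fi22.a * Fi22.b * Fi22.c * Fi22.d * Fi22.e * Fi22.h) ^ 5) (by simp)
    rw [map_pow] at this
    simp only [map_mul] at this
    simp only [wd, List.map_cons, List.map_nil, List.prod_cons, List.prod_nil, mul_one]
    simp only [mul_assoc] at this ⊢
    exact this

theorem fi_H : fiH = Subgroup.closure {y : Fi22 | ∃ w ∈ cFi.subs, y = wd fiG w} := by
  apply le_antisymm
  · unfold fiH
    rw [MonoidHom.map_closure, Subgroup.closure_le]
    rintro _ ⟨z, hz, rfl⟩
    have hsub : ∀ p ∈ fiSubSpec, (wd fiG p.1) ^ p.2 ∈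
        Subgroup.closure {y : Fi22 | ∃ w ∈ cFi.subs, y = wd fiG w} := by
      intro p hp
      rw [← wd_expand]
      exact Subgroup.subset_closure ⟨expand p, List.mem_map.mpr ⟨p, hp, rfl⟩, rfl⟩
    simp only [Set.mem_insert_iff, Set.mem_singleton_iff] at hz
    rcases hz with rfl | rfl | rfl | rfl | rfl | rfl | rfl | rfl | rfl
    · have := hsub ([0], 1) (by decide)
      simpa [wd, fiG, fiGen, PresentedGroup.of] using this
    · have := hsub ([2], 1) (by decide)
      simpa [wd, fiG, fiGen, PresentedGroup.of] using this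
    · have := hsub ([3], 1) (by decide)
      simpa [wd, fiG, fiGen, PresentedGroup.of] using this
    · have := hsub ([4], 1) (by decide)
      simpa [wd, fiG, fiGen, PresentedGroup.of] using this
    · have := hsub ([5], 1) (by decide)
      simpa [wd, fiG, fiGen, PresentedGroup.of] using this
    · have := hsub ([6], 1) (by decide)
      simpa [wd, fiG, fiGen, PresentedGroup.of] using this
    · have := hsub ([7], 1) (by decide)
      simpa [wd, fiG, fiGen, PresentedGroup.of] using this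
    · have := hsub ([8], 1) (by decide)
      simpa [wd, fiG, fiGen, PresentedGroup.of] using this
    · have := hsub ([0, 1, 2, 3, 4, 7], 5) (by decide)
      simp only [wd, List.map_cons, List.map_nil, List.prod_cons, List.prod_nil, mul_one] at this
      show PresentedGroup.mk fiRR ((Fi22.a * Fi22.b * Fi22.c * Fi22.d * Fi22.e * Fi22.h) ^ 5) ∈ _
      rw [map_pow]
      simp only [map_mul]
      simp only [mul_assoc] at this ⊢
      exact this
  · rw [Subgroup.closure_le]
    rintro _ ⟨w, hw, rfl⟩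
    obtain ⟨p, hp, rfl⟩ := List.mem_map.mp hw
    rw [wd_expand]
    exact fi_sub_mem p hp

theorem fi22_main : fiH.index = 3510 ∧ ∃ q₁ q₂ : Fi22 ⧸ fiH,
    (MulAction.orbit fiH q₁).ncard = 693 ∧ (MulAction.orbit fiH q₂).ncard = 2816 := by
  have hn : 0 < cFi.n := by decide
  refine ⟨?_, ?_⟩
  · exact index_eq cFi fiG fiH fiRho cFi_ok cFi_act hn fiRho_val fi_gen fi_sq fi_rel fi_H
  · obtain ⟨q₁, h1⟩ := orbit_card cFi fiG fiH fiRho cFi_ok cFi_act hn fiRho_val fi_gen fi_sq fi_rel
      fi_H oFi 7 2 oFi_col oFi_tree2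
    obtain ⟨q₂, h2⟩ := orbit_card cFi fiG fiH fiRho cFi_ok cFi_act hn fiRho_val fi_gen fi_sq fi_rel
      fi_H oFi 1 1 oFi_col oFi_tree1
    exact ⟨q₁, q₂, h1.trans oFi_cnt2, h2.trans oFi_cnt1⟩

end Cfsg.Agent.Lib.Lead.WTC
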